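import Cfsg.Agent.SuzukiWong.Cyclic
import Cfsg.Agent.Classification.DihedralBSW
import Cfsg.Agent.ExtremelyClosed.Reduction

/-!
# Suzuki–Wong: inverted cores give the Brauer–Suzuki–Wall conditions
-/

set_option autoImplicit false
set_option linter.unusedSectionVars false
set_option linter.style.haveILetI false

namespace CfsgLib.SuzukiWong

open Subgroup

universe u

variable {G : Type u} [Group G] [Finite G]

theorem exists_prime_pow {g : G} (hg : g ≠ 1) :
    ∃ q m : ℕ, q.Prime ∧ orderOf (g ^ m) = q := by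
  obtain ⟨q, hq, hd⟩ := Nat.exists_prime_and_dvd (mt orderOf_eq_one_iff.1 hg)
  exact ⟨q, orderOf g / q, hq, orderOf_pow_orderOf_div (orderOf_pos g).ne' hd⟩

set_option maxHeartbeats 1000000 in
/-- A cyclic core inverted outside a cyclic subgroup of index two of `P` gives `PSL₂`. -/
theorem exists_psl_of_inverted [IsSimpleGroup G]
    (hodd : ∀ p : ℕ, p.Prime → p ≠ 2 → ∀ R : Sylow p G, IsCyclic R)
    (hone : ∀ a b : G, orderOf a = 2 → orderOf b = 2 → IsConj a b)
    (P : Sylow 2 G) {n : ℕ} (hn : 2 ≤ n) (hP : Nonempty ((P : Subgroup G) ≃* DihedralGroup n))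
    {J τ : G} (hJ : orderOf J = 2) (hJP : J ∈ (P : Subgroup G))
    (hJZ : ∀ s ∈ (P : Subgroup G), s * J = J * s) (hτ : orderOf τ = 2) (hτP : τ ∈ (P : Subgroup G))
    (hτJ : τ ≠ J) (O : Subgroup G) [IsCyclic O] (hOodd : Odd (Nat.card O))
    (hOC : O ≤ centralizer ({J} : Set G))
    (hmem : ∀ g ∈ centralizer ({J} : Set G), Odd (orderOf g) → g ∈ O)
    (hOn : ∀ c ∈ centralizer ({J} : Set G), ∀ k ∈ O, c * k * c⁻¹ ∈ O)
    (hdec : ∀ c ∈ centralizer ({J} : Set G), ∃ k ∈ O, ∃ p ∈ (P : Subgroup G), c = k * p)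
    (hZ : O ≠ ⊥ → IsCyclic ((P : Subgroup G) ⊓ centralizer (O : Set G) : Subgroup G) ∧
      ((P : Subgroup G) ⊓ centralizer (O : Set G)).relIndex (P : Subgroup G) = 2)
    (hτinv : ∀ k ∈ O, τ * k * τ⁻¹ = k⁻¹)
    (hinv : ∀ s ∈ (P : Subgroup G), s ∉ centralizer (O : Set G) → ∀ k ∈ O, s * k * s⁻¹ = k⁻¹) :
    ∃ (F : Type) (_ : Field F) (_ : Fintype F), Odd (Fintype.card F) ∧
      Nonempty (G ≃* Matrix.ProjectiveSpecialLinearGroup (Fin 2) F) := by
  classical
  haveI : Fact (Nat.Prime 2) := ⟨Nat.prime_two⟩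
  have hττ := Small.mul_self_of_orderOf_two hτ
  have hJJ := Small.mul_self_of_orderOf_two hJ
  have hoddO : ∀ {k : G}, k ∈ O → Odd (orderOf k) := fun hk =>
    hOodd.of_dvd_nat (O.orderOf_dvd_natCard hk)
  refine Classification.DihedralBSW.exists_equiv P n hn hP J hJ hJP hJZ O ?_ hZ
    (fun s hs hsC y hy => hinv s hs hsC y hy) ?_
  · set C := centralizer ({J} : Set G)
    haveI : (O.subgroupOf C).Normal := ⟨fun a ha g => by
      rw [Subgroup.mem_subgroupOf] at ha ⊢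
      exact hOn g g.2 a ha⟩
    have hsub : O.subgroupOf C ≤ Cfsg.oddCore C := ExtremelyClosed.le_oddCore_of_odd inferInstance
      (by rwa [Nat.card_congr (Subgroup.subgroupOfEquivOfLe hOC).toEquiv])
    apply le_antisymm
    · intro k hk
      exact Subgroup.mem_map.2 ⟨⟨k, hOC hk⟩, hsub (Subgroup.mem_subgroupOf.2 hk), rfl⟩
    · intro x hx
      obtain ⟨g, hg, rfl⟩ := Subgroup.mem_map.1 hx
      refine hmem g g.2 ?_
      show Odd (orderOf (g : G))
      rw [Subgroup.orderOf_coe]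
      exact (ExtremelyClosed.odd_card_oddCore' C).of_dvd_nat (Subgroup.orderOf_dvd_natCard _ hg)
  intro Y hY hY1 g hg
  obtain ⟨⟨y₀, hy₀⟩, hy₀1⟩ := Subgroup.ne_bot_iff_exists_ne_one.1 hY1
  obtain ⟨r, m, hr, hord⟩ := exists_prime_pow (fun e => hy₀1 (Subtype.ext e))
  set y := y₀ ^ m
  have hyY : y ∈ Y := pow_mem hy₀ m
  have hyO : y ∈ O := hY hyY
  have hy1 : y ≠ 1 := fun e => by rw [e, orderOf_one] at hord; exact hr.ne_one hord.symm
  have hyy : y ≠ y⁻¹ := ne_inv_of_odd (hoddO hyO) hy1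
  obtain ⟨hZc, hZi⟩ := hZ (fun e => hy1 (Subgroup.mem_bot.1 (e ▸ hyO)))
  set Z := (P : Subgroup G) ⊓ centralizer (O : Set G) with hZdef
  haveI := hZc
  have hJZmem : J ∈ Z := ⟨hJP, Subgroup.mem_centralizer_iff.2 fun k hk =>
    Subgroup.mem_centralizer_singleton_iff.1 (hOC hk)⟩
  have hZy : ∀ {s : G}, s ∈ (P : Subgroup G) → s * y = y * s → s ∈ Z := fun {s} hs hsy => by
    refine ⟨hs, by_contra fun hsC => hyy ?_⟩
    rw [← hinv s hs hsC y hyO, hsy, mul_inv_cancel_right]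
  set H := centralizer ({y} : Set G) with hH
  have hOH : O ≤ H := fun k hk => Subgroup.mem_centralizer_singleton_iff.2 (commute_of_cyclic hk hyO)
  have hZH : Z ≤ H := fun s hs => Subgroup.mem_centralizer_singleton_iff.2
    (Subgroup.mem_centralizer_iff.1 hs.2 y hyO).symm
  have hJH : J ∈ H := hZH hJZmem
  -- `Z` is a Sylow 2-subgroup of `C(y)`
  have hmax : ∀ T' : Subgroup G, IsPGroup 2 T' → T' ≤ H → Z ≤ T' → T' = Z := by
    intro T' hT' hT'H hle
    by_contra hne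
    have hlt : Nat.card Z < Nat.card T' := by
      rcases lt_or_eq_of_le (Nat.le_of_dvd Nat.card_pos (Subgroup.card_dvd_of_le hle)) with h | h
      · exact h
      · exact absurd (Subgroup.eq_of_le_of_card_ge hle h.ge).symm hne
    obtain ⟨a, ha⟩ := (P.isPGroup'.to_le (inf_le_left : Z ≤ P)).exists_card_eq
    obtain ⟨b, hb⟩ := hT'.exists_card_eq
    have hPc : Nat.card (P : Subgroup G) = 2 ^ (a + 1) := by
      have h1 := (Z.subgroupOf (P : Subgroup G)).card_mul_index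
      rw [Nat.card_congr (Subgroup.subgroupOfEquivOfLe (inf_le_left : Z ≤ P)).toEquiv, ha] at h1
      rw [← h1, pow_succ]; congr 1
    rw [ha, hb] at hlt
    obtain ⟨P', hP'⟩ := hT'.exists_le_sylow
    have hTP : T' = (P' : Subgroup G) := Subgroup.eq_of_le_of_card_ge hP' (by
      rw [hb, P'.card_eq_multiplicity, ← P.card_eq_multiplicity, hPc]
      exact Nat.pow_le_pow_right two_pos (Nat.succ_le_of_lt ((Nat.pow_lt_pow_iff_right one_lt_two).1 hlt)))
    obtain ⟨c, hc⟩ := MulAction.exists_smul_eq G P P'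
    have hy' : ∀ p ∈ (P : Subgroup G), p * (c⁻¹ * y * c) = c⁻¹ * y * c * p := by
      intro p hp
      have hm : c * p * c⁻¹ ∈ T' := by
        rw [hTP, ← hc, Sylow.coe_subgroup_smul]
        exact Subgroup.smul_mem_pointwise_smul _ _ _ hp
      have hc' := Subgroup.mem_centralizer_singleton_iff.1 (hT'H hm)
      calc p * (c⁻¹ * y * c) = c⁻¹ * (c * p * c⁻¹ * y) * c := by group
        _ = c⁻¹ * (y * (c * p * c⁻¹)) * c := by rw [hc']
        _ = _ := by group
    have hordy : orderOf (c⁻¹ * y * c) = orderOf y := by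
      simpa using Small.orderOf_conj_eq c⁻¹ y
    have hcO : c⁻¹ * y * c ∈ O := hmem _
      (Subgroup.mem_centralizer_singleton_iff.2 (hy' _ hJP).symm) (hordy ▸ hoddO hyO)
    refine ne_inv_of_odd (hoddO hcO) (fun e => hy1 ?_) ?_
    · rw [e, orderOf_one] at hordy
      exact orderOf_eq_one_iff.1 hordy.symm
    · rw [← hτinv _ hcO, hy' τ hτP, mul_inv_cancel_right]
  -- the normal 2-complement of `C(y)`
  let T₁ : Sylow 2 H := ⟨Z.subgroupOf H,
    (P.isPGroup'.to_le (inf_le_left : Z ≤ P)).of_equiv (Subgroup.subgroupOfEquivOfLe hZH).symm,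
    fun {Q} hQ hle => by
      have h := hmax (Q.map H.subtype) (hQ.map _) (Subgroup.map_subtype_le _)
        fun t ht => ⟨⟨t, hZH ht⟩, hle (Subgroup.mem_subgroupOf.2 ht), rfl⟩
      refine le_antisymm (fun q hq => ?_) hle
      exact Subgroup.mem_subgroupOf.2 (h ▸ ⟨q, hq, rfl⟩)⟩
  haveI : IsCyclic (T₁ : Subgroup H) :=
    isCyclic_of_surjective _ (Subgroup.subgroupOfEquivOfLe hZH).symm.surjective
  have hmin : (Nat.card H).minFac = 2 :=
    (Nat.minFac_eq_two_iff _).2 (hJ ▸ H.orderOf_dvd_natCard hJH)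
  have hN := IsCyclic.normalizer_le_centralizer hmin (P := T₁) inferInstance
  set φ := MonoidHom.transferSylow T₁ hN
  have hcompl := MonoidHom.ker_transferSylow_isComplement' T₁ hN
  set Q : Subgroup G := φ.ker.map H.subtype with hQdef
  have hQH : Q ≤ H := Subgroup.map_subtype_le _
  have hQodd : Odd (Nat.card Q) := by
    rw [hQdef, Subgroup.card_map_of_injective H.subtype_injective, ← hcompl.index_eq_card,
      Nat.odd_iff, ← Nat.two_dvd_ne_zero]
    exact T₁.not_dvd_index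
  have hQmem : ∀ {k : G}, k ∈ H → Odd (orderOf k) → k ∈ Q := by
    intro k hk ho
    refine ⟨⟨k, hk⟩, ?_, rfl⟩
    rw [SetLike.mem_coe, MonoidHom.mem_ker]
    obtain ⟨j, hj⟩ := IsPGroup.iff_orderOf.1 T₁.isPGroup' (φ ⟨k, hk⟩)
    refine orderOf_eq_one_iff.1 (Nat.eq_one_of_dvd_coprimes
      ((Nat.coprime_two_left.2 ho).pow_left j) (hj ▸ dvd_rfl) ?_)
    exact (orderOf_map_dvd φ ⟨k, hk⟩).trans (Subgroup.orderOf_mk k hk).dvd
  have hOQ : O ≤ Q := fun k hk => hQmem (hOH hk) (hoddO hk)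
  have hnormQ : ∀ {s : G}, s * y * s⁻¹ = y ∨ s * y * s⁻¹ = y⁻¹ → s ∈ normalizer (Q : Set G) :=
    fun {s} hs => Subgroup.mem_normalizer_fintype fun q hq => hQmem (by
        rw [Subgroup.mem_centralizer_singleton_iff]
        have h1 : Commute (s * q * s⁻¹) (s * y * s⁻¹) :=
          (Commute.conj_iff s).2 (Subgroup.mem_centralizer_singleton_iff.1 (hQH hq))
        rcases hs with e | e <;> rw [e] at h1
        · exact h1.eq
        · simpa using h1.inv_right.eq)
      (by rw [Small.orderOf_conj_eq]; exact hQodd.of_dvd_nat (Q.orderOf_dvd_natCard hq))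
  have hτQ : τ ∈ normalizer (Q : Set G) := hnormQ (Or.inr (hτinv y hyO))
  have hJQ : J ∈ normalizer (Q : Set G) := hnormQ (Or.inl (mul_inv_eq_iff_eq_mul.2
    (Subgroup.mem_centralizer_singleton_iff.1 hJH)))
  haveI := isZGroup_of_odd hodd hQodd
  haveI : IsCyclic Q := by
    refine isCyclic_of_four hQodd hτQ hJQ (by rw [hττ]; exact one_mem _)
      (by rw [hJJ]; exact one_mem _) ?_ ?_
    · have e : J⁻¹ * τ⁻¹ * J * τ = 1 := by
        rw [mul_assoc _ J τ, ← hJZ τ hτP]; group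
      rw [e]; exact one_mem _
    · intro x hx hxτ hxJ
      by_contra hx1
      have hxO := hmem x (Subgroup.mem_centralizer_singleton_iff.2 hxJ.symm)
        (hQodd.of_dvd_nat (Q.orderOf_dvd_natCard hx))
      exact ne_inv_of_odd (hoddO hxO) hx1 (by rw [← hτinv x hxO, hxτ, mul_inv_cancel_right])
  -- `J` centralizes `Q`
  have hJc : ∀ k ∈ Q, J * k = k * J := by
    intro k hk
    set m' := k⁻¹ * (J * k * J⁻¹) with hm'
    have hm'Q : m' ∈ Q := mul_mem (inv_mem hk) ((Subgroup.mem_normalizer_iff.1 hJQ k).1 hk)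
    by_contra hne
    have hm1 : m' ≠ 1 := fun e => hne (mul_inv_eq_iff_eq_mul.1 (inv_mul_eq_one.1 e).symm)
    have hJm : J * m' * J⁻¹ = m'⁻¹ := by
      calc J * m' * J⁻¹ = J * k⁻¹ * J⁻¹ * (J * J * k * (J * J)⁻¹) := by rw [hm']; group
        _ = m'⁻¹ := by rw [hJJ, hm']; group
    obtain ⟨q, j, hq, hqord⟩ := exists_prime_pow hm1
    set z := m' ^ j
    have hzQ : z ∈ Q := pow_mem hm'Q j
    have hJz : J * z * J⁻¹ = z⁻¹ := by rw [← conj_pow, hJm, inv_pow]
    have hz1 : z ≠ 1 := fun e => by rw [e, orderOf_one] at hqord; exact hq.ne_one hqord.symm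
    have hzodd : Odd (orderOf z) := hQodd.of_dvd_nat (Q.orderOf_dvd_natCard hzQ)
    obtain ⟨u, hu, huz⟩ : ∃ u : G, orderOf u = 2 ∧ u * z = z * u := by
      rcases conj_eq_or_inv hq hτQ hzQ hqord (by rw [hττ, one_mul, mul_one]) with e | e
      · exact ⟨τ, hτ, mul_inv_eq_iff_eq_mul.1 e⟩
      · refine ⟨J * τ, Small.orderOf_eq_two_iff_sq.2 ⟨fun e' => hτJ ?_, ?_⟩,
          mul_inv_eq_iff_eq_mul.1 ?_⟩
        · rw [eq_inv_of_mul_eq_one_right e', Small.inv_eq_self_of_orderOf_two hJ]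
        · calc J * τ * (J * τ) = J * (τ * J) * τ := by group
            _ = J * J * (τ * τ) := by rw [hJZ τ hτP]; group
            _ = 1 := by rw [hJJ, hττ, one_mul]
        · calc J * τ * z * (J * τ)⁻¹ = J * (τ * z * τ⁻¹) * J⁻¹ := by group
            _ = (J * z * J⁻¹)⁻¹ := by rw [e]; group
            _ = z := by rw [hJz, inv_inv]
    obtain ⟨c, hc⟩ := isConj_iff.1 (hone u J hu hJ)
    have hzO : c * z * c⁻¹ ∈ O := hmem _ (Subgroup.mem_centralizer_singleton_iff.2 (by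
        have h1 : Commute (c * z * c⁻¹) (c * u * c⁻¹) := (Commute.conj_iff c).2 huz.symm
        rwa [hc] at h1))
      (by rw [Small.orderOf_conj_eq]; exact hzodd)
    obtain ⟨i, hi⟩ := eq_pow_of_orderOf_eq hzQ (hOQ hzO) (Small.orderOf_conj_eq c z).symm
    have hzJ : J * z = z * J :=
      (Subgroup.mem_centralizer_singleton_iff.1 (hOC (hi ▸ zpow_mem hzO i))).symm
    exact ne_inv_of_odd hzodd hz1 (by rw [← hJz, hzJ, mul_inv_cancel_right])
  -- `C(y) ≤ C(J)`
  have hHC : H ≤ centralizer ({J} : Set G) := by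
    intro c hc
    obtain ⟨⟨⟨q, hq⟩, ⟨t, ht⟩⟩, hqt⟩ := (hcompl.existsUnique ⟨c, hc⟩).exists
    have e : (q : G) * t = c := congrArg Subtype.val hqt
    rw [← e]
    refine mul_mem (Subgroup.mem_centralizer_singleton_iff.2 (hJc _ ⟨q, hq, rfl⟩).symm)
      (Subgroup.mem_centralizer_singleton_iff.2 (hJZ _ ?_))
    exact (show (t : G) ∈ Z from ht).1
  -- `g J g⁻¹ = J`
  have hgy : g * y * g⁻¹ ∈ Y := (Subgroup.mem_normalizer_iff.1 hg y).1 hyY
  obtain ⟨k, hk⟩ := eq_pow_of_orderOf_eq hyO (hY hgy) (Small.orderOf_conj_eq g y).symm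
  set i := g * J * g⁻¹ with hi
  have hiH : i ∈ H := by
    rw [Subgroup.mem_centralizer_singleton_iff]
    have h1 : Commute i (g * y * g⁻¹) :=
      (Commute.conj_iff g).2 (Subgroup.mem_centralizer_singleton_iff.1 hJH)
    rw [← hk]; exact (h1.zpow_right k).eq
  have hii : i * i = 1 := by rw [hi, conj_mul, hJJ, mul_one, mul_inv_cancel]
  obtain ⟨k', hk', p, hp, hkp⟩ := hdec i (hHC hiH)
  have hpZ : p ∈ Z := hZy hp (by
    have h1 : Commute i y := Subgroup.mem_centralizer_singleton_iff.1 hiH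
    have h2 : Commute k' y := commute_of_cyclic hk' hyO
    have h3 := h2.inv_left.mul_left h1
    rwa [hkp, inv_mul_cancel_left] at h3)
  have hpk : Commute k' p := Subgroup.mem_centralizer_iff.1 hpZ.2 k' hk'
  have hk1 : k' = 1 := by
    have h1 : k' ^ 2 * p ^ 2 = 1 := by rw [← hpk.mul_pow, ← hkp, sq, hii]
    obtain ⟨a, ha⟩ := IsPGroup.iff_orderOf.1 P.isPGroup' ⟨p, hp⟩
    rw [Subgroup.orderOf_mk] at ha
    have h2 : (k' ^ 2) ^ (2 ^ a) = 1 := by
      rw [eq_inv_of_mul_eq_one_left h1, inv_pow, ← pow_mul, mul_comm, pow_mul, ← ha,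
        pow_orderOf_eq_one, one_pow, inv_one]
    rw [← pow_mul, ← pow_succ'] at h2
    exact orderOf_eq_one_iff.1 (Nat.eq_one_of_dvd_coprimes
      ((Nat.coprime_two_left.2 (hoddO hk')).pow_left (a + 1)) (orderOf_dvd_of_pow_eq_one h2) dvd_rfl)
  rw [hk1, one_mul] at hkp
  have hiord : orderOf p = orderOf J := by
    rw [← hkp, hi, Small.orderOf_conj_eq]
  have hp' : p = J := by
    obtain ⟨l, hl⟩ := eq_pow_of_orderOf_eq hpZ hJZmem hiord
    have hJi : p ∈ zpowers J := hl ▸ zpow_mem (mem_zpowers J) l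
    rcases Int.even_or_odd' l with ⟨b, rfl | rfl⟩
    · exfalso
      rw [zpow_mul, zpow_two, hJJ, one_zpow] at hl
      rw [← hl, orderOf_one, hJ] at hiord
      norm_num at hiord
    · rw [zpow_add_one, zpow_mul, zpow_two, hJJ, one_zpow, one_mul] at hl
      exact hl.symm
  rw [hp'] at hkp
  exact Subgroup.mem_centralizer_singleton_iff.2 (mul_inv_eq_iff_eq_mul.1 hkp)

end CfsgLib.SuzukiWong
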