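import Cfsg.Agent.SuzukiWong.Reflection
import Cfsg.Agent.SuzukiWong.BSWStep
import Cfsg.Agent.LocalStructure.Cores
import Cfsg.Agent.S0107
import Mathlib.LinearAlgebra.Matrix.ProjectiveSpecialLinearGroup

/-!
# Suzuki–Wong: simple groups with dihedral Sylow 2-subgroups of order at least eight and cyclic
odd Sylow subgroups are `PSL₂(p)`
-/

set_option autoImplicit false
set_option linter.unusedSectionVars false
set_option linter.style.haveILetI false

namespace CfsgLib.SuzukiWong

open Subgroup CfsgLib.Inv54.DihedralBlock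

universe u

theorem pResidual_eq_top_simple {G : Type u} [Group G] [Finite G] [IsSimpleGroup G]
    (hG : ¬ IsMulCommutative G) : Cfsg.pResidual 2 G = ⊤ := by
  have := Fact.mk Nat.prime_two
  haveI hn : (Cfsg.pResidual 2 G).Normal := LocalStructure.pResidual_normal
  rcases hn.eq_bot_or_eq_top with h | h
  · exfalso
    apply hG
    have h2 : IsPGroup 2 (G ⧸ Cfsg.pResidual 2 G) := LocalStructure.isPGroup_quotient_pResidual
    have h3 : IsPGroup 2 G := h2.of_equiv
      ((QuotientGroup.quotientMulEquivOfEq h).trans QuotientGroup.quotientBot)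
    haveI : Nontrivial G := IsSimpleGroup.toNontrivial
    haveI := h3.center_nontrivial
    rcases (inferInstance : (Subgroup.center G).Normal).eq_bot_or_eq_top with hc | hc
    · exact absurd hc ((Subgroup.nontrivial_iff_ne_bot _).mp inferInstance)
    · exact ⟨⟨fun a b => (Subgroup.mem_center_iff.mp (hc ▸ Subgroup.mem_top b) a)⟩⟩
  · exact h

/-- The upper unitriangular matrices. -/
def upperHom (F : Type*) [Field F] :
    Multiplicative F →* Matrix.ProjectiveSpecialLinearGroup (Fin 2) F :=
  (QuotientGroup.mk' _).comp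
    { toFun := fun t => ⟨!![1, Multiplicative.toAdd t; 0, 1], by simp [Matrix.det_fin_two]⟩
      map_one' := by
        apply Subtype.ext
        ext i j
        fin_cases i <;> fin_cases j <;> simp
      map_mul' := fun a b => by
        apply Subtype.ext
        show !![(1 : F), Multiplicative.toAdd (a * b); 0, 1] =
          !![(1 : F), Multiplicative.toAdd a; 0, 1] * !![(1 : F), Multiplicative.toAdd b; 0, 1]
        simp [add_comm] }

theorem upperHom_injective (F : Type*) [Field F] : Function.Injective (upperHom F) := by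
  rw [injective_iff_map_eq_one]
  intro t ht
  obtain ⟨r, -, hr⟩ := Matrix.SpecialLinearGroup.mem_center_iff.1 ((QuotientGroup.eq_one_iff _).1 ht)
  have h := congrFun (congrFun hr 0) 1
  simp at h
  exact Multiplicative.toAdd.injective h.symm

/-- Cyclic odd Sylow subgroups force a prime field. -/
theorem card_prime_of_cyclic {F : Type} [Field F] [Fintype F] (hF : Odd (Fintype.card F))
    (hodd : ∀ p : ℕ, p.Prime → p ≠ 2 →
      ∀ R : Sylow p (Matrix.ProjectiveSpecialLinearGroup (Fin 2) F), IsCyclic R) :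
    (Fintype.card F).Prime := by
  haveI : CharP F (ringChar F) := ringChar.charP F
  obtain ⟨m, hp, hm⟩ := FiniteField.card F (ringChar F)
  set p := ringChar F
  haveI := Fact.mk hp
  have hp2 : p ≠ 2 := fun e => by
    rw [hm, e, Nat.odd_pow_iff m.pos.ne'] at hF
    exact absurd hF (by decide)
  haveI : Finite (Matrix.ProjectiveSpecialLinearGroup (Fin 2) F) := Quotient.finite _
  set U := (upperHom F).range
  have hcard : Nat.card U = p ^ (m : ℕ) := by
    rw [← hm, ← Nat.card_congr (MonoidHom.ofInjective (upperHom_injective F)).toEquiv,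
      Nat.card_congr Multiplicative.toAdd, Nat.card_eq_fintype_card]
  obtain ⟨R, hR⟩ := (IsPGroup.of_card hcard).exists_le_sylow
  haveI := hodd p hp hp2 R
  haveI : IsCyclic U := Subgroup.isCyclic_of_le hR
  have hexp : Monoid.exponent U ∣ p := by
    refine Monoid.exponent_dvd_of_forall_pow_eq_one ?_
    rintro ⟨_, t, rfl⟩
    refine Subtype.ext ?_
    show upperHom F t ^ p = 1
    rw [← map_pow, show t ^ p = 1 from Multiplicative.toAdd.injective (by
      rw [toAdd_pow, toAdd_one, nsmul_eq_mul, CharP.cast_eq_zero, zero_mul])]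
    exact map_one _
  rw [IsCyclic.exponent_eq_card, hcard] at hexp
  rw [hm, show (m : ℕ) = 1 from le_antisymm (by
    have := Nat.le_of_dvd hp.pos hexp
    by_contra hlt
    have h2 := Nat.pow_le_pow_right hp.pos (show 2 ≤ (m : ℕ) by omega)
    nlinarith [hp.two_le]) m.pos, pow_one]
  exact hp

theorem psl2_prime_of_equiv {G : Type u} [Group G] [Finite G]
    (hodd : ∀ p : ℕ, p.Prime → p ≠ 2 → ∀ R : Sylow p G, IsCyclic R)
    {F : Type} [Field F] [Fintype F] (hF : Odd (Fintype.card F))
    (e : G ≃* Matrix.ProjectiveSpecialLinearGroup (Fin 2) F) : (Fintype.card F).Prime := by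
  refine card_prime_of_cyclic hF fun p hp hp2 R => ?_
  haveI := Fact.mk hp
  haveI : IsCyclic ((R : Subgroup _).comap e.toMonoidHom) := hodd p hp hp2
    (R.comapOfInjective e.toMonoidHom e.injective
      (fun x _ => ⟨e.symm x, e.apply_symm_apply x⟩))
  exact isCyclic_of_surjective ((e.toMonoidHom.subgroupComap (R : Subgroup _)))
    (fun x => ⟨⟨e.symm x, by
      show e.toMonoidHom (e.symm x) ∈ (R : Subgroup _)
      rw [show e.toMonoidHom (e.symm x) = x from e.apply_symm_apply _]; exact x.2⟩,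
      Subtype.ext (e.apply_symm_apply _)⟩)

/-- **Dihedral Sylow 2-subgroups of order at least eight.** -/
theorem psl2_of_dihedral {G : Type u} [Group G] [Finite G] [IsSimpleGroup G]
    (hna : ¬ IsMulCommutative G)
    (hodd : ∀ p : ℕ, p.Prime → p ≠ 2 → ∀ R : Sylow p G, IsCyclic R) (P : Sylow 2 G) (k : ℕ)
    (hk : 2 ≤ k) (hP : Nonempty ((P : Subgroup G) ≃* DihedralGroup (2 ^ k))) :
    ∃ (F : Type) (_ : Field F) (_ : Fintype F), (Fintype.card F).Prime ∧ Odd (Fintype.card F) ∧
      Nonempty (G ≃* Matrix.ProjectiveSpecialLinearGroup (Fin 2) F) := by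
  obtain ⟨e⟩ := hP
  set h := 2 ^ (k - 1) with hh
  have h2k : 2 ^ k = 2 * h := by rw [hh, ← pow_succ']; congr 1; omega
  have hone : ∀ a b : G, orderOf a = 2 → orderOf b = 2 → IsConj a b := fun a b ha hb =>
    isConj_iff.2 (Cfsg.Agent.S0107.result P k hk ⟨e⟩ (pResidual_eq_top_simple hna) a b ha hb)
  have h2 : 2 ≤ h := by
    rw [hh]
    calc 2 = 2 ^ 1 := rfl
      _ ≤ _ := Nat.pow_le_pow_right two_pos (by omega)
  obtain ⟨e'⟩ : Nonempty ((P : Subgroup G) ≃* DihedralGroup (2 * h)) := ⟨h2k ▸ e⟩
  set s := e'.symm (DihedralGroup.r 1)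
  obtain ⟨τ, S⟩ := setup_of_iso P (σ := (s : G)) h2 ⟨k - 1, hh⟩ e' s.2 (by
    rw [Subgroup.orderOf_coe, MulEquiv.orderOf_eq, DihedralGroup.orderOf_r_one])
  set σ : G := (s : G)
  haveI := core_isCyclic S hna hodd
  have hσ2 := sigma_sq_centralizes S hodd
  have hττ := Small.mul_self_of_orderOf_two S.ordτ
  -- the reflections invert the core
  have hinvt : ∀ {τ' : G}, Setup P σ τ' h → ∀ y ∈ S.core, τ' * y * τ'⁻¹ = y⁻¹ := by
    intro τ' S' y hy
    have hy' : y ∈ S'.core := core_le_core S S' hy
    haveI := core_isCyclic S' hna hodd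
    have hnorm := P_le_normalizer S' S'.memτ
    set w := y * (τ' * y * τ'⁻¹) with hw
    have hτ'τ' := Small.mul_self_of_orderOf_two S'.ordτ
    have hwO : w ∈ S'.core := mul_mem hy' ((Subgroup.mem_normalizer_iff.1 hnorm y).1 hy')
    have hwτ : τ' * w * τ'⁻¹ = w := by
      calc τ' * w * τ'⁻¹ = τ' * y * τ'⁻¹ * (τ' * τ' * y * (τ' * τ')⁻¹) := by rw [hw]; group
        _ = τ' * y * τ'⁻¹ * y := by rw [hτ'τ']; group
        _ = w := (commute_of_cyclic ((Subgroup.mem_normalizer_iff.1 hnorm y).1 hy') hy').eq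
    by_contra hne
    have hw1 : w ≠ 1 := fun e1 => hne (eq_inv_of_mul_eq_one_right e1)
    obtain ⟨q, j, hq, hqo⟩ := exists_prime_pow hw1
    haveI := Fact.mk hq
    exact no_fixed_prime hna hodd hone S' (pow_mem hwO j) hqo
      ((show Commute τ' w from mul_inv_eq_iff_eq_mul.1 hwτ).pow_right j).eq
  have hτinv := hinvt S
  have hστinv := hinvt (setup_swap S)
  have hσc : ∀ y ∈ S.core, σ * y * σ⁻¹ = y := fun y hy => by
    calc σ * y * σ⁻¹ = σ * τ * (τ⁻¹ * y * τ) * (σ * τ)⁻¹ := by group
      _ = σ * τ * (τ * y * τ⁻¹) * (σ * τ)⁻¹ := by rw [Small.inv_eq_self_of_orderOf_two S.ordτ]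
      _ = (σ * τ * y * (σ * τ)⁻¹)⁻¹ := by rw [hτinv y hy]; group
      _ = y := by rw [hστinv y hy, inv_inv]
  have hσC : σ ∈ centralizer (S.core : Set G) := Subgroup.mem_centralizer_iff.2 fun y hy =>
    (mul_inv_eq_iff_eq_mul.1 (hσc y hy)).symm
  have hzle : zpowers σ ≤ (P : Subgroup G) ⊓ centralizer (S.core : Set G) :=
    le_inf (zpowers_le.2 S.memσ) (zpowers_le.2 hσC)
  obtain ⟨F, iF, fF, hF, hiso⟩ := exists_psl_of_inverted hodd hone P (n := 2 * h) (by omega) S.iso
    S.J_order S.J_mem (fun s hs => S.J_central hs) S.ordτ S.memτ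
    (fun e => S.notMem (e ▸ pow_mem (mem_zpowers σ) h)) S.core S.core_odd S.core_le
    (fun g hg ho => mem_core_of S hg ho) (fun c hc k hk => S.core_conj hc hk)
    (fun c hc => S.decomp hc) (fun hne => by
      have heq : (P : Subgroup G) ⊓ centralizer (S.core : Set G) = zpowers σ := by
        refine le_antisymm (fun x hx => ?_) hzle
        obtain ⟨i, rfl | rfl⟩ := S.elems x hx.1
        · exact pow_mem (mem_zpowers σ) i
        · exfalso
          obtain ⟨⟨y, hy⟩, hy1⟩ := Subgroup.ne_bot_iff_exists_ne_one.1 hne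
          have h1 : τ * y = y * τ := by
            have := Subgroup.mul_mem _ hx.2 (Subgroup.inv_mem _ (pow_mem hσC i))
            rw [mul_inv_cancel_right] at this
            exact (Subgroup.mem_centralizer_iff.1 this y hy).symm
          exact ne_inv_of_odd (odd_orderOf S hy) (fun e => hy1 (Subtype.ext e))
            (by rw [← hτinv y hy, h1, mul_inv_cancel_right])
      refine ⟨?_, ?_⟩
      · rw [heq]; infer_instance
      · rw [heq]
        have h1 := ((zpowers σ).subgroupOf (P : Subgroup G)).card_mul_index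
        rw [Nat.card_congr (Subgroup.subgroupOfEquivOfLe (zpowers_le.2 S.memσ)).toEquiv,
          Nat.card_zpowers, S.ordσ, S.card_P] at h1
        show ((zpowers σ).subgroupOf (P : Subgroup G)).index = 2
        nlinarith)
    hτinv (fun s hs hsC y hy => by
      obtain ⟨i, rfl | rfl⟩ := S.elems s hs
      · exact absurd (pow_mem hσC i) hsC
      · calc τ * σ ^ i * y * (τ * σ ^ i)⁻¹ = τ * (σ ^ i * y * (σ ^ i)⁻¹) * τ⁻¹ := by group
          _ = τ * y * τ⁻¹ := by
              rw [← Subgroup.mem_centralizer_iff.1 (pow_mem hσC i) y hy, mul_inv_cancel_right]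
          _ = y⁻¹ := hτinv y hy)
  obtain ⟨e2⟩ := hiso
  exact ⟨F, iF, fF, psl2_prime_of_equiv hodd hF e2, hF, ⟨e2⟩⟩

end CfsgLib.SuzukiWong
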