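import Cfsg.Agent.Characters.Generalized
import Cfsg.Agent.BlocksFrobenius.InvolutionPairs

/-!
# Suzuki–Wong: integer coefficients of generalized characters, linear twists
-/

set_option autoImplicit false
set_option linter.unusedSectionVars false
set_option linter.style.haveILetI false

namespace CfsgLib.SuzukiWong

open Cfsg CfsgLib.Characters
open scoped ComplexConjugate

universe u

variable {G : Type u} [Group G] [Fintype G]

open Classical in
/-- The coefficient of an irreducible character in a generalized character. -/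
noncomputable def cof (f : G → ℂ) (χ : IrrCharacter G) : ℤ :=
  if h : ∃ z : ℤ, classInner f (χ : G → ℂ) = z then h.choose else 0

theorem classInner_eq_cof {f : G → ℂ} (hf : IsGeneralizedCharacter G f) (χ : IrrCharacter G) :
    classInner f (χ : G → ℂ) = (cof f χ : ℂ) := by
  classical
  have h := classInner_gen hf (isGen_of_isIrr χ.2)
  rw [cof, dif_pos h]
  exact h.choose_spec

theorem eq_sum_cof {f : G → ℂ} (hf : IsGeneralizedCharacter G f) (g : G) :
    f g = ∑ χ : IrrCharacter G, (cof f χ : ℂ) * (χ : G → ℂ) g := by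
  conv_lhs => rw [classFunction_expansion (isClassFunction_of_isGen hf)]
  simp [classInner_eq_cof hf]

theorem sum_cof_mul {f g : G → ℂ} (hf : IsGeneralizedCharacter G f)
    (hg : IsGeneralizedCharacter G g) :
    ((∑ χ : IrrCharacter G, cof f χ * cof g χ : ℤ) : ℂ) = classInner f g := by
  rw [classInner_eq_sum (isClassFunction_of_isGen hf)]
  push_cast
  refine Finset.sum_congr rfl fun χ _ => ?_
  rw [classInner_eq_cof hf, classInner_eq_cof hg, map_intCast]

theorem sum_cof_sq {f : G → ℂ} (hf : IsGeneralizedCharacter G f) {n : ℤ}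
    (hn : classInner f f = n) : ∑ χ : IrrCharacter G, cof f χ ^ 2 = n := by
  have := sum_cof_mul hf hf
  rw [hn] at this
  have h := Int.cast_injective this
  simpa [sq] using h

/-- A character value with modulus one at the twisting element. -/
theorem norm_linear {H : Type*} [Group H] [Finite H] (f : H →* ℂˣ) (h : H) :
    (f h : ℂ) * conj (f h : ℂ) = 1 := by
  have := character_inv (isCharacter_of_isIrr (isIrr_linChar f)) h
  simp only [map_inv, Units.val_inv_eq_inv_val] at this
  rw [← this, mul_inv_cancel₀ (Units.ne_zero _)]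

theorem isIrr_twist (f : G →* ℂˣ) {φ : G → ℂ} (hφ : IsIrrCharacter G φ) :
    IsIrrCharacter G (fun g => (f g : ℂ) * φ g) := by
  refine isIrr_of_gen_norm_one ?_ ?_ ?_
  · exact isGen_of_isCharacter
      (isCharacter_mul (isCharacter_of_isIrr (isIrr_linChar f)) (isCharacter_of_isIrr hφ))
  · have h1 := classInner_isIrr_self hφ
    unfold classInner at h1 ⊢
    rw [← h1]
    congr 1
    refine Finset.sum_congr rfl fun g _ => ?_
    rw [map_mul, mul_mul_mul_comm, norm_linear, one_mul]
  · obtain ⟨n, hn⟩ := exists_degree (isCharacter_of_isIrr hφ)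
    simp [hn]

/-- A degree congruence from equal multiplicities of the non-principal characters. -/
theorem apply_one_of_mult {W : Type*} [Group W] [Fintype W] {χ : W → ℂ}
    (hχ : IsClassFunction W χ) {m c : ℂ} (h1 : classInner χ (fun _ => 1) = m)
    (h : ∀ ξ : IrrCharacter W, (ξ : W → ℂ) ≠ (fun _ => 1) → classInner χ (ξ : W → ℂ) = c * conj ((ξ : W → ℂ) 1)) :
    χ 1 = m - c + c * (Nat.card W : ℂ) := by
  classical
  let η : W → ℂ := fun w => (m - c) + c * (if w = 1 then (Nat.card W : ℂ) else 0)
  have hηc : IsClassFunction W η := fun g x => by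
    show (m - c) + c * (if x * g * x⁻¹ = 1 then (Nat.card W : ℂ) else 0) = _
    simp only [conj_eq_one_iff, η]
  have hη : ∀ ξ : IrrCharacter W, classInner η (ξ : W → ℂ) =
      (m - c) * classInner (fun _ => (1 : ℂ)) (ξ : W → ℂ) + c * conj ((ξ : W → ℂ) 1) := by
    intro ξ
    simp only [η, classInner, add_mul, Finset.sum_add_distrib, mul_add, one_mul, ← Finset.mul_sum]
    congr 1
    · ring
    · simp only [mul_ite, mul_zero, ite_mul, zero_mul, Finset.sum_ite_eq', Finset.mem_univ, if_true]
      rw [← mul_assoc, ← mul_assoc, mul_comm (Nat.card W : ℂ)⁻¹ c, mul_assoc c,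
        inv_mul_cancel₀ natCard_ne_zero, mul_one]
  have heq : χ = η := classFunction_ext hχ hηc fun ξ => by
    rw [hη]
    by_cases e : (ξ : W → ℂ) = fun _ => 1
    · rw [e, h1, classInner_isIrr_self isIrr_one]; simp
    · rw [h ξ e, classInner_isIrr_ne isIrr_one ξ.2 (Ne.symm e)]; simp
  rw [heq]
  simp [η]

end CfsgLib.SuzukiWong
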