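import Cfsg.Agent.SuzukiWong.Coeff
import Cfsg.Agent.BlocksFrobenius.InvolutionPairs
import Cfsg.Agent.BlocksFrobenius.KleinOrder
import Cfsg.Agent.PrincipalBlock.Basic

/-!
# Suzuki–Wong: principal block values on sections
-/

set_option autoImplicit false
set_option linter.unusedSectionVars false
set_option linter.style.haveILetI false

namespace CfsgLib.SuzukiWong

open Cfsg CfsgLib.Blocks CfsgLib.Characters CfsgLib.PrincipalBlock
open scoped ComplexConjugate

universe u

variable {G : Type u} [Group G] [Fintype G] {M : Ideal AlgInt} [M.IsPrime]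

/-- Principal block characters are constant on the core of a 2-section. -/
theorem apply_mul_core {p : ℕ} [Fact p.Prime] (hM : Cfsg.IsPModular p M) {s : G}
    (hs : ∃ k, orderOf s = p ^ k) (L : Subgroup G)
    (hLC : L ≤ Subgroup.centralizer ({s} : Set G))
    (hLn : (L.subgroupOf (Subgroup.centralizer ({s} : Set G))).Normal) (hL : ¬ p ∣ Nat.card L)
    {χ : IrrCharacter G} (hχ : χ ∈ Cfsg.principalBlock M G) {l : G} (hl : l ∈ L) :
    (χ : G → ℂ) (s * l) = (χ : G → ℂ) s := by
  classical
  set C := Subgroup.centralizer ({s} : Set G) with hCdef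
  haveI := Fintype.ofFinite C
  set K := L.subgroupOf C with hKdef
  haveI := hLn
  have hK : ¬ p ∣ Nat.card K := by
    rwa [Nat.card_congr (Subgroup.subgroupOfEquivOfLe hLC).toEquiv]
  set F : C → ℂ := fun c => (χ : G → ℂ) (s * (c : G))
  have hconst : ∀ k : C, k ∈ K → Cfsg.blockPart (Cfsg.principalBlock M C) F k =
      Cfsg.blockPart (Cfsg.principalBlock M C) F 1 := by
    intro k hk
    simp only [Cfsg.blockPart]
    refine finsum_mem_congr rfl fun ξ hξ => ?_
    rw [mem_charKer.1 (le_charKer_of_mem hM K hK hξ hk)]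
  have hreg : ∀ k : C, k ∈ K → ¬ p ∣ orderOf k := fun k hk h =>
    hK (h.trans (K.orderOf_dvd_natCard hk))
  have h1 := BlocksLocal.blockPart_principal_translate hM hs χ (hreg _ (one_mem K))
  have hlK : (⟨l, hLC hl⟩ : C) ∈ K := Subgroup.mem_subgroupOf.2 hl
  have h2 := BlocksLocal.blockPart_principal_translate hM hs χ (hreg _ hlK)
  rw [if_pos hχ] at h1 h2
  rw [← h2, hconst _ hlK, h1]
  simp

open Classical in
/-- A class function summed over a section only sees the principal block. -/
theorem sum_section {p : ℕ} [Fact p.Prime] (hM : Cfsg.IsPModular p M) {y : G}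
    (hy : ∃ k, orderOf y = p ^ k) (L : Subgroup G) [Fintype L]
    (hLC : L ≤ Subgroup.centralizer ({y} : Set G))
    (hLn : (L.subgroupOf (Subgroup.centralizer ({y} : Set G))).Normal)
    (hL : ¬ p ∣ Nat.card L)
    (hLi : ∃ k, (L.subgroupOf (Subgroup.centralizer ({y} : Set G))).index = p ^ k)
    {f : G → ℂ} (hf : IsGeneralizedCharacter G f) :
    ∑ l : L, f (y * (l : G)) = (Nat.card L : ℂ) * ∑ χ : IrrCharacter G,
      (if χ ∈ Cfsg.principalBlock M G then (cof f χ : ℂ) * (χ : G → ℂ) y else 0) := by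
  have key : ∀ χ : IrrCharacter G, ∑ l : L, (χ : G → ℂ) (y * (l : G)) =
      (Nat.card L : ℂ) * if χ ∈ Cfsg.principalBlock M G then (χ : G → ℂ) y else 0 := by
    intro χ
    have h := congrArg conj (BlocksFrobenius.Klein.sum_translate_conj hM hy L hLC hLn hL hLi χ)
    simp only [map_sum, map_mul, map_natCast, Complex.conj_conj, apply_ite conj, map_zero] at h
    exact h
  simp only [eq_sum_cof hf]
  rw [Finset.sum_comm, Finset.mul_sum]
  refine Finset.sum_congr rfl fun χ _ => ?_
  rw [← Finset.mul_sum, key]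
  split_ifs <;> ring

/-- Principal block characters do not vanish on an involution central in a Sylow 2-subgroup. -/
theorem apply_invol_ne_zero (hM : Cfsg.IsPModular 2 M) (P : Sylow 2 G) {t : G}
    (hP : (P : Subgroup G) ≤ Subgroup.centralizer ({t} : Set G))
    {χ : IrrCharacter G} (hχ : χ ∈ Cfsg.principalBlock M G) : (χ : G → ℂ) t ≠ 0 := by
  haveI : Fact (Nat.Prime 2) := ⟨Nat.prime_two⟩
  intro e
  have h1 := hχ t
  simp only [Cfsg.centralChar, e, mul_zero, zero_div, sub_zero, mul_one, div_one] at h1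
  rw [memLocalIdeal_natCast_iff hM] at h1
  exact P.not_dvd_index (h1.trans (Subgroup.index_dvd_of_le hP))

open Classical in
/-- The principal block column at an involution whose centralizer has a normal 2-complement. -/
theorem sum_sq_invol (hM : Cfsg.IsPModular 2 M) {t : G} (ht : orderOf t = 2) (L : Subgroup G)
    [Fintype L] (hLC : L ≤ Subgroup.centralizer ({t} : Set G))
    (hLn : (L.subgroupOf (Subgroup.centralizer ({t} : Set G))).Normal) (hL : ¬ 2 ∣ Nat.card L)
    {k : ℕ} (hLi : (L.subgroupOf (Subgroup.centralizer ({t} : Set G))).index = 2 ^ k) :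
    ∑ χ : IrrCharacter G, (if χ ∈ Cfsg.principalBlock M G then
        (χ : G → ℂ) t * conj ((χ : G → ℂ) t) else 0) = (2 : ℂ) ^ k := by
  haveI : Fact (Nat.Prime 2) := ⟨Nat.prime_two⟩
  set C := Subgroup.centralizer ({t} : Set G)
  have hcard : Nat.card L * 2 ^ k = Nat.card C := by
    rw [← hLi, ← Nat.card_congr (Subgroup.subgroupOfEquivOfLe hLC).toEquiv,
      Subgroup.card_mul_index]
  have key := fun χ : IrrCharacter G => BlocksFrobenius.Klein.sum_translate_conj hM
    ⟨1, by rw [ht, pow_one]⟩ L hLC hLn hL ⟨k, hLi⟩ χ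
  apply mul_left_cancel₀ (show (Nat.card L : ℂ) ≠ 0 from Nat.cast_ne_zero.2 Nat.card_pos.ne')
  rw [Finset.mul_sum, Finset.sum_congr rfl (g := fun χ : IrrCharacter G =>
    ∑ l : L, (χ : G → ℂ) t * conj ((χ : G → ℂ) (t * (l : G)))) fun χ _ => by
      rw [← Finset.mul_sum, key χ]; split_ifs <;> ring]
  rw [Finset.sum_comm, Finset.sum_eq_single (⟨1, L.one_mem⟩ : L)]
  · simp only [mul_one]
    rw [sum_irr_mul_conj_of_isConj (IsConj.refl t)]
    exact_mod_cast hcard.symm
  · rintro ⟨l, hl⟩ - hne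
    refine sum_irr_mul_conj_of_not_isConj fun hc => hne (Subtype.ext ?_)
    obtain ⟨g, hg⟩ := isConj_iff.1 hc
    have hcomm : Commute t l :=
      (show Commute l t from Subgroup.mem_centralizer_singleton_iff.1 (hLC hl)).symm
    have h1 : (t * l) ^ 2 = 1 := by
      show (t * l) ^ 2 = 1
      rw [← hg, conj_pow, ← ht, pow_orderOf_eq_one, mul_one, mul_inv_cancel]
    rw [hcomm.mul_pow, ← ht, pow_orderOf_eq_one, one_mul, ht] at h1
    refine orderOf_eq_one_iff.1 (Nat.eq_one_of_dvd_coprimes
      (Nat.prime_two.coprime_iff_not_dvd.2 hL).symm (L.orderOf_dvd_natCard hl) ?_)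
    exact orderOf_dvd_of_pow_eq_one h1
  · simp

open Classical in
/-- The principal block of a group whose involution column has norm four. -/
theorem exists_four (hM : Cfsg.IsPModular 2 M) (P : Sylow 2 G) {t : G} (ht2 : t * t = 1)
    (hP : (P : Subgroup G) ≤ Subgroup.centralizer ({t} : Set G))
    (hsum : ∑ χ : IrrCharacter G, (if χ ∈ Cfsg.principalBlock M G then
        (χ : G → ℂ) t * conj ((χ : G → ℂ) t) else 0) = 4) :
    ∃ s : IrrCharacter G → ℤ, ∃ B : Finset (IrrCharacter G), B.card = 3 ∧ trivChar G ∉ B ∧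
      (∀ χ, χ ∈ Cfsg.principalBlock M G ↔ χ = trivChar G ∨ χ ∈ B) ∧
      (∀ χ ∈ Cfsg.principalBlock M G, (χ : G → ℂ) t = s χ ∧ (s χ = 1 ∨ s χ = -1)) := by
  choose s hs using fun χ : IrrCharacter G => BlocksFrobenius.exists_int_apply χ ht2
  set B0 := Finset.univ.filter fun χ : IrrCharacter G => χ ∈ Cfsg.principalBlock M G with hB0
  have hsq : ∑ χ ∈ B0, s χ ^ 2 = 4 := by
    apply Int.cast_injective (α := ℂ)
    push_cast
    rw [Finset.sum_filter, ← hsum]
    refine Finset.sum_congr rfl fun χ _ => ?_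
    split_ifs
    · rw [hs, map_intCast, sq]
    · rfl
  have hpos : ∀ χ ∈ B0, 1 ≤ s χ ^ 2 := fun χ hχ => by
    have hne : s χ ≠ 0 := fun e => apply_invol_ne_zero hM P hP (Finset.mem_filter.1 hχ).2
      (by rw [hs, e, Int.cast_zero])
    exact Int.add_one_le_iff.2 (lt_of_le_of_ne (sq_nonneg _) (Ne.symm (pow_ne_zero _ hne)))
  have h1 : trivChar G ∈ B0 := Finset.mem_filter.2 ⟨Finset.mem_univ _, trivChar_mem⟩
  have hbound : ∀ χ ∈ B0, s χ ^ 2 = 1 := by
    intro χ hχ
    have hle : s χ ^ 2 ≤ 4 := hsq ▸ Finset.single_le_sum (f := fun χ => s χ ^ 2)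
      (fun _ _ => sq_nonneg _) hχ
    have hlt : -3 < s χ ∧ s χ < 3 := by constructor <;> nlinarith
    by_contra hne
    have hfour : s χ ^ 2 = 4 := by
      have := hpos χ hχ
      obtain ⟨a, b⟩ := hlt
      interval_cases (s χ) <;> simp_all
    have ht1 : s (trivChar G) = 1 := by
      have e := hs (trivChar G)
      simp only [trivChar] at e
      exact_mod_cast e.symm
    have hne' : χ ≠ trivChar G := fun e => by
      rw [e, ht1] at hfour; norm_num at hfour
    have h2 := Finset.add_sum_erase B0 (fun χ => s χ ^ 2) hχ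
    have h3 : (1 : ℤ) ≤ ∑ x ∈ B0.erase χ, s x ^ 2 := (hpos _ h1).trans
      (Finset.single_le_sum (f := fun χ => s χ ^ 2) (fun _ _ => sq_nonneg _)
        (Finset.mem_erase.2 ⟨hne'.symm, h1⟩))
    simp only [hsq] at h2
    omega
  refine ⟨s, B0.erase (trivChar G), ?_, Finset.notMem_erase _ _, fun χ => ?_, fun χ hχ =>
    ⟨hs χ, sq_eq_one_iff.1 (hbound χ (Finset.mem_filter.2 ⟨Finset.mem_univ _, hχ⟩))⟩⟩
  · rw [Finset.card_erase_of_mem h1]
    have : (B0.card : ℤ) = 4 := by
      rw [← hsq, Finset.sum_congr rfl hbound]; simp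
    omega
  · rw [Finset.mem_erase, hB0, Finset.mem_filter]
    constructor
    · intro h
      by_cases e : χ = trivChar G
      · exact Or.inl e
      · exact Or.inr ⟨e, Finset.mem_univ _, h⟩
    · rintro (rfl | ⟨-, -, h⟩)
      · exact trivChar_mem
      · exact h

end CfsgLib.SuzukiWong
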