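import Cfsg.Agent.Characters.Generalized
import Cfsg.Agent.CharactersDeep.ClassPairs

/-!
# Suzuki–Wong: induction from trivial intersection sets and counting pairs

`TI M H D`: `D` is a subset of the subgroup `H`, invariant under `M ≥ H`, and elements of `D` are
fused only by `M`.  For functions `α` on `H` vanishing off `D` this gives the values of `indFun H α`
on `D`, inner products, and the number of pairs of conjugates of an involution with product in `D`.
-/

set_option autoImplicit false
set_option linter.unusedSectionVars false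
set_option linter.style.haveILetI false

namespace CfsgLib.SuzukiWong

open Cfsg CfsgLib.Characters CfsgLib.CharactersDeep.ClassPairs
open scoped ComplexConjugate

universe u

variable {G : Type u} [Group G]

/-- A trivial intersection set `D` of `H` with normalizer `M`. -/
structure TI (M H : Subgroup G) (D : Set G) : Prop where
  le : H ≤ M
  normal : ∀ m ∈ M, ∀ h ∈ H, m * h * m⁻¹ ∈ H
  sub : D ⊆ (H : Set G)
  stable : ∀ m ∈ M, ∀ z ∈ D, m * z * m⁻¹ ∈ D
  fusion : ∀ z ∈ D, ∀ g : G, g * z * g⁻¹ ∈ D → g ∈ M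

/-- A function on `H` vanishing off `D`. -/
def SuppOn {H : Subgroup G} (D : Set G) (α : H → ℂ) : Prop := ∀ h : H, (h : G) ∉ D → α h = 0

/-- The function conjugated by an element normalizing `H`. -/
noncomputable def conjOn (H : Subgroup G) (m : G) (α : H → ℂ) : H → ℂ :=
  fun h => extendByZero H α (m⁻¹ * (h : G) * m)

theorem ext_supp {H : Subgroup G} {D : Set G} {α : H → ℂ} (hα : SuppOn D α) {g : G} (hg : g ∉ D) :
    extendByZero H α g = 0 := by
  by_cases h : g ∈ H
  · rw [extendByZero_of_mem H α h]; exact hα _ hg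
  · exact extendByZero_of_not_mem H α h

variable {M H : Subgroup G} {D : Set G}

theorem TI.fusion' (T : TI M H D) {g z : G} (hz : z ∈ D) (h : g⁻¹ * z * g ∈ D) : g ∈ M := by
  simpa using inv_mem (T.fusion z hz g⁻¹ (by simpa using h))

theorem TI.stable' (T : TI M H D) {m z : G} (hm : m ∈ M) (hz : z ∈ D) : m⁻¹ * z * m ∈ D := by
  simpa using T.stable m⁻¹ (inv_mem hm) z hz

variable [Fintype G]

open Classical in
/-- The value of an induced function on the trivial intersection set. -/
theorem TI.ind_apply (T : TI M H D) {α : H → ℂ} (hα : SuppOn D α) {z : G} (hz : z ∈ D) :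
    indFun H α z = (Nat.card H : ℂ)⁻¹ *
      ∑ g : G, (if g ∈ M then extendByZero H α (g⁻¹ * z * g) else 0) := by
  unfold indFun
  congr 1
  refine Finset.sum_congr rfl fun g _ => ?_
  split_ifs with hg
  · rfl
  · exact ext_supp hα fun h => hg (T.fusion' hz h)

open Classical in
/-- Inner products of induced functions. -/
theorem TI.inner (T : TI M H D) [Fintype H] {α β : H → ℂ} (hα : SuppOn D α) (hβ : SuppOn D β) :
    classInner (indFun H α) (indFun H β) = (Nat.card H : ℂ)⁻¹ *
      ∑ g : G, (if g ∈ M then classInner α (conjOn H g β) else 0) := by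
  rw [classInner_indFun H α (isClassFunction_indFun H β)]
  simp only [classInner]
  rw [Finset.mul_sum (s := (Finset.univ : Finset G)), Finset.mul_sum]
  calc ∑ h : H, (Nat.card H : ℂ)⁻¹ * (α h * conj (indFun H β h))
      = ∑ h : H, ∑ g : G, (Nat.card H : ℂ)⁻¹ *
          (if g ∈ M then (Nat.card H : ℂ)⁻¹ * (α h * conj (conjOn H g β h)) else 0) := by
        refine Finset.sum_congr rfl fun h _ => ?_
        by_cases hD : (h : G) ∈ D
        · rw [T.ind_apply hβ hD, map_mul, map_inv₀, map_natCast, map_sum, ← Finset.mul_sum]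
          congr 1
          rw [← mul_assoc, mul_comm (α h), mul_assoc, Finset.mul_sum, Finset.mul_sum]
          refine Finset.sum_congr rfl fun g _ => ?_
          split_ifs <;> simp [conjOn]
        · rw [hα h hD, zero_mul, mul_zero]
          refine (Finset.sum_eq_zero fun g _ => ?_).symm
          simp
    _ = _ := by
        rw [Finset.sum_comm]
        refine Finset.sum_congr rfl fun g _ => ?_
        split_ifs with hg
        · rw [Finset.mul_sum, Finset.mul_sum]
        · simp

/-- Pairs of conjugates of `t` weighted by a class function. -/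
theorem pair_count {f : G → ℂ} (hf : IsClassFunction G f) (t : G) :
    ∑ p ∈ classSet t ×ˢ classSet t, f (p.1 * p.2) =
      ((classSet t).card : ℂ) ^ 2 * ∑ χ : IrrCharacter G,
        classInner f (χ : G → ℂ) * (χ : G → ℂ) t ^ 2 / (χ : G → ℂ) 1 := by
  conv_lhs => rw [classFunction_expansion hf]
  simp only [Finset.sum_apply, Pi.smul_apply, smul_eq_mul]
  rw [Finset.sum_comm, Finset.mul_sum]
  refine Finset.sum_congr rfl fun χ _ => ?_
  rw [← Finset.mul_sum, sum_pairs_char χ.2]
  ring

open Classical in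
/-- The pairs in `M`. -/
noncomputable def inM (M : Subgroup G) (t : G) : Finset G := (classSet t).filter (· ∈ M)

theorem mem_inM {M : Subgroup G} {t i : G} : i ∈ inM M t ↔ IsConj t i ∧ i ∈ M := by
  classical
  simp [inM, mem_classSet]

theorem mul_self_of_isConj {t i : G} (ht : t * t = 1) (h : IsConj t i) : i * i = 1 := by
  obtain ⟨c, rfl⟩ := isConj_iff.1 h
  rw [show c * t * c⁻¹ * (c * t * c⁻¹) = c * (t * t) * c⁻¹ by group, ht, mul_one, mul_inv_cancel]

theorem conj_mem_inM {M : Subgroup G} {t m : G} (hm : m ∈ M) {i : G} :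
    m * i * m⁻¹ ∈ inM M t ↔ i ∈ inM M t := by
  rw [mem_inM, mem_inM, ← mem_classSet, ← mem_classSet, conj_mem_classSet]
  refine and_congr_right fun _ => ⟨fun h => ?_, fun h => mul_mem (mul_mem hm h) (inv_mem hm)⟩
  have := mul_mem (mul_mem (inv_mem hm) h) hm
  simpa [mul_assoc] using this

open Classical in
/-- All pairs of conjugates of `t` with product conjugate into `D` come from pairs in `M`. -/
theorem TI.pairs (T : TI M H D) {α : H → ℂ} (hα : SuppOn D α) {t : G} (ht : t * t = 1)
    (hinv : ∀ z ∈ D, ∀ i : G, IsConj t i → i * z * i⁻¹ = z⁻¹ → i ∈ M) :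
    ∑ p ∈ classSet t ×ˢ classSet t, indFun H α (p.1 * p.2) =
      (H.index : ℂ) * ∑ p ∈ inM M t ×ˢ inM M t, extendByZero H α (p.1 * p.2) := by
  set S := classSet t with hS
  -- the contribution of one conjugator
  have hx : ∀ x : G, ∑ p ∈ S ×ˢ S, extendByZero H α (x⁻¹ * (p.1 * p.2) * x) =
      ∑ p ∈ inM M t ×ˢ inM M t, extendByZero H α (p.1 * p.2) := by
    intro x
    rw [Finset.sum_bij' (t := S ×ˢ S) (g := fun p => extendByZero H α (p.1 * p.2))
      (fun p _ => (x⁻¹ * p.1 * x, x⁻¹ * p.2 * x)) (fun p _ => (x * p.1 * x⁻¹, x * p.2 * x⁻¹))]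
    · refine (Finset.sum_subset (Finset.product_subset_product (Finset.filter_subset _ _)
        (Finset.filter_subset _ _)) fun p hp hp' => ?_).symm
      refine ext_supp hα fun hz => hp' ?_
      obtain ⟨h1, h2⟩ := Finset.mem_product.1 hp
      have hi1 := mul_self_of_isConj ht (mem_classSet.1 h1)
      have hi2 := mul_self_of_isConj ht (mem_classSet.1 h2)
      have hinv1 : p.1 * (p.1 * p.2) * p.1⁻¹ = (p.1 * p.2)⁻¹ := by
        rw [mul_inv_rev, inv_eq_of_mul_eq_one_right hi2, ← mul_assoc p.1 p.1, hi1, one_mul,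
          inv_eq_of_mul_eq_one_right hi1]
      have hM1 := hinv _ hz _ (mem_classSet.1 h1) hinv1
      have hM2 : p.2 ∈ M := (Subgroup.mul_mem_cancel_left M hM1).1 (T.le (T.sub hz))
      exact Finset.mem_product.2 ⟨mem_inM.2 ⟨mem_classSet.1 h1, hM1⟩,
        mem_inM.2 ⟨mem_classSet.1 h2, hM2⟩⟩
    · intro p hp
      obtain ⟨h1, h2⟩ := Finset.mem_product.1 hp
      exact Finset.mem_product.2 ⟨by simpa using (conj_mem_classSet x⁻¹).2 h1,
        by simpa using (conj_mem_classSet x⁻¹).2 h2⟩
    · intro p hp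
      obtain ⟨h1, h2⟩ := Finset.mem_product.1 hp
      exact Finset.mem_product.2 ⟨(conj_mem_classSet x).2 h1, (conj_mem_classSet x).2 h2⟩
    · intro p _; simp [mul_assoc]
    · intro p _; simp [mul_assoc]
    · intro p _; simp [mul_assoc]
  simp only [indFun]
  rw [← Finset.mul_sum, Finset.sum_comm, Finset.sum_congr rfl fun x _ => hx x, Finset.sum_const,
    Finset.card_univ, ← Nat.card_eq_fintype_card, nsmul_eq_mul, ← mul_assoc, ← H.index_mul_card,
    Nat.cast_mul, mul_comm ((H.index : ℂ)) , ← mul_assoc, inv_mul_cancel₀ (subgroup_card_ne_zero H),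
    one_mul]

/-- Sums over pairs vanish for functions twisted by a linear character nontrivial on a subgroup
inverted by the involutions. -/
theorem sum_twist_eq_zero {S : Finset G} {g : G → ℂ} {κ : G} {c : ℂ}
    (hc : c ≠ 1) (hS : ∀ i, κ * i ∈ S ↔ i ∈ S) (hg : ∀ p ∈ S ×ˢ S, g (κ * p.1 * p.2) = c * g (p.1 * p.2)) :
    ∑ p ∈ S ×ˢ S, g (p.1 * p.2) = 0 := by
  have h : ∑ p ∈ S ×ˢ S, g (p.1 * p.2) = c * ∑ p ∈ S ×ˢ S, g (p.1 * p.2) := by
    rw [Finset.mul_sum, ← Finset.sum_congr rfl hg]
    refine (Finset.sum_bij' (fun p _ => (κ * p.1, p.2)) (fun p _ => (κ⁻¹ * p.1, p.2)) ?_ ?_ ?_ ?_ ?_).symm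
    · intro p hp
      obtain ⟨h1, h2⟩ := Finset.mem_product.1 hp
      exact Finset.mem_product.2 ⟨(hS _).2 h1, h2⟩
    · intro p hp
      obtain ⟨h1, h2⟩ := Finset.mem_product.1 hp
      exact Finset.mem_product.2 ⟨(hS _).1 (by simpa using h1), h2⟩
    · intro p _; simp
    · intro p _; simp
    · intro p _; rfl
  have h' : (c - 1) * ∑ p ∈ S ×ˢ S, g (p.1 * p.2) = 0 := by rw [sub_mul, one_mul, ← h, sub_self]
  exact (mul_eq_zero.1 h').resolve_left (sub_ne_zero.2 hc)

end CfsgLib.SuzukiWong
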