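import Cfsg.Agent.SuzukiWong.Klein
import Cfsg.Agent.SuzukiWong.BSWStep
import Cfsg.Agent.SuzukiWong.DihedralPSL
import Cfsg.Agent.Small.KleinSylow
import Cfsg.Agent.SylowPrimeOrder.Simple

/-!
# Suzuki–Wong: simple groups with Klein four Sylow 2-subgroups and cyclic odd Sylow subgroups
-/

set_option autoImplicit false
set_option linter.unusedSectionVars false
set_option linter.style.haveILetI false

namespace CfsgLib.SuzukiWong

open Subgroup

universe u

variable {G : Type u} [Group G] [Finite G]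

/-- A normal 2-complement inside a subgroup. -/
theorem exists_two_complement {T K : Subgroup G} (hT : IsPGroup 2 T) (hTK : T ≤ K)
    (hmax : ∀ T' : Subgroup G, IsPGroup 2 T' → T' ≤ K → T ≤ T' → T' = T)
    (hN : ∀ n ∈ K, n ∈ normalizer (T : Set G) → n ∈ centralizer (T : Set G)) :
    ∃ Q : Subgroup G, Q ≤ K ∧ Odd (Nat.card Q) ∧ (∀ g ∈ K, Odd (orderOf g) → g ∈ Q) ∧
      ∀ c ∈ K, ∃ q ∈ Q, ∃ t ∈ T, c = q * t := by
  haveI : Fact (Nat.Prime 2) := ⟨Nat.prime_two⟩
  let T₁ : Sylow 2 K := ⟨T.subgroupOf K, hT.of_equiv (Subgroup.subgroupOfEquivOfLe hTK).symm,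
    fun {Q} hQ hle => by
      have h := hmax (Q.map K.subtype) (hQ.map _) (Subgroup.map_subtype_le _)
        fun t ht => ⟨⟨t, hTK ht⟩, hle (Subgroup.mem_subgroupOf.2 ht), rfl⟩
      refine le_antisymm (fun q hq => ?_) hle
      exact Subgroup.mem_subgroupOf.2 (h ▸ ⟨q, hq, rfl⟩)⟩
  have hN' : normalizer ((T₁ : Subgroup K) : Set K) ≤ centralizer ((T₁ : Subgroup K) : Set K) := by
    intro n hn
    have hnT : (n : G) ∈ normalizer (T : Set G) :=
      Subgroup.mem_normalizer_fintype fun u hu =>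
        (Subgroup.mem_normalizer_iff.1 hn ⟨u, hTK hu⟩).1 hu
    exact Subgroup.mem_centralizer_iff.2 fun u hu =>
      Subtype.ext (Subgroup.mem_centralizer_iff.1 (hN n n.2 hnT) (u : G) hu)
  have hcompl := MonoidHom.ker_transferSylow_isComplement' T₁ hN'
  set φ := MonoidHom.transferSylow T₁ hN'
  refine ⟨φ.ker.map K.subtype, Subgroup.map_subtype_le _, ?_, fun g hg ho => ?_, fun c hc => ?_⟩
  · rw [Subgroup.card_map_of_injective K.subtype_injective, ← hcompl.index_eq_card,
      Nat.odd_iff, ← Nat.two_dvd_ne_zero]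
    exact T₁.not_dvd_index
  · refine ⟨⟨g, hg⟩, ?_, rfl⟩
    rw [SetLike.mem_coe, MonoidHom.mem_ker]
    obtain ⟨j, hj⟩ := IsPGroup.iff_orderOf.1 T₁.isPGroup' (φ ⟨g, hg⟩)
    refine orderOf_eq_one_iff.1 (Nat.eq_one_of_dvd_coprimes
      ((Nat.coprime_two_left.2 ho).pow_left j) (hj ▸ dvd_rfl) ?_)
    exact (orderOf_map_dvd φ ⟨g, hg⟩).trans (Subgroup.orderOf_mk g hg).dvd
  · obtain ⟨⟨⟨q, hq⟩, ⟨t, ht⟩⟩, hqt⟩ := (hcompl.existsUnique ⟨c, hc⟩).exists
    exact ⟨q, ⟨q, hq, rfl⟩, t, ht, (congrArg Subtype.val hqt).symm⟩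

variable [IsSimpleGroup G] (hna : ¬ IsMulCommutative G)
  (hodd : ∀ p : ℕ, p.Prime → p ≠ 2 → ∀ R : Sylow p G, IsCyclic R)
  {P : Sylow 2 G} (hP : IsKleinFour (P : Subgroup G))

include hna hP

theorem klein_fusion :
    (∀ a ∈ (P : Subgroup G), ∀ b ∈ (P : Subgroup G), a ≠ 1 → b ≠ 1 →
      ∃ n ∈ normalizer ((P : Subgroup G) : Set G), n * a * n⁻¹ = b) ∧
    (centralizer ((P : Subgroup G) : Set G)).relIndex
      (normalizer ((P : Subgroup G) : Set G)) = 3 := by
  haveI : Fact (Nat.Prime 2) := ⟨Nat.prime_two⟩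
  refine (Small.kleinFour_normalizer_dichotomy P hP).resolve_left
    (Small.not_normalizer_le_centralizer hna ?_ P)
  exact (show 2 ∣ Nat.card (P : Subgroup G) by rw [IsKleinFour.card_four]; norm_num).trans
    (Subgroup.card_subgroup_dvd_card _)

theorem klein_one_class (a b : G) (ha : orderOf a = 2) (hb : orderOf b = 2) : IsConj a b := by
  obtain ⟨g, hg⟩ := Small.exists_conj_mem_sylow P ha
  obtain ⟨g', hg'⟩ := Small.exists_conj_mem_sylow P hb
  obtain ⟨n, -, hn⟩ := (klein_fusion hna hP).1 _ hg _ hg'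
    (by rw [ne_eq, conj_eq_one_iff]; exact Small.ne_one_of_orderOf_two ha)
    (by rw [ne_eq, conj_eq_one_iff]; exact Small.ne_one_of_orderOf_two hb)
  exact ((isConj_iff.2 ⟨g, rfl⟩).trans (isConj_iff.2 ⟨n, hn⟩)).trans (isConj_iff.2 ⟨g', rfl⟩).symm

include hodd

/-- Every odd prime element centralizing `P` is moved by some element of `N(P)` normalising a
Sylow subgroup through it. -/
theorem klein_moved {r : ℕ} [hr : Fact r.Prime] (hr2 : r ≠ 2) (R : Sylow r G) {y : G}
    (hyR : y ∈ (R : Subgroup G)) (hord : orderOf y = r)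
    (K : Subgroup G) (hPK : (P : Subgroup G) ≤ K) (hKy : K ≤ centralizer ({y} : Set G))
    (hKinv : ∀ g ∈ normalizer ((R : Subgroup G) : Set G), ∀ k ∈ K, g * k * g⁻¹ ∈ K) :
    ∃ m ∈ normalizer ((P : Subgroup G) : Set G), ∃ c ∈ K, ∃ g ∈ normalizer ((R : Subgroup G) : Set G),
      m = c * g ∧ m * y ≠ y * m ∧ ∃ e : ℤ, m * y * m⁻¹ = y ^ e := by
  haveI : Fact (Nat.Prime 2) := ⟨Nat.prime_two⟩
  haveI := hodd r hr.out hr2 R
  have hy1 : y ≠ 1 := fun e => by rw [e, orderOf_one] at hord; exact hr.out.ne_one hord.symm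
  obtain ⟨g, hgN, hgC⟩ := exists_not_centralizing hna R (hord ▸ orderOf_dvd_natCard y)
  obtain ⟨c, hc, hcg⟩ := frattini (p := 2) (K := K) P.isPGroup' hPK
    (fun T' hT' _ hle => P.is_maximal' hT' hle) (hKinv g hgN)
  obtain ⟨e, he⟩ := exists_exp hgN
  have hcy : c * y * c⁻¹ = y := by
    rw [Subgroup.mem_centralizer_singleton_iff.1 (hKy hc), mul_inv_cancel_right]
  have hm : c * g * y * (c * g)⁻¹ = y ^ e := by
    calc c * g * y * (c * g)⁻¹ = c * (g * y * g⁻¹) * c⁻¹ := by group
      _ = y ^ e := by rw [he y hyR, ← conj_zpow, hcy]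
  refine ⟨c * g, hcg, c, hc, g, hgN, rfl, fun hfix => hgC ?_, e, hm⟩
  refine centralizes_sylow R hyR hy1 hgN ?_
  rw [hfix, mul_inv_cancel_right] at hm
  refine mul_inv_eq_iff_eq_mul.1 ?_
  rw [he y hyR, ← hm]

theorem klein_prime_ne_three {y : G} (hord : orderOf y = 3)
    (hy : y ∈ centralizer ((P : Subgroup G) : Set G)) : False := by
  haveI : Fact (Nat.Prime 3) := ⟨Nat.prime_three⟩
  haveI : Fact (Nat.Prime 2) := ⟨Nat.prime_two⟩
  obtain ⟨R, hR⟩ := (IsPGroup.of_card (p := 3) (n := 1)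
    (show Nat.card (zpowers y) = 3 ^ 1 by rw [Nat.card_zpowers, hord, pow_one])).exists_le_sylow
  have hyR : y ∈ (R : Subgroup G) := hR (mem_zpowers y)
  haveI := hodd 3 Nat.prime_three (by norm_num) R
  have hPy : (P : Subgroup G) ≤ centralizer ({y} : Set G) := fun p hp =>
    Subgroup.mem_centralizer_singleton_iff.2 (Subgroup.mem_centralizer_iff.1 hy p hp)
  obtain ⟨m, hmN, -, -, -, -, -, hne, e, hm⟩ := klein_moved hna hodd hP (by norm_num) R hyR hord _
    hPy le_rfl (fun g hg k hk => by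
      obtain ⟨l, hl⟩ := eq_pow_of_orderOf_eq (y := g * y * g⁻¹) hyR
        ((Subgroup.mem_normalizer_iff.1 hg y).1 hyR) (by rw [Small.orderOf_conj_eq])
      rw [Subgroup.mem_centralizer_singleton_iff] at hk ⊢
      have := ((Commute.conj_iff g).2 (show Commute k y from hk)).zpow_right l
      rwa [hl] at this)
  apply hne
  set N := normalizer ((P : Subgroup G) : Set G)
  have hk : ¬ 2 ∣ (P : Subgroup G).relIndex N := fun hd =>
    P.not_dvd_index (hd.trans (Subgroup.relIndex_dvd_index_of_le (P : Subgroup G).le_normalizer))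
  haveI : ((P : Subgroup G).subgroupOf N).Normal := Subgroup.normal_in_normalizer
  have hpow := ((P : Subgroup G).subgroupOf N).pow_index_mem ⟨m, hmN⟩
  rw [Subgroup.mem_subgroupOf, SubmonoidClass.coe_pow] at hpow
  set k := ((P : Subgroup G).subgroupOf N).index
  have h1 := conj_pow_exp hm k
  rw [← Subgroup.mem_centralizer_iff.1 hy _ hpow |>.symm, mul_inv_cancel_right] at h1
  have h2 : ((e : ZMod 3)) ^ k = 1 := by
    have hd : (3 : ℤ) ∣ e ^ k - 1 := by
      rw [show (3 : ℤ) = ((orderOf y : ℕ) : ℤ) by rw [hord]; norm_num,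
        orderOf_dvd_iff_zpow_eq_one, _root_.zpow_sub, zpow_one, ← h1, mul_inv_cancel]
    have := (ZMod.intCast_zmod_eq_zero_iff_dvd _ 3).2 hd
    push_cast at this
    exact sub_eq_zero.1 this
  have he0 : (e : ZMod 3) ≠ 0 := fun h0 => by
    obtain ⟨j, hj⟩ := (Nat.odd_iff.2 (Nat.two_dvd_ne_zero.1 hk) : Odd k)
    rw [h0, hj, pow_succ, mul_zero] at h2
    exact zero_ne_one h2
  have h3 := pow_gcd_eq_one.2 ⟨h2, ZMod.pow_card_sub_one_eq_one he0⟩
  rw [show Nat.gcd k (3 - 1) = 1 from (Nat.prime_two.coprime_iff_not_dvd.2 hk).symm, pow_one] at h3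
  have h4 : (3 : ℤ) ∣ e - 1 := (ZMod.intCast_zmod_eq_zero_iff_dvd _ 3).1 (by
    push_cast; rw [h3, sub_self])
  rw [show (3 : ℤ) = ((orderOf y : ℕ) : ℤ) by rw [hord]; norm_num, orderOf_dvd_iff_zpow_eq_one,
    _root_.zpow_sub, zpow_one, mul_inv_eq_one] at h4
  rw [h4] at hm
  exact mul_inv_eq_iff_eq_mul.1 hm

theorem klein_sylow_le {r : ℕ} [hr : Fact r.Prime] {y : G} (hord : orderOf y = r) (hr2 : r ≠ 2)
    (hy : y ∈ centralizer ((P : Subgroup G) : Set G)) :
    ∃ R : Sylow r G, y ∈ (R : Subgroup G) ∧ (R : Subgroup G) ≤ centralizer ((P : Subgroup G) : Set G) := by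
  haveI : Fact (Nat.Prime 2) := ⟨Nat.prime_two⟩
  have hPy : (P : Subgroup G) ≤ centralizer ({y} : Set G) := fun p hp =>
    Subgroup.mem_centralizer_singleton_iff.2 (Subgroup.mem_centralizer_iff.1 hy p hp)
  obtain ⟨R, hyR, hRN⟩ := exists_sylow_normalizing hr2 (fun R => hodd r hr.out hr2 R) hord
    (P : Subgroup G) P.isPGroup' hPy (fun T' hT' _ hle => P.is_maximal' hT' hle)
  refine ⟨R, hyR, fun x hx => mem_of_pow_coprime (k := 3) ?_ ?_⟩
  · have hr3 : r ≠ 3 := fun e => klein_prime_ne_three hna hodd hP (e ▸ hord) hy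
    obtain ⟨i, hi⟩ := IsPGroup.iff_orderOf.1 R.isPGroup' ⟨x, hx⟩
    rw [Subgroup.orderOf_mk] at hi
    rw [hi]
    exact ((Nat.coprime_primes hr.out Nat.prime_three).2 hr3).pow_left i
  · set C := centralizer ((P : Subgroup G) : Set G)
    set N := normalizer ((P : Subgroup G) : Set G)
    haveI : (C.subgroupOf N).Normal := by rw [← Subgroup.normalizerMonoidHom_ker]; infer_instance
    have h := (C.subgroupOf N).pow_index_mem ⟨x, hRN hx⟩
    rw [show (C.subgroupOf N).index = 3 from (klein_fusion hna hP).2] at h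
    exact h

set_option maxHeartbeats 1000000 in
/-- **Klein four Sylow 2-subgroups.** -/
theorem psl2_of_klein :
    ∃ (F : Type) (_ : Field F) (_ : Fintype F), (Fintype.card F).Prime ∧ Odd (Fintype.card F) ∧
      Nonempty (G ≃* Matrix.ProjectiveSpecialLinearGroup (Fin 2) F) := by
  classical
  haveI : Fact (Nat.Prime 2) := ⟨Nat.prime_two⟩
  obtain ⟨htrans, hrel⟩ := klein_fusion hna hP
  have hone := klein_one_class hna hP
  set C := centralizer ((P : Subgroup G) : Set G) with hCdef
  set N := normalizer ((P : Subgroup G) : Set G) with hNdef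
  have hPC : (P : Subgroup G) ≤ C := fun a ha => Subgroup.mem_centralizer_iff.2 fun b hb =>
    Small.kleinFour_comm hP hb ha
  have hCN : C ≤ N := Subgroup.centralizer_le_normalizer _
  have hmaxP : ∀ K : Subgroup G, ∀ T' : Subgroup G, IsPGroup 2 T' → T' ≤ K →
      (P : Subgroup G) ≤ T' → T' = P := fun K T' h1 _ h3 => P.is_maximal' h1 h3
  obtain ⟨W, hWC, hWodd, hWmem, hWdec⟩ := exists_two_complement (K := C) P.isPGroup' hPC (hmaxP C)
    fun n hn _ => hn
  have hWord : ∀ {x : G}, x ∈ W → Odd (orderOf x) := fun hx =>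
    hWodd.of_dvd_nat (W.orderOf_dvd_natCard hx)
  have hWN : ∀ {n : G}, n ∈ N → n ∈ normalizer (W : Set G) := fun {n} hn =>
    Subgroup.mem_normalizer_fintype fun x hx => hWmem _ (by
      rw [Subgroup.mem_centralizer_iff]
      intro p hp
      have h1 : Commute (n⁻¹ * p * n) x :=
        Subgroup.mem_centralizer_iff.1 (hWC hx) _ ((Subgroup.mem_normalizer_iff''.1 hn p).1 hp)
      have := (Commute.conj_iff n).2 h1
      rwa [show n * (n⁻¹ * p * n) * n⁻¹ = p by group] at this)
      (by rw [Small.orderOf_conj_eq]; exact hWord hx)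
  obtain ⟨⟨t, htP⟩, ht1'⟩ : ∃ a : (P : Subgroup G), a ≠ 1 := by
    refine Subgroup.ne_bot_iff_exists_ne_one.1 fun hbot => ?_
    have h4 := IsKleinFour.card_four (G := (P : Subgroup G))
    rw [hbot, Subgroup.card_bot] at h4
    norm_num at h4
  have ht1 : t ≠ 1 := fun e => ht1' (Subtype.ext e)
  have ht : orderOf t = 2 := Small.orderOf_eq_two_iff_sq.2 ⟨ht1, Small.kleinFour_mul_self hP htP⟩
  by_cases hW1 : W = ⊥
  · -- the Brauer–Suzuki–Wall case
    have hC1 : ∀ {x : G}, x ∈ C → Odd (orderOf x) → x = 1 := fun hx ho =>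
      Subgroup.mem_bot.1 (hW1 ▸ hWmem _ hx ho)
    obtain ⟨⟨τ, hτP⟩, hτ1', hτt'⟩ : ∃ a : (P : Subgroup G), a ≠ 1 ∧ a ≠ ⟨t, htP⟩ := by
      haveI := Fintype.ofFinite (P : Subgroup G)
      have h4 : Fintype.card (P : Subgroup G) = 4 := by
        rw [← Nat.card_eq_fintype_card, IsKleinFour.card_four]
      obtain ⟨a, -, ha⟩ := Finset.exists_mem_notMem_of_card_lt_card
        (s := ({1, ⟨t, htP⟩} : Finset (P : Subgroup G))) (t := Finset.univ)
        (by rw [Finset.card_univ, h4]; exact lt_of_le_of_lt (Finset.card_le_two) (by norm_num))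
      simp only [Finset.mem_insert, Finset.mem_singleton, not_or] at ha
      exact ⟨a, ha⟩
    have hτ1 : τ ≠ 1 := fun e => hτ1' (Subtype.ext e)
    have hτt : τ ≠ t := fun e => hτt' (Subtype.ext e)
    have hτ : orderOf τ = 2 := Small.orderOf_eq_two_iff_sq.2 ⟨hτ1, Small.kleinFour_mul_self hP hτP⟩
    have hττ := Small.mul_self_of_orderOf_two hτ
    have htt := Small.mul_self_of_orderOf_two ht
    have hcases : ∀ {p : G}, p ∈ (P : Subgroup G) → p = 1 ∨ p = t ∨ p = τ ∨ p = t * τ := fun hp =>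
      Small.kleinFour_cases hP htP hτP hp ht1 hτ1 (Ne.symm hτt)
    have hboth : ∀ {x : G}, Commute t x → Commute τ x → x ∈ C := fun {x} c1 c2 => by
      rw [Subgroup.mem_centralizer_iff]
      intro p hp
      rcases hcases hp with rfl | rfl | rfl | rfl
      exacts [(Commute.one_left x).eq, c1.eq, c2.eq, (c1.mul_left c2).eq]
    set Ct := centralizer ({t} : Set G)
    have hPCt : (P : Subgroup G) ≤ Ct := fun p hp =>
      Subgroup.mem_centralizer_singleton_iff.2 (Small.kleinFour_comm hP hp htP)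
    obtain ⟨O, hOC, hOodd, hOmem, hOdec⟩ := exists_two_complement (K := Ct) P.isPGroup' hPCt
      (hmaxP Ct) fun n hn hn' => Small.mem_centralizer_of_fix_one P hP hn' htP ht1
        (mul_inv_eq_iff_eq_mul.2 (Subgroup.mem_centralizer_singleton_iff.1 hn))
    have hOord : ∀ {x : G}, x ∈ O → Odd (orderOf x) := fun hx =>
      hOodd.of_dvd_nat (O.orderOf_dvd_natCard hx)
    have hOn : ∀ c ∈ Ct, ∀ k ∈ O, c * k * c⁻¹ ∈ O := fun c hc k hk =>
      hOmem _ (mul_mem (mul_mem hc (hOC hk)) (inv_mem hc))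
        (by rw [Small.orderOf_conj_eq]; exact hOord hk)
    have hτO : τ ∈ normalizer (O : Set G) :=
      Subgroup.mem_normalizer_fintype (hOn τ (hPCt hτP))
    have htO : t ∈ normalizer (O : Set G) :=
      Subgroup.mem_normalizer_fintype (hOn t (hPCt htP))
    have htc : ∀ {k : G}, k ∈ O → Commute t k := fun hk =>
      (Subgroup.mem_centralizer_singleton_iff.1 (hOC hk)).symm
    haveI := isZGroup_of_odd hodd hOodd
    haveI : IsCyclic O := by
      refine isCyclic_of_four hOodd hτO htO (by rw [hττ]; exact one_mem _)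
        (by rw [htt]; exact one_mem _) ?_ ?_
      · have e : t⁻¹ * τ⁻¹ * t * τ = 1 := by
          rw [mul_assoc _ t τ, Small.kleinFour_comm hP htP hτP]; group
        rw [e]; exact one_mem _
      · intro x hx hxτ _
        exact hC1 (hboth (htc hx) hxτ) (hOord hx)
    have hinv : ∀ k ∈ O, τ * k * τ⁻¹ = k⁻¹ := by
      intro k hk
      set w := k * (τ * k * τ⁻¹) with hw
      have hτk := (Subgroup.mem_normalizer_iff.1 hτO k).1 hk
      have hwτ : τ * w * τ⁻¹ = w := by
        calc τ * w * τ⁻¹ = τ * k * τ⁻¹ * (τ * τ * k * (τ * τ)⁻¹) := by rw [hw]; group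
          _ = τ * k * τ⁻¹ * k := by rw [hττ]; group
          _ = w := (commute_of_cyclic hτk hk).eq
      exact eq_inv_of_mul_eq_one_right (hC1 (hboth (htc (mul_mem hk hτk))
        (mul_inv_eq_iff_eq_mul.1 hwτ)) (hOord (mul_mem hk hτk)))
    haveI := hP
    obtain ⟨F, iF, fF, hF, ⟨e⟩⟩ := exists_psl_of_inverted hodd hone P (n := 2) le_rfl
      ⟨IsKleinFour.nonempty_mulEquiv.some⟩ ht htP (fun s hs => Small.kleinFour_comm hP hs htP) hτ
      hτP hτt O hOodd hOC (fun g hg ho => hOmem g hg ho) hOn hOdec (fun hne => by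
        have heq : (P : Subgroup G) ⊓ centralizer (O : Set G) = zpowers t := by
          refine le_antisymm (fun p hp => ?_) (zpowers_le.2 ⟨htP, Subgroup.mem_centralizer_iff.2
            fun k hk => (htc hk).eq.symm⟩)
          obtain ⟨⟨k, hk⟩, hk1⟩ := Subgroup.ne_bot_iff_exists_ne_one.1 hne
          have hc := Subgroup.mem_centralizer_iff.1 hp.2 k hk
          rcases hcases hp.1 with e | e | e | e
          · rw [e]; exact one_mem _
          · rw [e]; exact mem_zpowers t
          all_goals exfalso; apply hk1; apply Subtype.ext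
          · exact hC1 (hboth (htc hk) (e ▸ hc.symm)) (hOord hk)
          · refine hC1 (hboth (htc hk) ?_) (hOord hk)
            have h1 := (htc hk).inv_left.mul_left (show Commute (t * τ) k from e ▸ hc.symm)
            rwa [inv_mul_cancel_left] at h1
        refine ⟨?_, ?_⟩
        · rw [heq]; infer_instance
        · rw [heq]
          have h1 := ((zpowers t).subgroupOf (P : Subgroup G)).card_mul_index
          rw [Nat.card_congr (Subgroup.subgroupOfEquivOfLe (zpowers_le.2 htP)).toEquiv,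
            Nat.card_zpowers, ht, IsKleinFour.card_four] at h1
          show ((zpowers t).subgroupOf (P : Subgroup G)).index = 2
          omega)
      hinv (fun s hs hsC k hk => by
        have htC : t ∈ centralizer (O : Set G) :=
          Subgroup.mem_centralizer_iff.2 fun k hk => (htc hk).eq.symm
        rcases hcases hs with rfl | rfl | rfl | rfl
        · exact absurd (one_mem _) hsC
        · exact absurd htC hsC
        · exact hinv k hk
        · calc t * τ * k * (t * τ)⁻¹ = t * (τ * k * τ⁻¹) * t⁻¹ := by group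
            _ = k⁻¹ := by rw [hinv k hk, (htc hk).inv_right.eq, mul_inv_cancel_right])
    exact ⟨F, iF, fF, psl2_prime_of_equiv hodd hF e, hF, ⟨e⟩⟩
  exfalso
  -- `W` is cyclic
  have hprime : ∀ {r : ℕ} {y : G}, r.Prime → y ∈ W → orderOf y = r → r ≠ 2 := fun {r y} _ hy hord e =>
    (hWord hy).not_two_dvd_nat (by rw [hord, e])
  haveI := isZGroup_of_odd hodd hWodd
  haveI hWcomm : IsMulCommutative W := by
    haveI := IsZGroup.isCyclic_commutator W
    set D : Subgroup G := (commutator W).map W.subtype with hD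
    haveI : IsCyclic D := isCyclic_of_surjective _
      (Subgroup.equivMapOfInjective (commutator W) W.subtype W.subtype_injective).surjective
    have hDN : ∀ {n : G}, n ∈ N → n ∈ normalizer (D : Set G) := fun {n} hn =>
      Subgroup.mem_normalizer_fintype fun d hd => by
        obtain ⟨d, hd', rfl⟩ := hd
        exact ⟨W.normalizerMonoidHom ⟨n, hWN hn⟩ d, (map_mem_char _ _).2 hd', rfl⟩
    set Z := W ⊓ centralizer (D : Set G)
    have hWZ : W ≤ Z := by
      rw [← Subgroup.relIndex_eq_one]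
      by_contra hne
      obtain ⟨r, hr, hd⟩ := Nat.exists_prime_and_dvd hne
      haveI := Fact.mk hr
      obtain ⟨⟨y, hy⟩, hy'⟩ := exists_prime_orderOf_dvd_card' (G := W) r
        (hd.trans (Subgroup.relIndex_dvd_card _ _))
      rw [Subgroup.orderOf_mk] at hy'
      have hr2 := hprime hr hy hy'
      obtain ⟨R, hyR, hRC⟩ := klein_sylow_le hna hodd hP hy' hr2 (hWC hy)
      haveI := hodd r hr hr2 R
      have hRW : (R : Subgroup G) ≤ W := fun x hx => hWmem x (hRC hx) (by
        obtain ⟨i, hi⟩ := IsPGroup.iff_orderOf.1 R.isPGroup' ⟨x, hx⟩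
        rw [Subgroup.orderOf_mk] at hi
        rw [hi]; exact (hr.odd_of_ne_two hr2).pow)
      obtain ⟨m, hmN, c, hc, g, hg, hmcg, hne', -⟩ := klein_moved hna hodd hP hr2 R hyR hy'
        (centralizer ((R : Subgroup G) : Set G))
        (fun p hp => Subgroup.mem_centralizer_iff.2 fun x hx =>
          (Subgroup.mem_centralizer_iff.1 (hRC hx) p hp).symm)
        (fun k hk => Subgroup.mem_centralizer_singleton_iff.2
          (Subgroup.mem_centralizer_iff.1 hk y hyR).symm)
        (fun g hg k hk => by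
          rw [Subgroup.mem_centralizer_iff] at hk ⊢
          intro x hx
          have := (Commute.conj_iff g).2
            (show Commute (g⁻¹ * x * g) k from hk _ ((Subgroup.mem_normalizer_iff''.1 hg x).1 hx))
          rwa [show g * (g⁻¹ * x * g) * g⁻¹ = x by group] at this)
      have hmR : m ∈ normalizer ((R : Subgroup G) : Set G) :=
        hmcg ▸ mul_mem (Subgroup.centralizer_le_normalizer _ hc) hg
      obtain ⟨e, he⟩ := exists_exp hmR
      have her : ¬ (r : ℤ) ∣ e - 1 := fun hd' => hne' (by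
        rw [← hy', orderOf_dvd_iff_zpow_eq_one, _root_.zpow_sub, zpow_one, mul_inv_eq_one] at hd'
        exact mul_inv_eq_iff_eq_mul.1 ((he y hyR).trans hd'))
      have hRZ : (R : Subgroup G) ≤ Z := by
        intro x hx
        refine ⟨hRW hx, ?_⟩
        have hxN : x ∈ N := hCN (hRC hx)
        obtain ⟨a, ha⟩ := exists_exp (hDN hmN)
        obtain ⟨b, hb⟩ := exists_exp (hDN hxN)
        have hxe : x ^ (e - 1) ∈ centralizer (D : Set G) := by
          rw [_root_.zpow_sub, zpow_one, ← he x hx, Subgroup.mem_centralizer_iff]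
          intro d hd'
          obtain ⟨d', hd'', hdd⟩ : ∃ d' ∈ D, x * d' * x⁻¹ = d := ⟨x⁻¹ * d * x,
            (Subgroup.mem_normalizer_iff''.1 (hDN hxN) d).1 hd', by group⟩
          have hdm : m⁻¹ * d' * m ∈ D := (Subgroup.mem_normalizer_iff''.1 (hDN hmN) d').1 hd''
          refine (mul_inv_eq_iff_eq_mul.1 ?_).symm
          calc m * x * m⁻¹ * x⁻¹ * d * (m * x * m⁻¹ * x⁻¹)⁻¹
              = m * (x * (m⁻¹ * d' * m) * x⁻¹) * m⁻¹ := by rw [← hdd]; group
            _ = (m * (m⁻¹ * d' * m) * m⁻¹) ^ b := by rw [hb _ hdm, conj_zpow]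
            _ = d' ^ b := by congr 1; group
            _ = d := by rw [← hb d' hd'', hdd]
        have hcop : IsCoprime ((orderOf x : ℕ) : ℤ) (e - 1) := by
          obtain ⟨i, hi⟩ := IsPGroup.iff_orderOf.1 R.isPGroup' ⟨x, hx⟩
          rw [Subgroup.orderOf_mk] at hi
          rw [hi, Nat.cast_pow]
          exact ((Nat.prime_iff_prime_int.1 hr).coprime_iff_not_dvd.2 her).pow_left
        obtain ⟨u, v, huv⟩ := hcop
        have : x = (x ^ (e - 1)) ^ v := by
          calc x = x ^ (u * ((orderOf x : ℕ) : ℤ) + v * (e - 1)) := by rw [huv, zpow_one]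
            _ = _ := by
              rw [_root_.zpow_add, mul_comm u, zpow_mul, zpow_natCast, pow_orderOf_eq_one, one_zpow,
                one_mul, mul_comm v, zpow_mul]
        rw [this]
        exact zpow_mem hxe v
      exact R.not_dvd_index ((hd.trans (Subgroup.relIndex_dvd_of_le_left (L := W) hRZ)).trans
        (Subgroup.relIndex_dvd_index_of_le hRW))
    refine MonoidHom.isMulCommutative_of_isCyclic_of_ker_le_center Abelianization.of ?_
    rw [Abelianization.ker_of]
    intro d hd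
    rw [Subgroup.mem_center_iff]
    intro x
    exact Subtype.ext (Subgroup.mem_centralizer_iff.1 (hWZ x.2).2 (d : G) ⟨d, hd, rfl⟩).symm
  haveI : IsCyclic W := by
    letI := IsMulCommutative.instCommGroup (G := W)
    infer_instance
  -- fixed point free action
  have hfpf : ∀ {n x : G}, n ∈ N → n ∉ C → x ∈ W → n * x = x * n → x = 1 := by
    intro n x hn hnC hx hnx
    by_contra hx1
    obtain ⟨r, j, hr, hord⟩ := exists_prime_pow hx1
    haveI := Fact.mk hr
    set y := x ^ j
    have hyW : y ∈ W := pow_mem hx j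
    have hr2 := hprime hr hyW hord
    set Fx := N ⊓ centralizer ({y} : Set G)
    have hCF : C ≤ Fx := fun c hc => ⟨hCN hc, by
      obtain ⟨q, hq, p, hp, rfl⟩ := hWdec c hc
      exact Subgroup.mem_centralizer_singleton_iff.2
        ((commute_of_cyclic hq hyW).mul_left (Subgroup.mem_centralizer_iff.1 (hWC hyW) p hp)).eq⟩
    have hFN : Fx = N := by
      have h := Subgroup.relIndex_mul_relIndex C Fx N hCF inf_le_left
      rw [hrel] at h
      rcases Nat.prime_three.eq_one_or_self_of_dvd _ (Dvd.intro_left _ h) with h1 | h1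
      · exact le_antisymm inf_le_left (Subgroup.relIndex_eq_one.1 h1)
      · exfalso
        rw [h1] at h
        have h2 : C.relIndex Fx = 1 := by omega
        exact hnC (Subgroup.relIndex_eq_one.1 h2 ⟨hn, Subgroup.mem_centralizer_singleton_iff.2
          ((show Commute n x from hnx).pow_right j).eq⟩)
    obtain ⟨R, hyR, -⟩ := klein_sylow_le hna hodd hP hord hr2 (hWC hyW)
    haveI := hodd r hr hr2 R
    obtain ⟨m, hmN, -, -, -, -, -, hne, -⟩ := klein_moved hna hodd hP hr2 R hyR hord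
      (centralizer ({y} : Set G))
      (fun p hp => Subgroup.mem_centralizer_singleton_iff.2
        (Subgroup.mem_centralizer_iff.1 (hWC hyW) p hp)) le_rfl
      (fun g hg k hk => by
        obtain ⟨l, hl⟩ := eq_pow_of_orderOf_eq (y := g * y * g⁻¹) hyR
          ((Subgroup.mem_normalizer_iff.1 hg y).1 hyR) (by rw [Small.orderOf_conj_eq])
        rw [Subgroup.mem_centralizer_singleton_iff] at hk ⊢
        have := ((Commute.conj_iff g).2 (show Commute k y from hk)).zpow_right l
        rwa [hl] at this)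
    exact hne (Subgroup.mem_centralizer_singleton_iff.1 ((hFN.symm ▸ hmN : m ∈ Fx).2))
  obtain ⟨h0, h0N, h0C⟩ : ∃ h0 ∈ N, h0 ∉ C := by
    by_contra hno
    push Not at hno
    have := Subgroup.relIndex_eq_one.2 (hno : N ≤ C)
    rw [hrel] at this
    norm_num at this
  -- centralizers
  have hprimeC : ∀ {r : ℕ} {y : G}, r.Prime → y ∈ W → orderOf y = r →
      centralizer ({y} : Set G) ≤ C := by
    intro r y hr hyW hord
    haveI := Fact.mk hr
    have hy1 : y ≠ 1 := fun e => by rw [e, orderOf_one] at hord; exact hr.ne_one hord.symm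
    set K := centralizer ({y} : Set G)
    have hPK : (P : Subgroup G) ≤ K := fun p hp => Subgroup.mem_centralizer_singleton_iff.2
      (Subgroup.mem_centralizer_iff.1 (hWC hyW) p hp)
    have hNK : ∀ n ∈ K, n ∈ N → n ∈ C := fun n hn hnN => by
      by_contra hnC
      exact hy1 (hfpf hnN hnC hyW (Subgroup.mem_centralizer_singleton_iff.1 hn))
    obtain ⟨Q, hQK, hQodd, hQmem, hQdec⟩ := exists_two_complement (K := K) P.isPGroup' hPK (hmaxP K)
      hNK
    have hQn : ∀ {n : G}, n ∈ N → n ∈ normalizer (Q : Set G) := fun {n} hn =>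
      Subgroup.mem_normalizer_fintype fun q hq => hQmem _ (by
        obtain ⟨l, hl⟩ := eq_pow_of_orderOf_eq (R := W) (y := n * y * n⁻¹) hyW
          ((Subgroup.mem_normalizer_iff.1 (hWN hn) y).1 hyW) (by rw [Small.orderOf_conj_eq])
        rw [Subgroup.mem_centralizer_singleton_iff]
        have := ((Commute.conj_iff n).2
          (show Commute q y from Subgroup.mem_centralizer_singleton_iff.1 (hQK hq))).zpow_right l
        rwa [hl] at this) (by
          rw [Small.orderOf_conj_eq]; exact hQodd.of_dvd_nat (Q.orderOf_dvd_natCard hq))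
    haveI := isZGroup_of_odd hodd hQodd
    let f : ↥(P : Subgroup G) → ↥(P : Subgroup G) := fun v =>
      ⟨h0 * v * h0⁻¹ * (v : G)⁻¹,
        mul_mem ((Subgroup.mem_normalizer_iff.1 h0N v).1 v.2) (inv_mem v.2)⟩
    have hf : Function.Injective f := by
      rintro ⟨a, ha⟩ ⟨b, hb⟩ e
      have e' : h0 * a * h0⁻¹ * a⁻¹ = h0 * b * h0⁻¹ * b⁻¹ := congrArg Subtype.val e
      apply Subtype.ext
      show a = b
      by_contra hab
      have hc : b⁻¹ * a = a * b⁻¹ := Small.kleinFour_comm hP (inv_mem hb) ha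
      have h1 : h0 * (b⁻¹ * a) * h0⁻¹ = b⁻¹ * a := by
        calc h0 * (b⁻¹ * a) * h0⁻¹ = (h0 * b * h0⁻¹)⁻¹ * (h0 * a * h0⁻¹ * a⁻¹) * a := by group
          _ = b⁻¹ * a := by rw [e']; group
      exact h0C (Small.mem_centralizer_of_fix_one P hP h0N (mul_mem (inv_mem hb) ha)
        (fun e2 => hab (inv_mul_eq_one.1 e2).symm) h1)
    have hQC : Q ≤ C := by
      intro q hq
      rw [Subgroup.mem_centralizer_iff]
      intro v hv
      obtain ⟨⟨w, hw⟩, hw'⟩ := Finite.surjective_of_injective hf ⟨v, hv⟩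
      have hv' : h0 * w * h0⁻¹ * w⁻¹ = v := congrArg Subtype.val hw'
      have hcen := commutator_centralizes (Q := Q) (hQn h0N) (hQn (hCN (hPC hw)))
        (Nat.Coprime.coprime_dvd_left (orderOf_dvd_of_pow_eq_one (n := 2) (by
          rw [hv', sq, Small.kleinFour_mul_self hP hv])) (Nat.coprime_two_left.2 hQodd))
      rw [hv'] at hcen
      exact (Subgroup.mem_centralizer_iff.1 hcen q hq).symm
    intro c hc
    obtain ⟨q, hq, p, hp, rfl⟩ := hQdec c hc
    exact mul_mem (hQC hq) (hPC hp)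
  have hCeq : ∀ x ∈ W, x ≠ 1 → centralizer ({x} : Set G) = C := by
    intro x hx hx1
    refine le_antisymm (fun c hc => ?_) fun c hc => ?_
    · obtain ⟨r, j, hr, hord⟩ := exists_prime_pow hx1
      exact hprimeC hr (pow_mem hx j) hord (Subgroup.mem_centralizer_singleton_iff.2
        ((show Commute c x from Subgroup.mem_centralizer_singleton_iff.1 hc).pow_right j).eq)
    · obtain ⟨q, hq, p, hp, rfl⟩ := hWdec c hc
      exact Subgroup.mem_centralizer_singleton_iff.2
        ((commute_of_cyclic hq hx).mul_left (Subgroup.mem_centralizer_iff.1 (hWC hx) p hp)).eq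
  have hNW : normalizer (W : Set G) = N := by
    refine le_antisymm (fun g hg => ?_) fun n hn => hWN hn
    obtain ⟨⟨x, hx⟩, hx1'⟩ := Subgroup.ne_bot_iff_exists_ne_one.1 hW1
    have hx1 : x ≠ 1 := fun e => hx1' (Subtype.ext e)
    refine Subgroup.mem_normalizer_fintype fun v hv => ?_
    have hgv : g * v * g⁻¹ ∈ C := by
      rw [← hCeq _ ((Subgroup.mem_normalizer_iff.1 hg x).1 hx) (by rwa [ne_eq, conj_eq_one_iff]),
        Subgroup.mem_centralizer_singleton_iff]
      exact ((Commute.conj_iff g).2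
        (show Commute v x from Subgroup.mem_centralizer_iff.1 (hWC hx) v hv)).eq
    obtain ⟨q, hq, p, hp, e⟩ := hWdec _ hgv
    have hqp : Commute q p := (Subgroup.mem_centralizer_iff.1 (hWC hq) p hp).symm
    have hq2 : q ^ 2 = 1 := by
      have h : (g * v * g⁻¹) ^ 2 = 1 := by
        rw [sq, conj_mul, Small.kleinFour_mul_self hP hv, mul_one, mul_inv_cancel]
      rw [e, hqp.mul_pow, sq p, Small.kleinFour_mul_self hP hp, mul_one] at h
      exact h
    have hq1 : q = 1 := orderOf_eq_one_iff.1 (Nat.eq_one_of_dvd_coprimes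
      (Nat.coprime_two_right.2 (hWord hq)) dvd_rfl (orderOf_dvd_of_pow_eq_one hq2))
    rw [e, hq1, one_mul]; exact hp
  obtain ⟨M, hM⟩ := Blocks.exists_isPModular 2 Nat.prime_two
  haveI := Fintype.ofFinite G
  refine klein_case hM P hP hone (fun χ h1 => SylowPrimeOrder.eq_trivChar_of_degree_one hna (by simp [Cfsg.charDegree, h1]))
    W C hW1 hWodd (fun a ha b hb => (commute_of_cyclic ha hb).eq)
    (fun v hv x hx => Subgroup.mem_centralizer_iff.1 (hWC hx) v hv) (fun g => ⟨fun hg => ?_, ?_⟩)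
    hCeq ?_
  · obtain ⟨q, hq, p, hp, rfl⟩ := hWdec g hg
    exact ⟨p, hp, q, hq, (Subgroup.mem_centralizer_iff.1 (hWC hq) p hp).symm⟩
  · rintro ⟨v, hv, x, hx, rfl⟩
    exact mul_mem (hPC hv) (hWC hx)
  · rw [hNW]
    have h1 := (C.subgroupOf N).card_mul_index
    rw [Nat.card_congr (Subgroup.subgroupOfEquivOfLe hCN).toEquiv,
      show (C.subgroupOf N).index = 3 from hrel] at h1
    rw [← h1, mul_comm]

end CfsgLib.SuzukiWong

namespace CfsgLib.SuzukiWong

/-- **Simple groups with dihedral Sylow 2-subgroups and cyclic odd Sylow subgroups.** -/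
theorem psl2_of_dihedral_sylow {G : Type*} [Group G] [Finite G] [IsSimpleGroup G]
    (hna : ¬ IsMulCommutative G)
    (hodd : ∀ p : ℕ, p.Prime → p ≠ 2 → ∀ R : Sylow p G, IsCyclic R) (P : Sylow 2 G)
    (hP : ∃ k, 1 ≤ k ∧ Nonempty ((P : Subgroup G) ≃* DihedralGroup (2 ^ k))) :
    ∃ (F : Type) (_ : Field F) (_ : Fintype F), (Fintype.card F).Prime ∧ Odd (Fintype.card F) ∧
      Nonempty (G ≃* Matrix.ProjectiveSpecialLinearGroup (Fin 2) F) := by
  obtain ⟨k, hk, ⟨e⟩⟩ := hP
  rcases Nat.lt_or_ge k 2 with h | h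
  · obtain rfl : k = 1 := by omega
    have hK : IsKleinFour (DihedralGroup (2 ^ 1)) := by
      rw [pow_one]; infer_instance
    have hc : Nat.card (P : Subgroup G) = 4 := by
      rw [Nat.card_congr e.toEquiv]; exact hK.card_four
    exact psl2_of_klein hna hodd (P := P) ⟨hc, by
      rw [Monoid.exponent_eq_of_mulEquiv e]; exact hK.exponent_two⟩
  · exact psl2_of_dihedral hna hodd P k h ⟨e⟩

end CfsgLib.SuzukiWong
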