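import Cfsg.Agent.Linear.PglDet
import Cfsg.Agent.Linear.ProjLine
import Cfsg.Agent.S0157
import Mathlib.LinearAlgebra.Projectivization.Cardinality

/-!
# Suzuki–Wong: facts about `PGL₂(p)`

The centralizer of a nontrivial element of odd order is abelian with at most one involution; a
unipotent element commutes with no involution and is conjugate to its powers; the sign; the
Steinberg character.
-/

set_option autoImplicit false
set_option linter.unusedSectionVars false
set_option linter.style.haveILetI false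

namespace CfsgLib.SuzukiWong

open Matrix
open scoped MatrixGroups LinearAlgebra.Projectivization

/-- The commutant of a non-scalar matrix of size two. -/
theorem exists_comb {F : Type*} [Field F] {A B : Matrix (Fin 2) (Fin 2) F} (h : A * B = B * A)
    (hA : ¬ ∃ c : F, A = c • 1) : ∃ α β : F, B = α • 1 + β • A := by
  have e00 := congrFun (congrFun h 0) 0
  have e01 := congrFun (congrFun h 0) 1
  have e10 := congrFun (congrFun h 1) 0
  simp [Matrix.mul_apply, Fin.sum_univ_two] at e00 e01 e10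
  by_cases h01 : A 0 1 = 0
  · by_cases h10 : A 1 0 = 0
    · have hd : A 0 0 - A 1 1 ≠ 0 := fun e => hA ⟨A 0 0, by
        ext i j; fin_cases i <;> fin_cases j <;> simp [h01, h10, ← sub_eq_zero.1 e]⟩
      have hB01 : B 0 1 = 0 := by
        have : (A 0 0 - A 1 1) * B 0 1 = 0 := by rw [h01] at e01; linear_combination e01
        exact (mul_eq_zero.1 this).resolve_left hd
      have hB10 : B 1 0 = 0 := by
        have : (A 0 0 - A 1 1) * B 1 0 = 0 := by rw [h10] at e10; linear_combination -e10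
        exact (mul_eq_zero.1 this).resolve_left hd
      refine ⟨B 0 0 - (B 0 0 - B 1 1) / (A 0 0 - A 1 1) * A 0 0,
        (B 0 0 - B 1 1) / (A 0 0 - A 1 1), ?_⟩
      ext i j
      fin_cases i <;> fin_cases j <;> simp [h01, h10, hB01, hB10]
      field_simp
      ring
    · have hB01 : B 0 1 = 0 := by
        have : A 1 0 * B 0 1 = 0 := by rw [h01] at e00; linear_combination -e00
        exact (mul_eq_zero.1 this).resolve_left h10
      refine ⟨B 0 0 - B 1 0 / A 1 0 * A 0 0, B 1 0 / A 1 0, ?_⟩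
      ext i j
      fin_cases i <;> fin_cases j <;> simp [h01, hB01]
      · field_simp
      · field_simp
        linear_combination -e10
  · refine ⟨B 0 0 - B 0 1 / A 0 1 * A 0 0, B 0 1 / A 0 1, ?_⟩
    ext i j
    fin_cases i <;> fin_cases j <;> simp
    · field_simp
    · field_simp
      linear_combination e00
    · field_simp
      linear_combination e01

variable {F : Type*} [Field F]

theorem mk_eq_one_iff_smul {A : GL (Fin 2) F} :
    ProjGenLinGroup.mk A = 1 ↔ ∃ c : F, (A : Matrix (Fin 2) (Fin 2) F) = c • 1 := by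
  rw [ProjGenLinGroup.mk_eq_one, GeneralLinearGroup.center_eq_range_scalar]
  constructor
  · rintro ⟨u, rfl⟩
    exact ⟨u, by simp [Matrix.smul_one_eq_diagonal]⟩
  · rintro ⟨c, hc⟩
    have hc0 : c ≠ 0 := fun e => by
      have := A.det.ne_zero
      rw [GeneralLinearGroup.val_det_apply, hc, e, zero_smul] at this
      simp at this
    exact ⟨Units.mk0 c hc0, Units.ext (by simp [hc, Matrix.smul_one_eq_diagonal])⟩

/-- The two-by-two Cayley–Hamilton equation. -/
theorem sq_eq_trace_det (A : Matrix (Fin 2) (Fin 2) F) :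
    A * A = A.trace • A - A.det • 1 := by
  ext i j
  fin_cases i <;> fin_cases j <;>
    simp [Matrix.mul_apply, Fin.sum_univ_two, Matrix.trace_fin_two, Matrix.det_fin_two] <;> ring

/-- An element commuting with one of odd order commutes already in `GL₂`. -/
theorem commute_lift (h2 : (2 : F) ≠ 0) {A B : GL (Fin 2) F}
    (hg : ProjGenLinGroup.mk A ≠ 1) (ho : Odd (orderOf (ProjGenLinGroup.mk A)))
    (h : Commute (ProjGenLinGroup.mk A) (ProjGenLinGroup.mk B)) :
    (A : Matrix (Fin 2) (Fin 2) F) * B = (B : Matrix (Fin 2) (Fin 2) F) * A := by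
  have h' : ProjGenLinGroup.mk (A * B * (B * A)⁻¹) = 1 := by
    rw [map_mul, map_inv, map_mul, map_mul, h.eq, mul_inv_cancel]
  obtain ⟨c, hc⟩ := mk_eq_one_iff_smul.1 h'
  have hAB : (A : Matrix (Fin 2) (Fin 2) F) * B = c • ((B : Matrix (Fin 2) (Fin 2) F) * A) := by
    have e : A * B * (B * A)⁻¹ * (B * A) = A * B := inv_mul_cancel_right _ _
    have e' := congrArg (fun M : GL (Fin 2) F => (M : Matrix (Fin 2) (Fin 2) F)) e
    simp only [Units.val_mul] at e' hc
    rw [← e', hc, smul_mul_assoc, one_mul]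
  have hdet : c ^ 2 = 1 := by
    have e := congrArg Matrix.det hAB
    rw [Matrix.det_smul, Fintype.card_fin, Matrix.det_mul, Matrix.det_mul,
      mul_comm (B : Matrix (Fin 2) (Fin 2) F).det] at e
    have hne : (A : Matrix (Fin 2) (Fin 2) F).det * (B : Matrix (Fin 2) (Fin 2) F).det ≠ 0 := by
      rw [← GeneralLinearGroup.val_det_apply, ← GeneralLinearGroup.val_det_apply]
      exact mul_ne_zero A.det.ne_zero B.det.ne_zero
    exact (mul_eq_right₀ hne).1 e.symm
  rcases sq_eq_one_iff.1 hdet with rfl | rfl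
  · rw [hAB, one_smul]
  · exfalso
    have htr : (A : Matrix (Fin 2) (Fin 2) F).trace = 0 := by
      have e : (B : Matrix (Fin 2) (Fin 2) F) * A * ((B⁻¹ : GL (Fin 2) F) : Matrix (Fin 2) (Fin 2) F) =
          -(A : Matrix (Fin 2) (Fin 2) F) := by
        rw [show (B : Matrix (Fin 2) (Fin 2) F) * A = -((A : Matrix (Fin 2) (Fin 2) F) * B) by
          rw [hAB]; simp, neg_mul, mul_assoc, ← Units.val_mul, mul_inv_cancel, Units.val_one,
          mul_one]
      have e2 := congrArg Matrix.trace e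
      rw [Matrix.trace_neg, Matrix.trace_mul_comm, ← mul_assoc, ← Units.val_mul, inv_mul_cancel,
        Units.val_one, one_mul] at e2
      have e3 : (2 : F) * (A : Matrix (Fin 2) (Fin 2) F).trace = 0 := by linear_combination e2
      exact (mul_eq_zero.1 e3).resolve_left h2
    have hsq : ProjGenLinGroup.mk A * ProjGenLinGroup.mk A = 1 := by
      rw [← map_mul, mk_eq_one_iff_smul]
      exact ⟨-(A : Matrix (Fin 2) (Fin 2) F).det, by
        rw [Units.val_mul, sq_eq_trace_det, htr]; simp⟩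
    refine hg (orderOf_eq_one_iff.1 (Nat.eq_one_of_dvd_coprimes
      (Nat.coprime_two_right.2 ho) dvd_rfl (orderOf_dvd_of_pow_eq_one ?_)))
    rwa [pow_two]

theorem exists_lift_comb (h2 : (2 : F) ≠ 0) {g a : PGL(2, F)} (hg : g ≠ 1)
    (ho : Odd (orderOf g)) (h : Commute g a) {A : GL (Fin 2) F} (hA : ProjGenLinGroup.mk A = g) :
    ∃ (B : GL (Fin 2) F) (α β : F), ProjGenLinGroup.mk B = a ∧
      (B : Matrix (Fin 2) (Fin 2) F) = α • 1 + β • (A : Matrix (Fin 2) (Fin 2) F) := by
  obtain ⟨B, rfl⟩ := ProjGenLinGroup.mk_surjective a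
  subst hA
  obtain ⟨α, β, e⟩ := exists_comb (commute_lift h2 hg ho h) fun hc => hg (mk_eq_one_iff_smul.2 hc)
  exact ⟨B, α, β, rfl, e⟩

/-- The centralizer of a nontrivial element of odd order is abelian. -/
theorem commute_of_commute_odd (h2 : (2 : F) ≠ 0) {g a b : PGL(2, F)} (hg : g ≠ 1)
    (ho : Odd (orderOf g)) (ha : Commute g a) (hb : Commute g b) : Commute a b := by
  obtain ⟨A, hA⟩ := ProjGenLinGroup.mk_surjective g
  obtain ⟨B, α, β, rfl, eB⟩ := exists_lift_comb h2 hg ho ha hA
  obtain ⟨C, γ, δ, rfl, eC⟩ := exists_lift_comb h2 hg ho hb hA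
  rw [Commute, SemiconjBy, ← map_mul, ← map_mul]
  congr 1
  apply Units.ext
  rw [Units.val_mul, Units.val_mul, eB, eC]
  simp only [add_mul, mul_add, smul_mul_assoc, mul_smul_comm, one_mul, mul_one]
  ext i j
  simp
  ring

/-- The centralizer of a nontrivial element of odd order has at most one involution. -/
theorem invol_unique_of_commute_odd (h2 : (2 : F) ≠ 0) {g a b : PGL(2, F)} (hg : g ≠ 1)
    (ho : Odd (orderOf g)) (ha : Commute g a) (hb : Commute g b) (ha1 : a ≠ 1) (hb1 : b ≠ 1)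
    (ha2 : a * a = 1) (hb2 : b * b = 1) : a = b := by
  obtain ⟨A, hA⟩ := ProjGenLinGroup.mk_surjective g
  have hns : ∀ c : F, (A : Matrix (Fin 2) (Fin 2) F) ≠ c • 1 := fun c e =>
    hg (hA ▸ mk_eq_one_iff_smul.2 ⟨c, e⟩)
  have key : ∀ (x : PGL(2, F)), Commute g x → x ≠ 1 → x * x = 1 → ∃ (B : GL (Fin 2) F) (β : F),
      ProjGenLinGroup.mk B = x ∧ β ≠ 0 ∧ (B : Matrix (Fin 2) (Fin 2) F) =
        β • ((A : Matrix (Fin 2) (Fin 2) F) -
          ((A : Matrix (Fin 2) (Fin 2) F).trace / 2) • (1 : Matrix (Fin 2) (Fin 2) F)) := by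
    intro x hx hx1 hx2
    obtain ⟨B, α, β, rfl, eB⟩ := exists_lift_comb h2 hg ho hx hA
    have hβ : β ≠ 0 := fun e => hx1 (mk_eq_one_iff_smul.2 ⟨α, by rw [eB, e, zero_smul, add_zero]⟩)
    rw [← map_mul] at hx2
    obtain ⟨c, hc⟩ := mk_eq_one_iff_smul.1 hx2
    have hsq : (β * (2 * α + β * (A : Matrix (Fin 2) (Fin 2) F).trace)) •
        (A : Matrix (Fin 2) (Fin 2) F) =
        (c - α ^ 2 + β ^ 2 * (A : Matrix (Fin 2) (Fin 2) F).det) • 1 := by
      have e : (B : Matrix (Fin 2) (Fin 2) F) * B = c • 1 := by rw [← Units.val_mul]; exact hc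
      rw [eB] at e
      simp only [add_mul, mul_add, smul_mul_assoc, mul_smul_comm, one_mul, mul_one,
        sq_eq_trace_det, smul_sub, smul_smul] at e
      linear_combination (norm := skip) e
      ext i j
      simp
      ring
    have hz : 2 * α + β * (A : Matrix (Fin 2) (Fin 2) F).trace = 0 := by
      by_contra hne
      have hk := mul_ne_zero hβ hne
      refine hns ((β * (2 * α + β * (A : Matrix (Fin 2) (Fin 2) F).trace))⁻¹ *
        (c - α ^ 2 + β ^ 2 * (A : Matrix (Fin 2) (Fin 2) F).det)) ?_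
      exact ((eq_inv_smul_iff₀ hk).2 hsq).trans (smul_smul _ _ _)
    refine ⟨B, β, rfl, hβ, ?_⟩
    rw [eB, show α = -(β * ((A : Matrix (Fin 2) (Fin 2) F).trace / 2)) by
      field_simp; linear_combination hz]
    rw [smul_sub, smul_smul, neg_smul]
    abel
  obtain ⟨B, β, rfl, hβ, eB⟩ := key a ha ha1 ha2
  obtain ⟨C, γ, rfl, hγ, eC⟩ := key b hb hb1 hb2
  rw [← mul_inv_eq_one, ← map_inv, ← map_mul, mk_eq_one_iff_smul]
  refine ⟨β / γ, ?_⟩
  have e : (B : Matrix (Fin 2) (Fin 2) F) = (β / γ) • (C : Matrix (Fin 2) (Fin 2) F) := by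
    rw [eB, eC, smul_smul, div_mul_cancel₀ _ hγ]
  rw [Units.val_mul, e, smul_mul_assoc, ← Units.val_mul, mul_inv_cancel, Units.val_one]

variable (p : ℕ) [Fact p.Prime]

/-- The unipotent element. -/
noncomputable def unip : PGL(2, ZMod p) :=
  ProjGenLinGroup.mk (GeneralLinearGroup.mkOfDetNeZero !![1, 1; 0, 1] (by simp [det_fin_two]))

theorem unip_pow (n : ℕ) : unip p ^ n = ProjGenLinGroup.mk
    (GeneralLinearGroup.mkOfDetNeZero !![1, (n : ZMod p); 0, 1] (by simp [det_fin_two])) := by
  induction n with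
  | zero =>
    rw [pow_zero, ← map_one (ProjGenLinGroup.mk (n := Fin 2) (R := ZMod p))]
    congr 1
    apply Units.ext
    ext i j
    fin_cases i <;> fin_cases j <;> simp [GeneralLinearGroup.mkOfDetNeZero]
  | succ n ih =>
    rw [pow_succ, ih, unip, ← map_mul]
    congr 1
    apply Units.ext
    ext i j
    fin_cases i <;> fin_cases j <;>
      simp [GeneralLinearGroup.mkOfDetNeZero, Matrix.mul_apply, Fin.sum_univ_two, add_comm]

theorem unip_ne_one : unip p ≠ 1 := fun e => by
  obtain ⟨c, hc⟩ := mk_eq_one_iff_smul.1 e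
  have := congrFun (congrFun hc 0) 1
  simp [GeneralLinearGroup.mkOfDetNeZero] at this

theorem orderOf_unip : orderOf (unip p) = p := by
  refine orderOf_eq_prime ?_ (unip_ne_one p)
  rw [unip_pow, ← map_one (ProjGenLinGroup.mk (n := Fin 2) (R := ZMod p))]
  congr 1
  apply Units.ext
  ext i j
  fin_cases i <;> fin_cases j <;> simp [GeneralLinearGroup.mkOfDetNeZero]

/-- The powers of the unipotent element are conjugate to it. -/
theorem isConj_unip_pow {n : ℕ} (hn : ¬ p ∣ n) : IsConj (unip p) (unip p ^ n) := by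
  have hn0 : (n : ZMod p) ≠ 0 := fun e => hn ((ZMod.natCast_eq_zero_iff _ _).1 e)
  refine isConj_iff.2 ⟨ProjGenLinGroup.mk
    (GeneralLinearGroup.mkOfDetNeZero !![(n : ZMod p), 0; 0, 1] (by simp [det_fin_two, hn0])), ?_⟩
  rw [unip_pow, mul_inv_eq_iff_eq_mul, unip, ← map_mul, ← map_mul]
  congr 1
  apply Units.ext
  ext i j
  fin_cases i <;> fin_cases j <;>
    simp [GeneralLinearGroup.mkOfDetNeZero, Matrix.mul_apply, Fin.sum_univ_two]

/-- The unipotent element commutes with no involution. -/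
theorem unip_not_commute (hp : p ≠ 2) {a : PGL(2, ZMod p)} (ha : a ≠ 1) (ha2 : a * a = 1) :
    ¬ Commute (unip p) a := by
  intro h
  have h2 : (2 : ZMod p) ≠ 0 := Ring.two_ne_zero (by rwa [ZMod.ringChar_zmod_n])
  have hpp : p.Prime := Fact.out
  obtain ⟨B, α, β, rfl, eB⟩ := exists_lift_comb h2 (unip_ne_one p)
    (by rw [orderOf_unip]; exact hpp.odd_of_ne_two hp) h rfl
  rw [← map_mul] at ha2
  obtain ⟨c, hc⟩ := mk_eq_one_iff_smul.1 ha2
  rw [Units.val_mul, eB] at hc
  have e01 := congrFun (congrFun hc 0) 1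
  simp [GeneralLinearGroup.mkOfDetNeZero, Matrix.mul_apply, Fin.sum_univ_two] at e01
  have hdet := B.det.ne_zero
  rw [GeneralLinearGroup.val_det_apply, eB] at hdet
  simp [GeneralLinearGroup.mkOfDetNeZero, det_fin_two] at hdet
  have : (2 : ZMod p) * (β * (α + β)) = 0 := by linear_combination e01
  rcases mul_eq_zero.1 this with e | e
  · exact h2 e
  rcases mul_eq_zero.1 e with e' | e'
  · exact ha (mk_eq_one_iff_smul.2 ⟨α, by rw [eB, e', zero_smul, add_zero]⟩)
  · exact hdet e'

theorem unip_smul_eq_iff (x : ℙ (ZMod p) (Fin 2 → ZMod p)) :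
    unip p • x = x ↔ x = CfsgLib.Linear.pInf (ZMod p) := by
  induction x using Projectivization.ind with | _ v hv =>
  rw [unip, CfsgLib.Linear.pgl_smul_eq, Projectivization.smul_mk, Projectivization.mk_eq_mk_iff',
    Projectivization.mk_eq_mk_iff']
  constructor
  · rintro ⟨a, ha⟩
    have h0 := congrFun ha 0
    have h1 := congrFun ha 1
    simp [GeneralLinearGroup.mkOfDetNeZero, Units.smul_def, Matrix.mulVec, vecHead, vecTail] at h0 h1
    have hv1 : v 1 = 0 := by
      have e : (a - 1) * v 1 = 0 := by linear_combination h1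
      rcases mul_eq_zero.1 e with e | e
      · rw [sub_eq_zero] at e
        rw [e] at h0
        linear_combination -h0
      · exact e
    exact ⟨v 0, funext fun i => by fin_cases i <;> simp [hv1]⟩
  · rintro ⟨a, ha⟩
    refine ⟨1, ?_⟩
    rw [one_smul, ← ha]
    ext i
    fin_cases i <;>
      simp [GeneralLinearGroup.mkOfDetNeZero, Units.smul_def, Matrix.mulVec, vecHead, vecTail]

theorem card_pgl : Nat.card PGL(2, ZMod p) = p * (p ^ 2 - 1) := by
  rw [CfsgLib.Linear.card_PGL, CfsgLib.Linear.card_SL_two, ZMod.card]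

/-- The sign of `PGL₂(p)`. -/
theorem exists_sign (hp : p ≠ 2) : ∃ sg : PGL(2, ZMod p) →* ℂˣ,
    (∀ g, (sg g : ℂ) = 1 ∨ (sg g : ℂ) = -1) ∧ ∃ g, (sg g : ℂ) = -1 := by
  obtain ⟨f, hf, -⟩ := CfsgLib.Linear.exists_pgl_to_zmod (n := Fin 2) (F := ZMod p)
  have hn : Nat.gcd (Fintype.card (Fin 2)) (Fintype.card (ZMod p) - 1) = 2 := by
    rw [Fintype.card_fin, ZMod.card]
    obtain ⟨m, hm⟩ := (Fact.out : p.Prime).odd_of_ne_two hp
    rw [hm, Nat.add_sub_cancel]
    exact Nat.gcd_eq_left (dvd_mul_right 2 m)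
  revert f
  rw [hn]
  intro f hf
  let ψ : AddChar (ZMod 2) ℂ := AddChar.zmodChar 2 (show (-1 : ℂ) ^ 2 = 1 by norm_num)
  let e : Multiplicative (ZMod 2) →* ℂ := ψ.toMonoidHom
  have hval : ∀ x, e x = 1 ∨ e x = -1 := fun x => by
    show (-1 : ℂ) ^ (Multiplicative.toAdd x).val = 1 ∨ _ = -1
    rcases Nat.even_or_odd (Multiplicative.toAdd x).val with h | h
    · exact Or.inl h.neg_one_pow
    · exact Or.inr h.neg_one_pow
  refine ⟨e.toHomUnits.comp f, fun g => hval (f g), ?_⟩
  obtain ⟨g, hg⟩ := hf (Multiplicative.ofAdd 1)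
  refine ⟨g, ?_⟩
  show e (f g) = -1
  rw [hg]
  show (-1 : ℂ) ^ (1 : ZMod 2).val = -1
  rw [ZMod.val_one, pow_one]

open scoped Classical in
/-- An involution fixes none or two points of the projective line. -/
theorem invol_fix (hp : p ≠ 2) {a : PGL(2, ZMod p)} (ha : a ≠ 1) (ha2 : a * a = 1) :
    Nat.card (MulAction.fixedBy (ℙ (ZMod p) (Fin 2 → ZMod p)) a) = 0 ∨
      Nat.card (MulAction.fixedBy (ℙ (ZMod p) (Fin 2 → ZMod p)) a) = 2 := by
  haveI : Fact (Nat.Prime 2) := ⟨Nat.prime_two⟩
  haveI : Finite (ℙ (ZMod p) (Fin 2 → ZMod p)) := inferInstance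
  set F := MulAction.fixedBy (ℙ (ZMod p) (Fin 2 → ZMod p)) a
  have hle : Nat.card F ≤ 2 := by
    by_contra h3
    haveI := Fintype.ofFinite F
    rw [Nat.card_eq_fintype_card, not_le, Fintype.two_lt_card_iff] at h3
    obtain ⟨x, y, z, h1, h2, h3⟩ := h3
    exact ha (CfsgLib.Linear.pgl_two_three_fix a x y z (fun e => h1 (Subtype.ext e))
      (fun e => h2 (Subtype.ext e)) (fun e => h3 (Subtype.ext e)) x.2 y.2 z.2)
  have hP : IsPGroup 2 (Subgroup.zpowers a) := IsPGroup.of_card (n := 1) (by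
    rw [Nat.card_zpowers, orderOf_eq_prime (by rw [sq, ha2]) ha, pow_one])
  have hmod := hP.card_modEq_card_fixedPoints (ℙ (ZMod p) (Fin 2 → ZMod p))
  have hF : (MulAction.fixedPoints (Subgroup.zpowers a) (ℙ (ZMod p) (Fin 2 → ZMod p))) = F := by
    ext x
    constructor
    · exact fun hx => hx ⟨a, Subgroup.mem_zpowers a⟩
    · rintro hx ⟨b, hb⟩
      exact (Subgroup.zpowers_le (H := MulAction.stabilizer _ x)).2 hx hb
  rw [hF, Projectivization.card_of_finrank_two (ZMod p) (Fin 2 → ZMod p)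
    (by simp)] at hmod
  rw [Nat.card_zmod] at hmod
  have hodd := ((Fact.out : p.Prime).odd_of_ne_two hp)
  obtain ⟨m, hm⟩ := hodd
  unfold Nat.ModEq at hmod
  omega

open scoped Classical in
/-- The Steinberg character of a group mapping onto `PGL₂(p)`. -/
theorem exists_steinberg (hp : p ≠ 2) {K : Type*} [Group K] [Fintype K]
    (π : K →* PGL(2, ZMod p)) (hπ : Function.Surjective π) :
    ∃ ξ : Cfsg.IrrCharacter K, (ξ : K → ℂ) 1 = p ∧
      (∀ k : K, π k = unip p → (ξ : K → ℂ) k = 0) ∧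
      ∀ v k : K, π v ≠ 1 → π v * π v = 1 → Odd (orderOf (π k)) → Commute (π v) (π k) →
        (ξ : K → ℂ) (v * k) = (ξ : K → ℂ) v ∧ (ξ : K → ℂ) v ≠ 0 := by
  letI : MulAction K (ℙ (ZMod p) (Fin 2 → ZMod p)) := MulAction.compHom _ π
  have hsmul : ∀ (k : K) (x : ℙ (ZMod p) (Fin 2 → ZMod p)), k • x = π k • x := fun k x => rfl
  have h2t : MulAction.IsMultiplyPretransitive K (ℙ (ZMod p) (Fin 2 → ZMod p)) 2 := by
    haveI := CfsgLib.Linear.pgl_two_pretransitive (F := ZMod p)
    rw [MulAction.is_two_pretransitive_iff]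
    intro a b c d hab hcd
    haveI : MulAction.IsMultiplyPretransitive PGL(2, ZMod p) (ℙ (ZMod p) (Fin 2 → ZMod p)) 2 := by
      refine MulAction.isMultiplyPretransitive_of_le (n := 3) (by omega) ?_
      rw [Projectivization.card_of_finrank_two (ZMod p) (Fin 2 → ZMod p) (by simp), Nat.card_zmod]
      have := (Fact.out : p.Prime).two_le
      omega
    obtain ⟨g, hg1, hg2⟩ := MulAction.is_two_pretransitive_iff.1 this hab hcd
    obtain ⟨k, rfl⟩ := hπ g
    exact ⟨k, hg1, hg2⟩
  have hcard : Nat.card (ℙ (ZMod p) (Fin 2 → ZMod p)) = p + 1 := by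
    rw [Projectivization.card_of_finrank_two (ZMod p) (Fin 2 → ZMod p) (by simp), Nat.card_zmod]
  haveI : MulAction.IsPretransitive K (ℙ (ZMod p) (Fin 2 → ZMod p)) :=
    MulAction.isPretransitive_of_is_two_pretransitive (h2 := h2t)
  have hirr := (Cfsg.Agent.S0157.result (G := K) (ℙ (ZMod p) (Fin 2 → ZMod p))
    (by rw [hcard]; have := (Fact.out : p.Prime).two_le; omega)).2 h2t
  refine ⟨⟨_, hirr⟩, ?_, fun k hk => ?_, fun v k hv hv2 hk hc => ?_⟩
  · show (Nat.card (MulAction.fixedBy (ℙ (ZMod p) (Fin 2 → ZMod p)) (1 : K)) : ℂ) - 1 = p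
    rw [MulAction.fixedBy_one_eq_univ, Nat.card_congr (Equiv.Set.univ _), hcard]
    push_cast; ring
  · show (Nat.card (MulAction.fixedBy (ℙ (ZMod p) (Fin 2 → ZMod p)) k) : ℂ) - 1 = 0
    have : MulAction.fixedBy (ℙ (ZMod p) (Fin 2 → ZMod p)) k = {CfsgLib.Linear.pInf (ZMod p)} := by
      ext x
      rw [MulAction.mem_fixedBy, hsmul, hk, Set.mem_singleton_iff, unip_smul_eq_iff]
    rw [this, Nat.card_eq_fintype_card]
    simp
  · have hfix : MulAction.fixedBy (ℙ (ZMod p) (Fin 2 → ZMod p)) (v * k) =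
        MulAction.fixedBy (ℙ (ZMod p) (Fin 2 → ZMod p)) v := by
      have hord : orderOf (π v) = 2 := orderOf_eq_prime (by rw [sq, hv2]) hv
      obtain ⟨m, hm⟩ := hk
      have hpow : (π v * π k) ^ orderOf (π k) = π v := by
        rw [hc.mul_pow, pow_orderOf_eq_one, mul_one, hm, pow_succ, pow_mul, sq, hv2, one_pow,
          one_mul]
      ext x
      rw [MulAction.mem_fixedBy, MulAction.mem_fixedBy, hsmul, hsmul, map_mul]
      constructor
      · intro h
        rw [← hpow]
        exact MulAction.mem_stabilizer_iff.1 (pow_mem (MulAction.mem_stabilizer_iff.2 h) _)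
      · intro h
        -- an odd element permuting the fixed points of `π v` fixes them
        rw [mul_smul]
        suffices π k • x = x by rw [this, h]
        set F := MulAction.fixedBy (ℙ (ZMod p) (Fin 2 → ZMod p)) (π v)
        have hmem : ∀ y, y ∈ F → π k • y ∈ F := fun y hy => by
          show π v • π k • y = π k • y
          rw [← mul_smul, hc.eq, mul_smul, hy]
        by_contra hne
        have h2 : π k • π k • x = x := by
          rcases invol_fix p hp hv hv2 with e | e
          · exact absurd (show x ∈ F from h) (fun hx => by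
              rw [Nat.card_eq_zero] at e
              rcases e with e | e
              · exact e.false ⟨x, hx⟩
              · exact @Infinite.not_finite _ e inferInstance)
          · haveI := Fintype.ofFinite F
            by_contra hne2
            have h3 : 2 < Fintype.card F := Fintype.two_lt_card_iff.2
              ⟨⟨x, h⟩, ⟨_, hmem x h⟩, ⟨_, hmem _ (hmem x h)⟩, fun e => hne (congrArg Subtype.val e).symm,
                fun e => hne2 (congrArg Subtype.val e).symm,
                fun e => hne ((smul_left_cancel (π k)) (congrArg Subtype.val e)).symm⟩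
            rw [← Nat.card_eq_fintype_card, e] at h3
            omega
        refine hne ?_
        have h4 : (π k) ^ 2 ∈ MulAction.stabilizer PGL(2, ZMod p) x := by
          rw [MulAction.mem_stabilizer_iff, sq, mul_smul, h2]
        have h5 := pow_mem h4 (m + 1)
        rw [← pow_mul, show 2 * (m + 1) = (2 * m + 1) + 1 by ring, pow_succ, ← hm,
          pow_orderOf_eq_one, one_mul] at h5
        exact h5
    constructor
    · show (_ : ℂ) - 1 = (_ : ℂ) - 1
      rw [hfix]
    · show (_ : ℂ) - 1 ≠ 0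
      have e : MulAction.fixedBy (ℙ (ZMod p) (Fin 2 → ZMod p)) v =
          MulAction.fixedBy (ℙ (ZMod p) (Fin 2 → ZMod p)) (π v) := rfl
      rw [e]
      rcases invol_fix p hp hv hv2 with e' | e' <;> rw [e'] <;> norm_num

end CfsgLib.SuzukiWong
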