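import Cfsg.Agent.SuzukiWong.AssemblySocle
import Cfsg.Agent.SuzukiWong.PGLFacts
import Cfsg.Agent.AutPSL.Predicates
import Cfsg.Agent.Linear.ProjLine

/-!
# Suzuki–Wong: models of `PGL₂(p)`
-/

set_option autoImplicit false
set_option linter.unusedSectionVars false
set_option linter.style.haveILetI false

namespace CfsgLib.SuzukiWong

open Subgroup
open scoped MatrixGroups LinearAlgebra.Projectivization

variable {p : ℕ} [hp : Fact p.Prime]

/-- `PGL₂(p)` is the automorphism group of `PSL₂(p)`. -/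
theorem nonempty_equiv_mulAut (h5 : 5 ≤ p) :
    Nonempty (MulAut (Matrix.ProjectiveSpecialLinearGroup (Fin 2) (ZMod p)) ≃* PGL(2, ZMod p)) := by
  haveI : Finite (GL (Fin 2) (ZMod p)) := inferInstance
  haveI : Finite (MulAut (Matrix.ProjectiveSpecialLinearGroup (Fin 2) (ZMod p))) :=
    Finite.of_injective _ DFunLike.coe_injective
  let f : GL (Fin 2) (ZMod p) →* MulAut (Matrix.ProjectiveSpecialLinearGroup (Fin 2) (ZMod p)) :=
    AutPSL.innDiagHom
  let m : GL (Fin 2) (ZMod p) →* PGL(2, ZMod p) := Matrix.ProjGenLinGroup.mk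
  have hker : m.ker = f.ker := by
    ext g
    rw [MonoidHom.mem_ker, MonoidHom.mem_ker, Matrix.ProjGenLinGroup.mk_eq_one,
      Matrix.GeneralLinearGroup.center_eq_range_scalar]
    show _ ↔ AutPSL.toPSLAut (AutPSL.conjSL g) = 1
    rw [map_eq_one_iff _ (AutPSL.toPSLAut_injective p), AutPSL.conjSL_eq_one_iff]
    exact ⟨fun ⟨u, hu⟩ => ⟨u, hu.symm⟩, fun ⟨u, hu⟩ => ⟨u, hu.symm⟩⟩
  have hm : Function.Surjective m := Matrix.ProjGenLinGroup.mk_surjective
  have hf : Function.Surjective f := by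
    rw [← MonoidHom.range_eq_top]
    refine Subgroup.eq_top_of_card_eq _ ?_
    rw [← Subgroup.index_ker, ← hker, Subgroup.index_ker, MonoidHom.range_eq_top.2 hm,
      Subgroup.card_top, card_pgl, card_mulAut_psl h5, two_mul_card_psl h5]
  exact ⟨((QuotientGroup.quotientKerEquivOfSurjective f hf).symm.trans
    (QuotientGroup.quotientMulEquivOfEq hker.symm)).trans
      (QuotientGroup.quotientKerEquivOfSurjective m hm)⟩

/-- `PGL₂(3)` is the symmetric group of degree four. -/
theorem nonempty_equiv_perm_four :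
    Nonempty (Equiv.Perm (Fin 4) ≃* PGL(2, ZMod 3)) := by
  classical
  haveI : Fact (Nat.Prime 3) := ⟨Nat.prime_three⟩
  have hP : Nat.card (ℙ (ZMod 3) (Fin 2 → ZMod 3)) = 4 := by
    rw [Projectivization.card_of_finrank_two (ZMod 3) _ (Module.finrank_fin_fun (ZMod 3)),
      Nat.card_zmod]
  haveI : Finite (ℙ (ZMod 3) (Fin 2 → ZMod 3)) := Nat.finite_of_card_ne_zero (by omega)
  let e : ℙ (ZMod 3) (Fin 2 → ZMod 3) ≃ Fin 4 := Finite.equivFinOfCardEq hP
  let f : PGL(2, ZMod 3) →* Equiv.Perm (Fin 4) :=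
    e.permCongrHom.toMonoidHom.comp (MulAction.toPermHom _ _)
  have hinj : Function.Injective f := by
    refine e.permCongrHom.injective.comp ((injective_iff_map_eq_one _).2 fun g hg => ?_)
    obtain ⟨h1, h2, h3⟩ := Linear.std_distinct (F := ZMod 3)
    exact Linear.pgl_two_three_fix g _ _ _ h1 h2 h3 (Equiv.ext_iff.1 hg _) (Equiv.ext_iff.1 hg _)
      (Equiv.ext_iff.1 hg _)
  have hb : Function.Bijective f := (Nat.bijective_iff_injective_and_card f).2 ⟨hinj, by
    rw [card_pgl, Nat.card_perm, Nat.card_fin]; rfl⟩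
  exact ⟨(MulEquiv.ofBijective f hb).symm⟩

end CfsgLib.SuzukiWong
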