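import Mathlib

/-!
# Suzuki–Wong: arithmetic for semidihedral Sylow 2-subgroups

`h` is a power of two, `xb = 1 + 2 h j` is the signed prime, `s = 1 + h j`.
-/

set_option autoImplicit false

namespace CfsgLib.SuzukiWong

/-- The congruences from the restriction to a Sylow 2-subgroup and from the pair count. -/
theorem sd_congr {k : ℕ} {h j N o u x : ℤ} (hk : h = 2 ^ (k + 1)) (hj : Odd j)
    (hN : Odd N) (ho : Odd o)
    (hcong : 8 * h ∣ x + u * (2 * h + 1) - 2 * h - 2)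
    (heq : N * (x - u) ^ 2 = 8 * h ^ 2 * o ^ 2 * (1 + 2 * h * j) * (1 + h * j) * x * (x + 1)) :
    4 * h ∣ u - (1 + 2 * h * j) ∧ ∃ q : ℤ, Odd q ∧ x - u = 4 * h * q := by
  have hh : Even h := by rw [hk, pow_succ]; exact even_two.mul_left _
  obtain ⟨e, he⟩ := hh
  obtain ⟨c, hc⟩ := hcong
  have hxx : Even (x * (x + 1)) := Int.even_mul_succ_self x
  obtain ⟨f, hf⟩ := hxx
  -- divisibility of the square
  have h64 : (64 : ℤ) ∣ N * (x - u) ^ 2 := by
    rw [heq, he]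
    exact ⟨o ^ 2 * e ^ 2 * (1 + 2 * (e + e) * j) * (1 + (e + e) * j) * f, by
      linear_combination (8 * (e + e) ^ 2 * o ^ 2 * (1 + 2 * (e + e) * j) * (1 + (e + e) * j)) * hf⟩
  have h8 : (8 : ℤ) ∣ x - u := by
    have hcop : IsCoprime (64 : ℤ) N := by
      obtain ⟨n, hn⟩ := hN
      rw [show (64 : ℤ) = 2 ^ 6 by norm_num]
      exact (show IsCoprime (2 : ℤ) N from ⟨-n, 1, by rw [hn]; ring⟩).pow_left
    have := hcop.dvd_of_dvd_mul_left h64
    exact (Int.pow_dvd_pow_iff two_ne_zero).1 (by simpa using this)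
  have hxu : x - u = (2 * h + 2) * (1 - u) + 8 * h * c := by linear_combination hc
  -- hence `u = 1` mod 4
  have hu4 : (4 : ℤ) ∣ 1 - u := by
    have hodd : IsCoprime (4 : ℤ) (h + 1) := by
      rw [show (4 : ℤ) = 2 ^ 2 by norm_num]
      exact (show IsCoprime (2 : ℤ) (h + 1) from ⟨-e, 1, by rw [he]; ring⟩).pow_left
    refine hodd.dvd_of_dvd_mul_left ?_
    obtain ⟨d, hd⟩ := h8
    exact ⟨d - h * c, by linarith [hxu, hd]⟩
  obtain ⟨v, hv⟩ := hu4
  have hx1 : x + 1 = 2 * (1 + (2 * h + 1) * (2 * v) + 4 * h * c) := by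
    linear_combination hc + (2 * h + 1) * hv
  -- the exact power of two
  have hsq : N * (x - u) ^ 2 = (4 * h) ^ 2 * (o ^ 2 * (1 + 2 * h * j) * (1 + h * j) * x *
      (1 + (2 * h + 1) * (2 * v) + 4 * h * c)) := by
    rw [heq, hx1]; ring
  have h4h : 4 * h ∣ x - u := by
    have hcop : IsCoprime ((4 * h) ^ 2) N := by
      obtain ⟨n, hn⟩ := hN
      rw [hk, show (4 : ℤ) * 2 ^ (k + 1) = 2 ^ (k + 3) by ring, ← pow_mul]
      exact (show IsCoprime (2 : ℤ) N from ⟨-n, 1, by rw [hn]; ring⟩).pow_left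
    exact (Int.pow_dvd_pow_iff two_ne_zero).1 (hcop.dvd_of_dvd_mul_left ⟨_, hsq⟩)
  obtain ⟨q, hq⟩ := h4h
  have hxodd : Odd x := ⟨(1 + (2 * h + 1) * (2 * v) + 4 * h * c) - 1, by linarith [hx1]⟩
  have hqodd : Odd q := by
    have e1 : N * q ^ 2 = o ^ 2 * (1 + 2 * h * j) * (1 + h * j) * x *
        (1 + (2 * h + 1) * (2 * v) + 4 * h * c) := by
      have h0 : (4 * h) ^ 2 ≠ 0 := by rw [hk]; positivity
      apply mul_left_cancel₀ h0
      rw [← hsq, hq]; ring
    have hrhs : Odd (o ^ 2 * (1 + 2 * h * j) * (1 + h * j) * x *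
        (1 + (2 * h + 1) * (2 * v) + 4 * h * c)) := by
      refine (((ho.pow.mul ?_).mul ?_).mul hxodd).mul ?_
      · exact ⟨h * j, by ring⟩
      · exact ⟨e * j, by rw [he]; ring⟩
      · exact ⟨(2 * h + 1) * v + 2 * h * c, by ring⟩
    rw [← e1] at hrhs
    exact (Int.odd_pow' two_ne_zero).1 (Int.Odd.of_mul_right hrhs)
  refine ⟨?_, q, hqodd, hq⟩
  -- the residue of `u`
  obtain ⟨q', rfl⟩ := hqodd
  obtain ⟨j', rfl⟩ := hj
  have hcop : IsCoprime (2 * h) (h + 1) := by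
    rw [hk, show (2 : ℤ) * 2 ^ (k + 1) = 2 ^ (k + 2) by ring, ← hk]
    exact (show IsCoprime (2 : ℤ) (h + 1) from ⟨-e, 1, by rw [he]; ring⟩).pow_left
  have hm : 2 * h ∣ (h + 1) * (1 - u) :=
    ⟨2 * q' + 1 - 2 * c, by linarith [hxu, hq]⟩
  obtain ⟨w, hw⟩ := hcop.dvd_of_dvd_mul_left hm
  have hwodd : (h + 1) * w = 2 * q' + 1 - 2 * c := by
    have h0 : 2 * h ≠ 0 := by rw [hk]; positivity
    apply mul_left_cancel₀ h0
    have hA : (h + 1) * (1 - u) = 2 * h * (2 * q' + 1 - 2 * c) := by linarith [hxu, hq]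
    linear_combination (-(h + 1)) * hw + hA
  obtain ⟨w', hw'⟩ : Odd w := Int.Odd.of_mul_right (show Odd ((h + 1) * w) from
    ⟨q' - c, by rw [hwodd]; ring⟩)
  exact ⟨-(w' + j' + 1), by rw [hw'] at hw; linear_combination -hw⟩

/-- The two coordinates of the column vector of `X`. -/
theorem sd_vec {k : ℕ} {h j c l : ℤ} (hk : h = 2 ^ (k + 1)) (hj : Odd j)
    (hu : 4 * h ∣ c + (1 + 2 * h * j) * l - (1 + 2 * h * j))
    (hc : (h - 1) * (1 + c) ^ 2 + c ^ 2 ≤ 2 * h + 1) (hl : h * l ^ 2 ≤ 2 * h + 2) :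
    c = 0 ∧ l = 1 := by
  have h2 : 2 ≤ h := by rw [hk, pow_succ]; linarith [show (1 : ℤ) ≤ 2 ^ k from one_le_pow₀ (by norm_num)]
  have hlsq : l ^ 2 < 4 := by
    by_contra hlt
    nlinarith [mul_le_mul_of_nonneg_left (not_lt.1 hlt) (show (0 : ℤ) ≤ h by omega)]
  have hl1 : -1 ≤ l ∧ l ≤ 1 := by constructor <;> nlinarith
  have hc1 : -3 < c ∧ c < 2 := by
    constructor
    · by_contra hlt
      nlinarith [mul_le_mul_of_nonneg_left (show (4 : ℤ) ≤ (1 + c) ^ 2 by nlinarith)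
        (show (0 : ℤ) ≤ h - 1 by omega)]
    · by_contra hlt
      nlinarith [mul_le_mul_of_nonneg_left (show (4 : ℤ) ≤ (1 + c) ^ 2 by nlinarith)
        (show (0 : ℤ) ≤ h - 1 by omega)]
  obtain ⟨j', rfl⟩ := hj
  obtain ⟨v, hv⟩ := hu
  obtain ⟨hl0, hl1⟩ := hl1
  obtain ⟨hc0, hc1⟩ := hc1
  interval_cases l
  · have : c - 2 = 4 * h * (v + (2 * j' + 1)) := by linear_combination hv
    rcases lt_trichotomy (v + (2 * j' + 1)) 0 with h0 | h0 | h0
    · nlinarith
    · rw [h0] at this; omega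
    · nlinarith
  · have : c - 1 = 2 * h * (2 * v + 2 * j' + 1) := by linear_combination hv
    rcases lt_trichotomy (2 * v + 2 * j' + 1) 0 with h0 | h0 | h0
    · nlinarith
    · omega
    · nlinarith
  · have : c = 4 * h * v := by linear_combination hv
    rcases lt_trichotomy v 0 with h0 | h0 | h0
    · nlinarith
    · rw [h0] at this; exact ⟨by linarith, rfl⟩
    · nlinarith

/-- The nontrivial root of the zero equation of the function of norm four. -/
theorem sd_root {x xb p w : ℤ} (hx : x ≠ 0) (hp : p ≠ 0) (hw : w ≠ 0) (hsum : p + w = -1 - x)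
    (hw1 : w ≠ -1) (hz : (1 : ℚ) + (xb : ℚ) ^ 2 / x + (xb : ℚ) ^ 2 / p + 1 / w = 0) :
    (x + xb ^ 2) ∣ xb ^ 2 * (1 + x) := by
  have e : x * p * w + xb ^ 2 * p * w + xb ^ 2 * x * w + x * p = 0 := by
    have h1 : (x : ℚ) ≠ 0 := by exact_mod_cast hx
    have h2 : (p : ℚ) ≠ 0 := by exact_mod_cast hp
    have h3 : (w : ℚ) ≠ 0 := by exact_mod_cast hw
    field_simp at hz
    apply Int.cast_injective (α := ℚ)
    push_cast
    linear_combination hz
  have hne : p + x ≠ 0 := fun e0 => hw1 (by linarith)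
  have e2 : (x + xb ^ 2) * p + xb ^ 2 * (1 + x) = 0 := by
    obtain rfl : w = -1 - x - p := by linarith
    apply mul_left_cancel₀ hne
    rw [mul_zero]
    linear_combination -e
  exact ⟨-p, by linarith⟩

set_option maxHeartbeats 1000000 in
/-- The final arithmetic. -/
theorem sd_final {k : ℕ} {h j a N q : ℤ} (hk : h = 2 ^ (k + 1)) (hj : Odd j) (ha : 0 < a)
    (hao : Odd a) (hNo : IsCoprime N (a * |j|)) (hq : Odd q)
    (hp : Prime (1 + 2 * h * j)) (hpN : ¬ (1 + 2 * h * j) ∣ N)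
    (heq : N * (4 * h * q) ^ 2 = 8 * h ^ 2 * (a * |j|) ^ 2 * (1 + h * j) * (1 + 4 * h * q) *
      ((1 + 2 * h * j) * (1 + 4 * h * q) + 1))
    (hdvd : 1 + 4 * h * q + (1 + 2 * h * j) ∣
      (1 + 2 * h * j) * (1 + (1 + 2 * h * j) * (1 + 4 * h * q))) :
    h = 2 ∧ j = 1 ∧ a = 1 ∧ N = 357 := by
  have h2 : 2 ≤ h := by rw [hk, pow_succ]; linarith [show (1 : ℤ) ≤ 2 ^ k from one_le_pow₀ (by norm_num)]
  have heven : Even h := by rw [hk, pow_succ]; exact even_two.mul_left _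
  obtain ⟨e, he⟩ := heven
  have hj1 : 1 ≤ |j| := Int.one_le_abs (fun e0 => by simp [e0] at hj)
  have hojodd : Odd (a * |j|) := hao.mul (odd_abs.2 hj)
  set xb := 1 + 2 * h * j with hxb
  obtain ⟨s, hs⟩ : ∃ s, s = 1 + h * j := ⟨_, rfl⟩
  rw [← hs] at heq
  have hsodd : Odd s := ⟨e * j, by rw [hs, he]; ring⟩
  have e0 : 2 * N * q ^ 2 = (a * |j|) ^ 2 * s * (1 + 4 * h * q) * (xb * (1 + 4 * h * q) + 1) := by
    apply mul_left_cancel₀ (show 8 * h ^ 2 ≠ 0 by positivity)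
    linear_combination heq
  -- `o ∣ q`
  obtain ⟨q', rfl⟩ : a * |j| ∣ q := by
    refine (Int.pow_dvd_pow_iff two_ne_zero).1 (IsCoprime.dvd_of_dvd_mul_left (y := 2 * N) ?_ ?_)
    · refine IsCoprime.pow_left (IsCoprime.mul_right ?_ hNo.symm)
      obtain ⟨i, hi⟩ := hojodd
      exact ⟨1, -i, by rw [hi]; ring⟩
    · exact ⟨s * (1 + 4 * h * q) * (xb * (1 + 4 * h * q) + 1), by rw [e0]; ring⟩
  set o := a * |j| with ho
  have ho0 : o ≠ 0 := by have := mul_pos ha (lt_of_lt_of_le one_pos hj1); omega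
  have hq' : Odd q' := Int.Odd.of_mul_right hq
  set m := 1 + 4 * h * (o * q') with hm
  have e1 : 2 * N * q' ^ 2 = s * m * (2 * s + 4 * h * xb * o * q') := by
    apply mul_left_cancel₀ (pow_ne_zero 2 ho0)
    rw [hs] at e0 ⊢
    rw [hxb] at e0 ⊢
    linear_combination e0
  have hqm : IsCoprime q' m := ⟨-(4 * h * o), 1, by rw [hm]; ring⟩
  have e2 : q' ^ 2 ∣ s * (2 * s + 4 * h * xb * o * q') :=
    hqm.pow_left.dvd_of_dvd_mul_left (z := s * (2 * s + 4 * h * xb * o * q'))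
      ⟨2 * N, by rw [mul_comm (q' ^ 2), e1]; ring⟩
  -- `q' ∣ s`
  have hs0 : s ≠ 0 := fun e => by simp [e] at hsodd
  obtain ⟨f, s'', q'', hf0, hcop, hsf, hqf⟩ := Int.exists_gcd_one' (Int.gcd_pos_of_ne_zero_left q' hs0)
  obtain rfl : s = s'' * f := hsf
  obtain rfl : q' = q'' * f := hqf
  have hcop' : IsCoprime q'' s'' := (Int.isCoprime_iff_gcd_eq_one.2 hcop).symm
  have hq'' : Odd q'' := Int.Odd.of_mul_left hq'
  have hq1 : q'' ∣ 2 := by
    have h3 : q'' ^ 2 ∣ s'' * (2 * s'' + 4 * h * xb * o * q'') := by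
      rw [← mul_dvd_mul_iff_right (pow_ne_zero 2 (show (f : ℤ) ≠ 0 by omega))]
      refine dvd_trans (dvd_of_eq (by ring)) (dvd_trans e2 (dvd_of_eq (by ring)))
    have h4 : q'' ∣ 2 * s'' := by
      have h5 := (dvd_pow_self q'' two_ne_zero).trans (hcop'.pow_left.dvd_of_dvd_mul_left h3)
      exact (dvd_add_left ⟨4 * h * xb * o, by ring⟩).1 h5
    exact hcop'.dvd_of_dvd_mul_right h4
  have hqabs : q'' = 1 ∨ q'' = -1 := by
    have h5 := Int.le_of_dvd two_pos hq1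
    have h6 : -2 ≤ q'' := by
      have := Int.le_of_dvd two_pos ((Int.neg_dvd).2 hq1); omega
    obtain ⟨i, hi⟩ := hq''; omega
  -- divisibility
  have hmx : m + xb ∣ xb ^ 2 - 1 := by
    have hnd : ¬ xb ∣ m := fun hd => by
      have h5 : xb ∣ 2 * N * (q'' * f) ^ 2 := by
        rw [e1]; exact dvd_mul_of_dvd_left (dvd_mul_of_dvd_right hd _) _
      have h6 : xb ∣ q'' * f := by
        rcases hp.dvd_or_dvd h5 with h7 | h7
        · rcases hp.dvd_or_dvd h7 with h8 | h8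
          · exfalso
            have h9 := Int.le_of_dvd two_pos h8
            have h10 := Int.le_of_dvd two_pos (Int.neg_dvd.2 h8)
            have h12 := Int.odd_iff.1 hj
            rcases le_or_gt 1 j with h11 | h11
            · nlinarith
            · have : j ≤ -1 := by omega
              nlinarith
          · exact absurd h8 hpN
        · exact hp.dvd_of_dvd_pow h7
      exact hp.not_isUnit (hqm.isUnit_of_dvd' h6 hd)
    have hcx : IsCoprime (m + xb) xb :=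
      ((hp.coprime_iff_not_dvd.2 fun hd => hnd ((dvd_add_left (dvd_refl xb)).1 hd))).symm
    have h5 := hcx.dvd_of_dvd_mul_left hdvd
    have h6 : m + xb ∣ xb * (m + xb) := dvd_mul_left _ _
    exact dvd_trans (dvd_of_eq rfl) (dvd_trans (dvd_sub h6 h5) (dvd_of_eq (by ring)))
  set d := s'' + 2 * h * o * q'' with hd
  have hdj : d ∣ 2 * h * j * s'' := by
    have hf2 : (2 * (f : ℤ)) ≠ 0 := by positivity
    rw [← mul_dvd_mul_iff_left hf2]
    refine dvd_trans (dvd_of_eq ?_) (dvd_trans hmx (dvd_of_eq ?_))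
    · rw [hd, hm, hxb]; linear_combination (2 : ℤ) * hs
    · rw [hxb]; linear_combination (4 * h * j) * hs.symm
  have hs'' : Odd s'' := Int.Odd.of_mul_left hsodd
  have hdodd : Odd d := by
    rw [hd]; exact hs''.add_even ⟨h * o * q'', by ring⟩
  have hdj' : d ∣ j * s'' := by
    refine IsCoprime.dvd_of_dvd_mul_left (y := 2 * h) ?_ (by rwa [← mul_assoc])
    rw [hk, show (2 : ℤ) * 2 ^ (k + 1) = 2 ^ (k + 2) by ring]
    obtain ⟨i, hi⟩ := hdodd
    exact IsCoprime.pow_right ⟨1, -i, by rw [hi]; ring⟩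
  -- remove the common factor with `a`
  obtain ⟨g, σ₁, a₁, hg0, hcop₁, hσ, haa⟩ := Int.exists_gcd_one' (Int.gcd_pos_of_ne_zero_right s'' ha.ne')
  obtain rfl : s'' = σ₁ * g := hσ
  obtain rfl : a = a₁ * g := haa
  have ha₁ : 0 < a₁ := pos_of_mul_pos_left ha (by omega)
  set d₁ := σ₁ + 2 * h * a₁ * |j| * q'' with hd₁
  have hd1j : d₁ ∣ j * σ₁ := by
    rw [← mul_dvd_mul_iff_right (show (g : ℤ) ≠ 0 by omega)]
    refine dvd_trans (dvd_of_eq ?_) (dvd_trans hdj' (dvd_of_eq (by ring)))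
    rw [hd₁, hd, ho]; ring
  have hsj : IsCoprime σ₁ j :=
    IsCoprime.of_isCoprime_of_dvd_left (show IsCoprime (1 + h * j) j from ⟨1, -h, by ring⟩)
      ⟨g * f, by linear_combination -hs⟩
  have hd1 : d₁ ∣ j := by
    have hc2 : IsCoprime σ₁ (2 * h) := by
      rw [hk, show (2 : ℤ) * 2 ^ (k + 1) = 2 ^ (k + 2) by ring]
      obtain ⟨i, hi⟩ := Int.Odd.of_mul_left hs''
      exact IsCoprime.pow_right ⟨1, -i, by rw [hi]; ring⟩
    have hsj' : IsCoprime σ₁ |j| := by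
      rcases abs_choice j with e | e <;> rw [e]
      exacts [hsj, hsj.neg_right]
    have hsq' : IsCoprime σ₁ q'' := hcop'.symm.of_mul_left_left
    have hcσ : IsCoprime d₁ σ₁ := by
      have h5 : IsCoprime σ₁ (2 * h * a₁ * |j| * q'') :=
        ((hc2.mul_right (Int.isCoprime_iff_gcd_eq_one.2 hcop₁)).mul_right hsj').mul_right hsq'
      have h6 := h5.symm.add_mul_right_left 1
      rw [one_mul] at h6
      rwa [hd₁, add_comm]
    exact hcσ.dvd_of_dvd_mul_right hd1j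
  -- the bound
  have hb1 : |d₁| ≤ |j| := Int.le_of_dvd (by omega) ((abs_dvd_abs _ _).2 hd1)
  have hq''a : |q''| = 1 := by rcases hqabs with rfl | rfl <;> simp
  have hb2 : 2 * h * a₁ * |j| - |σ₁| ≤ |d₁| := by
    have h5 : |2 * h * a₁ * |j| * q''| = 2 * h * a₁ * |j| := by
      rw [abs_mul, hq''a, mul_one, abs_of_nonneg (by positivity)]
    have h6 := abs_add_le d₁ (-σ₁)
    rw [abs_neg, show d₁ + -σ₁ = 2 * h * a₁ * |j| * q'' by rw [hd₁]; ring, h5] at h6
    linarith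
  have hb3 : |σ₁| * (|(g : ℤ)| * |(f : ℤ)|) ≤ 1 + h * |j| := by
    rw [← abs_mul, ← abs_mul, ← mul_assoc, hs]
    calc |1 + h * j| ≤ |(1 : ℤ)| + |h * j| := abs_add_le _ _
      _ = _ := by rw [abs_one, abs_mul, abs_of_nonneg (by omega : (0 : ℤ) ≤ h)]
  have hg1 : (1 : ℤ) ≤ g := by omega
  have hf1 : (1 : ℤ) ≤ f := by omega
  rw [abs_of_pos (show (0 : ℤ) < g by omega), abs_of_pos (show (0 : ℤ) < f by omega)] at hb3
  have hb4 : |σ₁| ≤ |σ₁| * (g * f) := le_mul_of_one_le_right (abs_nonneg _) (one_le_mul_of_one_le_of_one_le hg1 hf1)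
  have key : (2 * h * a₁ - 1 - h) * |j| ≤ 1 := by linarith
  have hA : a₁ = 1 := by
    by_contra hne
    have h6 : 1 ≤ 2 * h * a₁ - 1 - h - 1 := by
      linarith [mul_le_mul_of_nonneg_left (show (2 : ℤ) ≤ a₁ by omega) (show (0 : ℤ) ≤ h by omega)]
    linarith [mul_le_mul_of_nonneg_left hj1 (show (0 : ℤ) ≤ 2 * h * a₁ - 1 - h by omega)]
  subst hA
  have hh2 : h = 2 := by
    refine le_antisymm ?_ h2
    linarith [key, mul_le_mul_of_nonneg_left hj1 (show (0 : ℤ) ≤ 2 * h * 1 - 1 - h by omega)]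
  subst hh2
  have hj' : |j| = 1 := by linarith
  rw [hj'] at hb1 hb2 hb3
  have hσ : (3 : ℤ) ≤ |σ₁| := by linarith
  have hgf : (g : ℤ) * f = 1 := by
    have h6 := mul_le_mul_of_nonneg_right hσ (show (0 : ℤ) ≤ g * f by positivity)
    linarith [one_le_mul_of_one_le_of_one_le hg1 hf1]
  obtain ⟨hg', hf'⟩ : (g : ℤ) = 1 ∧ (f : ℤ) = 1 :=
    ⟨Int.eq_one_of_mul_eq_one_right (by omega) hgf, Int.eq_one_of_mul_eq_one_left (by omega) hgf⟩
  have hσj : σ₁ = 1 + 2 * j := by rw [hg', hf'] at hs; linarith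
  obtain rfl : j = 1 := by
    rcases (abs_eq zero_le_one).1 hj' with e | e
    · exact e
    · rw [hσj, e] at hσ; norm_num at hσ
  subst hσj
  obtain rfl : q'' = -1 := by
    rcases hqabs with e | e
    · rw [e] at hd₁
      norm_num [hd₁] at hb1
    · exact e
  refine ⟨rfl, rfl, by rw [hg', one_mul], ?_⟩
  rw [hm, hxb, ho, hg', hf'] at e1
  norm_num at e1
  linarith

end CfsgLib.SuzukiWong
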