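import Cfsg.Agent.SuzukiWong.SDPairs
import Cfsg.Agent.SuzukiWong.Sections
import Cfsg.Agent.Characters.Rational

/-!
# Suzuki–Wong: the column of `t g`, `g` over a unipotent element of `C(t)/X⟨t⟩`
-/

set_option autoImplicit false
set_option linter.unusedSectionVars false
set_option linter.style.haveILetI false

namespace CfsgLib.SuzukiWong

open Cfsg CfsgLib.Characters CfsgLib.Blocks CfsgLib.PrincipalBlock
open scoped ComplexConjugate MatrixGroups

universe u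

variable {G : Type u} [Group G] [Fintype G]

/-- A sum of character values over `t ⟨g⟩`. -/
theorem sum_coset_dvd (χ : IrrCharacter G) {t g : G} (ht : orderOf t = 2) (hg : Odd (orderOf g))
    (hc : Commute t g) :
    ∃ m : ℤ, ∑ i ∈ Finset.range (orderOf g), (χ : G → ℂ) (t * g ^ i) = (orderOf g : ℂ) * m := by
  classical
  set n := orderOf g with hn
  set x := t * g with hx
  have hn0 : 0 < n := orderOf_pos g
  have hxo : orderOf x = 2 * n := by
    rw [hx, hc.orderOf_mul_eq_mul_orderOf_of_coprime (by rw [ht]; exact Nat.coprime_two_left.2 hg), ht]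
  set K := Subgroup.zpowers x with hK
  haveI := Fintype.ofFinite K
  obtain ⟨r, hr⟩ := hg
  have ht2 : ∀ a : ℕ, t ^ (2 * a) = 1 := fun a => by rw [pow_mul, ← ht, pow_orderOf_eq_one, one_pow]
  have ext : x ^ n = t := by
    rw [hx, hc.mul_pow, hn, pow_orderOf_eq_one, mul_one, ← hn, hr, pow_succ, ht2, one_mul]
  have exg : x ^ (n + 1) = g := by
    rw [pow_succ, ext, hx, ← mul_assoc, ← sq, show t ^ 2 = 1 by simpa using ht2 1, one_mul]
  have hzd : orderOf (-1 : ℂˣ) ∣ orderOf (⟨x, Subgroup.mem_zpowers x⟩ : K) := by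
    rw [Subgroup.orderOf_mk, hxo]
    exact (orderOf_dvd_of_pow_eq_one (by rw [neg_one_sq])).trans (dvd_mul_right 2 n)
  have hgen : ∀ k : K, k ∈ Subgroup.zpowers (⟨x, Subgroup.mem_zpowers x⟩ : K) := fun k => by
    obtain ⟨i, hi⟩ := Subgroup.mem_zpowers_iff.1 k.2
    exact Subgroup.mem_zpowers_iff.2 ⟨i, Subtype.ext (by rw [← hi]; rfl)⟩
  set sg : K →* ℂˣ := monoidHomOfForallMemZpowers hgen hzd with hsg
  have hsgx : sg ⟨x, Subgroup.mem_zpowers x⟩ = -1 := monoidHomOfForallMemZpowers_apply_gen _ _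
  have hsgt : ∀ hm : t ∈ K, (sg ⟨t, hm⟩ : ℂ) = -1 := fun hm => by
    rw [show (⟨t, hm⟩ : K) = ⟨x, Subgroup.mem_zpowers x⟩ ^ n from Subtype.ext ext.symm, map_pow, hsgx,
      Units.val_pow_eq_pow_val, Units.val_neg, Units.val_one,
      (show Odd n from ⟨r, hr⟩).neg_one_pow]
  have hsgg : ∀ hm : g ∈ K, (sg ⟨g, hm⟩ : ℂ) = 1 := fun hm => by
    rw [show (⟨g, hm⟩ : K) = ⟨x, Subgroup.mem_zpowers x⟩ ^ (n + 1) from Subtype.ext exg.symm,
      map_pow, hsgx, Units.val_pow_eq_pow_val, Units.val_neg, Units.val_one,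
      (show Even (n + 1) from ⟨r + 1, by omega⟩).neg_one_pow]
  have htK : t ∈ K := ext ▸ pow_mem (Subgroup.mem_zpowers x) n
  have hgK : g ∈ K := exg ▸ pow_mem (Subgroup.mem_zpowers x) (n + 1)
  let F : Fin 2 × Fin n → K := fun a => ⟨t ^ (a.1 : ℕ) * g ^ (a.2 : ℕ),
    mul_mem (pow_mem htK _) (pow_mem hgK _)⟩
  have hFs : Function.Surjective F := by
    intro k
    obtain ⟨j, hj⟩ := mem_powers_iff_mem_zpowers.2 k.2
    refine ⟨(⟨j % 2, Nat.mod_lt _ two_pos⟩, ⟨j % n, Nat.mod_lt _ hn0⟩), Subtype.ext ?_⟩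
    show t ^ (j % 2) * g ^ (j % n) = (k : G)
    rw [← ht, pow_mod_orderOf, hn, pow_mod_orderOf, ← hc.mul_pow]
    exact hj
  have hFb : Function.Bijective F := (Fintype.bijective_iff_surjective_and_card F).2 ⟨hFs, by
    rw [← Nat.card_eq_fintype_card, ← Nat.card_eq_fintype_card, Nat.card_prod, Nat.card_fin,
      Nat.card_fin, Nat.card_zpowers, hxo]⟩
  obtain ⟨a, ha⟩ := classInner_gen (isGen_restrict K (isGen_of_isIrr χ.2)) (isGen_one (G := K))
  obtain ⟨b, hb⟩ := classInner_gen (isGen_restrict K (isGen_of_isIrr χ.2))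
    (isGen_of_isIrr (isIrr_linChar sg))
  refine ⟨a - b, ?_⟩
  simp only [classInner, map_one, mul_one] at ha hb
  rw [← Fintype.sum_bijective F hFb _ _ (fun _ => rfl)] at ha hb
  have hsF : ∀ e : Fin 2 × Fin n, (sg (F e) : ℂ) = (-1) ^ (e.1 : ℕ) := fun e => by
    rw [show F e = ⟨t, htK⟩ ^ (e.1 : ℕ) * ⟨g, hgK⟩ ^ (e.2 : ℕ) from rfl, map_mul, map_pow,
      map_pow, Units.val_mul, Units.val_pow_eq_pow_val, Units.val_pow_eq_pow_val, hsgt, hsgg,
      one_pow, mul_one]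
  simp only [hsF, map_pow, map_neg, map_one, Fintype.sum_prod_type, Fin.sum_univ_two,
    Fin.val_zero, Fin.val_one, pow_zero, pow_one, mul_one, mul_neg, Finset.sum_neg_distrib] at ha hb
  have hcard : (Nat.card K : ℂ) = 2 * n := by rw [Nat.card_zpowers, hxo]; push_cast; ring
  rw [hcard] at ha hb
  have hne : (2 * n : ℂ) ≠ 0 := mul_ne_zero (by norm_num) (Nat.cast_ne_zero.2 hn0.ne')
  rw [inv_mul_eq_iff_eq_mul₀ hne] at ha hb
  rw [← Fin.sum_univ_eq_sum_range (fun i => (χ : G → ℂ) (t * g ^ i))]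
  have e1 : ∀ i : Fin n, ((F (1, i) : K) : G) = t * g ^ (i : ℕ) := fun i => by simp [F]
  simp only [e1] at ha hb
  push_cast
  linear_combination (ha - hb) / 2

variable {P : Sylow 2 G} {σ y : G} {h p : ℕ} [Fact p.Prime]
  {π : Subgroup.centralizer ({σ ^ (2 * h)} : Set G) →* PGL(2, ZMod p)} (D : SDData P σ y h p π)
include D

theorem SDData.X_le_Ct : D.X ≤ Subgroup.centralizer ({σ ^ (2 * h)} : Set G) :=
  fun _ hu => (D.mem_X.1 hu).1.1

theorem SDData.mem_ker_cases {c : Subgroup.centralizer ({σ ^ (2 * h)} : Set G)} (hc : π c = 1) :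
    ∃ w ∈ D.X, (c : G) = w ∨ (c : G) = w * σ ^ (2 * h) := by
  obtain ⟨w, hw, z, hz, e⟩ := D.exists_X.choose_spec.2.2.2 (c : G) ⟨c, hc, rfl⟩
  refine ⟨w, hw, ?_⟩
  obtain ⟨i, hi⟩ := mem_powers_iff_mem_zpowers.2 hz
  simp only at hi
  rcases Nat.even_or_odd' i with ⟨j, rfl | rfl⟩
  · left; rw [e, ← hi, pow_mul (σ ^ (2 * h)), sq, D.t_sq, one_pow, mul_one]
  · right; rw [e, ← hi, pow_succ, pow_mul (σ ^ (2 * h)), sq, D.t_sq, one_pow, one_mul]

theorem SDData.pow_mul_X {a w : G} (ha : a ∈ Subgroup.centralizer ({σ ^ (2 * h)} : Set G))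
    (hw : w ∈ D.X) (m : ℕ) : ∃ w' ∈ D.X, (a * w) ^ m = a ^ m * w' := by
  induction m with
  | zero => exact ⟨1, one_mem _, by simp⟩
  | succ m ih =>
    obtain ⟨w', hw', e⟩ := ih
    refine ⟨a⁻¹ * w' * a * w, mul_mem ?_ hw, by rw [pow_succ, e, pow_succ]; group⟩
    simpa using D.X_conj (inv_mem ha) hw'

variable {M : Ideal AlgInt} [M.IsPrime] (hM : Cfsg.IsPModular 2 M)
include hM

open Classical in
/-- Principal block values on the section of `t` only depend on the coset of `X`. -/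
theorem SDData.apply_t_mul_X {χ : IrrCharacter G} (hχ : χ ∈ Cfsg.principalBlock M G)
    {r w : G} (hr : r ∈ Subgroup.centralizer ({σ ^ (2 * h)} : Set G)) (hro : Odd (orderOf r))
    (hw : w ∈ D.X) (hrw : Odd (orderOf (r * w))) :
    (χ : G → ℂ) (σ ^ (2 * h) * (r * w)) = (χ : G → ℂ) (σ ^ (2 * h) * r) := by
  haveI : Fact (Nat.Prime 2) := ⟨Nat.prime_two⟩
  set C := Subgroup.centralizer ({σ ^ (2 * h)} : Set G)
  haveI := Fintype.ofFinite C
  set K := D.X.subgroupOf C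
  haveI : K.Normal := ⟨fun x hx g => by
    rw [Subgroup.mem_subgroupOf] at hx ⊢
    exact D.X_conj g.2 hx⟩
  have hK : ¬ 2 ∣ Nat.card K := by
    rw [Nat.card_congr (Subgroup.subgroupOfEquivOfLe D.X_le_Ct).toEquiv]
    exact D.X_odd.not_two_dvd_nat
  have hs : ∃ k, orderOf (σ ^ (2 * h)) = 2 ^ k := ⟨1, by rw [D.t_order, pow_one]⟩
  set rC : C := ⟨r, hr⟩
  set wC : C := ⟨w, D.X_le_Ct hw⟩
  have h1 := BlocksLocal.blockPart_principal_translate hM hs χ (y := rC)
    (by rw [Subgroup.orderOf_mk]; exact hro.not_two_dvd_nat)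
  have h2 := BlocksLocal.blockPart_principal_translate hM hs χ (y := rC * wC)
    (by rw [← Subgroup.orderOf_coe]; exact hrw.not_two_dvd_nat)
  rw [if_pos hχ] at h1 h2
  rw [show σ ^ (2 * h) * (r * w) = σ ^ (2 * h) * ((rC * wC : C) : G) from rfl, ← h2,
    show σ ^ (2 * h) * r = σ ^ (2 * h) * (rC : G) from rfl, ← h1]
  simp only [Cfsg.blockPart]
  refine finsum_mem_congr rfl fun ξ hξ => ?_
  rw [apply_mul_of_eq_one ξ (mem_charKer.1 (le_charKer_of_mem hM K hK hξ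
    (Subgroup.mem_subgroupOf.2 hw)))]

open Classical in
/-- The column entry is an integer congruent to the value at `t`. -/
theorem SDData.column_entry {g : G} (hgC : g ∈ Subgroup.centralizer ({σ ^ (2 * h)} : Set G))
    (hgo : Odd (orderOf g)) (hgπ : π ⟨g, hgC⟩ = unip p)
    {χ : IrrCharacter G} (hχ : χ ∈ Cfsg.principalBlock M G) {u : ℤ}
    (hu : (χ : G → ℂ) (σ ^ (2 * h)) = u) :
    ∃ c : ℤ, (χ : G → ℂ) (σ ^ (2 * h) * g) = c ∧ (p : ℤ) ∣ u - c := by
  have hpp : p.Prime := Fact.out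
  set gC : Subgroup.centralizer ({σ ^ (2 * h)} : Set G) := ⟨g, hgC⟩ with hgCdef
  have hcomm : Commute (σ ^ (2 * h)) g := (show Commute g (σ ^ (2 * h)) from Subgroup.mem_centralizer_singleton_iff.1 hgC).symm
  have hpn : p ∣ orderOf g := by
    have := orderOf_map_dvd π gC
    rwa [hgπ, orderOf_unip, Subgroup.orderOf_mk] at this
  set n := orderOf g with hn
  obtain ⟨q, hq⟩ := hpn
  set c0 := (χ : G → ℂ) ((σ ^ (2 * h)) * g) with hc0
  have hpow_t : ∀ i : ℕ, p ∣ i → (χ : G → ℂ) ((σ ^ (2 * h)) * g ^ i) = (χ : G → ℂ) (σ ^ (2 * h)) := by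
    intro i hi
    have hX : g ^ i ∈ D.X := D.mem_X.2 ⟨⟨pow_mem hgC i, by
      obtain ⟨m, rfl⟩ := hi
      rw [show (⟨g ^ (p * m), pow_mem hgC _⟩ : Subgroup.centralizer ({σ ^ (2 * h)} : Set G)) =
        gC ^ (p * m) from rfl, map_pow, hgπ, pow_mul,
        orderOf_dvd_iff_pow_eq_one.1 (orderOf_unip p).dvd, one_pow]⟩, hgo.of_dvd_nat (orderOf_pow_dvd i)⟩
    have := D.apply_t_mul_X hM hχ (one_mem _) (by rw [orderOf_one]; exact odd_one) hX
      (by rw [one_mul]; exact (D.mem_X.1 hX).2)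
    rwa [one_mul, mul_one] at this
  have hpow_g : ∀ i : ℕ, ¬ p ∣ i → (χ : G → ℂ) ((σ ^ (2 * h)) * g ^ i) = c0 := by
    intro i hi
    obtain ⟨a, ha⟩ := isConj_iff.1 (isConj_unip_pow p hi)
    obtain ⟨⟨c, hcC⟩, rfl⟩ := D.surj a
    have hk : π ((gC ^ i)⁻¹ * (⟨c, hcC⟩ * gC * ⟨c, hcC⟩⁻¹)) = 1 := by
      rw [map_mul, map_inv, map_mul, map_mul, map_inv, map_pow, hgπ, ha, inv_mul_cancel]
    obtain ⟨w, hw, e⟩ := D.mem_ker_cases hk
    have hco : orderOf (c * g * c⁻¹) = n := Small.orderOf_conj_eq c g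
    have e' : c * g * c⁻¹ = g ^ i * w := by
      rcases e with e | e
      · exact inv_mul_eq_iff_eq_mul.1 (show (g ^ i)⁻¹ * (c * g * c⁻¹) = w from e)
      · exfalso
        have e2 : c * g * c⁻¹ = g ^ i * w * (σ ^ (2 * h)) :=
          (inv_mul_eq_iff_eq_mul.1 (show (g ^ i)⁻¹ * (c * g * c⁻¹) = w * σ ^ (2 * h) from e)).trans
            (mul_assoc _ _ _).symm
        obtain ⟨w', hw', e3⟩ := D.pow_mul_X (pow_mem hgC i) hw n
        have hct : Commute (g ^ i * w) (σ ^ (2 * h)) :=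
          Subgroup.mem_centralizer_singleton_iff.1 (mul_mem (pow_mem hgC i) (D.X_le_Ct hw))
        have e4 : (c * g * c⁻¹) ^ n = 1 := orderOf_dvd_iff_pow_eq_one.1 hco.dvd
        obtain ⟨r, hr⟩ := hgo
        have htn : (σ ^ (2 * h)) ^ n = (σ ^ (2 * h)) := by
          rw [hr, pow_succ, pow_mul, sq, D.t_sq, one_pow, one_mul]
        rw [e2, hct.mul_pow, e3, htn, ← pow_mul, mul_comm i, pow_mul, hn, pow_orderOf_eq_one,
          one_pow, one_mul, mul_eq_one_iff_inv_eq] at e4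
        have htX : (σ ^ (2 * h)) ∈ D.X := e4 ▸ inv_mem hw'
        have := (D.mem_X.1 htX).2
        rw [D.t_order] at this
        exact absurd this (by decide)
    have hodd' : Odd (orderOf (g ^ i * w)) := by rw [← e', hco]; exact hgo
    rw [← D.apply_t_mul_X hM hχ (pow_mem hgC i) (hgo.of_dvd_nat (orderOf_pow_dvd i)) hw hodd', ← e']
    have htc : Commute c (σ ^ (2 * h)) := Subgroup.mem_centralizer_singleton_iff.1 hcC
    rw [show σ ^ (2 * h) * (c * g * c⁻¹) = c * ((σ ^ (2 * h)) * g) * c⁻¹ by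
      rw [← mul_assoc c, htc.eq]; group]
    exact isClassFunction_of_isIrr χ.2 _ c
  -- rationality
  have h2G : 2 ∣ Nat.card G := D.t_order ▸ orderOf_dvd_natCard _
  have hpG : p ∣ Nat.card G := (dvd_mul_right p q).trans (hq ▸ orderOf_dvd_natCard g)
  obtain ⟨r, hr⟩ := rat_of_pow_invariant (isCharacter_of_isIrr χ.2) ((σ ^ (2 * h)) * g) fun k hk => by
    rw [hcomm.mul_pow, show (σ ^ (2 * h)) ^ k = (σ ^ (2 * h)) by
      have hk2 : Odd k := Nat.coprime_two_right.1 (hk.coprime_dvd_right h2G)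
      obtain ⟨m, rfl⟩ := hk2
      rw [pow_succ, pow_mul, sq, D.t_sq, one_pow, one_mul]]
    exact hpow_g k fun hd => hpp.ne_one (Nat.eq_one_of_dvd_coprimes hk hd hpG)
  have hint : IsIntegral ℤ ((χ : G → ℂ) ((σ ^ (2 * h)) * g)) := gen_isIntegral (isGen_of_isIrr χ.2) _
  rw [hr] at hint
  obtain ⟨z, hz⟩ := IsIntegrallyClosed.isIntegral_iff.1
    ((isIntegral_algHom_iff (IsScalarTower.toAlgHom ℤ ℚ ℂ) (algebraMap ℚ ℂ).injective).1
      (show IsIntegral ℤ ((IsScalarTower.toAlgHom ℤ ℚ ℂ) r) by simpa using hint))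
  have hc : c0 = (z : ℂ) := by rw [hc0, hr, ← hz]; simp
  refine ⟨z, hc, ?_⟩
  obtain ⟨m, hm⟩ := sum_coset_dvd χ (t := σ ^ (2 * h)) D.t_order hgo hcomm
  refine ⟨m - z, ?_⟩
  apply Int.cast_injective (α := ℂ)
  push_cast
  have hfil : ((Finset.range n).filter (p ∣ ·)) = (Finset.range q).image (p * ·) := by
    ext i
    simp only [Finset.mem_filter, Finset.mem_range, Finset.mem_image]
    constructor
    · rintro ⟨hi, m', rfl⟩
      exact ⟨m', Nat.lt_of_mul_lt_mul_left (hq ▸ hi), rfl⟩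
    · rintro ⟨m', hm', rfl⟩
      exact ⟨hq ▸ Nat.mul_lt_mul_of_pos_left hm' hpp.pos, dvd_mul_right _ _⟩
  rw [← hn] at hm
  rw [Finset.sum_congr rfl (g := fun i => c0 + if p ∣ i then (χ : G → ℂ) (σ ^ (2 * h)) - c0 else 0)
    (fun i _ => by
      by_cases hi : p ∣ i
      · rw [if_pos hi, hpow_t i hi]; ring
      · rw [if_neg hi, hpow_g i hi, add_zero]),
    Finset.sum_add_distrib, Finset.sum_const, ← Finset.sum_filter, Finset.sum_const, hfil,
    Finset.card_image_of_injective _ (fun a b e => Nat.eq_of_mul_eq_mul_left hpp.pos e),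
    Finset.card_range, Finset.card_range, nsmul_eq_mul, nsmul_eq_mul, hq, hc, hu] at hm
  push_cast at hm
  apply mul_left_cancel₀ (show (q : ℂ) ≠ 0 from Nat.cast_ne_zero.2 fun e => by
    rw [e, mul_zero] at hq; exact (orderOf_pos g).ne' hq)
  linear_combination hm

end CfsgLib.SuzukiWong
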