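import Cfsg.Agent.SuzukiWong.SDConstituents

/-!
# Suzuki–Wong: values at the powers of `σ` and congruences from the Sylow 2-subgroup
-/

set_option autoImplicit false
set_option linter.unusedSectionVars false
set_option linter.style.haveILetI false

namespace CfsgLib.SuzukiWong

open Cfsg CfsgLib.Characters CfsgLib.Blocks CfsgLib.PrincipalBlock
open scoped ComplexConjugate MatrixGroups

universe u

variable {G : Type u} [Group G] [Fintype G]

variable {P : Sylow 2 G} {σ y : G} {h p : ℕ} [Fact p.Prime]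
  {π : Subgroup.centralizer ({σ ^ (2 * h)} : Set G) →* PGL(2, ZMod p)} (D : SDData P σ y h p π)

section Plain
include D

/-- A character vanishing at `σ ^ h` is even at `t`. -/
theorem SDData.even_at_t {χ : IrrCharacter G} (hχ : (χ : G → ℂ) (σ ^ h) = 0) :
    Even (intVal χ (σ ^ (2 * h))) := by
  classical
  have h2 := D.two_le
  set s := σ ^ h with hs
  set K := Subgroup.zpowers s with hK
  haveI := Fintype.ofFinite K
  let F : Fin 4 → K := fun i => ⟨s ^ (i : ℕ), pow_mem (Subgroup.mem_zpowers s) _⟩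
  have hFb : Function.Bijective F := by
    refine (Fintype.bijective_iff_injective_and_card F).2 ⟨fun a b e => Fin.ext ?_, ?_⟩
    · have e' : s ^ (a : ℕ) = s ^ (b : ℕ) := congrArg Subtype.val e
      rw [pow_eq_pow_iff_modEq, hs, D.sh_order, Nat.ModEq, Nat.mod_eq_of_lt a.2,
        Nat.mod_eq_of_lt b.2] at e'
      exact e'
    · rw [Fintype.card_fin, ← Nat.card_eq_fintype_card, Nat.card_zpowers, hs, D.sh_order]
  have hgen : ∀ k : K, k ∈ Subgroup.zpowers (⟨s, Subgroup.mem_zpowers s⟩ : K) := fun k => by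
    obtain ⟨i, hi⟩ := Subgroup.mem_zpowers_iff.1 k.2
    exact Subgroup.mem_zpowers_iff.2 ⟨i, Subtype.ext (by rw [← hi]; rfl)⟩
  let I' : ℂˣ := Units.mk0 Complex.I Complex.I_ne_zero
  have hI : orderOf I' ∣ orderOf (⟨s, Subgroup.mem_zpowers s⟩ : K) := by
    rw [Subgroup.orderOf_mk, hs, D.sh_order]
    exact orderOf_dvd_of_pow_eq_one (Units.ext (by
      rw [Units.val_pow_eq_pow_val, Units.val_one]; exact Complex.I_pow_four))
  set ψ : K →* ℂˣ := monoidHomOfForallMemZpowers hgen hI with hψ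
  have hψF : ∀ i : Fin 4, (ψ (F i) : ℂ) = Complex.I ^ (i : ℕ) := fun i => by
    rw [show F i = ⟨s, Subgroup.mem_zpowers s⟩ ^ (i : ℕ) from rfl, map_pow, hψ,
      monoidHomOfForallMemZpowers_apply_gen, Units.val_pow_eq_pow_val]
    rfl
  obtain ⟨a, ha⟩ := classInner_gen (isGen_restrict K (isGen_of_isIrr χ.2)) (isGen_one (G := K))
  obtain ⟨b, hb⟩ := classInner_gen (isGen_restrict K (isGen_of_isIrr χ.2))
    (isGen_of_isIrr (isIrr_linChar ψ))
  simp only [classInner, map_one, mul_one] at ha hb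
  rw [← Fintype.sum_bijective F hFb _ _ (fun _ => rfl), Nat.card_zpowers, hs, D.sh_order,
    Fin.sum_univ_four] at ha hb
  have h3 : (χ : G → ℂ) (s ^ 3) = 0 := by
    have e : s ^ 3 = s⁻¹ := eq_inv_of_mul_eq_one_left (by
      rw [← pow_succ]; exact orderOf_dvd_iff_pow_eq_one.1 (by rw [hs, D.sh_order]))
    rw [e, Characters.character_inv (isCharacter_of_isIrr χ.2), hs, hχ, map_zero]
  have h0 : ((F 0 : K) : G) = 1 := by simp [F]
  have h1 : ((F 1 : K) : G) = s := by simp [F]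
  have h2' : ((F 2 : K) : G) = σ ^ (2 * h) := by simp [F, hs, ← pow_mul, mul_comm]
  have h3' : ((F 3 : K) : G) = s ^ 3 := by simp [F]
  simp only [hψF, h0, h1, h2', h3', hχ, h3, Fin.val_zero, Fin.val_one, Fin.val_two, pow_zero,
    pow_one, Complex.I_sq, map_neg, map_one, apply_one_eq, apply_invol_eq _ D.t_sq,  
    zero_mul, add_zero, mul_one, mul_neg] at ha hb
  refine ⟨a - b, ?_⟩
  apply Int.cast_injective (α := ℂ)
  push_cast at ha hb ⊢
  linear_combination 2 * (ha - hb)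

/-- The congruence of the restriction to the Sylow 2-subgroup. -/
theorem SDData.sum_P {χ : IrrCharacter G} {e : ℤ}
    (he : ∀ i : ℕ, ¬ 2 * h ∣ i → (χ : G → ℂ) (σ ^ i) = e) :
    (8 * h : ℤ) ∣ degZ χ + intVal χ (σ ^ (2 * h)) * (2 * h + 1) + e * (6 * h - 2) := by
  classical
  have h2 := D.two_le
  haveI := Fintype.ofFinite (P : Subgroup G)
  have hyy : y * y = 1 := D.y_sq
  let F : Fin 2 × Fin (4 * h) → (P : Subgroup G) := fun a =>
    ⟨y ^ (a.1 : ℕ) * σ ^ (a.2 : ℕ), mul_mem (pow_mem D.memy _) (pow_mem D.memσ _)⟩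
  have hFb : Function.Bijective F := by
    refine (Fintype.bijective_iff_surjective_and_card F).2 ⟨fun x => ?_, ?_⟩
    · obtain ⟨i, e | e⟩ := D.elems x x.2
      · refine ⟨(0, ⟨i % (4 * h), Nat.mod_lt _ (by omega)⟩), Subtype.ext ?_⟩
        show y ^ ((0 : Fin 2) : ℕ) * σ ^ (i % (4 * h)) = x
        rw [← D.ordσ, pow_mod_orderOf, e]; simp
      · refine ⟨(1, ⟨i % (4 * h), Nat.mod_lt _ (by omega)⟩), Subtype.ext ?_⟩
        show y ^ ((1 : Fin 2) : ℕ) * σ ^ (i % (4 * h)) = x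
        rw [← D.ordσ, pow_mod_orderOf, e]; simp
    · rw [← Nat.card_eq_fintype_card, ← Nat.card_eq_fintype_card, Nat.card_prod, Nat.card_fin,
        Nat.card_fin, D.card_P]
      ring
  obtain ⟨m, hm⟩ := classInner_gen (isGen_restrict (P : Subgroup G) (isGen_of_isIrr χ.2))
    (isGen_one (G := (P : Subgroup G)))
  simp only [classInner, map_one, mul_one] at hm
  rw [← Fintype.sum_bijective F hFb _ _ (fun _ => rfl), D.card_P, Fintype.sum_prod_type,
    Fin.sum_univ_two] at hm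
  have hu := apply_invol_eq χ D.t_sq
  set u := intVal χ (σ ^ (2 * h)) with hudef
  have hconj : ∀ {a b : G}, IsConj a b → (χ : G → ℂ) b = (χ : G → ℂ) a := by
    intro a b hab
    obtain ⟨c, rfl⟩ := isConj_iff.1 hab
    exact isClassFunction_of_isIrr χ.2 a c
  have he0 : ∀ i : ℕ, (χ : G → ℂ) (σ ^ i) = (e : ℂ) +
      ((if 4 * h ∣ i then (degZ χ : ℂ) - e else 0) +
        (if i % (4 * h) = 2 * h then (u : ℂ) - e else 0)) := by
    intro i
    by_cases hi : 2 * h ∣ i
    · obtain ⟨c, rfl⟩ := hi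
      rcases Nat.even_or_odd' c with ⟨c', rfl | rfl⟩
      · have hd : 4 * h ∣ 2 * h * (2 * c') := ⟨c', by ring⟩
        rw [D.pow_eq_one.2 hd, if_pos hd, if_neg (show ¬ 2 * h * (2 * c') % (4 * h) = 2 * h by rw [Nat.mod_eq_zero_of_dvd hd]; omega),
          apply_one_eq]
        ring
      · have e' : 2 * h * (2 * c' + 1) = 2 * h + 4 * h * c' := by ring
        have hm' : 2 * h * (2 * c' + 1) % (4 * h) = 2 * h := by
          rw [e', Nat.add_mul_mod_self_left, Nat.mod_eq_of_lt (by omega)]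
        rw [show σ ^ (2 * h * (2 * c' + 1)) = σ ^ (2 * h) by
          rw [e', pow_add, D.pow_eq_one.2 (dvd_mul_right _ _), mul_one], hu, if_pos hm',
          if_neg (fun hd => by rw [Nat.mod_eq_zero_of_dvd hd] at hm'; omega)]
        ring
    · rw [he i hi, if_neg (fun hd => hi (dvd_trans (Dvd.intro 2 (by ring)) hd)),
        if_neg (fun hd => hi (by
          rw [← Nat.dvd_mod_iff (⟨2, by ring⟩ : 2 * h ∣ 4 * h), hd]))]
      ring
  have hy : ∀ i : ℕ, (χ : G → ℂ) (y * σ ^ i) = if Even i then (u : ℂ) else (e : ℂ) := by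
    intro i
    have hsq : y * σ ^ i * (y * σ ^ i) = σ ^ ((2 * h - 1) * i + i) := by
      rw [pow_add, ← D.conj_pow, D.y_inv]; group
    rw [show (2 * h - 1) * i + i = 2 * h * i by
      rw [← add_one_mul, show 2 * h - 1 + 1 = 2 * h by omega]] at hsq
    split_ifs with hi
    · obtain ⟨c, rfl⟩ := hi
      rw [show 2 * h * (c + c) = 4 * h * c by ring, D.pow_eq_one.2 (dvd_mul_right _ _)] at hsq
      rw [hconj (D.invol _ (orderOf_eq_prime (by rw [sq]; exact hsq) fun e' => D.y_not_C0 (by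
        rw [show y = (σ ^ (c + c))⁻¹ from eq_inv_of_mul_eq_one_left e']
        exact inv_mem (pow_mem D.sigma_mem_C0 _)))), hu]
    · obtain ⟨c, rfl⟩ := Nat.not_even_iff_odd.1 hi
      rw [show 2 * h * (2 * c + 1) = 2 * h + 4 * h * c by ring, pow_add σ (2 * h) (4 * h * c),
        D.pow_eq_one.2 (dvd_mul_right _ _), mul_one] at hsq
      haveI : Fact (Nat.Prime 2) := ⟨Nat.prime_two⟩
      rw [hconj (D.four _ (orderOf_eq_prime_pow (p := 2) (n := 1) (by
        rw [pow_one, sq, hsq]; exact D.t_ne) (by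
        rw [show 2 ^ (1 + 1) = 2 * 2 from rfl, pow_mul, sq (y * σ ^ (2 * c + 1)), hsq, sq,
          D.t_sq]))), he h (fun hd => by have := Nat.le_of_dvd (by omega) hd; omega)]
  have hF0 : ∀ i : Fin (4 * h), ((F (0, i) : (P : Subgroup G)) : G) = σ ^ (i : ℕ) := fun i => by
    simp [F]
  have hF1 : ∀ i : Fin (4 * h), ((F (1, i) : (P : Subgroup G)) : G) = y * σ ^ (i : ℕ) := fun i => by
    simp [F]
  simp only [hF0, hF1] at hm
  rw [Fin.sum_univ_eq_sum_range (fun i => (χ : G → ℂ) (σ ^ i)),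
    Fin.sum_univ_eq_sum_range (fun i => (χ : G → ℂ) (y * σ ^ i))] at hm
  have hs0 : ∑ i ∈ Finset.range (4 * h), (χ : G → ℂ) (σ ^ i) =
      (4 * h : ℂ) * e + (((degZ χ : ℂ) - e) + ((u : ℂ) - e)) := by
    simp only [he0, Finset.sum_add_distrib, Finset.sum_const, Finset.card_range, nsmul_eq_mul]
    rw [Finset.sum_eq_single 0 (fun i hi hne => if_neg fun hd => hne
      (Nat.eq_zero_of_dvd_of_lt hd (Finset.mem_range.1 hi))) (fun hh => absurd (Finset.mem_range.2
        (by omega)) hh), Finset.sum_eq_single (2 * h) (fun i hi hne => if_neg fun hd => hne (by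
        rw [← hd, Nat.mod_eq_of_lt (Finset.mem_range.1 hi)])) (fun hh => absurd (Finset.mem_range.2
        (by omega)) hh), if_pos (dvd_zero _), if_pos (Nat.mod_eq_of_lt (by omega))]
    push_cast
    ring
  have hs1 : ∑ i ∈ Finset.range (4 * h), (χ : G → ℂ) (y * σ ^ i) = (2 * h : ℂ) * ((u : ℂ) + e) := by
    simp only [hy]
    rw [show 4 * h = 2 * (2 * h) by ring, sum_range_pairs,
      Finset.sum_congr rfl fun m _ => by
        rw [if_pos (even_two_mul m), if_neg (Nat.not_even_iff_odd.2 (odd_two_mul_add_one m))],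
      Finset.sum_const, Finset.card_range, nsmul_eq_mul]
    push_cast; ring
  rw [hs0, hs1] at hm
  refine ⟨m, ?_⟩
  apply Int.cast_injective (α := ℂ)
  have hh : (h : ℂ) ≠ 0 := Nat.cast_ne_zero.2 (by omega)
  push_cast at hm ⊢
  field_simp at hm
  linear_combination hm

end Plain

variable (hodd : ∀ q : ℕ, q.Prime → q ≠ 2 → ∀ R : Sylow q G, IsCyclic R) [IsSimpleGroup G]
  (hna : ¬ IsMulCommutative G) {lam : C0 σ h →* ℂˣ} (hl : IsLam D lam)
include D hodd hna hl

theorem SDData.cof_odd_zero {χ : IrrCharacter G}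
    (hχ : ∀ i, 1 ≤ i → i < h → cof (indLam lam (4 * i + 1) 1) χ = 0) {k : ℕ} (hk : k < 4 * h)
    (hko : Odd k) : cof (indLam lam k (k % 2)) χ = 0 := by
  have one : ∀ k, k % 4 = 1 → k < 4 * h → cof (indLam lam k 1) χ = 0 := by
    intro k k1 k2
    obtain ⟨i, rfl⟩ : ∃ i, k = 4 * i + 1 := ⟨k / 4, by omega⟩
    rcases Nat.eq_zero_or_pos i with rfl | hi
    · exact cof_indLam_self lam 1 χ
    · exact hχ i hi (by omega)
  rw [Nat.odd_iff.1 hko]
  rcases (show k % 4 = 1 ∨ k % 4 = 3 by have := Nat.odd_iff.1 hko; omega) with e | e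
  · exact one k e hk
  · obtain ⟨k', e', hlt', hcof⟩ := D.odd_partner hodd hna hl e hk
    rw [hcof]; exact one k' e' hlt'

theorem SDData.cof_even_eq {χ : IrrCharacter G} (hne : χ ≠ trivChar G) {c : ℤ}
    (hχ : ∀ i, 1 ≤ i → i ≤ h → redCof lam i χ = c) {k : ℕ} (hk : k < 4 * h) (hke : Even k) :
    cof (indLam lam k (k % 2)) χ = if k = 0 then 0 else -c := by
  rw [Nat.even_iff.1 hke]
  rcases Nat.eq_zero_or_pos k with rfl | hk0
  · rw [if_pos rfl]; exact cof_indLam_self lam 0 χ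
  rw [if_neg hk0.ne', cof_neg]
  obtain ⟨m, rfl⟩ := hke
  have base : ∀ i, 1 ≤ i → i ≤ h → cof (indLam lam 0 (2 * i)) χ = c := fun i i1 i2 => by
    rw [← redCof_of_ne lam i hne]; exact hχ i i1 i2
  by_cases hm : m ≤ h
  · rw [← two_mul, base m (by omega) hm]
  · have e := D.even_partner hodd hna hl (k := 4 * h - (m + m)) (by
      exact (Nat.even_sub (by omega)).2 (iff_of_true ⟨2 * h, by ring⟩ ⟨m, rfl⟩)) (by omega)
      (by omega) χ
    rw [show 4 * h - (4 * h - (m + m)) = m + m by omega,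
      show 4 * h - (m + m) = 2 * (2 * h - m) by omega, base _ (by omega) (by omega)] at e
    rw [e]

/-- Constant values at the powers of `σ`. -/
theorem SDData.const_of_cof {M : Ideal AlgInt} [M.IsPrime] (hM : Cfsg.IsPModular 2 M)
    {χ : IrrCharacter G} (hB : χ ∈ Cfsg.principalBlock M G) (hne : χ ≠ trivChar G) {c : ℤ}
    (hE : ∀ i, 1 ≤ i → i ≤ h → redCof lam i χ = c)
    (hD : ∀ i, 1 ≤ i → i < h → cof (indLam lam (4 * i + 1) 1) χ = 0) {i : ℕ} (hi : ¬ 2 * h ∣ i) :
    (χ : G → ℂ) (σ ^ i) = c := by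
  classical
  have h2 := D.two_le
  set z := (lam ⟨σ, D.sigma_mem_C0⟩ : ℂ) with hzdef
  have hz : IsPrimitiveRoot z (4 * h) := hl.prim
  have e := D.value_eq hodd hna hM hl hB hi
  rw [← hzdef, show 4 * h = 2 * (2 * h) by ring, sum_range_pairs] at e
  rw [Finset.sum_congr rfl (g := fun m => (if m = 0 then (c : ℂ) else 0) -
      (c : ℂ) * (((z ^ i) ^ 2)⁻¹) ^ m) fun m hm => by
    have hm' := Finset.mem_range.1 hm
    rw [D.cof_even_eq hodd hna hl hne hE (by omega) (even_two_mul m),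
      D.cof_odd_zero hodd hna hl hD (by omega) (odd_two_mul_add_one m), Int.cast_zero, zero_mul,
      add_zero, inv_pow, ← pow_mul (z ^ i) 2 m]
    by_cases h0 : m = 0
    · subst h0; simp
    · rw [if_neg (by omega : ¬ 2 * m = 0), if_neg h0]; push_cast; ring,
    Finset.sum_sub_distrib, Finset.sum_ite_eq', if_pos (Finset.mem_range.2 (by omega)),
    ← Finset.mul_sum] at e
  have hw : (((z ^ i) ^ 2)⁻¹) ^ (2 * h) = 1 := by
    rw [inv_pow, ← pow_mul, ← pow_mul, show i * (2 * (2 * h)) = 4 * h * i by ring, pow_mul,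
      hz.pow_eq_one, one_pow, inv_one]
  have hw1 : ((z ^ i) ^ 2)⁻¹ ≠ 1 := fun e => hi (by
    rw [inv_eq_one, ← pow_mul, hz.pow_eq_one_iff_dvd, show 4 * h = 2 * h * 2 by ring] at e
    exact Nat.dvd_of_mul_dvd_mul_right two_pos e)
  rw [sum_pow_unity hw, if_neg hw1, mul_zero, sub_zero] at e
  have := congrArg conj e
  rwa [Complex.conj_conj, map_intCast] at this

/-- Characters orthogonal to the even family vanish at `σ ^ h`. -/
theorem SDData.sh_zero {M : Ideal AlgInt} [M.IsPrime] (hM : Cfsg.IsPModular 2 M)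
    {χ : IrrCharacter G} (hB : χ ∈ Cfsg.principalBlock M G) (hne : χ ≠ trivChar G)
    (hE : ∀ i, 1 ≤ i → i ≤ h → redCof lam i χ = 0) : (χ : G → ℂ) (σ ^ h) = 0 := by
  classical
  have h2 := D.two_le
  set z := (lam ⟨σ, D.sigma_mem_C0⟩ : ℂ) with hzdef
  have hz : IsPrimitiveRoot z (4 * h) := hl.prim
  have hhh : ¬ 2 * h ∣ h := fun hd => by have := Nat.le_of_dvd (by omega) hd; omega
  have e := D.value_eq hodd hna hM hl hB hhh
  set w := z ^ h with hw
  have hw2 : w ^ 2 = -1 := by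
    have h1 : (w ^ 2) * (w ^ 2) = 1 := by
      rw [hw, ← pow_add, ← pow_mul, show h * (2 + 2) = 4 * h by ring, hz.pow_eq_one]
    refine (mul_self_eq_one_iff.1 h1).resolve_left fun e' => ?_
    rw [hw, ← pow_mul] at e'
    exact hz.pow_ne_one_of_pos_of_lt (by omega) (by omega) e'
  rw [show 4 * h = 2 * (2 * h) by ring, sum_range_pairs,
    Finset.sum_congr rfl (g := fun m =>
      ((cof (indLam lam (2 * m + 1) ((2 * m + 1) % 2)) χ * (-1) ^ m : ℤ) : ℂ) * w⁻¹) fun m hm => by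
    have hm' := Finset.mem_range.1 hm
    rw [D.cof_even_eq hodd hna hl hne hE (by omega) (even_two_mul m), neg_zero, ite_self,
      Int.cast_zero, zero_mul, zero_add, pow_succ, pow_mul, hw2, mul_inv, ← inv_pow,
      show ((-1 : ℂ))⁻¹ = -1 by norm_num]
    push_cast; ring, ← Finset.sum_mul, ← Int.cast_sum] at e
  generalize (∑ m ∈ Finset.range (2 * h),
    cof (indLam lam (2 * m + 1) ((2 * m + 1) % 2)) χ * (-1) ^ m) = S at e
  have hreal : conj ((χ : G → ℂ) (σ ^ h)) = (χ : G → ℂ) (σ ^ h) := by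
    rw [← Characters.character_inv (isCharacter_of_isIrr χ.2)]
    obtain ⟨h', hh'⟩ := D.h_even
    rw [show (σ ^ h)⁻¹ = y * σ ^ h * y⁻¹ by rw [show h = 2 * h' by omega, D.conj_even]]
    exact isClassFunction_of_isIrr χ.2 _ y
  have hcw : conj w = w⁻¹ := by
    have hwn : ‖w‖ = 1 := by
      rw [hw, norm_pow, Complex.norm_eq_one_of_pow_eq_one hz.pow_eq_one (by omega), one_pow]
    exact (Complex.inv_eq_conj hwn).symm
  have hwinv : w⁻¹ = -w := inv_eq_of_mul_eq_one_right (by rw [mul_neg, ← sq, hw2, neg_neg])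
  have e2 := congrArg conj e
  rw [Complex.conj_conj, map_mul, map_intCast, map_inv₀, hcw, inv_inv] at e2
  rw [hreal, e2, hwinv] at e
  have hw0 : w ≠ 0 := fun e' => by rw [e'] at hw2; norm_num at hw2
  have hS : (S : ℂ) * w = 0 := by linear_combination e / 2
  rw [e2, hS]

end CfsgLib.SuzukiWong
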