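import Cfsg.Agent.BlocksLocal.CentralQuotient
import Cfsg.Agent.BlocksLocal.PrincipalColumn
import Cfsg.Agent.BlocksLocal.PrincipalSection

/-!
# Suzuki–Wong: the principal block on the section of an involution

Products of principal block values on the section of an involution `t` are twice the corresponding
products in the principal block of `C(t)/⟨t⟩`.
-/

set_option autoImplicit false
set_option linter.unusedSectionVars false
set_option linter.style.haveILetI false

namespace CfsgLib.SuzukiWong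

open Cfsg CfsgLib.Blocks CfsgLib.BlockPairing CfsgLib.PrincipalBlock
open CfsgLib.BlocksLocal.CentralQuotient
open CfsgLib.Codegree (KerContains)
open scoped ComplexConjugate

universe u

variable {H : Type u} [Group H] [Fintype H] {M : Ideal AlgInt} [M.IsPrime]

/-- A central involution acts on an irreducible character as a sign. -/
theorem central_invol_sign {z : H} (hz : z ∈ Subgroup.center H) (hz2 : z * z = 1)
    (χ : IrrCharacter H) :
    ∃ c : ℂ, (c = 1 ∨ c = -1) ∧ ∀ g, (χ : H → ℂ) (z * g) = c * (χ : H → ℂ) g := by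
  obtain ⟨d, ρ, hρ, hρc⟩ := χ.2
  haveI := hρ
  obtain ⟨c, hc⟩ := Characters.central_scalar ρ hz
  have hd : 0 < d := by
    rcases Nat.eq_zero_or_pos d with rfl | h
    · exfalso
      refine Characters.irr_one_ne_zero χ.2 ?_
      rw [← hρc]
      simp [Representation.character]
    · exact h
  have hsq : c * c = 1 := by
    have h1 : ρ (z * z) = ρ 1 := by rw [hz2]
    rw [map_mul, map_one, hc] at h1
    have h2 := congrArg (fun f : Module.End ℂ (Fin d → ℂ) => f (fun _ => 1) ⟨0, hd⟩) h1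
    simpa using h2
  refine ⟨c, mul_self_eq_one_iff.1 hsq, fun g => ?_⟩
  rw [← hρc]
  simp [Representation.character, map_mul, hc, ← Module.End.one_eq_id]

theorem regInner_infl (Q : Subgroup H) [Q.Normal] (hQc : Q ≤ Subgroup.center H)
    (hQ : Nat.card Q = 2) [Fintype (H ⧸ Q)] (ψ : IrrCharacter (H ⧸ Q)) :
    regInner 2 (infl Q ψ : H → ℂ) ((trivChar H : IrrCharacter H) : H → ℂ) = (2 : ℂ)⁻¹ *
      regInner 2 (ψ : H ⧸ Q → ℂ) ((trivChar (H ⧸ Q) : IrrCharacter (H ⧸ Q)) : H ⧸ Q → ℂ) := by
  classical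
  haveI : Fact (Nat.Prime 2) := ⟨Nat.prime_two⟩
  have hQp : IsPGroup 2 Q := IsPGroup.of_card (n := 1) (by rw [hQ, pow_one])
  simp only [regInner, trivChar_apply, map_one, mul_one]
  rw [Subgroup.card_eq_card_quotient_mul_card_subgroup Q, hQ, Nat.cast_mul, mul_inv,
    mul_comm ((Nat.card (H ⧸ Q) : ℂ))⁻¹, mul_assoc, Nat.cast_ofNat]
  congr 2
  rw [Finset.sum_ite, Finset.sum_ite]
  simp only [Finset.sum_const_zero, zero_add]
  refine Finset.sum_bij (fun g _ => (g : H ⧸ Q)) (fun g hg => ?_) (fun a ha b hb h => ?_)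
    (fun z hz => ?_) fun g _ => rfl
  · exact Finset.mem_filter.2 ⟨Finset.mem_univ _, fun hd =>
      (Finset.mem_filter.1 hg).2 (hd.trans (orderOf_map_dvd (QuotientGroup.mk' Q) g))⟩
  · exact BlocksCharsC.SmallCent.regular_eq_of_mk_eq Q hQp hQc (Finset.mem_filter.1 ha).2
      (Finset.mem_filter.1 hb).2 h
  · obtain ⟨g, hg, e⟩ := BlocksCharsC.SmallCent.exists_regular_lift Q (p := 2)
      (Finset.mem_filter.1 hz).2
    exact ⟨g, Finset.mem_filter.2 ⟨Finset.mem_univ _, hg⟩, e⟩

open Classical in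
/-- The principal block of a group with a central involution, on 2-regular elements. -/
theorem sum_block_central (hM : Cfsg.IsPModular 2 M) (Q : Subgroup H) [Q.Normal]
    (hQc : Q ≤ Subgroup.center H) (hQ : Nat.card Q = 2) [Fintype (H ⧸ Q)] {r r' : H}
    (hr : ¬ 2 ∣ orderOf r) (hr' : ¬ 2 ∣ orderOf r') :
    ∑ χ : IrrCharacter H, (if χ ∈ Cfsg.principalBlock M H then
        (χ : H → ℂ) r * conj ((χ : H → ℂ) r') else 0) =
      2 * ∑ ψ : IrrCharacter (H ⧸ Q), (if ψ ∈ Cfsg.principalBlock M (H ⧸ Q) then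
        (ψ : H ⧸ Q → ℂ) (r : H ⧸ Q) * conj ((ψ : H ⧸ Q → ℂ) (r' : H ⧸ Q)) else 0) := by
  haveI : Fact (Nat.Prime 2) := ⟨Nat.prime_two⟩
  obtain ⟨⟨z, hzQ⟩, hz1⟩ := exists_prime_orderOf_dvd_card' (G := Q) 2 (by rw [hQ])
  rw [Subgroup.orderOf_mk] at hz1
  have hzc : z ∈ Subgroup.center H := hQc hzQ
  have hz2 : z * z = 1 := by rw [← sq, ← hz1, pow_orderOf_eq_one]
  have hQel : ∀ q ∈ Q, q = 1 ∨ q = z := by
    intro q hq
    by_contra hne
    push Not at hne
    have h1z : (1 : H) ≠ z := fun e => by rw [← e, orderOf_one] at hz1; omega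
    have h3 : ({⟨1, Q.one_mem⟩, ⟨z, hzQ⟩, ⟨q, hq⟩} : Finset Q).card = 3 :=
      Finset.card_eq_three.2 ⟨_, _, _, fun e => h1z (congrArg Subtype.val e),
        fun e => hne.1 (congrArg Subtype.val e).symm,
        fun e => hne.2 (congrArg Subtype.val e).symm, rfl⟩
    haveI := Fintype.ofFinite Q
    have := Finset.card_le_univ ({⟨1, Q.one_mem⟩, ⟨z, hzQ⟩, ⟨q, hq⟩} : Finset Q)
    rw [h3, ← Nat.card_eq_fintype_card, hQ] at this
    omega
  have h0 := Blocks.sum_union_mul_conj_eq_zero hM
    (isBlockUnion_of_isPBlock (isPBlock_principalBlock (G := H) (M := M))) hr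
    (y := z * r') (by
      rw [(show Commute z r' from (Subgroup.mem_center_iff.1 hzc r').symm).orderOf_mul_eq_mul_orderOf_of_coprime
        (by rw [hz1]; exact Nat.prime_two.coprime_iff_not_dvd.2 hr'), hz1]
      exact dvd_mul_right _ _)
  have hker : ∀ χ : IrrCharacter H,
      (if χ ∈ Cfsg.principalBlock M H then (χ : H → ℂ) r * conj ((χ : H → ℂ) r') else 0) +
      (if χ ∈ Cfsg.principalBlock M H then (χ : H → ℂ) r * conj ((χ : H → ℂ) (z * r')) else 0) =
      2 * (if χ ∈ Cfsg.principalBlock M H ∧ KerContains χ Q then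
        (χ : H → ℂ) r * conj ((χ : H → ℂ) r') else 0) := by
    intro χ
    obtain ⟨c, hc, hcχ⟩ := central_invol_sign hzc hz2 χ
    by_cases hB : χ ∈ Cfsg.principalBlock M H
    · have hiff : KerContains χ Q ↔ c = 1 := by
        constructor
        · intro h
          have e := h z hzQ
          have e' := hcχ 1
          rw [mul_one] at e'
          rw [e'] at e
          exact (mul_eq_right₀ (Characters.irr_one_ne_zero χ.2)).1 e
        · rintro rfl q hq
          rcases hQel q hq with rfl | rfl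
          · rfl
          · simpa using hcχ 1
      simp only [hB, true_and, if_true, hcχ, map_mul]
      rcases hc with rfl | rfl
      · rw [if_pos (hiff.2 rfl), map_one]; ring
      · rw [if_neg fun h => by have := hiff.1 h; norm_num at this]
        simp
    · simp [hB]
  have hsum : ∑ χ : IrrCharacter H, (if χ ∈ Cfsg.principalBlock M H then
        (χ : H → ℂ) r * conj ((χ : H → ℂ) r') else 0) =
      2 * ∑ χ : IrrCharacter H, (if χ ∈ Cfsg.principalBlock M H ∧ KerContains χ Q then
        (χ : H → ℂ) r * conj ((χ : H → ℂ) r') else 0) := by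
    rw [Finset.mul_sum, ← Finset.sum_congr rfl fun χ _ => hker χ, Finset.sum_add_distrib, h0,
      add_zero]
  rw [hsum]
  congr 1
  rw [← Finset.sum_filter, ← Finset.sum_filter]
  refine (Finset.sum_bij (fun ψ _ => infl Q ψ) (fun ψ hψ => ?_)
    (fun a _ b _ h => infl_injective Q h) (fun χ hχ => ?_) fun ψ _ => rfl).symm
  · refine Finset.mem_filter.2 ⟨Finset.mem_univ _, ?_, fun q hq => ?_⟩
    · rw [PrincipalColumn.mem_principalBlock_iff_regInner hM, regInner_infl Q hQc hQ]
      exact mul_ne_zero (by norm_num)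
        ((PrincipalColumn.mem_principalBlock_iff_regInner hM ψ).1 (Finset.mem_filter.1 hψ).2)
    · show (ψ : H ⧸ Q → ℂ) _ = (ψ : H ⧸ Q → ℂ) _
      rw [(QuotientGroup.eq_one_iff q).2 hq, QuotientGroup.mk_one]
  · obtain ⟨hB, hk⟩ := (Finset.mem_filter.1 hχ).2
    obtain ⟨ψ, rfl⟩ := exists_infl Q hk
    refine ⟨ψ, Finset.mem_filter.2 ⟨Finset.mem_univ _, ?_⟩, rfl⟩
    rw [PrincipalColumn.mem_principalBlock_iff_regInner hM]
    rw [PrincipalColumn.mem_principalBlock_iff_regInner hM, regInner_infl Q hQc hQ] at hB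
    exact right_ne_zero_of_mul hB

open Classical in
/-- Principal block products on the section of an involution. -/
theorem sum_section_two {G : Type u} [Group G] [Fintype G] (hM : Cfsg.IsPModular 2 M) {t : G}
    (ht : orderOf t = 2) [Fintype (Subgroup.centralizer ({t} : Set G))]
    (Q : Subgroup (Subgroup.centralizer ({t} : Set G))) [Q.Normal]
    [Fintype (Subgroup.centralizer ({t} : Set G) ⧸ Q)]
    (hQc : Q ≤ Subgroup.center (Subgroup.centralizer ({t} : Set G))) (hQ : Nat.card Q = 2)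
    {r r' : Subgroup.centralizer ({t} : Set G)} (hr : ¬ 2 ∣ orderOf r) (hr' : ¬ 2 ∣ orderOf r') :
    ∑ χ : IrrCharacter G, (if χ ∈ Cfsg.principalBlock M G then
        (χ : G → ℂ) (t * (r : G)) * conj ((χ : G → ℂ) (t * (r' : G))) else 0) =
      2 * ∑ ψ : IrrCharacter (Subgroup.centralizer ({t} : Set G) ⧸ Q),
        (if ψ ∈ Cfsg.principalBlock M (Subgroup.centralizer ({t} : Set G) ⧸ Q) then
          (ψ : _ → ℂ) (r : Subgroup.centralizer ({t} : Set G) ⧸ Q) *
            conj ((ψ : _ → ℂ) (r' : Subgroup.centralizer ({t} : Set G) ⧸ Q)) else 0) := by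
  haveI : Fact (Nat.Prime 2) := ⟨Nat.prime_two⟩
  rw [BlocksLocal.sum_principal_section_mul_conj hM ⟨1, by rw [ht, pow_one]⟩ hr hr']
  exact sum_block_central hM Q hQc hQ hr hr'

end CfsgLib.SuzukiWong
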