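import Cfsg.Agent.SuzukiWong.Cyclic
import Cfsg.Agent.Inv54.DihedralSetup

/-!
# Suzuki–Wong: dihedral Sylow 2-subgroups and cyclic odd Sylow subgroups, local facts
-/

set_option autoImplicit false
set_option linter.unusedSectionVars false
set_option linter.style.haveILetI false

namespace CfsgLib.SuzukiWong

open Subgroup CfsgLib.Inv54.DihedralBlock

universe u

variable {G : Type u} [Group G] [Finite G] {P : Sylow 2 G} {σ τ : G} {h : ℕ}
  (S : Setup P σ τ h)

include S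

theorem h_even : Even h := by
  obtain ⟨k, hk⟩ := S.pow2
  have := S.two_le
  rcases k with _ | k
  · simp at hk; omega
  · rw [hk, pow_succ]; exact even_two.mul_left _

theorem mem_core_of {g : G} (hg : g ∈ centralizer ({σ ^ h} : Set G)) (ho : Odd (orderOf g)) :
    g ∈ S.core := by
  haveI : Fact (Nat.Prime 2) := ⟨Nat.prime_two⟩
  obtain ⟨h1, h2⟩ := S.pr_spec hg
  have hpow : ∀ k : ℕ, S.pr (g ^ k) = S.pr g ^ k := fun k => by
    induction k with
    | zero => rw [pow_zero, pow_zero, S.pr_of_core S.core.one_mem]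
    | succ k ih => rw [pow_succ, S.pr_mul (pow_mem hg k) hg, ih, pow_succ]
  obtain ⟨i, hi⟩ := IsPGroup.iff_orderOf.1 P.isPGroup' ⟨S.pr g, h1⟩
  rw [Subgroup.orderOf_mk] at hi
  have hd : S.pr g ^ orderOf g = 1 := by
    rw [← hpow, pow_orderOf_eq_one, S.pr_of_core S.core.one_mem]
  have hp1 : S.pr g = 1 := orderOf_eq_one_iff.1 (Nat.eq_one_of_dvd_coprimes
    ((Nat.coprime_two_left.2 ho).pow_left i) hi.dvd (orderOf_dvd_of_pow_eq_one hd))
  rwa [hp1, inv_one, mul_one] at h2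

theorem odd_orderOf {g : G} (hg : g ∈ S.core) : Odd (orderOf g) :=
  S.core_odd.of_dvd_nat (S.core.orderOf_dvd_natCard hg)

theorem core_normalized {g : G} (hg : g ∈ centralizer ({σ ^ h} : Set G)) :
    g ∈ normalizer (S.core : Set G) :=
  Subgroup.mem_normalizer_fintype fun _ hx => S.core_conj hg hx

theorem P_le_normalizer : (P : Subgroup G) ≤ normalizer (S.core : Set G) :=
  fun _ hp => core_normalized S (S.P_le_C hp)

/-- Squares in `P` are powers of `σ ^ 2`. -/
theorem sq_cases {p : G} (hp : p ∈ (P : Subgroup G)) : ∃ k : ℕ, p * p = σ ^ (2 * k) := by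
  obtain ⟨i, rfl | rfl⟩ := S.elems p hp
  · exact ⟨i, by rw [← pow_add, two_mul]⟩
  · refine ⟨0, ?_⟩
    calc τ * σ ^ i * (τ * σ ^ i) = τ * σ ^ i * τ⁻¹ * (τ * τ) * σ ^ i := by group
      _ = _ := by rw [S.inverts, Small.mul_self_of_orderOf_two S.ordτ]; simp

theorem eq_J_of_sq {p : G} (hp : p ∈ (P : Subgroup G)) (h1 : p * p ≠ 1)
    (h2 : p * p * (p * p) = 1) : p * p = σ ^ h := by
  obtain ⟨k, hk⟩ := sq_cases S hp
  rw [hk] at h1 h2 ⊢
  exact S.J_unique h2 h1

/-- `J` is the only central involution. -/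
theorem eq_J_of_central {z : G} (hz : z ∈ (P : Subgroup G)) (hzσ : z * σ = σ * z)
    (h1 : z * z = 1) (h2 : z ≠ 1) : z = σ ^ h := by
  obtain ⟨i, rfl | rfl⟩ := S.elems z hz
  · exact S.J_unique h1 h2
  · exfalso
    have e : τ * σ * τ⁻¹ = σ := by
      calc τ * σ * τ⁻¹ = τ * σ ^ i * σ * (τ * σ ^ i)⁻¹ := by group
        _ = σ := by rw [hzσ, mul_inv_cancel_right]
    rw [S.rel] at e
    have h3 : σ ^ 2 = 1 := by rw [sq]; nth_rewrite 1 [← e]; exact inv_mul_cancel σ
    have := Nat.le_of_dvd two_pos (S.pow_eq_one.1 h3)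
    have := S.two_le
    omega

/-- The normaliser of `P` centralizes `σ ^ h`. -/
theorem normalizer_le_C {n : G} (hn : n ∈ normalizer ((P : Subgroup G) : Set G)) :
    n ∈ centralizer ({σ ^ h} : Set G) := by
  have hJP : n * σ ^ h * n⁻¹ ∈ (P : Subgroup G) :=
    (Subgroup.mem_normalizer_iff.1 hn _).1 S.J_mem
  have hσ : n⁻¹ * σ * n ∈ (P : Subgroup G) := (Subgroup.mem_normalizer_iff''.1 hn _).1 S.memσ
  have e : n * σ ^ h * n⁻¹ = σ ^ h := eq_J_of_central S hJP (by
      calc n * σ ^ h * n⁻¹ * σ = n * (σ ^ h * (n⁻¹ * σ * n)) * n⁻¹ := by group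
        _ = n * (n⁻¹ * σ * n * σ ^ h) * n⁻¹ := by rw [S.J_central hσ]
        _ = σ * (n * σ ^ h * n⁻¹) := by group)
    (by rw [conj_mul, S.J_sq, mul_one, mul_inv_cancel])
    (by rw [ne_eq, conj_eq_one_iff]; exact S.J_ne)
  exact Subgroup.mem_centralizer_singleton_iff.2 (mul_inv_eq_iff_eq_mul.1 e)

/-- No element `≠ 1` of the core centralizes `P`. -/
theorem eq_one_of_fixed [IsSimpleGroup G] (hna : ¬ IsMulCommutative G)
    (hodd : ∀ p : ℕ, p.Prime → p ≠ 2 → ∀ R : Sylow p G, IsCyclic R) {x : G} (hx : x ∈ S.core)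
    (hxP : ∀ p ∈ (P : Subgroup G), p * x = x * p) : x = 1 := by
  haveI : Fact (Nat.Prime 2) := ⟨Nat.prime_two⟩
  set W := S.core ⊓ centralizer ((P : Subgroup G) : Set G) with hW
  by_contra hx1
  have hxW : x ∈ W := ⟨hx, Subgroup.mem_centralizer_iff.2 hxP⟩
  have hcard : Nat.card W ≠ 1 := fun e => hx1 (by
    have := (Subgroup.card_eq_one.1 e) ▸ hxW
    exact Subgroup.mem_bot.1 this)
  set r := (Nat.card W).minFac with hr
  haveI hrp : Fact r.Prime := ⟨Nat.minFac_prime hcard⟩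
  have hWodd : Odd (Nat.card W) := S.core_odd.of_dvd_nat (Subgroup.card_dvd_of_le inf_le_left)
  have hr2 : r ≠ 2 := fun e => hWodd.not_two_dvd_nat (e ▸ Nat.minFac_dvd _)
  obtain ⟨y', hy'⟩ := exists_prime_orderOf_dvd_card' (G := W) r (Nat.minFac_dvd _)
  set y : G := (y' : G)
  have hy : orderOf y = r := by rw [Subgroup.orderOf_coe]; exact hy'
  obtain ⟨R, hR⟩ := (IsPGroup.of_card (p := r) (n := 1)
    (show Nat.card (zpowers y) = r ^ 1 by rw [Nat.card_zpowers, hy, pow_one])).exists_le_sylow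
  haveI := hodd r hrp.out hr2 R
  have hyR : y ∈ (R : Subgroup G) := hR (mem_zpowers y)
  have hy1 : y ≠ 1 := fun e => by rw [e, orderOf_one] at hy; exact hrp.out.ne_one hy.symm
  obtain ⟨g, hgN, hgC⟩ := exists_not_centralizing hna R (hy ▸ orderOf_dvd_natCard y)
  apply hgC
  refine centralizes_sylow R hyR hy1 hgN ?_
  obtain ⟨e, he⟩ := exists_exp hgN
  have hy' : g * y * g⁻¹ = y ^ e := he y hyR
  -- `g` normalises `C(y)`
  obtain ⟨k', hk'⟩ := eq_pow_of_orderOf_eq (y := g * y * g⁻¹) hyR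
    ((Subgroup.mem_normalizer_iff.1 hgN y).1 hyR) (by rw [Small.orderOf_conj_eq])
  have hinv : ∀ z ∈ centralizer ({y} : Set G), g * z * g⁻¹ ∈ centralizer ({y} : Set G) := by
    intro z hz
    rw [Subgroup.mem_centralizer_singleton_iff] at hz ⊢
    have hc : Commute (g * z * g⁻¹) (g * y * g⁻¹) := (Commute.conj_iff g).2 hz
    have := hc.zpow_right k'
    rwa [hk'] at this
  obtain ⟨c, hc, hcg⟩ := frattini (p := 2) (K := centralizer ({y} : Set G)) P.isPGroup'
    (fun p hp => Subgroup.mem_centralizer_singleton_iff.2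
      ((Subgroup.mem_centralizer_iff.1 y'.2.2) p hp))
    (fun T' hT' _ hle => P.is_maximal' hT' hle) hinv
  -- the normaliser of `P` is `W P`
  have hcgC := normalizer_le_C S hcg
  obtain ⟨w, hw, p, hp, hwp⟩ := S.decomp hcgC
  have hwN : w ∈ normalizer ((P : Subgroup G) : Set G) := by
    have : w = c * g * p⁻¹ := by rw [hwp]; group
    rw [this]
    exact mul_mem hcg (inv_mem ((P : Subgroup G).le_normalizer hp))
  have hwW : w ∈ W := ⟨hw, Subgroup.mem_centralizer_iff.2 fun q hq => by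
    have h1 : w * q * w⁻¹ * q⁻¹ ∈ S.core := by
      have := mul_mem hw (S.core_conj (S.P_le_C hq) (inv_mem hw))
      simpa [mul_assoc] using this
    have h2 : w * q * w⁻¹ * q⁻¹ ∈ (P : Subgroup G) :=
      mul_mem ((Subgroup.mem_normalizer_iff.1 hwN q).1 hq) (inv_mem hq)
    have h3 := S.core_inf h1 h2
    rw [mul_inv_eq_one, mul_inv_eq_iff_eq_mul] at h3
    exact h3.symm⟩
  have hpy : p * y * p⁻¹ = y := by
    rw [Subgroup.mem_centralizer_iff.1 y'.2.2 p hp, mul_inv_cancel_right]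
  have hcy : c * y * c⁻¹ = y := by
    rw [Subgroup.mem_centralizer_singleton_iff.1 hc, mul_inv_cancel_right]
  have hwy : w * y * w⁻¹ = y ^ e := by
    calc w * y * w⁻¹ = w * (p * y * p⁻¹) * w⁻¹ := by rw [hpy]
      _ = (w * p) * y * (w * p)⁻¹ := by group
      _ = c * (g * y * g⁻¹) * c⁻¹ := by rw [← hwp]; group
      _ = y ^ e := by rw [hy', ← conj_zpow, hcy]
  -- the exponent is one modulo `r`
  have he0 : (e : ZMod r) ≠ 0 := fun h0 => by
    have hd : (r : ℤ) ∣ e := (ZMod.intCast_zmod_eq_zero_iff_dvd e r).1 h0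
    rw [← hy] at hd
    rw [orderOf_dvd_iff_zpow_eq_one.1 hd, conj_eq_one_iff] at hy'
    exact hy1 hy'
  have he1 : (e : ZMod r) ^ Nat.card W = 1 := by
    have h := conj_pow_exp hwy (Nat.card W)
    rw [orderOf_dvd_iff_pow_eq_one.1 (W.orderOf_dvd_natCard hwW), one_mul, inv_one, mul_one] at h
    have hd : (r : ℤ) ∣ e ^ Nat.card W - 1 := by
      rw [← hy, orderOf_dvd_iff_zpow_eq_one, _root_.zpow_sub, zpow_one, ← h, mul_inv_cancel]
    have := (ZMod.intCast_zmod_eq_zero_iff_dvd _ r).2 hd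
    push_cast at this
    exact sub_eq_zero.1 this
  have hgcd : Nat.gcd (Nat.card W) (r - 1) = 1 := by
    by_contra hne
    obtain ⟨q, hq, hqd⟩ := Nat.exists_prime_and_dvd hne
    have h1 : r ≤ q := Nat.minFac_le_of_dvd hq.two_le (hqd.trans (Nat.gcd_dvd_left _ _))
    have h3 : 2 ≤ r := hrp.out.two_le
    have h2 : q ≤ r - 1 := Nat.le_of_dvd (by omega) (hqd.trans (Nat.gcd_dvd_right _ _))
    generalize r = r' at h1 h2 h3
    omega
  have he2 := pow_gcd_eq_one.2 ⟨he1, ZMod.pow_card_sub_one_eq_one he0⟩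
  rw [hgcd, pow_one] at he2
  have he3 : (r : ℤ) ∣ e - 1 := (ZMod.intCast_zmod_eq_zero_iff_dvd _ r).1 (by
    push_cast; rw [he2, sub_self])
  rw [← hy, orderOf_dvd_iff_zpow_eq_one, _root_.zpow_sub, zpow_one, mul_inv_eq_one] at he3
  rw [he3] at hy'
  exact mul_inv_eq_iff_eq_mul.1 hy'

theorem sigma_sq_centralizes
    (hodd : ∀ p : ℕ, p.Prime → p ≠ 2 → ∀ R : Sylow p G, IsCyclic R) :
    σ ^ 2 ∈ centralizer (S.core : Set G) := by
  haveI := isZGroup_of_odd hodd S.core_odd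
  have e : σ * τ * σ⁻¹ * τ⁻¹ = σ ^ 2 := by
    calc σ * τ * σ⁻¹ * τ⁻¹ = σ * (τ * σ * τ⁻¹)⁻¹ := by group
      _ = σ ^ 2 := by rw [S.rel, inv_inv, sq]
  rw [← e]
  refine commutator_centralizes (P_le_normalizer S S.memσ) (P_le_normalizer S S.memτ) ?_
  obtain ⟨k, hk⟩ := S.pow2
  refine Nat.Coprime.coprime_dvd_left (orderOf_dvd_of_pow_eq_one (n := 2 ^ k) ?_)
    ((Nat.coprime_two_left.2 S.core_odd).pow_left k)
  rw [e, ← pow_mul, ← hk, S.pow_eq_one]

theorem core_isCyclic [IsSimpleGroup G] (hna : ¬ IsMulCommutative G)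
    (hodd : ∀ p : ℕ, p.Prime → p ≠ 2 → ∀ R : Sylow p G, IsCyclic R) : IsCyclic S.core := by
  haveI := isZGroup_of_odd hodd S.core_odd
  have hσ2 := sigma_sq_centralizes S hodd
  have hττ := Small.mul_self_of_orderOf_two S.ordτ
  refine isCyclic_of_four S.core_odd (a := τ) (b := σ) (P_le_normalizer S S.memτ)
    (P_le_normalizer S S.memσ) (by rw [hττ]; exact one_mem _) (by rwa [← sq]) ?_ ?_
  · have e : σ⁻¹ * τ⁻¹ * σ * τ = (σ ^ 2)⁻¹ := by
      calc σ⁻¹ * τ⁻¹ * σ * τ = σ⁻¹ * (τ * σ * τ⁻¹) := by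
            rw [Small.inv_eq_self_of_orderOf_two S.ordτ]; group
        _ = _ := by rw [S.rel, sq, mul_inv_rev]
    rw [e]
    exact inv_mem hσ2
  · intro x hx hτ hσ
    refine eq_one_of_fixed S hna hodd hx fun p hp => ?_
    obtain ⟨i, rfl | rfl⟩ := S.elems p hp
    · exact ((show Commute σ x from hσ).pow_left i).eq
    · exact ((show Commute τ x from hτ).mul_left ((show Commute σ x from hσ).pow_left i)).eq

/-- An element of `P` fixes or inverts a core element of prime order. -/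
theorem fix_or_inv [IsCyclic S.core] (hσ2 : σ ^ 2 ∈ centralizer (S.core : Set G)) {r : ℕ}
    (hr : r.Prime) {y : G} (hy : y ∈ S.core) (hord : orderOf y = r) {p : G}
    (hp : p ∈ (P : Subgroup G)) : p * y * p⁻¹ = y ∨ p * y * p⁻¹ = y⁻¹ := by
  refine conj_eq_or_inv hr (P_le_normalizer S hp) hy hord ?_
  obtain ⟨k, hk⟩ := sq_cases S hp
  rw [hk, pow_mul]
  exact (Subgroup.mem_centralizer_iff.1 (pow_mem hσ2 k) y hy).symm

/-- The index two subgroup of `P` fixing `y` is a maximal 2-subgroup of `C(y)`. -/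
theorem maximal_two [IsSimpleGroup G] (hna : ¬ IsMulCommutative G)
    (hodd : ∀ p : ℕ, p.Prime → p ≠ 2 → ∀ R : Sylow p G, IsCyclic R) {r : ℕ} (hr : r.Prime)
    {y : G} (hy : y ∈ S.core) (hord : orderOf y = r) (T' : Subgroup G) (hT' : IsPGroup 2 T')
    (hT'C : T' ≤ centralizer ({y} : Set G))
    (hle : (P : Subgroup G) ⊓ centralizer ({y} : Set G) ≤ T') :
    T' = (P : Subgroup G) ⊓ centralizer ({y} : Set G) := by
  classical
  haveI : Fact (Nat.Prime 2) := ⟨Nat.prime_two⟩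
  haveI := core_isCyclic S hna hodd
  have hσ2 := sigma_sq_centralizes S hodd
  set T := (P : Subgroup G) ⊓ centralizer ({y} : Set G) with hT
  by_contra hne
  have hlt : T < T' := lt_of_le_of_ne hle (Ne.symm hne)
  have hy1 : y ≠ 1 := fun e => by rw [e, orderOf_one] at hord; exact hr.ne_one hord.symm
  have hPT : Nat.card (P : Subgroup G) ≤ 2 * Nat.card T := by
    by_cases hall : (P : Subgroup G) ≤ T
    · have := Nat.le_of_dvd Nat.card_pos (Subgroup.card_dvd_of_le hall); omega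
    obtain ⟨p₀, hp₀, hp₀T⟩ := Set.not_subset.1 hall
    have hkey : ∀ p ∈ (P : Subgroup G), p ∉ T → p * p₀ ∈ T := by
      intro p hp hpT
      refine ⟨mul_mem hp hp₀, Subgroup.mem_centralizer_singleton_iff.2 ?_⟩
      have h1 := (fix_or_inv S hσ2 hr hy hord hp).resolve_left fun e => hpT
        ⟨hp, Subgroup.mem_centralizer_singleton_iff.2 (mul_inv_eq_iff_eq_mul.1 e)⟩
      have h2 := (fix_or_inv S hσ2 hr hy hord hp₀).resolve_left fun e => hp₀T
        ⟨hp₀, Subgroup.mem_centralizer_singleton_iff.2 (mul_inv_eq_iff_eq_mul.1 e)⟩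
      refine mul_inv_eq_iff_eq_mul.1 ?_
      calc p * p₀ * y * (p * p₀)⁻¹ = p * (p₀ * y * p₀⁻¹) * p⁻¹ := by group
        _ = (p * y * p⁻¹)⁻¹ := by rw [h2]; group
        _ = y := by rw [h1, inv_inv]
    let f : ↥(P : Subgroup G) → T × Bool := fun p =>
      if hp : (p : G) ∈ T then (⟨p, hp⟩, true) else (⟨(p : G) * p₀, hkey p p.2 hp⟩, false)
    have hf : Function.Injective f := by
      intro a b e
      simp only [f] at e
      split_ifs at e with ha hb hb <;> simp only [Prod.mk.injEq, Subtype.mk.injEq,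
        Bool.true_eq_false, Bool.false_eq_true, and_false, and_true] at e
      · exact Subtype.ext e
      · exact Subtype.ext (mul_right_cancel e)
    have := Nat.card_le_card_of_injective f hf
    rw [Nat.card_prod, Nat.card_eq_fintype_card (α := Bool), Fintype.card_bool] at this
    omega
  have hTT' : Nat.card T < Nat.card T' := by
    rcases lt_or_eq_of_le (Nat.le_of_dvd Nat.card_pos (Subgroup.card_dvd_of_le hle)) with h | h
    · exact h
    · exact absurd (Subgroup.eq_of_le_of_card_ge hle h.ge) (ne_of_lt hlt)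
  obtain ⟨a, ha⟩ := (P.isPGroup'.to_le (inf_le_left : T ≤ P)).exists_card_eq
  obtain ⟨b, hb⟩ := hT'.exists_card_eq
  obtain ⟨c, hc⟩ := P.isPGroup'.exists_card_eq
  rw [ha, hb] at hTT'
  rw [hc, show Nat.card T = 2 ^ a from ha, ← pow_succ'] at hPT
  have hab : a < b := (Nat.pow_lt_pow_iff_right one_lt_two).1 hTT'
  have hca : c ≤ a + 1 := (Nat.pow_le_pow_iff_right one_lt_two).1 hPT
  obtain ⟨P', hP'⟩ := hT'.exists_le_sylow
  have hcP : Nat.card (P' : Subgroup G) = 2 ^ c := by rw [P'.card_eq_multiplicity, ← P.card_eq_multiplicity, hc]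
  have hTP : T' = (P' : Subgroup G) := Subgroup.eq_of_le_of_card_ge hP' (by
    rw [hb, hcP]; exact Nat.pow_le_pow_right two_pos (by omega))
  obtain ⟨g, hg⟩ := MulAction.exists_smul_eq G P P'
  have hy' : ∀ p ∈ (P : Subgroup G), p * (g⁻¹ * y * g) = g⁻¹ * y * g * p := by
    intro p hp
    have hm : g * p * g⁻¹ ∈ T' := by
      rw [hTP, ← hg, Sylow.coe_subgroup_smul]
      exact Subgroup.smul_mem_pointwise_smul _ _ _ hp
    have hc' := Subgroup.mem_centralizer_singleton_iff.1 (hT'C hm)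
    calc p * (g⁻¹ * y * g) = g⁻¹ * (g * p * g⁻¹ * y) * g := by group
      _ = g⁻¹ * (y * (g * p * g⁻¹)) * g := by rw [hc']
      _ = _ := by group
  have hordy : orderOf (g⁻¹ * y * g) = orderOf y := by
    simpa using Small.orderOf_conj_eq g⁻¹ y
  have hcore : g⁻¹ * y * g ∈ S.core := mem_core_of S
    (Subgroup.mem_centralizer_singleton_iff.2 (hy' _ S.J_mem).symm)
    (hordy ▸ odd_orderOf S hy)
  have h1 := eq_one_of_fixed S hna hodd hcore hy'
  rw [h1, orderOf_one, hord] at hordy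
  exact hr.ne_one hordy.symm

/-- Some Sylow subgroup through `y` normalises the fixing subgroup of `P`; it centralizes `σ ^ h`
when `σ ^ (h / 2)` fixes `y`. -/
theorem exists_sylow_fixing [IsSimpleGroup G] (hna : ¬ IsMulCommutative G)
    (hodd : ∀ p : ℕ, p.Prime → p ≠ 2 → ∀ R : Sylow p G, IsCyclic R) {r : ℕ} [hr : Fact r.Prime]
    {y : G} (hy : y ∈ S.core) (hord : orderOf y = r) :
    ∃ R : Sylow r G, y ∈ (R : Subgroup G) ∧
      (R : Subgroup G) ≤ normalizer (((P : Subgroup G) ⊓ centralizer ({y} : Set G) : Subgroup G) : Set G) ∧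
      (σ ^ (h / 2) * y = y * σ ^ (h / 2) → (R : Subgroup G) ≤ centralizer ({σ ^ h} : Set G)) := by
  have hr2 : r ≠ 2 := fun e => (odd_orderOf S hy).not_two_dvd_nat (by rw [hord, e])
  set T := (P : Subgroup G) ⊓ centralizer ({y} : Set G) with hT
  obtain ⟨R, hyR, hRN⟩ := exists_sylow_normalizing hr2 (fun R => hodd r hr.out hr2 R) hord T
    (P.isPGroup'.to_le inf_le_left) inf_le_right
    (fun T' h1 h2 h3 => maximal_two S hna hodd hr.out hy hord T' h1 h2 h3)
  refine ⟨R, hyR, hRN, fun hs x hx => ?_⟩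
  obtain ⟨k, hk⟩ := h_even S
  have hsJ : σ ^ (h / 2) * σ ^ (h / 2) = σ ^ h := by rw [← pow_add]; congr 1; omega
  have hm : x * σ ^ (h / 2) * x⁻¹ ∈ (P : Subgroup G) :=
    ((Subgroup.mem_normalizer_iff.1 (hRN hx) _).1
      ⟨pow_mem S.memσ _, Subgroup.mem_centralizer_singleton_iff.2 hs⟩).1
  have e : x * σ ^ (h / 2) * x⁻¹ * (x * σ ^ (h / 2) * x⁻¹) = x * σ ^ h * x⁻¹ := by
    rw [conj_mul, hsJ]
  have := eq_J_of_sq S hm (by rw [e, ne_eq, conj_eq_one_iff]; exact S.J_ne)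
    (by rw [e, conj_mul, S.J_sq, mul_one, mul_inv_cancel])
  rw [e] at this
  exact Subgroup.mem_centralizer_singleton_iff.2 (mul_inv_eq_iff_eq_mul.1 this)

theorem not_dvd_index_of_le {r : ℕ} [Fact r.Prime] (R : Sylow r G)
    (hR : (R : Subgroup G) ≤ centralizer ({σ ^ h} : Set G)) :
    ¬ r ∣ (centralizer ({σ ^ h} : Set G)).index := fun hd =>
  R.not_dvd_index (hd.trans (Subgroup.index_dvd_of_le hR))

end CfsgLib.SuzukiWong
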