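import Cfsg.Agent.SuzukiWong.BlockSums
import Cfsg.Agent.SuzukiWong.Dihedral

/-!
# Suzuki–Wong: the first equation of a dihedral Sylow 2-subgroup with two classes of involutions
-/

set_option autoImplicit false
set_option linter.style.haveILetI false
set_option linter.unusedSectionVars false

namespace CfsgLib.SuzukiWong

open Cfsg CfsgLib.Blocks CfsgLib.PrincipalBlock CfsgLib.Characters CfsgLib.Inv54.DihedralBlock
open scoped ComplexConjugate

universe u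

variable {G : Type u} [Group G] [Fintype G]

open Classical in
set_option maxHeartbeats 1000000 in
/-- The pairs from the class of `σ ^ h` over the sections of `σ` and `σ ^ 2`. -/
theorem first_equation {M : Ideal AlgInt} [M.IsPrime] (hM : Cfsg.IsPModular 2 M) {P : Sylow 2 G}
    {σ τ : G} {h : ℕ} (S : Setup P σ τ h) (hτ : IsConj (σ ^ h) τ)
    (hnoJ : ¬ IsConj (σ ^ h) (σ * τ)) {ζ : ℂ} (hζ : IsPrimitiveRoot ζ (2 * h))
    {X T B : IrrCharacter G} {Y : ℕ → IrrCharacter G} {δ b : ℤ} (hδ : δ = 1 ∨ δ = -1)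
    (hb : b = 1 ∨ b = -1)
    (n1 : trivChar G ≠ X) (n2 : trivChar G ≠ T) (n3 : trivChar G ≠ B) (n4 : X ≠ T) (n5 : X ≠ B)
    (n6 : T ≠ B)
    (hY : ∀ i, 1 ≤ i → i < h → trivChar G ≠ Y i ∧ X ≠ Y i ∧ T ≠ Y i ∧ B ≠ Y i)
    (hYinj : ∀ i k, 1 ≤ i → i < h → 1 ≤ k → k < h → Y i = Y k → i = k)
    (hmem : ∀ χ, χ ∈ Cfsg.principalBlock M G ↔ χ = trivChar G ∨ χ = X ∨ χ = T ∨ χ = B ∨
      ∃ i, 1 ≤ i ∧ i < h ∧ χ = Y i)
    (hv₀ : ∀ l : ℕ, σ ^ l ≠ 1 → (X : G → ℂ) (σ ^ l) = δ ∧ (T : G → ℂ) (σ ^ l) = (-1) ^ l ∧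
      (B : G → ℂ) (σ ^ l) = b * (-1) ^ (l + 1) ∧
      ∀ i, 1 ≤ i → i < h → (Y i : G → ℂ) (σ ^ l) = δ * (ζ ^ (i * l) + (ζ ^ (i * l))⁻¹))
    {dX : ℕ} (hdX0 : 0 < dX) (hdX : (X : G → ℂ) 1 = dX) (hT10 : (T : G → ℂ) 1 = 1)
    (qB0 : (B : G → ℂ) 1 = dX)
    (hrel1 : ∀ i, 1 ≤ i → i < h → (Y i : G → ℂ) 1 = δ + (dX : ℂ))
    (hxmod : (2 * h : ℤ) ∣ δ * dX - 1) :
    δ * dX ≠ 1 ∧ ((Subgroup.centralizer ({σ ^ h} : Set G)).index : ℤ) *
          (Nat.card (S.core ⊓ Subgroup.centralizer ({τ} : Set G) : Subgroup G) : ℤ) ^ 2 *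
          (δ * dX - 1) ^ 2 =
        2 * (h : ℤ) ^ 2 * (Nat.card S.core : ℤ) ^ 2 * ((δ * dX) * (δ * dX + 1)) := by
  haveI : Fact (Nat.Prime 2) := ⟨Nat.prime_two⟩
  haveI : NeZero (2 * h) := S.ne_zero
  have h2 := S.two_le
  have hheven : Even h := h_even S
  have hl : ∀ l : ℕ, 0 < l → l < 2 * h → σ ^ l ≠ 1 := fun l l0 l1 e => by
    have := Nat.le_of_dvd l0 (S.pow_eq_one.1 e); omega
  have hζh : ζ ^ h = -1 := by
    have h1 : ζ ^ h * ζ ^ h = 1 := by rw [← pow_add, ← two_mul, hζ.pow_eq_one]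
    exact (mul_self_eq_one_iff.1 h1).resolve_left
      (hζ.pow_ne_one_of_pos_of_lt (by omega) (by omega))
  have hYJ : ∀ i, 1 ≤ i → i < h → (Y i : G → ℂ) (σ ^ h) = δ * (2 * (-1) ^ i) := by
    intro i i1 i2
    rw [(hv₀ h S.J_ne).2.2.2 i i1 i2, mul_comm i h, pow_mul, hζh]
    rcases Nat.even_or_odd i with hi | hi <;> rw [hi.neg_one_pow] <;> norm_num
  have hδc : (δ : ℂ) * δ = 1 := by rcases hδ with rfl | rfl <;> norm_num
  set o := Nat.card S.core with ho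
  set CA := Nat.card (S.core ⊓ Subgroup.centralizer ({τ} : Set G) : Subgroup G) with hCA
  have hnJ : ∀ i : ZMod (2 * h), overRefl S (σ ^ h) i * CA = if Even i.val then o else 0 := by
    intro i
    have e := overRefl_eq S (t := σ ^ h) i
    by_cases hi : Even i.val
    · simp only [if_pos hi] at e ⊢
      rwa [if_pos hτ] at e
    · simp only [if_neg hi] at e ⊢
      rw [if_neg hnoJ, mul_eq_zero] at e
      rcases e with e | e
      · rw [e, zero_mul]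
      · exact absurd e Nat.card_pos.ne'
  have hone : ((1 : ℕ) : ZMod (2 * h)) ≠ 0 := fun e => by
    have := Nat.le_of_dvd one_pos ((ZMod.natCast_eq_zero_iff _ _).1 e); omega
  have htwo : ((2 : ℕ) : ZMod (2 * h)) ≠ 0 := fun e => by
    have := Nat.le_of_dvd two_pos ((ZMod.natCast_eq_zero_iff _ _).1 e); omega
  have hv1 : ¬ Even ((1 : ℕ) : ZMod (2 * h)).val := by
    rw [ZMod.val_natCast_of_lt (by omega)]; simp
  have hv2 : Even ((2 : ℕ) : ZMod (2 * h)).val := by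
    rw [ZMod.val_natCast_of_lt (by omega)]; exact even_two
  have hc11 : (∑ i : ZMod (2 * h), overRefl S (σ ^ h) i * overRefl S (σ ^ h) (i + (1 : ℕ))) = 0 := by
    refine Finset.sum_eq_zero fun i _ => ?_
    have e1 := hnJ i
    have e2 := hnJ (i + (1 : ℕ))
    by_cases hi : Even i.val
    · rw [if_neg (fun he => hv1 (((even_val_add S i _).1 he).1 hi)), mul_eq_zero] at e2
      rcases e2 with e2 | e2
      · rw [e2, mul_zero]
      · exact absurd e2 Nat.card_pos.ne'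
    · rw [if_neg hi, mul_eq_zero] at e1
      rcases e1 with e1 | e1
      · rw [e1, zero_mul]
      · exact absurd e1 Nat.card_pos.ne'
  have hc12 : (∑ i : ZMod (2 * h), overRefl S (σ ^ h) i * overRefl S (σ ^ h) (i + (2 : ℕ))) *
      (CA * CA) = h * (o * o) := by
    rw [Finset.sum_mul, Finset.sum_congr rfl (g := fun i : ZMod (2 * h) =>
      if Even i.val then o * o else 0) fun i _ => ?_, ← Finset.sum_filter, Finset.sum_const,
      card_even_val S, smul_eq_mul]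
    rw [mul_mul_mul_comm, hnJ, hnJ]
    have hiff : Even (i + ((2 : ℕ) : ZMod (2 * h))).val ↔ Even i.val := by
      rw [even_val_add S]; exact iff_true_right hv2
    by_cases hi : Even i.val
    · rw [if_pos hi, if_pos (hiff.2 hi), if_pos hi]
    · rw [if_neg hi, zero_mul, if_neg hi]
  have hsc : ∀ {t : G} {l : ℕ}, orderOf t = 2 → (l : ZMod (2 * h)) ≠ 0 →
      (Nat.card G : ℂ) * (o : ℂ) * (∑ χ : IrrCharacter G, if χ ∈ Cfsg.principalBlock M G then
        (χ : G → ℂ) (σ ^ l) * ((χ : G → ℂ) (σ ^ h) * (χ : G → ℂ) t / (χ : G → ℂ) 1) else 0) =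
      (Nat.card (Subgroup.centralizer ({σ ^ h} : Set G)) : ℂ) *
        (Nat.card (Subgroup.centralizer ({t} : Set G)) : ℂ) *
        ((∑ i : ZMod (2 * h), overRefl S (σ ^ h) i * overRefl S t (i + (l : ℕ)) : ℕ) : ℂ) := by
    intro t l ht hlne
    have e := section_count₂ S hM S.J_order ht hlne
    rw [Finset.sum_congr rfl fun χ _ => by rw [S.pw_natCast, conj_apply_pow S χ l]] at e
    exact e
  have hxC : ((δ : ℂ) * dX) ≠ 0 := mul_ne_zero (left_ne_zero_of_mul_eq_one hδc)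
    (Nat.cast_ne_zero.2 hdX0.ne')
  have hbb : (b : ℂ) * b = 1 := by rcases hb with rfl | rfl <;> norm_num
  have hJodd : ((-1 : ℂ)) ^ (h + 1) = -1 := hheven.add_one.neg_one_pow
  set E : ℕ → ℂ := fun l => ∑ χ : IrrCharacter G, if χ ∈ Cfsg.principalBlock M G then
    (χ : G → ℂ) (σ ^ l) * ((χ : G → ℂ) (σ ^ h) * (χ : G → ℂ) (σ ^ h) / (χ : G → ℂ) 1) else 0
    with hE
  have hEsum : E 1 + E 2 = 2 + 2 / ((δ : ℂ) * dX) - 8 / (1 + (δ : ℂ) * dX) := by
    simp only [hE]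
    rw [sum_block_eq n1 n2 n3 n4 n5 n6 hY hYinj hmem, sum_block_eq n1 n2 n3 n4 n5 n6 hY hYinj hmem]
    simp only [trivChar_apply, (hv₀ h S.J_ne).1, (hv₀ 1 (hl 1 one_pos (by omega))).1,
      (hv₀ 2 (hl 2 two_pos (by omega))).1, (hv₀ h S.J_ne).2.1, (hv₀ 1 (hl 1 one_pos (by omega))).2.1, (hv₀ 2 (hl 2 two_pos (by omega))).2.1, hT10, qB0, (hv₀ h S.J_ne).2.2.1, (hv₀ 1 (hl 1 one_pos (by omega))).2.2.1,
      (hv₀ 2 (hl 2 two_pos (by omega))).2.2.1, hdX, hJodd]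
    have hYs : ∀ l : ℕ, 0 < l → l < 2 * h → ∑ i ∈ Finset.Ico 1 h, (Y i : G → ℂ) (σ ^ l) *
        ((Y i : G → ℂ) (σ ^ h) * (Y i : G → ℂ) (σ ^ h) / (Y i : G → ℂ) 1) =
        4 / (1 + (δ : ℂ) * dX) * (-1 - (-1) ^ l) := by
      intro l l0 l1
      rw [show ((-1 : ℂ)) ^ l = (ζ ^ l) ^ h by rw [← hζh, ← pow_mul, ← pow_mul, mul_comm],
        ← sum_pairs_pow (z := ζ ^ l) (by omega) (by
          rw [← pow_mul, mul_comm, pow_mul, hζ.pow_eq_one, one_pow])
          (hζ.pow_ne_one_of_pos_of_lt l0.ne' l1), Finset.mul_sum]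
      refine Finset.sum_congr rfl fun i hi => ?_
      obtain ⟨i1, i2⟩ := Finset.mem_Ico.1 hi
      rw [(hv₀ l (hl l l0 l1)).2.2.2 i i1 i2, hYJ i i1 i2, hrel1 i i1 i2, ← pow_mul, mul_comm l i]
      have hsum : (δ : ℂ) + dX = δ * (1 + (δ : ℂ) * dX) := by linear_combination -(dX : ℂ) * hδc
      rw [hsum]
      generalize (1 : ℂ) + (δ : ℂ) * dX = D
      rcases hδ with rfl | rfl <;> rcases Nat.even_or_odd i with hp | hp <;>
        rw [hp.neg_one_pow] <;> push_cast <;> ring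
    rw [hYs 1 one_pos (by omega), hYs 2 two_pos (by omega)]
    rcases hδ with rfl | rfl <;> push_cast <;> ring
  set C := Nat.card (Subgroup.centralizer ({σ ^ h} : Set G)) with hC
  have hCeq : C = 4 * h * o := card_C S
  set Ni := (Subgroup.centralizer ({σ ^ h} : Set G)).index with hNi
  have hG : Nat.card G = Ni * C := by rw [hNi, hC, Subgroup.index_mul_card]
  have hne : (Nat.card G : ℂ) * (o : ℂ) ≠ 0 :=
    mul_ne_zero natCard_ne_zero (Nat.cast_ne_zero.2 Nat.card_pos.ne')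
  have e1 : E 1 = 0 := by
    have e := hsc (l := 1) S.J_order hone
    rw [hc11, Nat.cast_zero, mul_zero, mul_eq_zero] at e
    exact e.resolve_left hne
  have e2 := hsc (l := 2) S.J_order htwo
  rw [← hC] at e2
  have hCA0 : (CA : ℂ) ≠ 0 := Nat.cast_ne_zero.2 Nat.card_pos.ne'
  have key : (Ni : ℂ) * (CA : ℂ) ^ 2 * (E 1 + E 2) = 4 * (h : ℂ) ^ 2 * (o : ℂ) ^ 2 := by
    rw [e1, zero_add]
    have hc := congrArg (fun n : ℕ => (n : ℂ)) hc12
    push_cast at hc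
    rw [hG, Nat.cast_mul] at e2
    have hCne : (C : ℂ) * o ≠ 0 :=
      mul_ne_zero (subgroup_card_ne_zero _) (Nat.cast_ne_zero.2 Nat.card_pos.ne')
    apply mul_left_cancel₀ hCne
    push_cast at e2
    rw [hCeq] at e2 hCne ⊢
    push_cast at e2 ⊢
    linear_combination (CA : ℂ) ^ 2 * e2 + (4 * h * o) * (4 * h * o) * hc
  have hxne1 : δ * dX ≠ 1 := by
    intro e
    have e' : (δ : ℂ) * dX = 1 := by exact_mod_cast e
    rw [hEsum, e'] at key
    have h0 : (4 : ℂ) * (h : ℂ) ^ 2 * (o : ℂ) ^ 2 = 0 := by rw [← key]; norm_num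
    exact mul_ne_zero (mul_ne_zero (by norm_num) (pow_ne_zero 2 (Nat.cast_ne_zero.2 (by omega))))
      (pow_ne_zero 2 (Nat.cast_ne_zero.2 (Nat.card_pos.ne' : o ≠ 0))) h0
  have hx1C : 1 + (δ : ℂ) * dX ≠ 0 := by
    intro e
    have : δ * (dX : ℤ) = -1 := by
      apply Int.cast_injective (α := ℂ); push_cast; linear_combination e
    rw [this] at hxmod
    obtain ⟨c, hc⟩ := hxmod
    have : ((h : ℤ) * c) = -1 := by linarith
    have := Int.eq_one_or_neg_one_of_mul_eq_neg_one this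
    omega
  have hδ0 : (δ : ℂ) ≠ 0 := left_ne_zero_of_mul hxC
  have hdX0C : (dX : ℂ) ≠ 0 := right_ne_zero_of_mul hxC
  have hI1 : (Ni : ℤ) * (CA : ℤ) ^ 2 * (δ * dX - 1) ^ 2 =
      2 * (h : ℤ) ^ 2 * (o : ℤ) ^ 2 * ((δ * dX) * (δ * dX + 1)) := by
    apply Int.cast_injective (α := ℂ)
    push_cast
    rw [hEsum] at key
    have : (2 + 2 / ((δ : ℂ) * dX) - 8 / (1 + (δ : ℂ) * dX)) * ((δ * dX) * (δ * dX + 1)) =
        2 * ((δ : ℂ) * dX - 1) ^ 2 := by
      field_simp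
      ring
    linear_combination ((δ : ℂ) * dX * (δ * dX + 1) / 2) * key -
      ((Ni : ℂ) * (CA : ℂ) ^ 2 / 2) * this
  exact ⟨hxne1, hI1⟩

end CfsgLib.SuzukiWong
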