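import Cfsg.Agent.Inv54.DihedralColumns

/-!
# Suzuki–Wong: the principal block of a dihedral Sylow 2-subgroup with a linear member
-/

set_option autoImplicit false
set_option linter.unusedSectionVars false

namespace CfsgLib.SuzukiWong

open Cfsg CfsgLib.Blocks CfsgLib.PrincipalBlock CfsgLib.Characters CfsgLib.Inv54.DihedralBlock
open scoped ComplexConjugate

universe u

variable {G : Type u} [Group G] [Fintype G]

open Classical in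
/-- The columns of the principal block with the member of values `(-1) ^ l` second. -/
theorem normal_form {M : Ideal AlgInt} {P : Sylow 2 G} {σ τ : G} {h : ℕ} (S : Setup P σ τ h)
    (hh : Even h) {ζ : ℂ} (hζ : IsPrimitiveRoot ζ (2 * h))
    {X A B : IrrCharacter G} {Y : ℕ → IrrCharacter G} {δ a b : ℤ} (hδ : δ = 1 ∨ δ = -1)
    (ha : a = 1 ∨ a = -1) (hb : b = 1 ∨ b = -1)
    (m1 : trivChar G ≠ X) (m2 : trivChar G ≠ A) (m3 : trivChar G ≠ B) (m4 : X ≠ A) (m5 : X ≠ B)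
    (m6 : A ≠ B)
    (hY : ∀ i, 1 ≤ i → i < h → trivChar G ≠ Y i ∧ X ≠ Y i ∧ A ≠ Y i ∧ B ≠ Y i)
    (hmem : ∀ χ, χ ∈ Cfsg.principalBlock M G ↔ χ = trivChar G ∨ χ = X ∨ χ = A ∨ χ = B ∨
      ∃ i, 1 ≤ i ∧ i < h ∧ χ = Y i)
    (hv : ∀ l : ℕ, σ ^ l ≠ 1 → (X : G → ℂ) (σ ^ l) = δ ∧
      (A : G → ℂ) (σ ^ l) = a * (-1) ^ (l + 1) ∧ (B : G → ℂ) (σ ^ l) = b * (-1) ^ (l + 1) ∧
      ∀ i, 1 ≤ i → i < h → (Y i : G → ℂ) (σ ^ l) = δ * (ζ ^ (i * l) + (ζ ^ (i * l))⁻¹))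
    (hrel : ∀ ρ : G, Odd (orderOf ρ) → ∀ i, 1 ≤ i → i < h →
      1 + δ * (X : G → ℂ) ρ = -a * (A : G → ℂ) ρ - b * (B : G → ℂ) ρ ∧
      1 + δ * (X : G → ℂ) ρ = δ * (Y i : G → ℂ) ρ)
    {T : IrrCharacter G} (hTmem : T ∈ Cfsg.principalBlock M G)
    (hTv : ∀ l : ℕ, (T : G → ℂ) (σ ^ l) = (-1) ^ l) :
    ∃ (B' : IrrCharacter G) (b' : ℤ), (b' = 1 ∨ b' = -1) ∧ trivChar G ≠ X ∧ trivChar G ≠ T ∧
      trivChar G ≠ B' ∧ X ≠ T ∧ X ≠ B' ∧ T ≠ B' ∧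
      (∀ i, 1 ≤ i → i < h → trivChar G ≠ Y i ∧ X ≠ Y i ∧ T ≠ Y i ∧ B' ≠ Y i) ∧
      (∀ χ, χ ∈ Cfsg.principalBlock M G ↔ χ = trivChar G ∨ χ = X ∨ χ = T ∨ χ = B' ∨
        ∃ i, 1 ≤ i ∧ i < h ∧ χ = Y i) ∧
      (∀ l : ℕ, σ ^ l ≠ 1 → (X : G → ℂ) (σ ^ l) = δ ∧ (T : G → ℂ) (σ ^ l) = (-1) ^ l ∧
        (B' : G → ℂ) (σ ^ l) = b' * (-1) ^ (l + 1) ∧
        ∀ i, 1 ≤ i → i < h → (Y i : G → ℂ) (σ ^ l) = δ * (ζ ^ (i * l) + (ζ ^ (i * l))⁻¹)) ∧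
      ∀ ρ : G, Odd (orderOf ρ) →
        1 + (δ : ℂ) * (X : G → ℂ) ρ = (T : G → ℂ) ρ - b' * (B' : G → ℂ) ρ := by
  have h2 := S.two_le
  have hTs : (T : G → ℂ) σ = -1 := by rw [← pow_one σ, hTv, pow_one]
  have hl : ∀ l : ℕ, 0 < l → l < 2 * h → σ ^ l ≠ 1 := fun l l0 l1 e => by
    have := Nat.le_of_dvd l0 (S.pow_eq_one.1 e); omega
  have h11 : σ ^ 1 ≠ 1 := hl 1 one_pos (by omega)
  have h22 : σ ^ 2 ≠ 1 := hl 2 two_pos (by omega)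
  rcases (hmem T).1 hTmem with e | e | e | e | ⟨i, i1, i2, e⟩
  · exfalso
    rw [e, trivChar_apply] at hTs
    norm_num at hTs
  · exfalso
    have q1 := (hv 1 h11).1
    have q2 := (hv 2 h22).1
    rw [← e, hTv] at q1 q2
    rw [← q1] at q2
    norm_num at q2
  · subst e
    have ha1 : (a : ℂ) = -1 := by
      have q1 := (hv 1 h11).2.1
      rw [hTv] at q1
      norm_num at q1
      exact q1.symm
    refine ⟨B, b, hb, m1, m2, m3, m4, m5, m6, hY, hmem,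
      fun l hl' => ⟨(hv l hl').1, hTv l, (hv l hl').2.2.1, (hv l hl').2.2.2⟩, fun ρ hρ => ?_⟩
    rw [(hrel ρ hρ 1 le_rfl (by omega)).1, ha1]
    ring
  · subst e
    have hb1 : (b : ℂ) = -1 := by
      have q1 := (hv 1 h11).2.2.1
      rw [hTv] at q1
      norm_num at q1
      exact q1.symm
    refine ⟨A, a, ha, m1, m3, m2, m5, m4, m6.symm,
      fun i i1 i2 => ⟨(hY i i1 i2).1, (hY i i1 i2).2.1, (hY i i1 i2).2.2.2, (hY i i1 i2).2.2.1⟩,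
      fun χ => ?_,
      fun l hl' => ⟨(hv l hl').1, hTv l, (hv l hl').2.1, (hv l hl').2.2.2⟩, fun ρ hρ => ?_⟩
    · rw [hmem]; tauto
    · rw [(hrel ρ hρ 1 le_rfl (by omega)).1, hb1]
      ring
  · exfalso
    have hζh : ζ ^ h = -1 := by
      have h1 : ζ ^ h * ζ ^ h = 1 := by rw [← pow_add, ← two_mul, hζ.pow_eq_one]
      exact (mul_self_eq_one_iff.1 h1).resolve_left
        (hζ.pow_ne_one_of_pos_of_lt (by omega) (by omega))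
    have q' := (hv h S.J_ne).2.2.2 i i1 i2
    rw [← e, hTv, mul_comm i h, pow_mul, hζh, hh.neg_one_pow] at q'
    rcases Nat.even_or_odd i with hi | hi <;> rw [hi.neg_one_pow] at q' <;>
      rcases hδ with rfl | rfl <;> norm_num at q'

end CfsgLib.SuzukiWong
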