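import Cfsg.Agent.SuzukiWong.SDAction
import Cfsg.Agent.SuzukiWong.FirstEq
import Cfsg.Agent.SuzukiWong.ColumnTwo
import Cfsg.Agent.SuzukiWong.NormalForm

/-!
# Suzuki–Wong: `C(t)/⟨t⟩` and the columns on the section of `t`
-/

set_option autoImplicit false
set_option linter.unusedSectionVars false
set_option linter.style.haveILetI false

namespace CfsgLib.SuzukiWong

open Cfsg CfsgLib.Blocks CfsgLib.PrincipalBlock CfsgLib.Characters CfsgLib.Inv54.DihedralBlock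
open scoped ComplexConjugate MatrixGroups

universe u

variable {G : Type u} [Group G] [Fintype G] {P : Sylow 2 G} {σ y : G} {h p : ℕ} [Fact p.Prime]
  {π : Subgroup.centralizer ({σ ^ (2 * h)} : Set G) →* PGL(2, ZMod p)} (D : SDData P σ y h p π)

/-- `C(t)`. -/
abbrev Ct (σ : G) (h : ℕ) : Subgroup G := Subgroup.centralizer ({σ ^ (2 * h)} : Set G)

/-- `⟨t⟩` in `C(t)`. -/
abbrev tQ (σ : G) (h : ℕ) : Subgroup (Subgroup.centralizer ({σ ^ (2 * h)} : Set G)) :=
  Subgroup.zpowers ⟨σ ^ (2 * h), Subgroup.mem_centralizer_singleton_iff.2 rfl⟩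

theorem tQ_le_center (σ : G) (h : ℕ) :
    tQ σ h ≤ Subgroup.center (Subgroup.centralizer ({σ ^ (2 * h)} : Set G)) := by
  rw [Subgroup.zpowers_le, Subgroup.mem_center_iff]
  exact fun c => Subtype.ext (Subgroup.mem_centralizer_singleton_iff.1 c.2)

instance tQ_normal (σ : G) (h : ℕ) : (tQ σ h).Normal :=
  ⟨fun x hx g => by
    rw [Subgroup.mem_center_iff.1 (tQ_le_center σ h hx) g, mul_inv_cancel_right]; exact hx⟩

include D

theorem SDData.tQ_card : Nat.card (tQ σ h) = 2 := by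
  rw [Nat.card_zpowers, Subgroup.orderOf_mk, D.t_order]

theorem SDData.tQ_le_ker : tQ σ h ≤ π.ker := Subgroup.zpowers_le.2 D.ker_t

theorem SDData.mem_tQ {c : Subgroup.centralizer ({σ ^ (2 * h)} : Set G)} (hc : c ∈ tQ σ h) :
    (c : G) = 1 ∨ (c : G) = σ ^ (2 * h) := by
  obtain ⟨i, rfl⟩ := mem_powers_iff_mem_zpowers.2 hc
  show (σ ^ (2 * h)) ^ i = 1 ∨ (σ ^ (2 * h)) ^ i = _
  rcases Nat.even_or_odd' i with ⟨j, rfl | rfl⟩
  · left; rw [pow_mul (σ ^ (2 * h)), sq, D.t_sq, one_pow]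
  · right; rw [pow_succ, pow_mul (σ ^ (2 * h)), sq, D.t_sq, one_pow, one_mul]

variable (hodd : ∀ q : ℕ, q.Prime → q ≠ 2 → ∀ R : Sylow q G, IsCyclic R) [IsSimpleGroup G]
  (hna : ¬ IsMulCommutative G)
include hodd hna

open Classical in
set_option maxHeartbeats 1000000 in
/-- The arithmetic of `C(t)` and the principal block products on the section of `t`. -/
theorem SDData.quot_facts {M : Ideal AlgInt} (hM : Cfsg.IsPModular 2 M) :
    ∃ j : ℤ, Odd j ∧ (1 + 2 * (h : ℤ) * j).natAbs = p ∧ Nat.card D.O = Nat.card D.X * j.natAbs ∧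
      ∃ g : G, g ∈ Subgroup.centralizer ({σ ^ (2 * h)} : Set G) ∧ Odd (orderOf g) ∧
        (∀ hg, π ⟨g, hg⟩ = unip p) ∧
        (∑ χ : IrrCharacter G, (if χ ∈ Cfsg.principalBlock M G then
          (χ : G → ℂ) (σ ^ (2 * h) * g) * conj ((χ : G → ℂ) (σ ^ (2 * h) * g)) else 0) =
            2 * ((h : ℂ) + 1)) ∧
        (∑ χ : IrrCharacter G, (if χ ∈ Cfsg.principalBlock M G then
          (χ : G → ℂ) (σ ^ (2 * h) * g) * conj ((χ : G → ℂ) (σ ^ (2 * h))) else 0) =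
            2 * (2 + ((h : ℂ) - 1) * (2 + 2 * h * j))) ∧
        (∑ χ : IrrCharacter G, (if χ ∈ Cfsg.principalBlock M G then
          (χ : G → ℂ) (σ ^ (2 * h)) * conj ((χ : G → ℂ) (σ ^ (2 * h))) else 0) =
            2 * (2 + 2 * (p : ℂ) ^ 2 + ((h : ℂ) - 1) * (2 + 2 * h * j) ^ 2)) := by
  haveI : M.IsPrime := Blocks.IsPModular.isPrime hM
  haveI : Fact (Nat.Prime 2) := ⟨Nat.prime_two⟩
  have h2 := D.two_le
  have hpp : p.Prime := Fact.out
  set Q := tQ σ h with hQdef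
  haveI := Fintype.ofFinite (Ct σ h)
  haveI := Fintype.ofFinite ((Ct σ h) ⧸ Q)
  have hQ2 : Nat.card Q = 2 := D.tQ_card
  have hQp : IsPGroup 2 Q := IsPGroup.of_card (n := 1) (by rw [hQ2, pow_one])
  set q := QuotientGroup.mk' Q with hqdef
  have hqs : Function.Surjective q := QuotientGroup.mk'_surjective Q
  set πb : (Ct σ h) ⧸ Q →* PGL(2, ZMod p) := QuotientGroup.lift Q π D.tQ_le_ker with hπb
  have hπbq : ∀ c : (Ct σ h), πb (q c) = π c := fun c => rfl
  have hπbs : Function.Surjective πb := fun x => by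
    obtain ⟨c, rfl⟩ := D.surj x; exact ⟨q c, rfl⟩
  have hq_eq : ∀ {a b : (Ct σ h)}, q a = q b ↔ (a⁻¹ * b : (Ct σ h)) ∈ Q := fun {a b} => QuotientGroup.eq
  have hq1 : ∀ {a : (Ct σ h)}, q a = 1 ↔ ((a : G) = 1 ∨ (a : G) = σ ^ (2 * h)) := by
    intro a
    rw [hqdef, QuotientGroup.mk'_apply, QuotientGroup.eq_one_iff]
    refine ⟨D.mem_tQ, ?_⟩
    rintro (e | e)
    · rw [show a = 1 from Subtype.ext e]; exact one_mem _
    · rw [show a = ⟨_, Subgroup.mem_centralizer_singleton_iff.2 rfl⟩ from Subtype.ext e]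
      exact Subgroup.mem_zpowers _
  -- the Sylow subgroup and generators
  let Pc : Sylow 2 (Ct σ h) := P.subtype D.P_le_C
  let Pb : Sylow 2 ((Ct σ h) ⧸ Q) := Pc.mapSurjective hqs
  let σC : (Ct σ h) := ⟨σ, D.P_le_C D.memσ⟩
  let yC : (Ct σ h) := ⟨y, D.P_le_C D.memy⟩
  set s := q σC with hs
  set τ := q (σC * yC) with hτ
  have hsord : orderOf s = 2 * h := by
    refine Nat.dvd_antisymm (orderOf_dvd_of_pow_eq_one ?_) ?_
    · rw [hs, ← map_pow, hq1]
      exact Or.inr (SubmonoidClass.coe_pow σC (2 * h))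
    · have e : q (σC ^ orderOf s) = 1 := by rw [map_pow, ← hs, pow_orderOf_eq_one]
      rw [hq1, SubmonoidClass.coe_pow] at e
      rcases e with e | e
      · exact (dvd_mul_left (2 * h) 2).trans (dvd_trans (dvd_of_eq (by ring)) (D.pow_eq_one.1 e))
      · have e' : σ ^ (orderOf s + 2 * h) = 1 := by rw [pow_add, e]; exact D.t_sq
        have h3 : 2 * h ∣ orderOf s + 2 * h :=
          (dvd_mul_left (2 * h) 2).trans (dvd_trans (dvd_of_eq (by ring)) (D.pow_eq_one.1 e'))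
        exact (Nat.dvd_add_left (dvd_refl _)).1 h3
  have hτord : orderOf τ = 2 := by
    refine orderOf_eq_prime ?_ ?_
    · rw [hτ, ← map_pow, hq1]
      exact Or.inr (by rw [SubmonoidClass.coe_pow]; exact D.sy_sq)
    · rw [hτ, ne_eq, hq1]
      have := D.sy_order
      rintro (e | e) <;> replace e : σ * y = _ := e <;> rw [e] at this
      · rw [orderOf_one] at this; omega
      · rw [D.t_order] at this; omega
  have hrel : τ * s * τ⁻¹ = s⁻¹ := by
    rw [hτ, hs, ← map_inv, ← map_mul, ← map_inv, ← map_mul, hq_eq]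
    refine ?_
    have e : (σC * yC * σC * (σC * yC)⁻¹)⁻¹ * σC⁻¹ =
        (⟨σ ^ (2 * h), Subgroup.mem_centralizer_singleton_iff.2 rfl⟩ : (Ct σ h)) := by
      apply Subtype.ext
      show (σ * y * σ * (σ * y)⁻¹)⁻¹ * σ⁻¹ = σ ^ (2 * h)
      have e1 : σ * y * σ * (σ * y)⁻¹ = σ ^ (2 * h - 1) := by
        calc σ * y * σ * (σ * y)⁻¹ = σ * (y * σ * y⁻¹) * σ⁻¹ := by group
          _ = _ := by rw [D.rel, (Commute.self_pow σ _).eq, mul_inv_cancel_right]
      rw [e1, ← mul_inv_rev, ← pow_succ', show 2 * h - 1 + 1 = 2 * h by omega]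
      exact inv_eq_of_mul_eq_one_right D.t_sq
    rw [e]
    exact Subgroup.mem_zpowers _
  have hgen : Subgroup.closure ({s, τ} : Set ((Ct σ h) ⧸ Q)) = (Pb : Subgroup ((Ct σ h) ⧸ Q)) := by
    refine le_antisymm ((Subgroup.closure_le _).2 ?_) ?_
    · rintro x (rfl | rfl)
      · exact ⟨σC, Subgroup.mem_subgroupOf.2 D.memσ, rfl⟩
      · exact ⟨σC * yC, Subgroup.mem_subgroupOf.2 (mul_mem D.memσ D.memy), rfl⟩
    · rintro _ ⟨x, hx, rfl⟩
      have hy' : q yC ∈ Subgroup.closure ({s, τ} : Set ((Ct σ h) ⧸ Q)) := by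
        rw [show yC = σC⁻¹ * (σC * yC) by group, map_mul, map_inv]
        exact mul_mem (inv_mem (Subgroup.subset_closure (by simp [hs])))
          (Subgroup.subset_closure (by simp [hτ]))
      obtain ⟨i, hi | hi⟩ := D.elems (x : G) (Subgroup.mem_subgroupOf.1 hx)
      · rw [show x = σC ^ i from Subtype.ext (by rw [hi]; rfl), map_pow]
        exact pow_mem (Subgroup.subset_closure (by simp [hs])) i
      · rw [show x = yC * σC ^ i from Subtype.ext (by rw [hi]; rfl), map_mul, map_pow]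
        exact mul_mem hy' (pow_mem (Subgroup.subset_closure (by simp [hs])) i)
  have S : Setup Pb s τ h := setup_of_generators Pb h2
    (by obtain ⟨k, hk⟩ := D.pow2; exact ⟨k + 1, hk⟩) hsord hτord hrel hgen
  -- the central involution and fusion
  let shC : (Ct σ h) := ⟨σ ^ h, D.sh_mem_C⟩
  have hsh : s ^ h = q shC := by rw [hs, ← map_pow]; rfl
  have hτJ : IsConj (s ^ h) τ := by
    obtain ⟨c, hc, hcσ⟩ := D.sy_conj
    refine isConj_iff.2 ⟨q ⟨c, hc⟩, ?_⟩
    rw [hsh, hτ, ← map_inv, ← map_mul, ← map_mul]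
    exact congrArg q (Subtype.ext hcσ)
  obtain ⟨sg, hsg, ⟨g₁, hg₁⟩⟩ := exists_sign p D.p2
  have hsgodd : ∀ x : PGL(2, ZMod p), Odd (orderOf x) → (sg x : ℂ) = 1 := by
    intro x ho
    obtain ⟨m, hm⟩ := ho
    rcases hsg x with e | e
    · exact e
    · exfalso
      have e' := congrArg (fun u : ℂˣ => (u : ℂ)) (show sg x ^ (2 * m + 1) = 1 by
        rw [← map_pow, ← hm, pow_orderOf_eq_one, map_one])
      simp only [Units.val_pow_eq_pow_val, e, Units.val_one] at e'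
      rw [(odd_two_mul_add_one m).neg_one_pow] at e'
      norm_num at e'
  set sb : (Ct σ h) ⧸ Q →* ℂˣ := sg.comp πb with hsb
  have hsbconj : ∀ a b, IsConj a b → (sb a : ℂ) = sb b := fun a b hab => by
    obtain ⟨c, rfl⟩ := isConj_iff.1 hab
    rw [map_mul, map_mul, map_inv, mul_comm (sb c), mul_inv_cancel_right]
  have hsbpm : ∀ x, (sb x : ℂ) = 1 ∨ (sb x : ℂ) = -1 := fun x => hsg _
  have hsbJ : (sb (s ^ h) : ℂ) = 1 := by
    rw [map_pow, Units.val_pow_eq_pow_val]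
    rcases hsbpm s with e | e <;> rw [e]
    · exact one_pow _
    · exact D.h_even.neg_one_pow
  have hsbτ : (sb τ : ℂ) = 1 := by rw [← hsbconj _ _ hτJ, hsbJ]
  have hsbs : (sb s : ℂ) = -1 := by
    rcases hsbpm s with e | e
    · exfalso
      have hle : (Pb : Subgroup ((Ct σ h) ⧸ Q)) ≤ sb.ker := by
        rw [← hgen, Subgroup.closure_le]
        rintro x (rfl | rfl)
        · exact Units.ext e
        · exact Units.ext hsbτ
      obtain ⟨x, hx⟩ := hπbs g₁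
      have hidx := Pb.not_dvd_index
      refine hidx ((?_ : 2 ∣ sb.ker.index).trans (Subgroup.index_dvd_of_le hle))
      have hne : sb.ker ≠ ⊤ := fun et => by
        have h1 : sb x = 1 := MonoidHom.mem_ker.1 (et ▸ Subgroup.mem_top x)
        have h3 := congrArg (fun u : ℂˣ => (u : ℂ)) h1
        simp only [hsb, MonoidHom.comp_apply, hx, hg₁, Units.val_one] at h3
        norm_num at h3
      have h4 : IsPGroup 2 (((Ct σ h) ⧸ Q) ⧸ sb.ker) := fun z => ⟨1, by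
        obtain ⟨z, rfl⟩ := QuotientGroup.mk_surjective z
        rw [pow_one, ← QuotientGroup.mk_pow, QuotientGroup.eq_one_iff, MonoidHom.mem_ker, map_pow]
        apply Units.ext
        rw [Units.val_pow_eq_pow_val, Units.val_one]
        rcases hsbpm z with e' | e' <;> rw [e'] <;> norm_num⟩
      obtain ⟨i, hi⟩ := h4.exists_card_eq
      rw [← Subgroup.index_eq_card] at hi
      rcases i with _ | i
      · exact absurd (Subgroup.index_eq_one.1 (by rw [hi, pow_zero])) hne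
      · exact hi ▸ dvd_pow_self 2 i.succ_ne_zero
    · exact e
  have hnoJ : ¬ IsConj (s ^ h) (s * τ) := fun hc => by
    have := hsbconj _ _ hc
    rw [hsbJ, map_mul, Units.val_mul, hsbs, hsbτ] at this
    norm_num at this
  -- cores
  have hoddlift : ∀ {a : (Ct σ h)}, Odd (orderOf a) → Odd (orderOf (q a)) := fun ha =>
    ha.of_dvd_nat (orderOf_map_dvd q _)
  have hcore : ∀ x : (Ct σ h) ⧸ Q, x ∈ S.core ↔ ∃ u : (Ct σ h), (u : G) ∈ D.O ∧ q u = x := by
    intro x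
    constructor
    · intro hx
      have hxo := (odd_orderOf S hx)
      obtain ⟨u, hu, rfl⟩ := BlocksCharsC.SmallCent.exists_regular_lift Q (p := 2)
        hxo.not_two_dvd_nat
      have huo : Odd (orderOf (u : G)) := by
        rw [Subgroup.orderOf_coe, Nat.odd_iff, ← Nat.two_dvd_ne_zero]; exact hu
      refine ⟨u, D.mem_O.2 ⟨?_, huo⟩, rfl⟩
      have hcomm := Subgroup.mem_centralizer_singleton_iff.1 (S.core_le hx)
      rw [hsh, show ((u : (Ct σ h) ⧸ Q)) = q u from rfl, ← map_mul, ← map_mul, hq_eq] at hcomm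
      rw [Subgroup.mem_centralizer_singleton_iff]
      have hc2 : (u : G) * σ ^ h = σ ^ h * u ∨ (u : G) * σ ^ h * σ ^ (2 * h) = σ ^ h * u := by
        rcases D.mem_tQ hcomm with e | e
        · left
          have e' : ((u : G) * σ ^ h)⁻¹ * (σ ^ h * u) = 1 := e
          exact inv_mul_eq_one.1 e'
        · right
          have e' : ((u : G) * σ ^ h)⁻¹ * (σ ^ h * u) = σ ^ (2 * h) := e
          exact (inv_mul_eq_iff_eq_mul.1 e').symm
      refine (commute_of_pow_two (k := 1) huo ?_).eq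
      rcases hc2 with e | e
      · exact (show Commute (u : G) (σ ^ h) from e).pow_left _
      · have ht : Commute (u : G) (σ ^ (2 * h)) := Subgroup.mem_centralizer_singleton_iff.1 u.2
        show (u : G) ^ 2 ^ 1 * σ ^ h = σ ^ h * (u : G) ^ 2 ^ 1
        rw [pow_one, sq]
        calc (u : G) * u * σ ^ h = (u : G) * ((u : G) * σ ^ h * σ ^ (2 * h)) * (σ ^ (2 * h))⁻¹ := by
              group
          _ = (u : G) * σ ^ h * ((u : G) * (σ ^ (2 * h))⁻¹) := by rw [e]; group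
          _ = (u : G) * σ ^ h * σ ^ (2 * h) * u := by
              rw [ht.inv_right.eq, inv_eq_of_mul_eq_one_right D.t_sq]; group
          _ = σ ^ h * ((u : G) * u) := by rw [e]; group
    · rintro ⟨u, hu, rfl⟩
      refine mem_core_of S ?_ (hoddlift (by rw [← Subgroup.orderOf_coe]; exact (D.mem_O.1 hu).2))
      rw [Subgroup.mem_centralizer_singleton_iff, hsh, ← map_mul, ← map_mul]
      exact congrArg q (Subtype.ext (Subgroup.mem_centralizer_singleton_iff.1 (D.O_le hu)))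
  have hinj : ∀ {a b : (Ct σ h)}, Odd (orderOf a) → Odd (orderOf b) → q a = q b → a = b := fun ha hb e =>
    BlocksCharsC.SmallCent.regular_eq_of_mk_eq Q hQp (tQ_le_center σ h) ha.not_two_dvd_nat
      hb.not_two_dvd_nat e
  have hOC : ∀ u ∈ D.O, u ∈ (Ct σ h) := fun u hu => D.C0_le (D.O_le hu)
  have hOodd : ∀ u (hu : u ∈ D.O), Odd (orderOf (⟨u, hOC u hu⟩ : (Ct σ h))) := fun u hu => by
    rw [Subgroup.orderOf_mk]; exact (D.mem_O.1 hu).2
  have hocard : Nat.card S.core = Nat.card D.O := by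
    refine (Nat.card_eq_of_bijective
      (fun u : D.O => (⟨q ⟨u, hOC u u.2⟩, (hcore _).2 ⟨⟨u, hOC u u.2⟩, u.2, rfl⟩⟩ : S.core))
      ⟨fun a b e => ?_, fun x => ?_⟩).symm
    · exact Subtype.ext (congrArg (fun c : Ct σ h => (c : G))
        (hinj (hOodd _ a.2) (hOodd _ b.2) (congrArg Subtype.val e)))
    · obtain ⟨u, hu, hux⟩ := (hcore _).1 x.2
      exact ⟨⟨u, hu⟩, Subtype.ext hux⟩
  have hCA : Nat.card (S.core ⊓ Subgroup.centralizer ({τ} : Set ((Ct σ h) ⧸ Q)) : Subgroup ((Ct σ h) ⧸ Q)) =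
      Nat.card D.X := by
    have hXC : ∀ u ∈ D.X, u ∈ (Ct σ h) := fun u hu => (D.mem_X.1 hu).1.1
    refine (Nat.card_eq_of_bijective
      (fun u : D.X => (⟨q ⟨u, hXC u u.2⟩, ⟨(hcore _).2 ⟨_, D.X_le_O hodd u.2, rfl⟩, ?_⟩⟩ :
        (S.core ⊓ Subgroup.centralizer ({τ} : Set ((Ct σ h) ⧸ Q)) : Subgroup ((Ct σ h) ⧸ Q))))
      ⟨fun a b e => ?_, fun x => ?_⟩).symm
    · refine Subgroup.mem_centralizer_singleton_iff.2 ?_
      rw [hτ, ← map_mul, ← map_mul]
      exact congrArg q (Subtype.ext ((D.fixed_sy_iff hodd).2 u.2).2.symm)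
    · exact Subtype.ext (congrArg (fun c : Ct σ h => (c : G))
        (hinj (hOodd _ (D.X_le_O hodd a.2)) (hOodd _ (D.X_le_O hodd b.2))
          (congrArg Subtype.val e)))
    · obtain ⟨u, hu, hux⟩ := (hcore _).1 x.2.1
      refine ⟨⟨u, (D.fixed_sy_iff hodd).1 ⟨hu, ?_⟩⟩, Subtype.ext hux⟩
      have hc := Subgroup.mem_centralizer_singleton_iff.1 x.2.2
      rw [← hux, hτ, ← map_mul, ← map_mul] at hc
      have h1 : q ((σC * yC) * u * (σC * yC)⁻¹) = q u := by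
        rw [map_mul, map_inv, mul_inv_eq_iff_eq_mul, ← hc, map_mul]
      have h3 := hinj (by
        rw [Small.orderOf_conj_eq, ← Subgroup.orderOf_coe]; exact (D.mem_O.1 hu).2)
        (by rw [← Subgroup.orderOf_coe]; exact (D.mem_O.1 hu).2) h1
      exact mul_inv_eq_iff_eq_mul.1 (congrArg Subtype.val h3)
  -- orders
  obtain ⟨a, ha, hker⟩ := D.ker_card
  have haX : Nat.card D.X = a := by
    have hker' : Nat.card (π.ker.map (Ct σ h).subtype) = 2 * a := by
      rw [← hker, Subgroup.card_map_of_injective (Ct σ h).subtype_injective]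
    have hdvd : Nat.card D.X ∣ a :=
      (Nat.Coprime.dvd_of_dvd_mul_left (Nat.coprime_two_right.2 D.X_odd)
        (hker' ▸ Subgroup.card_dvd_of_le D.exists_X.choose_spec.1))
    have htmem : σ ^ (2 * h) ∈ π.ker.map (Ct σ h).subtype :=
      Subgroup.mem_map.2 ⟨⟨σ ^ (2 * h), Subgroup.mem_centralizer_singleton_iff.2 rfl⟩, D.ker_t, rfl⟩
    have hle : 2 * a ≤ Nat.card D.X * 2 := by
      have e2 : Nat.card (D.X × Subgroup.zpowers (σ ^ (2 * h))) = Nat.card D.X * 2 := by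
        rw [Nat.card_prod, Nat.card_zpowers, D.t_order]
      rw [← hker', ← e2]
      refine Nat.card_le_card_of_surjective
        (fun x : D.X × Subgroup.zpowers (σ ^ (2 * h)) =>
          (⟨(x.1 : G) * x.2, mul_mem (D.exists_X.choose_spec.1 x.1.2)
            ((Subgroup.zpowers_le.2 htmem) x.2.2)⟩ : π.ker.map (Ct σ h).subtype))
        fun c => ?_
      obtain ⟨u, hu, t, ht, e⟩ := D.exists_X.choose_spec.2.2.2 c c.2
      exact ⟨⟨⟨u, hu⟩, ⟨t, ht⟩⟩, Subtype.ext e.symm⟩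
    exact le_antisymm (Nat.le_of_dvd ha.pos hdvd) (by omega)
  have hCq : Nat.card ((Ct σ h) ⧸ Q) = a * (p * (p ^ 2 - 1)) := by
    have e1 := Subgroup.card_eq_card_quotient_mul_card_subgroup Q
    have e2 : Nat.card (Ct σ h) = 2 * a * (p * (p ^ 2 - 1)) := by
      rw [← Subgroup.card_mul_index π.ker, hker, Subgroup.index_ker,
        MonoidHom.range_eq_top.2 D.surj, Subgroup.card_top, card_pgl]
    rw [hQ2, e2] at e1
    linarith
  -- the block
  obtain ⟨ζ, hζ⟩ : ∃ ζ : ℂ, IsPrimitiveRoot ζ (2 * h) :=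
    ⟨_, Complex.isPrimitiveRoot_exp (2 * h) (by omega)⟩
  haveI : NeZero (2 * h) := S.ne_zero
  obtain ⟨X₀, A₀, B₀, Y, δ, a₀, b₀, hδ, ha₀, hb₀, m1, m2, m3, m4, m5, m6, hY₀, hYinj, hmem₀,
    hv₀, hrel₀⟩ := S.principal_block hM hζ
  let T : IrrCharacter ((Ct σ h) ⧸ Q) := ⟨fun x => (sb x : ℂ), isIrr_linChar sb⟩
  have hTv : ∀ l : ℕ, (T : (Ct σ h) ⧸ Q → ℂ) (s ^ l) = (-1) ^ l := fun l => by
    show (sb (s ^ l) : ℂ) = _
    rw [map_pow, Units.val_pow_eq_pow_val, hsbs]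
  have hsbcore : ∀ x ∈ S.core, (sb x : ℂ) = 1 := fun x hx =>
    hsgodd _ ((odd_orderOf S hx).of_dvd_nat (orderOf_map_dvd πb x))
  have hTmem : T ∈ Cfsg.principalBlock M ((Ct σ h) ⧸ Q) := mem_of_const S hM (fun x hx => by
    show (sb _ : ℂ) = sb _
    rw [map_mul, Units.val_mul, hsbcore x hx, mul_one]) (by
    show (sb _ : ℂ) ≠ 0
    exact Units.ne_zero _)
  have hl : ∀ l : ℕ, 0 < l → l < 2 * h → s ^ l ≠ 1 := fun l l0 l1 e => by
    have := Nat.le_of_dvd l0 (S.pow_eq_one.1 e); omega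
  have hζh : ζ ^ h = -1 := by
    have h1 : ζ ^ h * ζ ^ h = 1 := by rw [← pow_add, ← two_mul, hζ.pow_eq_one]
    exact (mul_self_eq_one_iff.1 h1).resolve_left
      (hζ.pow_ne_one_of_pos_of_lt (by omega) (by omega))
  -- normal form with `T` second
  obtain ⟨B, b, hb, n1, n2, n3, n4, n5, n6, hY, hmem, hv, hrel⟩ :=
    normal_form S D.h_even hζ hδ ha₀ hb₀ m1 m2 m3 m4 m5 m6 hY₀ hmem₀ hv₀ hrel₀ hTmem hTv
  obtain ⟨dX, hdX0, hdX⟩ := exists_degree_pos X₀.2
  obtain ⟨dB, hdB0, hdB⟩ := exists_degree_pos B.2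
  have hT1 : (T : (Ct σ h) ⧸ Q → ℂ) 1 = 1 := by show (sb 1 : ℂ) = 1; simp
  have hxmod : (2 * h : ℤ) ∣ δ * dX - 1 := by
    obtain ⟨c, hc⟩ := dvd_of_const S hdX fun l hl' => (hv l hl').1
    refine ⟨δ * c, ?_⟩
    rcases hδ with rfl | rfl
    · linear_combination hc
    · linear_combination -hc
  have hBd : (B : (Ct σ h) ⧸ Q → ℂ) 1 = dX := by
    have e := hrel 1 (by rw [orderOf_one]; exact odd_one)
    rw [hdX, hdB, hT1] at e
    have e' : (δ : ℤ) * dX = -(b * dB) := by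
      apply Int.cast_injective (α := ℂ); push_cast; linear_combination e
    have : (dB : ℤ) = dX := by
      rcases hδ with rfl | rfl <;> rcases hb with rfl | rfl <;> push_cast at e' ⊢ <;> linarith
    rw [hdB]; exact_mod_cast congrArg (fun n : ℤ => (n : ℂ)) this
  have hY1 : ∀ ρ : (Ct σ h) ⧸ Q, Odd (orderOf ρ) → ∀ i, 1 ≤ i → i < h →
      (Y i : (Ct σ h) ⧸ Q → ℂ) ρ = (δ : ℂ) + (X₀ : (Ct σ h) ⧸ Q → ℂ) ρ := by
    intro ρ hρ i i1 i2
    have e := (hrel₀ ρ hρ i i1 i2).2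
    rcases hδ with rfl | rfl <;> push_cast at e ⊢
    · linear_combination -e
    · linear_combination e
  -- the Steinberg character
  obtain ⟨ξ, hξ1, hξu, hξJ⟩ := exists_steinberg p D.p2 πb hπbs
  have hπJ : πb (s ^ h) ≠ 1 ∧ πb (s ^ h) * πb (s ^ h) = 1 := by
    refine ⟨fun e => ?_, by rw [← map_mul, S.J_sq, map_one]⟩
    have hm : (shC : (Ct σ h)) ∈ π.ker := by rw [MonoidHom.mem_ker, ← hπbq, ← hsh, e]
    obtain ⟨u, hu, t, ht, e'⟩ := D.exists_X.choose_spec.2.2.2 (shC : G) ⟨shC, hm, rfl⟩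
    have hXP : u = 1 := by
      have huP : u ∈ (P : Subgroup G) := by
        rw [show u = (shC : G) * t⁻¹ by rw [e']; group]
        exact mul_mem (pow_mem D.memσ h) (inv_mem ((Subgroup.zpowers_le.2 (pow_mem D.memσ _)) ht))
      obtain ⟨i, hi⟩ := P.isPGroup'.exists_card_eq
      exact orderOf_eq_one_iff.1 (Nat.eq_one_of_dvd_coprimes
        ((Nat.coprime_two_right.2 D.X_odd).pow_right i) (D.X.orderOf_dvd_natCard hu)
        (hi ▸ Subgroup.orderOf_dvd_natCard _ huP))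
    rw [hXP, one_mul] at e'
    have h4 := D.sh_order
    have h5 : orderOf (σ ^ h) ∣ 2 := by
      rw [show σ ^ h = t from e']
      exact (Subgroup.orderOf_dvd_natCard _ ht).trans
        (dvd_of_eq (by rw [Nat.card_zpowers, D.t_order]))
    rw [h4] at h5
    norm_num at h5
  have hξmem : ξ ∈ Cfsg.principalBlock M ((Ct σ h) ⧸ Q) := by
    have key : ∀ k ∈ S.core, (ξ : (Ct σ h) ⧸ Q → ℂ) (s ^ h * k) = (ξ : (Ct σ h) ⧸ Q → ℂ) (s ^ h) ∧
        (ξ : (Ct σ h) ⧸ Q → ℂ) (s ^ h) ≠ 0 := fun k hk =>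
      hξJ _ k hπJ.1 hπJ.2 ((odd_orderOf S hk).of_dvd_nat (orderOf_map_dvd πb k))
        ((show Commute (s ^ h) k from
          (Subgroup.mem_centralizer_singleton_iff.1 (S.core_le hk)).symm).map πb)
    exact mem_of_const S hM (fun k hk => (key k hk).1) (key 1 (one_mem _)).2
  have hρodd : ∀ {c : (Ct σ h)}, Odd (orderOf c) → Odd (orderOf (q c)) := hoddlift
  obtain ⟨g₀, hg₀⟩ := D.surj (unip p)
  obtain ⟨e₂, m₂, hm₂, hem⟩ := Nat.exists_eq_two_pow_mul_odd (orderOf_pos g₀).ne'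
  obtain ⟨i₂, hi₂⟩ := exists_pow_eq_self_of_coprime (x := unip p) (n := 2 ^ e₂)
    (by rw [orderOf_unip]; exact ((Nat.coprime_primes Nat.prime_two hpp).2 (Ne.symm D.p2)).pow_left e₂)
  set gC : (Ct σ h) := (g₀ ^ 2 ^ e₂) ^ i₂ with hgC
  have hgπ : π gC = unip p := by rw [hgC, map_pow, map_pow, hg₀, hi₂]
  have hgodd : Odd (orderOf gC) := hm₂.of_dvd_nat ((orderOf_pow_dvd i₂).trans
    (orderOf_dvd_of_pow_eq_one (by rw [← pow_mul, ← hem, pow_orderOf_eq_one])))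
  have hξg : (ξ : (Ct σ h) ⧸ Q → ℂ) (q gC) = 0 := hξu _ (by rw [hπbq, hgπ])
  have hTg : (T : (Ct σ h) ⧸ Q → ℂ) (q gC) = 1 := hsgodd _ (by
    rw [hπbq, hgπ, orderOf_unip]; exact hpp.odd_of_ne_two D.p2)
  have hXg : (dX = p) ∧ (X₀ : (Ct σ h) ⧸ Q → ℂ) (q gC) = 0 ∧ (B : (Ct σ h) ⧸ Q → ℂ) (q gC) = 0 := by
    have hrg := hrel _ (hρodd hgodd)
    rw [hTg] at hrg
    have hrg' : (δ : ℂ) * (X₀ : (Ct σ h) ⧸ Q → ℂ) (q gC) = -(b * (B : (Ct σ h) ⧸ Q → ℂ) (q gC)) := by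
      linear_combination hrg
    have hb0 : (b : ℂ) ≠ 0 := by rcases hb with rfl | rfl <;> norm_num
    have hδ0 : (δ : ℂ) ≠ 0 := by rcases hδ with rfl | rfl <;> norm_num
    rcases (hmem ξ).1 hξmem with e | e | e | e | ⟨i, i1, i2, e⟩
    · exfalso
      rw [e, trivChar_apply] at hξ1
      exact hpp.ne_one (by exact_mod_cast hξ1.symm)
    · rw [e] at hξg hξ1
      refine ⟨by rw [hdX] at hξ1; exact_mod_cast hξ1, hξg, ?_⟩
      rw [hξg, mul_zero] at hrg'
      exact (mul_eq_zero.1 (neg_eq_zero.1 hrg'.symm)).resolve_left hb0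
    · exfalso
      rw [e, hT1] at hξ1
      exact hpp.ne_one (by exact_mod_cast hξ1.symm)
    · rw [e] at hξg hξ1
      refine ⟨by rw [hBd] at hξ1; exact_mod_cast hξ1, ?_, hξg⟩
      rw [hξg, mul_zero, neg_zero] at hrg'
      exact (mul_eq_zero.1 hrg').resolve_left hδ0
    · exfalso
      rw [e, hY1 1 (by rw [orderOf_one]; exact odd_one) i i1 i2, hdX] at hξ1
      have e' : δ + (dX : ℤ) = p := by
        apply Int.cast_injective (α := ℂ); push_cast; linear_combination hξ1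
      obtain ⟨c, hc⟩ := hxmod
      obtain ⟨m, hm⟩ := hpp.odd_of_ne_two D.p2
      rcases hδ with rfl | rfl <;> rw [mul_assoc] at hc <;> omega
  obtain ⟨rfl, hXg0, hBg0⟩ := hXg
  obtain ⟨j, hj⟩ := hxmod
  have hj' : δ * (dX : ℤ) = 1 + 2 * h * j := by linarith
  obtain ⟨hxne, hI⟩ := first_equation hM S hτJ hnoJ hζ hδ hb n1 n2 n3 n4 n5 n6 hY hYinj hmem hv
    hdX0 hdX hT1 hBd (fun i i1 i2 => by
      rw [hY1 1 (by rw [orderOf_one]; exact odd_one) i i1 i2, hdX]) ⟨j, hj⟩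
  rw [hocard, hCA, haX, hj'] at hI
  have hsq : ((dX : ℤ)) ^ 2 - 1 = 4 * h * j * (1 + h * j) := by
    rcases hδ with rfl | rfl
    · linear_combination (dX + (1 + 2 * h * j) : ℤ) * hj'
    · linear_combination (-(dX : ℤ) + (1 + 2 * h * j) : ℤ) * hj'
  have hj0 : j ≠ 0 := fun e => hxne (by rw [hj', e]; ring)
  have hpow4 : ((dX : ℤ) ^ 2 - 1) = ((dX ^ 2 - 1 : ℕ) : ℤ) := by
    rw [Nat.cast_sub (Nat.one_le_pow _ _ hdX0)]; push_cast; ring
  have hCs : Nat.card (Subgroup.centralizer ({s ^ h} : Set ((Ct σ h) ⧸ Q))) = 4 * h * Nat.card D.O := by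
    rw [card_C S, hocard]
  have hN := Subgroup.card_mul_index (Subgroup.centralizer ({s ^ h} : Set ((Ct σ h) ⧸ Q)))
  rw [hCs, hCq] at hN
  have hNz : (4 * (h : ℤ) * Nat.card D.O) *
      ((Subgroup.centralizer ({s ^ h} : Set ((Ct σ h) ⧸ Q))).index : ℤ) =
      (a : ℤ) * (dX * (4 * h * j * (1 + h * j))) := by
    rw [← hsq, hpow4]; exact_mod_cast hN
  set Ni := ((Subgroup.centralizer ({s ^ h} : Set ((Ct σ h) ⧸ Q))).index : ℤ)
  have hoeq : (Nat.card D.O : ℤ) = a * |j| := by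
    have e1 : (a : ℤ) * dX * j * (1 + h * j) * a ^ 2 * j ^ 2 =
        (Nat.card D.O : ℤ) ^ 3 * (1 + 2 * h * j) * (1 + h * j) := by
      apply mul_left_cancel₀ (show (4 * (h : ℤ) ^ 2) ≠ 0 by positivity)
      linear_combination (Nat.card D.O : ℤ) * hI -
        ((a : ℤ) ^ 2 * (h : ℤ) * j ^ 2) * hNz
    have hs0 : 1 + (h : ℤ) * j ≠ 0 := fun e => by
      obtain ⟨h', hh'⟩ := D.h_even
      rw [hh'] at e; push_cast at e
      have : (h' : ℤ) * j * 2 = -1 := by linarith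
      omega
    have e2 : (dX : ℤ) * ((a : ℤ) * j) ^ 3 = (Nat.card D.O : ℤ) ^ 3 * (δ * dX) := by
      apply mul_right_cancel₀ hs0
      rw [hj']; linear_combination e1
    have e3 : ((a : ℤ) * j) ^ 3 = δ * (Nat.card D.O : ℤ) ^ 3 := by
      apply mul_left_cancel₀ (show (dX : ℤ) ≠ 0 by exact_mod_cast hdX0.ne')
      linear_combination e2
    have e4 : |((a : ℤ) * j)| ^ 3 = |(Nat.card D.O : ℤ)| ^ 3 := by
      rw [← abs_pow, e3, abs_mul, abs_pow]
      rcases hδ with rfl | rfl <;> simp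
    have e5 := (pow_left_inj₀ (abs_nonneg _) (abs_nonneg _) (by norm_num)).1 e4
    rw [abs_mul, Nat.abs_cast, Nat.abs_cast] at e5
    exact e5.symm
  have hjodd : Odd j := by
    have ho : Odd (Nat.card D.O : ℤ) := by exact_mod_cast D.O_odd
    rw [hoeq] at ho
    exact odd_abs.1 (Int.Odd.of_mul_right ho)
  refine ⟨j, hjodd, by rcases hδ with rfl | rfl <;> omega, ?_, (gC : G), gC.2,
    (by rwa [Subgroup.orderOf_coe]), fun hg => hgπ, ?_⟩
  · rw [haX]
    apply Nat.cast_injective (R := ℤ)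
    rw [hoeq, Nat.cast_mul, Int.natCast_natAbs]
  · have hsum : ∀ r r' : (Ct σ h), Odd (orderOf r) → Odd (orderOf r') →
        ∑ χ : IrrCharacter G, (if χ ∈ Cfsg.principalBlock M G then
          (χ : G → ℂ) (σ ^ (2 * h) * r) * conj ((χ : G → ℂ) (σ ^ (2 * h) * r')) else 0) =
        2 * (1 + (X₀ : (Ct σ h) ⧸ Q → ℂ) (q r) * conj ((X₀ : (Ct σ h) ⧸ Q → ℂ) (q r')) +
          (T : (Ct σ h) ⧸ Q → ℂ) (q r) * conj ((T : (Ct σ h) ⧸ Q → ℂ) (q r')) +
          (B : (Ct σ h) ⧸ Q → ℂ) (q r) * conj ((B : (Ct σ h) ⧸ Q → ℂ) (q r')) +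
          ((h : ℂ) - 1) * (((δ : ℂ) + (X₀ : (Ct σ h) ⧸ Q → ℂ) (q r)) *
            conj ((δ : ℂ) + (X₀ : (Ct σ h) ⧸ Q → ℂ) (q r')))) := by
      intro r r' hr hr'
      rw [sum_section_two hM D.t_order Q (tQ_le_center σ h) hQ2 hr.not_two_dvd_nat
        hr'.not_two_dvd_nat, sum_block_eq n1 n2 n3 n4 n5 n6 hY hYinj hmem]
      congr 1
      rw [Finset.sum_congr rfl fun i hi => by
        obtain ⟨i1, i2⟩ := Finset.mem_Ico.1 hi
        rw [show ((r : (Ct σ h) ⧸ Q)) = q r from rfl, show ((r' : (Ct σ h) ⧸ Q)) = q r' from rfl,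
          hY1 _ (hρodd hr) i i1 i2, hY1 _ (hρodd hr') i i1 i2],
        Finset.sum_const, Nat.card_Ico, nsmul_eq_mul, Nat.cast_sub (by omega)]
      simp only [trivChar_apply, map_one, mul_one, Nat.cast_one]
      rfl
    have ho1 : Odd (orderOf (1 : (Ct σ h))) := by rw [orderOf_one]; exact odd_one
    have e11 := hsum gC gC hgodd hgodd
    have e10 := hsum gC 1 hgodd ho1
    have e00 := hsum 1 1 ho1 ho1
    simp only [OneMemClass.coe_one, mul_one, map_one, hdX, hBd, hT1, hTg, hXg0, hBg0,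
      Complex.conj_natCast, map_add, map_intCast, map_zero, zero_mul, add_zero] at e11 e10 e00
    have hδc : (δ : ℂ) * δ = 1 := by rcases hδ with rfl | rfl <;> norm_num
    have hjC : (δ : ℂ) * dX = 1 + 2 * h * j := by exact_mod_cast congrArg (fun n : ℤ => (n : ℂ)) hj'
    refine ⟨e11.trans ?_, e10.trans ?_, e00.trans ?_⟩
    · linear_combination 2 * ((h : ℂ) - 1) * hδc
    · linear_combination 2 * ((h : ℂ) - 1) * hδc + 2 * ((h : ℂ) - 1) * hjC
    · linear_combination 2 * ((h : ℂ) - 1) * (1 + (δ : ℂ) * dX + (2 + 2 * h * j)) * hjC +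
        2 * ((h : ℂ) - 1) * (1 + (dX : ℂ) ^ 2 * (-1)) * hδc

end CfsgLib.SuzukiWong
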