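import Cfsg.Agent.SuzukiWong.SDPairs

/-!
# Suzuki–Wong: primes not dividing the number of involutions

For `r` dividing `|O|` or `r = p` some element `y₁` of order `r` of `C(t)` has `t` as the only
involution of `C(t) ∩ C(y₁)`; then a Sylow `r`-subgroup centralizes `t`.
-/

set_option autoImplicit false
set_option linter.unusedSectionVars false
set_option linter.style.haveILetI false

namespace CfsgLib.SuzukiWong

open Subgroup
open scoped MatrixGroups

universe u

variable {G : Type u} [Group G]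

theorem commute_zpow_unip {p : ℕ} [Fact p.Prime] {i : ℕ} (hi : ¬ p ∣ i) {a : PGL(2, ZMod p)}
    (h : Commute (unip p ^ i) a) : Commute (unip p) a := by
  obtain ⟨m, hm⟩ := exists_pow_eq_self_of_coprime (x := unip p) (n := i)
    (by rw [orderOf_unip]; exact ((Fact.out (p := p.Prime)).coprime_iff_not_dvd.2 hi).symm)
  rw [← hm]
  exact h.pow_left m

variable [Fintype G]

/-- If the only involution of `C(t) ∩ C(x)` is `t`, a Sylow subgroup through `x` centralizes `t`. -/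
theorem not_dvd_index_of_unique {r : ℕ} [Fact r.Prime] (hr2 : r ≠ 2)
    (hcyc : ∀ R : Sylow r G, IsCyclic R) {t x : G} (ht : orderOf t = 2) (hx : orderOf x = r)
    (htx : Commute t x)
    (huniq : ∀ v : G, orderOf v = 2 → Commute v t → Commute v x → v = t) :
    ¬ r ∣ (centralizer ({t} : Set G)).index := by
  haveI : Fact (Nat.Prime 2) := ⟨Nat.prime_two⟩
  set K := centralizer ({x} : Set G) with hK
  have htK : t ∈ K := mem_centralizer_singleton_iff.2 htx.eq
  obtain ⟨S, hS⟩ := (IsPGroup.of_card (G := zpowers (⟨t, htK⟩ : K)) (p := 2) (n := 1)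
    (by rw [Nat.card_zpowers, Subgroup.orderOf_mk, ht, pow_one])).exists_le_sylow
  set T := (S : Subgroup K).map K.subtype with hT
  have hTK : T ≤ K := Subgroup.map_subtype_le _
  have hT2 : IsPGroup 2 T := S.isPGroup'.map _
  have htT : t ∈ T := ⟨⟨t, htK⟩, hS (mem_zpowers _), rfl⟩
  have hmax : ∀ T' : Subgroup G, IsPGroup 2 T' → T' ≤ K → T ≤ T' → T' = T := by
    intro T' hT' hle hTT'
    have h := S.is_maximal' (Q := T'.subgroupOf K)
      (hT'.of_equiv (Subgroup.subgroupOfEquivOfLe hle).symm)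
      fun a ha => Subgroup.mem_subgroupOf.2 (hTT' ⟨a, ha, rfl⟩)
    refine le_antisymm (fun a ha => ⟨⟨a, hle ha⟩, ?_, rfl⟩) hTT'
    rw [← h]
    exact Subgroup.mem_subgroupOf.2 ha
  have hne : Nontrivial T := ⟨⟨t, htT⟩, 1, fun e => by
    have e' : t = 1 := congrArg Subtype.val e
    rw [e', orderOf_one] at ht; omega⟩
  haveI := hT2.center_nontrivial
  obtain ⟨i, hi⟩ := (hT2.to_subgroup (center T)).exists_card_eq
  have h2c : 2 ∣ Nat.card (center T) := by
    rcases i with _ | i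
    · have := Finite.one_lt_card (α := center T)
      rw [hi, pow_zero] at this; omega
    · rw [hi]; exact dvd_pow_self 2 i.succ_ne_zero
  obtain ⟨z, hz⟩ := exists_prime_orderOf_dvd_card' 2 h2c
  have hz2 : orderOf ((z : T) : G) = 2 := by rw [Subgroup.orderOf_coe, Subgroup.orderOf_coe, hz]
  have hzc : ∀ a ∈ T, Commute ((z : T) : G) a := fun a ha =>
    congrArg Subtype.val (Subgroup.mem_center_iff.1 z.2 ⟨a, ha⟩).symm
  have hzt : ((z : T) : G) = t := huniq _ hz2 (hzc t htT)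
    (mem_centralizer_singleton_iff.1 (hTK (z : T).2))
  have hall : ∀ a ∈ T, orderOf a = 2 → a = t := fun a ha ha2 => huniq a ha2
    (hzt ▸ (hzc a ha).symm) (mem_centralizer_singleton_iff.1 (hTK ha))
  obtain ⟨R, -, hR⟩ := exists_sylow_normalizing hr2 hcyc hx T hT2 hTK hmax
  have hle : (R : Subgroup G) ≤ centralizer ({t} : Set G) := by
    intro a ha
    have h1 : a * t * a⁻¹ = t := hall _ ((mem_normalizer_iff.1 (hR ha) t).1 htT)
      (by rw [Small.orderOf_conj_eq, ht])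
    exact mem_centralizer_singleton_iff.2 (mul_inv_eq_iff_eq_mul.1 h1)
  exact fun hd => R.not_dvd_index (hd.trans (Subgroup.index_dvd_of_le hle))

variable {P : Sylow 2 G} {σ y : G} {h p : ℕ} [Fact p.Prime]
  {π : Subgroup.centralizer ({σ ^ (2 * h)} : Set G) →* PGL(2, ZMod p)} (D : SDData P σ y h p π)
include D

variable (hodd : ∀ q : ℕ, q.Prime → q ≠ 2 → ∀ R : Sylow q G, IsCyclic R) [IsSimpleGroup G]
  (hna : ¬ IsMulCommutative G)
include hodd hna

/-- An involution of `C(t)` other than `t` inverts `X`. -/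
theorem SDData.invol_inverts_X {v : G} (hv : v ∈ centralizer ({σ ^ (2 * h)} : Set G))
    (hv2 : orderOf v = 2) (hvt : v ≠ σ ^ (2 * h)) {u : G} (hu : u ∈ D.X) :
    v * u * v⁻¹ = u⁻¹ := by
  haveI : Fact (Nat.Prime 2) := ⟨Nat.prime_two⟩
  set C := centralizer ({σ ^ (2 * h)} : Set G)
  let Pc : Sylow 2 C := P.subtype D.P_le_C
  obtain ⟨S, hS⟩ := (IsPGroup.of_card (G := zpowers (⟨v, hv⟩ : C)) (p := 2) (n := 1)
    (by rw [Nat.card_zpowers, Subgroup.orderOf_mk, hv2, pow_one])).exists_le_sylow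
  obtain ⟨c, hc⟩ := MulAction.exists_smul_eq C S Pc
  have hmem : (c : G) * v * (c : G)⁻¹ ∈ (P : Subgroup G) := by
    have h1 := Subgroup.smul_mem_pointwise_smul _ (MulAut.conj c) _ (hS (mem_zpowers (⟨v, hv⟩ : C)))
    rw [← Sylow.coe_subgroup_smul, hc] at h1
    exact Subgroup.mem_subgroupOf.1 h1
  have hord : orderOf ((c : G) * v * (c : G)⁻¹) = 2 := by rw [Small.orderOf_conj_eq, hv2]
  have hPH : (P : Subgroup G) ≤ HH σ h := fun a ha => D.mem_HH.2 (D.conj_sh ha)
  have hct : (c : G) * σ ^ (2 * h) * (c : G)⁻¹ = σ ^ (2 * h) :=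
    mul_inv_eq_iff_eq_mul.2 (mem_centralizer_singleton_iff.1 c.2)
  rcases D.invol_outside hodd hna (hPH hmem) hord with e | ⟨w, hw, m, e⟩
  · exfalso
    rw [← hct] at e
    exact hvt (mul_left_cancel (mul_right_cancel e))
  · set u' := (c : G) * u * (c : G)⁻¹
    have hu' : u' ∈ D.O := D.X_le_O hodd (D.X_conj c.2 hu)
    have h1 : ((c : G) * v * (c : G)⁻¹) * u' * ((c : G) * v * (c : G)⁻¹)⁻¹ = u'⁻¹ := by
      have hs : Commute (σ ^ (2 * m)) u'⁻¹ := by
        rw [pow_mul]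
        exact ((show Commute (σ ^ 2) u' from D.sigma_sq_O hodd hu').pow_left m).inv_right
      rw [e, show w * σ ^ (2 * m) * y * u' * (w * σ ^ (2 * m) * y)⁻¹ =
        w * (σ ^ (2 * m) * (y * u' * y⁻¹) * (σ ^ (2 * m))⁻¹) * w⁻¹ by group,
        D.y_inv_O hodd hna hu', hs.eq, mul_inv_cancel_right,
        D.O_comm hodd hna hw (inv_mem hu'), mul_inv_cancel_right]
    calc v * u * v⁻¹ = (c : G)⁻¹ * (((c : G) * v * (c : G)⁻¹) * u' *
        ((c : G) * v * (c : G)⁻¹)⁻¹) * (c : G) := by simp only [u']; group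
      _ = u⁻¹ := by rw [h1]; simp only [u']; group

/-- `t` is the only involution of `C(t)` commuting with a nontrivial element of odd order of `X`,
of `O`, or over a power of the unipotent element. -/
theorem SDData.unique_invol {x : G} (hxC : x ∈ centralizer ({σ ^ (2 * h)} : Set G))
    (hxo : Odd (orderOf x)) (hx1 : x ≠ 1)
    (hx : x ∈ D.O ∨ ∃ i : ℕ, ¬ p ∣ i ∧ π ⟨x, hxC⟩ = unip p ^ i) {v : G} (hv2 : orderOf v = 2)
    (hvt : Commute v (σ ^ (2 * h))) (hvx : Commute v x) : v = σ ^ (2 * h) := by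
  by_contra hne
  have hvC : v ∈ centralizer ({σ ^ (2 * h)} : Set G) := mem_centralizer_singleton_iff.2 hvt.eq
  have hvv : v * v = 1 := Small.mul_self_of_orderOf_two hv2
  by_cases hxX : x ∈ D.X
  · have e := D.invol_inverts_X hodd hna hvC hv2 hne hxX
    rw [hvx.eq, mul_inv_cancel_right] at e
    have hd : orderOf x ∣ 2 := orderOf_dvd_of_pow_eq_one (by
      rw [sq]; exact mul_eq_one_iff_eq_inv.2 e)
    rcases (Nat.dvd_prime Nat.prime_two).1 hd with hd | hd
    · exact hx1 (orderOf_eq_one_iff.1 hd)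
    · rw [hd] at hxo; exact absurd hxo (by decide)
  set xC : centralizer ({σ ^ (2 * h)} : Set G) := ⟨x, hxC⟩
  set vC : centralizer ({σ ^ (2 * h)} : Set G) := ⟨v, hvC⟩
  have hπv1 : π vC ≠ 1 := by
    intro e
    obtain ⟨w, hw, z, hz, e'⟩ := D.exists_X.choose_spec.2.2.2 v ⟨vC, e, rfl⟩
    obtain ⟨i, hi⟩ := mem_powers_iff_mem_zpowers.2 hz
    simp only at hi
    have hwt : Commute w (σ ^ (2 * h)) := mem_centralizer_singleton_iff.1 (D.mem_X.1 hw).1.1
    have hw2 : w ^ 2 = 1 := by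
      rw [e', ← sq, ← hi, (hwt.pow_right i).mul_pow, ← pow_mul, mul_comm i, pow_mul, sq (σ ^ (2 * h)),
        D.t_sq, one_pow, mul_one] at hvv
      exact hvv
    have hw1 : w = 1 := by
      rcases (Nat.dvd_prime Nat.prime_two).1 (orderOf_dvd_of_pow_eq_one hw2) with hd | hd
      · exact orderOf_eq_one_iff.1 hd
      · have := (D.mem_X.1 hw).2
        rw [hd] at this; exact absurd this (by decide)
    rw [hw1, one_mul, ← hi] at e'
    rcases Nat.even_or_odd' i with ⟨m, rfl | rfl⟩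
    · rw [pow_mul, sq, D.t_sq, one_pow] at e'
      rw [e', orderOf_one] at hv2; omega
    · rw [pow_succ, pow_mul, sq, D.t_sq, one_pow, one_mul] at e'
      exact hne e'
  have hπc : Commute (π xC) (π vC) :=
    (show Commute xC vC from Subtype.ext hvx.symm.eq).map π
  have hπvv : π vC * π vC = 1 := by
    rw [← map_mul, show vC * vC = 1 from Subtype.ext hvv, map_one]
  rcases hx with hO | ⟨i, hi, e⟩
  · have hπx : π xC ≠ 1 := fun e => hxX (D.mem_X.2 ⟨⟨hxC, e⟩, hxo⟩)
    have hshC : σ ^ h ∈ centralizer ({σ ^ (2 * h)} : Set G) := D.sh_mem_C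
    have hshsq : (⟨σ ^ h, hshC⟩ : centralizer ({σ ^ (2 * h)} : Set G)) * ⟨σ ^ h, hshC⟩ =
        ⟨σ ^ (2 * h), mem_centralizer_singleton_iff.2 rfl⟩ :=
      Subtype.ext (by show σ ^ h * σ ^ h = _; rw [← pow_add, two_mul])
    have key : π ⟨σ ^ h, hshC⟩ = 1 ∨ π ⟨σ ^ h, hshC⟩ = π vC := by
      by_cases e1 : π ⟨σ ^ h, hshC⟩ = 1
      · exact Or.inl e1
      · exact Or.inr (invol_unique_of_commute_odd
          (Ring.two_ne_zero (by rw [ZMod.ringChar_zmod_n]; exact D.p2)) hπx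
          (hxo.of_dvd_nat ((orderOf_map_dvd π _).trans (Subgroup.orderOf_mk x _).dvd))
          ((show Commute xC ⟨σ ^ h, hshC⟩ from
            Subtype.ext (mem_centralizer_singleton_iff.1 (D.O_le hO))).map π) hπc e1 hπv1
          (by rw [← map_mul, hshsq, D.ker_t]) hπvv)
    have hk : ∃ w ∈ D.X, ∃ i : ℕ, v = σ ^ (h * i) * w ∨ σ ^ h = w * (σ ^ (2 * h)) ^ i := by
      rcases key with e1 | e1
      · obtain ⟨w, hw, z, hz, e'⟩ := D.exists_X.choose_spec.2.2.2 (σ ^ h) ⟨_, e1, rfl⟩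
        obtain ⟨i, hi⟩ := mem_powers_iff_mem_zpowers.2 hz
        simp only at hi
        exact ⟨w, hw, i, Or.inr (by rw [e', hi])⟩
      · obtain ⟨w, hw, z, hz, e'⟩ := D.exists_X.choose_spec.2.2.2 ((σ ^ h)⁻¹ * v)
          ⟨⟨_, hshC⟩⁻¹ * vC, by rw [SetLike.mem_coe, MonoidHom.mem_ker, map_mul, map_inv, e1,
            inv_mul_cancel], rfl⟩
        obtain ⟨i, hi⟩ := mem_powers_iff_mem_zpowers.2 hz
        simp only at hi
        refine ⟨w, hw, 1 + 2 * i, Or.inl ?_⟩
        have hwt : Commute w ((σ ^ (2 * h)) ^ i) :=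
          Commute.pow_right (mem_centralizer_singleton_iff.1 (D.mem_X.1 hw).1.1) i
        calc v = σ ^ h * ((σ ^ h)⁻¹ * v) := by group
          _ = σ ^ h * ((σ ^ (2 * h)) ^ i * w) := by rw [e', ← hi, hwt.eq]
          _ = σ ^ (h * (1 + 2 * i)) * w := by
            rw [← mul_assoc, ← pow_mul, ← pow_add]; congr 2; ring
    obtain ⟨w, hw, i, e' | e'⟩ := hk
    · have hwO : w ∈ D.O := D.X_le_O hodd hw
      have hvC0 : v ∈ C0 σ h := e' ▸ mul_mem (pow_mem D.sigma_mem_C0 _) (D.O_le hwO)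
      rcases D.invol_outside hodd hna (D.C0_le_HH hvC0) hv2 with e2 | ⟨u, hu, m, e2⟩
      · exact hne e2
      · exact D.y_not_C0 ((Subgroup.mul_mem_cancel_left _
          (mul_mem (D.O_le hu) (pow_mem D.sigma_mem_C0 _))).1 (e2 ▸ hvC0))
    · have e3 : w⁻¹ * σ ^ h = σ ^ (2 * h * i) := by rw [e', pow_mul]; group
      have h4 := (D.decomp_unique (u := w⁻¹) (v := 1) (inv_mem (D.X_le_O hodd hw)) (one_mem _)
        (i := h) (j := 2 * h * i) (by rw [one_mul]; exact e3)).2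
      have h5 : orderOf (σ ^ h) ∣ 2 := orderOf_dvd_of_pow_eq_one (by
        rw [h4, ← pow_mul, D.pow_eq_one]; exact ⟨i, by ring⟩)
      rw [D.sh_order] at h5
      norm_num at h5
  · rw [e] at hπc
    exact unip_not_commute p D.p2 hπv1 hπvv (commute_zpow_unip hi hπc)

/-- Primes of `|O|` and `p` do not divide the number of involutions. -/
theorem SDData.not_dvd_invol {r : ℕ} (hr : r.Prime) (h' : r ∣ Nat.card D.O ∨ r = p) :
    ¬ r ∣ (centralizer ({σ ^ (2 * h)} : Set G)).index := by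
  haveI := Fact.mk hr
  have hpp : p.Prime := Fact.out
  obtain ⟨x, hxC, hxr, hxcase⟩ : ∃ (x : G) (hxC : x ∈ centralizer ({σ ^ (2 * h)} : Set G)),
      orderOf x = r ∧ (x ∈ D.O ∨ ∃ i : ℕ, ¬ p ∣ i ∧ π ⟨x, hxC⟩ = unip p ^ i) := by
    by_cases hd : r ∣ Nat.card D.O
    · obtain ⟨⟨x, hx⟩, hxr⟩ := exists_prime_orderOf_dvd_card' (G := D.O) r hd
      rw [Subgroup.orderOf_mk] at hxr
      exact ⟨x, D.C0_le (D.O_le hx), hxr, Or.inl hx⟩
    · obtain rfl : r = p := h'.resolve_left hd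
      obtain ⟨g₀, hg₀⟩ := D.surj (unip r)
      have hdo : r ∣ orderOf g₀ := by
        have := orderOf_map_dvd π g₀
        rwa [hg₀, orderOf_unip] at this
      have hord := orderOf_pow_orderOf_div (orderOf_pos g₀).ne' hdo
      refine ⟨((g₀ ^ (orderOf g₀ / r) : centralizer ({σ ^ (2 * h)} : Set G)) : G), SetLike.coe_mem _,
        by rw [Subgroup.orderOf_coe, hord], Or.inr ⟨orderOf g₀ / r, fun hdi => hd ?_, ?_⟩⟩
      · have hker : (g₀ ^ (orderOf g₀ / r)) ∈ π.ker := by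
          rw [MonoidHom.mem_ker, map_pow, hg₀]
          exact orderOf_dvd_iff_pow_eq_one.1 ((orderOf_unip r).symm ▸ hdi)
        have hX : ((g₀ ^ (orderOf g₀ / r) : centralizer ({σ ^ (2 * h)} : Set G)) : G) ∈ D.X :=
          D.mem_X.2 ⟨⟨SetLike.coe_mem _, hker⟩,
            by rw [Subgroup.orderOf_coe, hord]; exact hpp.odd_of_ne_two D.p2⟩
        have := D.O.orderOf_dvd_natCard (D.X_le_O hodd hX)
        rwa [Subgroup.orderOf_coe, hord] at this
      · show π (g₀ ^ (orderOf g₀ / r)) = _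
        rw [map_pow, hg₀]
  have hr2 : r ≠ 2 := by
    rcases h' with hd | rfl
    · exact fun e => D.O_odd.not_two_dvd_nat (e ▸ hd)
    · exact D.p2
  have hx1 : x ≠ 1 := fun e => by rw [e, orderOf_one] at hxr; exact hr.ne_one hxr.symm
  exact not_dvd_index_of_unique hr2 (hodd r hr hr2) D.t_order hxr
    (show Commute x (σ ^ (2 * h)) from mem_centralizer_singleton_iff.1 hxC).symm
    fun v hv1 hv2 hv3 => D.unique_invol hodd hna hxC (hxr ▸ hr.odd_of_ne_two hr2) hx1 hxcase hv1 hv2 hv3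

end CfsgLib.SuzukiWong
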