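import Cfsg.Agent.SuzukiWong.SDTheta
import Cfsg.Agent.SuzukiWong.SDPowers
import Cfsg.Agent.SuzukiWong.SDColumn
import Cfsg.Agent.SuzukiWong.SDQuot
import Cfsg.Agent.SuzukiWong.SDRegular
import Cfsg.Agent.SuzukiWong.SDArith

/-!
# Suzuki–Wong: the arithmetic survivor of the semidihedral case

Only `p = 5`, `h = 2`, `|X| = 1` and `357` involutions remain.
-/

set_option autoImplicit false
set_option linter.unusedSectionVars false
set_option linter.style.haveILetI false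

namespace CfsgLib.SuzukiWong

open Cfsg CfsgLib.Characters CfsgLib.Blocks CfsgLib.PrincipalBlock
open scoped ComplexConjugate MatrixGroups

universe u

variable {G : Type u} [Group G] [Fintype G]

/-- A finite sum over a subset is at most the whole sum. -/
theorem sum_subset_le {α : Type*} {s t : Finset α} (hst : s ⊆ t) (f : α → ℤ) :
    ∑ x ∈ s, f x ^ 2 ≤ ∑ x ∈ t, f x ^ 2 :=
  Finset.sum_le_sum_of_subset_of_nonneg hst fun _ _ _ => sq_nonneg _

theorem two_le_sq_add {c l : ℤ} (h : Even (c + l)) (hne : c ≠ 0 ∨ l ≠ 0) : 2 ≤ c ^ 2 + l ^ 2 := by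
  obtain ⟨k, hk⟩ := h
  by_contra hlt
  push Not at hlt
  have h1 : -1 ≤ c ∧ c ≤ 1 := by constructor <;> nlinarith
  have h2 : -1 ≤ l ∧ l ≤ 1 := by constructor <;> nlinarith
  obtain ⟨a, b⟩ := h1
  obtain ⟨a', b'⟩ := h2
  interval_cases c <;> interval_cases l <;> simp_all <;> omega

theorem sq_sign_mul {e z : ℤ} (he : e = 1 ∨ e = -1) : (e * z) ^ 2 = z ^ 2 := by
  rcases he with rfl | rfl <;> ring

variable {P : Sylow 2 G} {σ y : G} {h p : ℕ} [Fact p.Prime]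
  {π : Subgroup.centralizer ({σ ^ (2 * h)} : Set G) →* PGL(2, ZMod p)} (D : SDData P σ y h p π)
  (hodd : ∀ q : ℕ, q.Prime → q ≠ 2 → ∀ R : Sylow q G, IsCyclic R) [IsSimpleGroup G]
  (hna : ¬ IsMulCommutative G)
include D hodd hna

open Classical in
set_option maxHeartbeats 1000000 in
/-- The only numerical possibility. -/
theorem SDData.survivor : h = 2 ∧ p = 5 ∧ Nat.card D.X = 1 ∧
    (Subgroup.centralizer ({σ ^ (2 * h)} : Set G)).index = 357 := by
  obtain ⟨M, hM⟩ := Blocks.exists_isPModular 2 Nat.prime_two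
  haveI : M.IsPrime := Blocks.IsPModular.isPrime hM
  haveI : Fact (Nat.Prime 2) := ⟨Nat.prime_two⟩
  have h2 := D.two_le
  obtain ⟨k₀, hk₀⟩ := D.pow2
  obtain ⟨lam, hl⟩ := D.exists_lam
  obtain ⟨j, hjodd, hp, hoX, g, hgC, hgo, hgπ, S11, S10, S00⟩ := D.quot_facts hodd hna hM
  set xb : ℤ := 1 + 2 * (h : ℤ) * j with hxb
  have hxbp : xb ^ 2 = (p : ℤ) ^ 2 := by rw [← hp, Int.natCast_natAbs, sq_abs]
  have hxb0 : xb ≠ 0 := fun e => by
    rw [e] at hp; exact (Fact.out (p := p.Prime)).ne_zero hp.symm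
  have hxbodd : Odd xb := ⟨h * j, by rw [hxb]; ring⟩
  -- the integers of the columns
  have hcl : ∀ χ : IrrCharacter G, ∃ c l : ℤ, χ ∈ Cfsg.principalBlock M G →
      (χ : G → ℂ) (σ ^ (2 * h) * g) = c ∧ intVal χ (σ ^ (2 * h)) = c + xb * l := by
    intro χ
    by_cases hχ : χ ∈ Cfsg.principalBlock M G
    · obtain ⟨c, hc, hd⟩ := D.column_entry hM hgC hgo (hgπ hgC) hχ (apply_invol_eq χ D.t_sq)
      obtain ⟨l, hl'⟩ : xb ∣ intVal χ (σ ^ (2 * h)) - c := by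
        refine (Int.natAbs_dvd).1 ?_
        rw [hp]; exact hd
      exact ⟨c, l, fun _ => ⟨hc, by linarith⟩⟩
    · exact ⟨0, 0, fun e => absurd e hχ⟩
  choose cc ll hcl using hcl
  set B0 := Finset.univ.filter fun χ : IrrCharacter G => χ ∈ Cfsg.principalBlock M G with hB0
  have hmem : ∀ {χ : IrrCharacter G}, χ ∈ B0 ↔ χ ∈ Cfsg.principalBlock M G := by simp [hB0]
  have hconv : ∀ (f f' : IrrCharacter G → ℤ) (a b : G),
      (∀ χ, χ ∈ B0 → (χ : G → ℂ) a = f χ) → (∀ χ, χ ∈ B0 → (χ : G → ℂ) b = f' χ) →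
      ∑ χ : IrrCharacter G, (if χ ∈ Cfsg.principalBlock M G then
        (χ : G → ℂ) a * conj ((χ : G → ℂ) b) else 0) = ((∑ χ ∈ B0, f χ * f' χ : ℤ) : ℂ) := by
    intro f f' a b ha hb
    rw [Int.cast_sum, ← Finset.sum_filter]
    refine Finset.sum_congr rfl fun χ hχ => ?_
    rw [ha χ hχ, hb χ hχ, map_intCast, Int.cast_mul]
  have hc2 : ∑ χ ∈ B0, cc χ ^ 2 = 2 * (h : ℤ) + 2 := by
    have e := (hconv cc cc _ _ (fun χ hχ => (hcl χ (hmem.1 hχ)).1)
      (fun χ hχ => (hcl χ (hmem.1 hχ)).1)).symm.trans S11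
    apply Int.cast_injective (α := ℂ)
    simp only [← sq] at e
    rw [e]; push_cast; ring
  have hl2 : ∑ χ ∈ B0, ll χ ^ 2 = 2 * (h : ℤ) + 2 := by
    have e1 := (hconv cc cc _ _ (fun χ hχ => (hcl χ (hmem.1 hχ)).1)
      (fun χ hχ => (hcl χ (hmem.1 hχ)).1)).symm.trans S11
    have e2 := (hconv cc (fun χ => intVal χ (σ ^ (2 * h))) _ _ (fun χ hχ => (hcl χ (hmem.1 hχ)).1)
      (fun χ _ => apply_invol_eq χ D.t_sq)).symm.trans S10
    have e3 := (hconv (fun χ => intVal χ (σ ^ (2 * h))) (fun χ => intVal χ (σ ^ (2 * h))) _ _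
      (fun χ _ => apply_invol_eq χ D.t_sq) (fun χ _ => apply_invol_eq χ D.t_sq)).symm.trans S00
    apply mul_left_cancel₀ (pow_ne_zero 2 hxb0)
    rw [Finset.mul_sum, Finset.sum_congr rfl (g := fun χ =>
      intVal χ (σ ^ (2 * h)) * intVal χ (σ ^ (2 * h)) - 2 * (cc χ * intVal χ (σ ^ (2 * h))) +
        cc χ * cc χ) fun χ hχ => by
      rw [(hcl χ (hmem.1 hχ)).2]; ring,
      Finset.sum_add_distrib, Finset.sum_sub_distrib, ← Finset.mul_sum]
    apply Int.cast_injective (α := ℂ)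
    have hpC : (p : ℂ) ^ 2 = (xb : ℂ) ^ 2 := by exact_mod_cast hxbp.symm
    have hxbC : (xb : ℂ) = 1 + 2 * h * j := by rw [hxb]; push_cast; ring
    push_cast at e1 e2 e3 ⊢
    rw [e1, e2, e3, hpC, hxbC]
    ring
  -- constituents
  obtain ⟨X, A, B, W, ε, α, β, w, hε, hα, hβ, hXW, hWinj, hAX, hBX, hAB, hX, hA, hB, hoff⟩ :=
    D.exists_XW hodd hna hl
  have hW1 := hXW 1 le_rfl (by omega)
  obtain ⟨heq, hx1, hxu⟩ := D.main_eq hodd hna hl hε hW1.2.2.1 le_rfl (by omega) hW1.1 hW1.2.1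
    hW1.2.2.2.1.symm hW1.2.2.2.2.2.2 hp hoX
  obtain ⟨Θ, hΘcard, hΘ, -, hΘD⟩ := D.exists_theta hodd hna hl hM hε hα hβ
    (fun i i1 i2 => ⟨(hXW i i1 i2).1, (hXW i i1 i2).2.2.2.2.2.2⟩) hAX hBX hAB hX hA hB hoff hxu
  have hunit : ∀ {χ : IrrCharacter G} {i : ℕ} {e : ℤ}, 1 ≤ i → i ≤ h → (e = 1 ∨ e = -1) →
      redCof lam i χ = e → χ ≠ trivChar G ∧ χ ∈ B0 ∧ χ ∉ Θ := by
    intro χ i e i1 i2 he hχ
    have hne : χ ≠ trivChar G := fun e' => by rw [e', redCof_triv] at hχ; omega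
    refine ⟨hne, hmem.2 (D.mem_block_of_cof hodd hna hM hl (k := 0) (l := 2 * i) (by simp) ?_),
      fun hθ => ?_⟩
    · rw [← redCof_of_ne lam i hne, hχ]; omega
    · rw [(hΘ χ hθ).2.2 i i1 i2] at hχ; omega
  obtain ⟨hXne, hXB, hXΘ⟩ := hunit le_rfl (show 1 ≤ h by omega) hε hW1.1
  obtain ⟨hAne, hAB0, hAΘ⟩ := hunit (show 1 ≤ h by omega) le_rfl hα hA
  obtain ⟨hBne, hBB0, hBΘ⟩ := hunit (show 1 ≤ h by omega) le_rfl hβ hB
  have hWf : ∀ i ∈ Finset.Ico 1 h, W i ≠ trivChar G ∧ W i ∈ B0 ∧ W i ∉ Θ := fun i hi =>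
    hunit (Finset.mem_Ico.1 hi).1 (Finset.mem_Ico.1 hi).2.le
      (hXW i (Finset.mem_Ico.1 hi).1 (Finset.mem_Ico.1 hi).2).2.2.1
      (hXW i (Finset.mem_Ico.1 hi).1 (Finset.mem_Ico.1 hi).2).2.1
  -- a subset of the block
  set Wi := (Finset.Ico 1 h).image W with hWi
  have hWmem : ∀ {χ}, χ ∈ Wi → ∃ i ∈ Finset.Ico 1 h, W i = χ := fun hχ => Finset.mem_image.1 hχ
  have hsum : ∀ f : IrrCharacter G → ℤ,
      f (trivChar G) ^ 2 + f X ^ 2 + f A ^ 2 + f B ^ 2 + ∑ i ∈ Finset.Ico 1 h, f (W i) ^ 2 +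
        ∑ θ ∈ Θ, f θ ^ 2 ≤ ∑ χ ∈ B0, f χ ^ 2 := by
    intro f
    have h1 : Disjoint Wi Θ := Finset.disjoint_left.2 fun χ hχ => by
      obtain ⟨i, hi, rfl⟩ := hWmem hχ
      exact (hWf i hi).2.2
    have nW : ∀ {χ}, χ ∈ Wi → χ ≠ trivChar G ∧ χ ≠ X ∧ χ ≠ A ∧ χ ≠ B := by
      intro χ hχ
      obtain ⟨i, hi, rfl⟩ := hWmem hχ
      obtain ⟨-, -, -, a, b, c, -⟩ := hXW i (Finset.mem_Ico.1 hi).1 (Finset.mem_Ico.1 hi).2
      exact ⟨(hWf i hi).1, a, b, c⟩
    have n1 : B ∉ Wi ∪ Θ := fun hm => (Finset.mem_union.1 hm).elim (fun h => (nW h).2.2.2 rfl) hBΘ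
    have n2 : A ∉ insert B (Wi ∪ Θ) := fun hm => (Finset.mem_insert.1 hm).elim hAB fun hm =>
      (Finset.mem_union.1 hm).elim (fun h => (nW h).2.2.1 rfl) hAΘ
    have n3 : X ∉ insert A (insert B (Wi ∪ Θ)) := fun hm =>
      (Finset.mem_insert.1 hm).elim hAX.symm fun hm => (Finset.mem_insert.1 hm).elim hBX.symm fun hm =>
        (Finset.mem_union.1 hm).elim (fun h => (nW h).2.1 rfl) hXΘ
    have n4 : trivChar G ∉ insert X (insert A (insert B (Wi ∪ Θ))) := fun hm =>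
      (Finset.mem_insert.1 hm).elim hXne.symm fun hm => (Finset.mem_insert.1 hm).elim hAne.symm
        fun hm => (Finset.mem_insert.1 hm).elim hBne.symm fun hm =>
          (Finset.mem_union.1 hm).elim (fun h => (nW h).1 rfl) fun h => (hΘ _ h).1 rfl
    have hsub : insert (trivChar G) (insert X (insert A (insert B (Wi ∪ Θ)))) ⊆ B0 := by
      intro χ hχ
      simp only [Finset.mem_insert, Finset.mem_union] at hχ
      rcases hχ with rfl | rfl | rfl | rfl | hχ | hχ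
      · exact hmem.2 trivChar_mem
      · exact hXB
      · exact hAB0
      · exact hBB0
      · obtain ⟨i, hi, rfl⟩ := hWmem hχ
        exact (hWf i hi).2.1
      · exact hmem.2 (hΘ χ hχ).2.1
    refine le_trans (le_of_eq ?_) (sum_subset_le hsub f)
    rw [Finset.sum_insert n4, Finset.sum_insert n3, Finset.sum_insert n2, Finset.sum_insert n1,
      Finset.sum_union h1, hWi, Finset.sum_image hWinj]
    ring
  -- linear relations
  have h4g : ¬ 4 ∣ orderOf (σ ^ (2 * h) * g) := by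
    have hc : Commute (σ ^ (2 * h)) g :=
      (show Commute g (σ ^ (2 * h)) from Subgroup.mem_centralizer_singleton_iff.1 hgC).symm
    rw [hc.orderOf_mul_eq_mul_orderOf_of_coprime (by
      rw [D.t_order]; exact Nat.coprime_two_left.2 hgo), D.t_order]
    obtain ⟨r, hr⟩ := hgo
    omega
  have hlinC : ∀ i, 1 ≤ i → i ≤ h → ∀ T : Finset (IrrCharacter G), T ⊆ B0 →
      (∀ χ, χ ∉ T → redCof lam i χ = 0) →
      ∑ χ ∈ T, redCof lam i χ * cc χ = -1 ∧ ∑ χ ∈ T, redCof lam i χ * ll χ = 0 := by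
    intro i i1 i2 T hT h0
    have hall : ∀ f : IrrCharacter G → ℤ,
        ∑ χ, redCof lam i χ * f χ = ∑ χ ∈ T, redCof lam i χ * f χ := fun f =>
      (Finset.sum_subset (Finset.subset_univ T) fun χ _ hχ => by rw [h0 χ hχ, zero_mul]).symm
    have e := D.redCof_val hodd hna hl i1 i2 h4g
    have e1 : ∑ χ ∈ T, redCof lam i χ * cc χ = -1 := by
      apply Int.cast_injective (α := ℂ)
      push_cast
      rw [← e, ← Finset.sum_subset (Finset.subset_univ T) (fun χ _ hχ => by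
        rw [h0 χ hχ, Int.cast_zero, zero_mul])]
      refine Finset.sum_congr rfl fun χ hχ => ?_
      rw [(hcl χ (hmem.1 (hT hχ))).1]
    have e2 := D.redCof_t hodd hna hl i1 i2
    rw [hall, Finset.sum_congr rfl (g := fun χ => redCof lam i χ * cc χ + xb * (redCof lam i χ * ll χ))
      fun χ hχ => by rw [(hcl χ (hmem.1 (hT hχ))).2]; ring, Finset.sum_add_distrib, e1,
      ← Finset.mul_sum] at e2
    exact ⟨e1, (mul_eq_zero.1 (by linarith : xb * ∑ χ ∈ T, redCof lam i χ * ll χ = 0)).resolve_left hxb0⟩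
  have hrelW : ∀ i ∈ Finset.Ico 1 h, cc (W i) ^ 2 = (1 + ε * cc X) ^ 2 ∧ ll (W i) ^ 2 = ll X ^ 2 := by
    intro i hi
    obtain ⟨i1, i2⟩ := Finset.mem_Ico.1 hi
    obtain ⟨a1, a2, a3, a4, -, -, a7⟩ := hXW i i1 i2
    obtain ⟨e1, e2⟩ := hlinC i i1 i2.le {X, W i} (by
      intro χ hχ
      rcases Finset.mem_insert.1 hχ with rfl | hχ
      · exact hXB
      · rw [Finset.mem_singleton.1 hχ]; exact (hWf i hi).2.1) fun χ hχ => by
        simp only [Finset.mem_insert, Finset.mem_singleton, not_or] at hχ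
        exact a7 χ hχ.1 hχ.2
    rw [Finset.sum_pair a4.symm, a1, a2] at e1 e2
    constructor
    · rw [← sq_sign_mul (z := cc (W i)) a3, show w i * cc (W i) = -(1 + ε * cc X) by linarith, neg_sq]
    · rw [← sq_sign_mul (z := ll (W i)) a3, show w i * ll (W i) = -(ε * ll X) by linarith, neg_sq,
        sq_sign_mul hε]
  obtain ⟨hfc, hfl⟩ := hlinC h (by omega) le_rfl {X, A, B} (by
    intro χ hχ
    simp only [Finset.mem_insert, Finset.mem_singleton] at hχ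
    rcases hχ with rfl | rfl | rfl <;> assumption) fun χ hχ => by
      simp only [Finset.mem_insert, Finset.mem_singleton, not_or] at hχ
      exact hoff χ hχ.1 hχ.2.1 hχ.2.2
  rw [Finset.sum_insert (by simp [hAX.symm, hBX.symm]), Finset.sum_pair hAB, hX, hA, hB] at hfc hfl
  -- parity
  have hne0 : ∀ {χ}, χ ∈ B0 → intVal χ (σ ^ (2 * h)) ≠ 0 := fun {χ} hχ e => by
    refine apply_invol_ne_zero hM P D.P_le_C (hmem.1 hχ) ?_
    rw [apply_invol_eq χ D.t_sq, e, Int.cast_zero]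
  have hΘ2 : ∀ θ ∈ Θ, 2 ≤ cc θ ^ 2 + ll θ ^ 2 := by
    intro θ hθ
    obtain ⟨a, b, c⟩ := hΘ θ hθ
    have he := D.even_at_t (D.sh_zero hodd hna hl hM b a c)
    have hn := hne0 (hmem.2 b)
    rw [(hcl θ b).2] at he hn
    refine two_le_sq_add ?_ ?_
    · obtain ⟨r, hr⟩ := hxbodd
      obtain ⟨v, hv⟩ := he
      exact ⟨v - r * ll θ, by rw [hr] at hv; linarith⟩
    · by_contra hh
      push Not at hh
      rw [hh.1, hh.2, mul_zero, add_zero] at hn
      exact hn rfl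
  -- the value of `X`
  set x := ε * degZ X with hxdef
  set u := ε * intVal X (σ ^ (2 * h)) with hudef
  have hcong : (8 * (h : ℤ)) ∣ x + u * (2 * h + 1) - 2 * h - 2 := by
    obtain ⟨m, hm⟩ := D.sum_P (χ := X) (e := ε) fun i hi =>
      D.const_of_cof hodd hna hl hM (hmem.1 hXB) hXne (fun i i1 i2 => by
        rcases eq_or_lt_of_le i2 with rfl | hlt
        exacts [hX, (hXW i i1 hlt).1]) (fun i i1 i2 => hΘD i i1 i2 X hXΘ) hi
    refine ⟨ε * m - 1, ?_⟩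
    have hε2 : ε * ε = 1 := by rcases hε with rfl | rfl <;> rfl
    rw [hxdef, hudef]
    linear_combination ε * hm - (6 * (h : ℤ) - 2) * hε2
  set N := (Subgroup.centralizer ({σ ^ (2 * h)} : Set G)).index with hN
  have hNodd : Odd (N : ℤ) := by
    have h1 : ¬ 2 ∣ N := fun hd => P.not_dvd_index (hd.trans (Subgroup.index_dvd_of_le D.P_le_C))
    exact_mod_cast (Nat.not_even_iff_odd.1 fun he => h1 (even_iff_two_dvd.1 he))
  have hhk : (h : ℤ) = 2 ^ (k₀ + 1) := by rw [hk₀]; push_cast; ring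
  obtain ⟨hu4, q0, hq0, hxq⟩ := sd_congr hhk hjodd hNodd
    (show Odd (Nat.card D.O : ℤ) by exact_mod_cast D.O_odd) hcong heq
  have huX : u = ε * cc X + xb * (ε * ll X) := by
    rw [hudef, (hcl X (hmem.1 hXB)).2]; ring
  have hW_c : ∑ i ∈ Finset.Ico 1 h, cc (W i) ^ 2 = ((h : ℤ) - 1) * (1 + ε * cc X) ^ 2 := by
    rw [Finset.sum_congr rfl fun i hi => (hrelW i hi).1, Finset.sum_const, Nat.card_Ico,
      nsmul_eq_mul, Nat.cast_sub (by omega)]
    push_cast; ring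
  have hW_l : ∑ i ∈ Finset.Ico 1 h, ll (W i) ^ 2 = ((h : ℤ) - 1) * (ε * ll X) ^ 2 := by
    rw [Finset.sum_congr rfl fun i hi => (hrelW i hi).2, Finset.sum_const, Nat.card_Ico,
      nsmul_eq_mul, Nat.cast_sub (by omega), sq_sign_mul hε]
    push_cast; ring
  have hct : cc (trivChar G) = 1 ∧ ll (trivChar G) = 0 := by
    obtain ⟨e1, e2⟩ := hcl _ (trivChar_mem (G := G) (M := M))
    rw [trivChar_apply] at e1
    rw [intVal_triv D.t_sq] at e2
    have e1' : cc (trivChar G) = 1 := by exact_mod_cast e1.symm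
    exact ⟨e1', (mul_eq_zero.1 (by linarith : xb * ll (trivChar G) = 0)).resolve_left hxb0⟩
  have hSc := hsum cc
  have hSl := hsum ll
  rw [hc2, hW_c, hct.1] at hSc
  rw [hl2, hW_l, hct.2] at hSl
  have hnn : ∀ f : IrrCharacter G → ℤ, 0 ≤ ∑ θ ∈ Θ, f θ ^ 2 := fun f =>
    Finset.sum_nonneg fun _ _ => sq_nonneg _
  obtain ⟨hc0, hl1⟩ := sd_vec hhk hjodd (c := ε * cc X) (l := ε * ll X)
    (by rw [← hxb, ← huX]; exact hu4)
    (by nlinarith [hnn cc, sq_nonneg (cc A), sq_nonneg (cc B), sq_sign_mul (z := cc X) hε])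
    (by nlinarith [hnn ll, sq_nonneg (ll A), sq_nonneg (ll B), sq_sign_mul (z := ll X) hε])
  have huxb : u = xb := by rw [huX, hc0, hl1]; ring
  have hΘsum : 2 * (h : ℤ) ≤ ∑ θ ∈ Θ, cc θ ^ 2 + ∑ θ ∈ Θ, ll θ ^ 2 := by
    rw [← Finset.sum_add_distrib]
    calc (2 * (h : ℤ)) = ∑ _θ ∈ Θ, (2 : ℤ) := by
          rw [Finset.sum_const, hΘcard, nsmul_eq_mul]; ring
      _ ≤ _ := Finset.sum_le_sum hΘ2
  rw [← sq_sign_mul (z := cc X) hε, ← sq_sign_mul (z := cc A) hα, ← sq_sign_mul (z := cc B) hβ,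
    hc0] at hSc
  rw [← sq_sign_mul (z := ll X) hε, ← sq_sign_mul (z := ll A) hα, ← sq_sign_mul (z := ll B) hβ,
    hl1] at hSl
  have hnz : ∀ {χ : IrrCharacter G} {e : ℤ}, (e = 1 ∨ e = -1) → χ ∈ B0 →
      e * cc χ ≠ 0 ∨ e * ll χ ≠ 0 := by
    intro χ e he hχ
    by_contra hh
    push Not at hh
    have hc : cc χ = 0 := (mul_eq_zero.1 hh.1).resolve_left (by omega)
    have hl' : ll χ = 0 := (mul_eq_zero.1 hh.2).resolve_left (by omega)
    exact hne0 hχ (by rw [(hcl χ (hmem.1 hχ)).2, hc, hl', mul_zero, add_zero])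
  rw [hc0] at hfc
  rw [hl1] at hfl
  have hpq := sd_pq (cP := α * cc A) (cQ := β * cc B) (lP := α * ll A) (lQ := β * ll B)
    (by linarith) (by linarith) (hnz hα hAB0) (hnz hβ hBB0) (by nlinarith)
  obtain ⟨ez, ed, -⟩ := D.zero_eq hodd hna hl hε hα hβ hAX hBX hAB hX hA hB hoff
  have huA : α * intVal A (σ ^ (2 * h)) = α * cc A + xb * (α * ll A) := by
    rw [(hcl A (hmem.1 hAB0)).2]; ring
  have huB : β * intVal B (σ ^ (2 * h)) = β * cc B + xb * (β * ll B) := by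
    rw [(hcl B (hmem.1 hBB0)).2]; ring
  rw [← hxdef, ← hudef, huA, huB, huxb] at ez
  rw [← hxdef] at ed
  have hne1 : ∀ {C : IrrCharacter G} {e : ℤ}, (e = 1 ∨ e = -1) → C ≠ trivChar G →
      e * degZ C ≠ -1 := by
    intro C e he hC hh
    refine hC (eq_triv_of_degree_one hna ?_)
    have := degZ_pos C
    rcases he with rfl | rfl
    · omega
    · rw [apply_one_eq, show degZ C = 1 by omega, Int.cast_one]
  have hx0 : x ≠ 0 := mul_ne_zero (by omega) (degZ_pos X).ne'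
  have hdA : α * degZ A ≠ 0 := mul_ne_zero (by omega) (degZ_pos A).ne'
  have hdB : β * degZ B ≠ 0 := mul_ne_zero (by omega) (degZ_pos B).ne'
  obtain hdvd : (x + xb ^ 2) ∣ xb ^ 2 * (1 + x) := by
    rcases hpq with ⟨a1, a2, a3, a4⟩ | ⟨a1, a2, a3, a4⟩
    · rw [a1, a2, a3, a4] at ez
      exact sd_root hx0 hdA hdB (by linarith) (hne1 hβ hBne) (by
        rw [← ez]; push_cast; ring)
    · rw [a1, a2, a3, a4] at ez
      exact sd_root hx0 hdB hdA (by linarith) (hne1 hα hAne) (by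
        rw [← ez]; push_cast; ring)
  rw [huxb] at heq hxq
  rw [← hxb] at heq
  have hpp : p.Prime := Fact.out
  have hprime : Prime xb := by rw [Int.prime_iff_natAbs_prime, hp]; exact hpp
  have hpN : ¬ xb ∣ (N : ℤ) := fun hd => D.not_dvd_invol hodd hna hpp (Or.inr rfl) (by
    have := Int.natAbs_dvd_natAbs.2 hd
    rwa [hp, Int.natAbs_natCast] at this)
  have hdx : xb ∣ x - xb := by
    have hd : xb ∣ (N : ℤ) * (x - xb) ^ 2 :=
      ⟨8 * (h : ℤ) ^ 2 * (Nat.card D.O : ℤ) ^ 2 * (1 + h * j) * x * (x + 1), by rw [heq]; ring⟩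
    exact hprime.dvd_of_dvd_pow ((hprime.dvd_or_dvd hd).resolve_left hpN)
  have hcop : IsCoprime xb (4 * (h : ℤ)) := by
    rw [hhk, show (4 : ℤ) * 2 ^ (k₀ + 1) = 2 ^ (k₀ + 3) by ring]
    obtain ⟨r, hr⟩ := hxbodd
    exact IsCoprime.pow_right ⟨1, -r, by rw [hr]; ring⟩
  obtain ⟨q, rfl⟩ : xb ∣ q0 := hcop.dvd_of_dvd_mul_left (hxq ▸ hdx)
  have hxm : x = xb * (1 + 4 * h * q) := by linarith [hxq]
  have hNo : IsCoprime (N : ℤ) ((Nat.card D.X : ℤ) * |j|) := by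
    rw [show (Nat.card D.X : ℤ) * |j| = (Nat.card D.O : ℤ) by
      rw [hoX, Nat.cast_mul, Int.natCast_natAbs], Int.isCoprime_iff_gcd_eq_one, Int.gcd_natCast_natCast]
    by_contra hne
    obtain ⟨r, hr, hrd⟩ := Nat.exists_prime_and_dvd hne
    exact D.not_dvd_invol hodd hna hr (Or.inl (hrd.trans (Nat.gcd_dvd_right _ _)))
      (hrd.trans (Nat.gcd_dvd_left _ _))
  have heq' : (N : ℤ) * (4 * h * q) ^ 2 = 8 * (h : ℤ) ^ 2 * ((Nat.card D.X : ℤ) * |j|) ^ 2 *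
      (1 + h * j) * (1 + 4 * h * q) * (xb * (1 + 4 * h * q) + 1) := by
    have ho' : (Nat.card D.O : ℤ) = (Nat.card D.X : ℤ) * |j| := by
      rw [hoX, Nat.cast_mul, Int.natCast_natAbs]
    rw [hxm, ho'] at heq
    apply mul_left_cancel₀ (pow_ne_zero 2 hxb0)
    linear_combination heq
  obtain ⟨hh2, hj1, ha1, hN1⟩ := sd_final (q := q) hhk hjodd
    (by exact_mod_cast Nat.card_pos) (show Odd (Nat.card D.X : ℤ) by exact_mod_cast D.X_odd) hNo
    (Int.Odd.of_mul_right hq0) hprime hpN heq' (by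
      obtain ⟨c, hc⟩ := hdvd
      refine ⟨c, ?_⟩
      apply mul_left_cancel₀ hxb0
      rw [hxm] at hc
      linear_combination hc)
  refine ⟨by exact_mod_cast hh2, ?_, by exact_mod_cast ha1, by exact_mod_cast hN1⟩
  rw [← hp, hxb, hh2, hj1]
  rfl

end CfsgLib.SuzukiWong
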