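import Cfsg.Agent.SuzukiWong.SDSurvivorTools
import Cfsg.Agent.SuzukiWong.SDMain

/-!
# Suzuki–Wong: no semidihedral configuration exists

In the case of `357` involutions and `|C(t)| = 240` an element of order three of `C(t)` centralizes
exactly three involutions, while a Sylow 3-subgroup of order nine shows the number to be `6` mod `9`.
-/

set_option autoImplicit false
set_option linter.unusedSectionVars false
set_option linter.style.haveILetI false

namespace CfsgLib.SuzukiWong

open Subgroup
open scoped MatrixGroups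

universe u

variable {G : Type u} [Group G] [Fintype G]

variable {P : Sylow 2 G} {σ y : G} {h p : ℕ} [Fact p.Prime]
  {π : Subgroup.centralizer ({σ ^ (2 * h)} : Set G) →* PGL(2, ZMod p)} (D : SDData P σ y h p π)
include D

/-- An element of order three of `C(t)` has a centralizer of order at most `12` there. -/
theorem SDData.card_centralizer_three_le (hp : p = 5) (hX : Nat.card π.ker = 2) {x : G}
    (hx : x ∈ centralizer ({σ ^ (2 * h)} : Set G)) (hx3 : orderOf x = 3) :
    Nat.card (centralizer ({σ ^ (2 * h)} : Set G) ⊓ centralizer ({x} : Set G) : Subgroup G)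
      ≤ 12 := by
  have hπ1 : π ⟨x, hx⟩ ≠ 1 := fun e => by
    have := π.ker.orderOf_dvd_natCard (x := ⟨x, hx⟩) e
    rw [hX, Subgroup.orderOf_mk, hx3] at this
    norm_num at this
  have hπo : Odd (orderOf (π ⟨x, hx⟩)) :=
    (show Odd 3 by decide).of_dvd_nat
      ((orderOf_map_dvd π _).trans (by rw [Subgroup.orderOf_mk, hx3]))
  have hle := card_centralizer_pgl_le (Ring.two_ne_zero (by rw [ZMod.ringChar_zmod_n]; exact D.p2))
    hπ1 hπo
  rw [Nat.card_zmod] at hle
  let F : Subgroup (centralizer ({σ ^ (2 * h)} : Set G)) :=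
    (centralizer ({σ ^ (2 * h)} : Set G) ⊓ centralizer ({x} : Set G)).subgroupOf _
  have e1 : Nat.card F = Nat.card
      (centralizer ({σ ^ (2 * h)} : Set G) ⊓ centralizer ({x} : Set G) : Subgroup G) :=
    Nat.card_congr (Subgroup.subgroupOfEquivOfLe inf_le_left).toEquiv
  let f : F →* PGL(2, ZMod p) := π.comp F.subtype
  have e2 : Nat.card f.ker ≤ Nat.card π.ker := Nat.card_le_card_of_injective
    (fun a : f.ker => (⟨((a : F) : centralizer ({σ ^ (2 * h)} : Set G)), a.2⟩ : π.ker))
    (fun a b e => Subtype.ext (Subtype.ext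
      (congrArg (fun c : π.ker => (c : centralizer ({σ ^ (2 * h)} : Set G))) e)))
  have e3 : Nat.card f.range ≤ Nat.card (centralizer ({π ⟨x, hx⟩} : Set PGL(2, ZMod p))) := by
    haveI : Finite PGL(2, ZMod p) :=
      Finite.of_surjective _ Matrix.ProjGenLinGroup.mk_surjective
    refine Subgroup.card_le_of_le ?_
    rintro _ ⟨a, rfl⟩
    refine mem_centralizer_singleton_iff.2 ?_
    show π (a : centralizer ({σ ^ (2 * h)} : Set G)) * π ⟨x, hx⟩ =
      π ⟨x, hx⟩ * π (a : centralizer ({σ ^ (2 * h)} : Set G))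
    rw [← map_mul, ← map_mul]
    exact congrArg π
      (Subtype.ext (mem_centralizer_singleton_iff.1 (Subgroup.mem_subgroupOf.1 a.2).2))
  rw [← e1, ← Subgroup.card_mul_index f.ker, Subgroup.index_ker]
  calc Nat.card f.ker * Nat.card f.range ≤ 2 * (p + 1) :=
        Nat.mul_le_mul (e2.trans_eq hX) (e3.trans hle)
    _ = 12 := by rw [hp]

variable (hodd : ∀ q : ℕ, q.Prime → q ≠ 2 → ∀ R : Sylow q G, IsCyclic R) [IsSimpleGroup G]
  (hna : ¬ IsMulCommutative G)
include hodd hna

set_option maxHeartbeats 400000 in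
/-- **No semidihedral configuration exists.** -/
theorem SDData.absurd_semidihedral : False := by
  haveI : Fact (Nat.Prime 3) := ⟨Nat.prime_three⟩
  haveI : Fact (Nat.Prime 2) := ⟨Nat.prime_two⟩
  obtain ⟨hh, hp, hX1, hN⟩ := D.survivor hodd hna
  have hker : Nat.card π.ker = 2 := by rw [D.card_ker, hX1]
  have hCc : Nat.card (centralizer ({σ ^ (2 * h)} : Set G)) = 240 := by
    rw [D.card_Ct, hX1, hp]; norm_num
  have hG : Nat.card G = 357 * 240 := by
    rw [← Subgroup.index_mul_card (centralizer ({σ ^ (2 * h)} : Set G)), hN, hCc]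
  obtain ⟨⟨x, hxC⟩, hx⟩ := exists_prime_orderOf_dvd_card'
    (G := centralizer ({σ ^ (2 * h)} : Set G)) 3 (by rw [hCc]; norm_num)
  rw [Subgroup.orderOf_mk] at hx
  have hx1 : x ≠ 1 := fun e => by rw [e, orderOf_one] at hx; omega
  have ht2 := D.t_order
  have htx : Commute (σ ^ (2 * h)) x :=
    (show Commute x (σ ^ (2 * h)) from mem_centralizer_singleton_iff.1 hxC).symm
  obtain ⟨v, hv2, hvt, hvx, hvne⟩ : ∃ v, orderOf v = 2 ∧ Commute v (σ ^ (2 * h)) ∧ Commute v x ∧
      v ≠ σ ^ (2 * h) := by
    by_contra hno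
    push Not at hno
    exact not_dvd_index_of_unique (by norm_num) (hodd 3 Nat.prime_three (by norm_num)) ht2 hx htx
      hno (by rw [hN]; norm_num)
  obtain ⟨R₀, hR₀⟩ := (IsPGroup.of_card (p := 3) (n := 1)
    (show Nat.card (zpowers x) = 3 ^ 1 by rw [Nat.card_zpowers, hx, pow_one])).exists_le_sylow
  haveI := hodd 3 Nat.prime_three (by norm_num) R₀
  have hxR : x ∈ (R₀ : Subgroup G) := hR₀ (mem_zpowers x)
  have hRK : (R₀ : Subgroup G) ≤ centralizer ({x} : Set G) := sylow_le_centralizer_elt hxR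
  have hR9 : Nat.card (R₀ : Subgroup G) = 9 := by
    obtain ⟨r, hr⟩ := R₀.isPGroup'.exists_card_eq
    have h1 : 3 ^ 2 ∣ Nat.card (R₀ : Subgroup G) := by
      rw [R₀.card_eq_multiplicity]
      refine pow_dvd_pow 3 ((Nat.prime_three.pow_dvd_iff_le_factorization Nat.card_pos.ne').1 ?_)
      rw [hG]; norm_num
    have h2 : Nat.card (R₀ : Subgroup G) ∣ Nat.card G := Subgroup.card_subgroup_dvd_card _
    rw [hr] at h1 h2 ⊢
    have hr2 : 2 ≤ r := (Nat.pow_dvd_pow_iff_le_right (by norm_num)).1 h1
    have hr3 : r < 3 := by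
      by_contra hlt
      have := (pow_dvd_pow 3 (not_lt.1 hlt)).trans h2
      rw [hG] at this; norm_num at this
    obtain rfl : r = 2 := by omega
    norm_num
  obtain ⟨K₀, hK₀K, hK3, hinv⟩ := exists_three_complement hx R₀ hxR
  -- centralizers of involutions in `K₀`
  have hsmall : ∀ i ∈ K₀, orderOf i = 2 →
      Nat.card (K₀ ⊓ centralizer ({i} : Set G) : Subgroup G) ≤ 4 := by
    intro i hiK hi
    obtain ⟨c, hc⟩ := isConj_iff.1 (D.invol i hi)
    have hxi : Commute x i := (mem_centralizer_singleton_iff.1 (hK₀K hiK)).symm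
    have hmem : c⁻¹ * x * c ∈ centralizer ({σ ^ (2 * h)} : Set G) :=
      conj_mem_centralizer_of_commute hc hxi
    have h12 := D.card_centralizer_three_le hp hker hmem (by
      rw [show c⁻¹ * x * c = c⁻¹ * x * c⁻¹⁻¹ by rw [inv_inv], Small.orderOf_conj_eq, hx])
    have hinj : Function.Injective (fun a : zpowers x × (K₀ ⊓ centralizer ({i} : Set G) : Subgroup G)
        => c⁻¹ * ((a.1 : G) * (a.2 : G)) * c) := by
      intro a b e
      have e' : (a.1 : G) * a.2 = (b.1 : G) * b.2 := mul_left_cancel (mul_right_cancel e)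
      have e1 : (b.1 : G)⁻¹ * a.1 = (b.2 : G) * (a.2 : G)⁻¹ := by
        rw [inv_mul_eq_iff_eq_mul, ← mul_assoc, eq_mul_inv_iff_mul_eq]; exact e'
      have hone : (b.1 : G)⁻¹ * a.1 = 1 := orderOf_eq_one_iff.1 (Nat.eq_one_of_dvd_coprimes
        ((Nat.prime_three.coprime_iff_not_dvd).2 hK3)
        (by
          have := (zpowers x).orderOf_dvd_natCard (mul_mem (inv_mem b.1.2) a.1.2)
          rwa [Nat.card_zpowers, hx] at this)
        (by rw [e1]; exact K₀.orderOf_dvd_natCard (mul_mem b.2.2.1 (inv_mem a.2.2.1))))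
      rw [inv_mul_eq_one] at hone
      exact Prod.ext (Subtype.ext hone.symm) (Subtype.ext (mul_left_cancel (hone ▸ e')))
    have h3 : Nat.card (zpowers x × (K₀ ⊓ centralizer ({i} : Set G) : Subgroup G)) ≤ 12 := by
      refine le_trans (Nat.card_le_card_of_injective (fun a => (⟨_, ?_⟩ :
        (centralizer ({σ ^ (2 * h)} : Set G) ⊓ centralizer ({c⁻¹ * x * c} : Set G) : Subgroup G)))
        (fun a b e => hinj (congrArg Subtype.val e))) h12
      have h1 : Commute (a.1 : G) x := by
        obtain ⟨k, hk⟩ := Subgroup.mem_zpowers_iff.1 a.1.2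
        rw [← hk]; exact (Commute.refl x).zpow_left k
      have h2 : Commute (a.2 : G) x := mem_centralizer_singleton_iff.1 (hK₀K a.2.2.1)
      have h1i : Commute (a.1 : G) i := by
        obtain ⟨k, hk⟩ := Subgroup.mem_zpowers_iff.1 a.1.2
        rw [← hk]; exact hxi.zpow_left k
      have h2i : Commute (a.2 : G) i := mem_centralizer_singleton_iff.1 a.2.2.2
      exact ⟨conj_mem_centralizer_of_commute hc (h1i.mul_left h2i),
        conj_mem_centralizer_of_commute (show c * (c⁻¹ * x * c) * c⁻¹ = x by group) (h1.mul_left h2)⟩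
    rw [Nat.card_prod, Nat.card_zpowers, hx] at h3
    omega
  have hvK : v ∈ centralizer ({x} : Set G) := mem_centralizer_singleton_iff.2 hvx.eq
  have htK : σ ^ (2 * h) ∈ centralizer ({x} : Set G) := mem_centralizer_singleton_iff.2 htx.eq
  obtain ⟨-, hel⟩ := eq_four_of_small hK3 ht2 hv2 hvt.symm hvne.symm (hinv _ htK ht2)
    (hinv _ hvK hv2) hsmall
  have hw2 : orderOf (σ ^ (2 * h) * v) = 2 := by
    refine orderOf_eq_prime ?_ fun e => hvne ?_
    · rw [hvt.symm.mul_pow, sq (σ ^ (2 * h)), D.t_sq, one_mul, sq,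
        Small.mul_self_of_orderOf_two hv2]
    · rw [← mul_right_inj (σ ^ (2 * h)), D.t_sq]; exact e
  -- count
  classical
  set I := Finset.univ.filter fun i : G => orderOf i = 2 with hI
  have hI357 : I.card = 357 := by
    rw [← hN, ← card_classSet_eq]
    congr 1
    ext i
    simp only [hI, Finset.mem_filter, Finset.mem_univ, true_and,
      CharactersDeep.ClassPairs.mem_classSet]
    exact ⟨fun hi => D.invol i hi, fun hc => by
      obtain ⟨c, rfl⟩ := isConj_iff.1 hc; rw [Small.orderOf_conj_eq, ht2]⟩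
  have h3I : (I.filter fun i => i ∈ centralizer ({x} : Set G)).card = 3 := by
    have : I.filter (fun i => i ∈ centralizer ({x} : Set G)) =
        {σ ^ (2 * h), v, σ ^ (2 * h) * v} := by
      ext i
      simp only [hI, Finset.mem_filter, Finset.mem_univ, true_and, Finset.mem_insert,
        Finset.mem_singleton]
      constructor
      · rintro ⟨hi, hiK⟩
        rcases hel i (hinv i hiK hi) with e | e | e | e
        · rw [e, orderOf_one] at hi; omega
        · exact Or.inl e
        · exact Or.inr (Or.inl e)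
        · exact Or.inr (Or.inr e)
      · rintro (rfl | rfl | rfl)
        · exact ⟨ht2, htK⟩
        · exact ⟨hv2, hvK⟩
        · exact ⟨hw2, mul_mem htK hvK⟩
    rw [this, Finset.card_insert_of_notMem, Finset.card_pair]
    · intro e; exact D.t_ne (mul_eq_right.1 e.symm)
    · simp only [Finset.mem_insert, Finset.mem_singleton, not_or]
      refine ⟨hvne.symm, fun e => ?_⟩
      have := mul_eq_left.1 e.symm
      rw [this, orderOf_one] at hv2; omega
  have hJ9 : Nat.card (R₀ : Subgroup G) ∣
      (I.filter fun i => i ∉ centralizer ({x} : Set G)).card := by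
    refine card_dvd_of_conj_free _ _ (fun a ha i hi => ?_) (fun a ha i hi hai => ?_)
    · simp only [hI, Finset.mem_filter, Finset.mem_univ, true_and] at hi ⊢
      refine ⟨by rw [Small.orderOf_conj_eq]; exact hi.1, fun hk => hi.2 ?_⟩
      have := mul_mem (mul_mem (inv_mem (hRK ha)) hk) (hRK ha)
      simpa [mul_assoc] using this
    · simp only [hI, Finset.mem_filter, Finset.mem_univ, true_and] at hi
      obtain ⟨c, hc⟩ := isConj_iff.1 (D.invol i hi.1)
      have hd := Subgroup.orderOf_dvd_natCard _ (conj_mem_centralizer_of_commute hc hai)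
      rw [show c⁻¹ * a * c = c⁻¹ * a * c⁻¹⁻¹ by rw [inv_inv], Small.orderOf_conj_eq, hCc] at hd
      have hd9 := Nat.dvd_gcd hd (hR9 ▸ (R₀ : Subgroup G).orderOf_dvd_natCard ha)
      norm_num at hd9
      by_contra ha1
      have hao : orderOf a = 3 :=
        (Nat.prime_three.eq_one_or_self_of_dvd _ hd9).resolve_left fun e =>
          ha1 (orderOf_eq_one_iff.1 e)
      obtain ⟨m, hm⟩ := eq_pow_of_orderOf_eq hxR ha (by rw [hx, hao])
      refine hi.2 (mem_centralizer_singleton_iff.2 ?_)
      rw [← hm]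
      exact (hai.symm.zpow_right m).eq
  rw [hR9] at hJ9
  have := I.card_filter_add_card_filter_not (fun i => i ∈ centralizer ({x} : Set G))
  omega

end CfsgLib.SuzukiWong
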