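import Cfsg.Agent.SuzukiWong.Assembly
import Cfsg.Agent.SuzukiWong.PGLIso
import Cfsg.Agent.SuzukiWong.DihedralPSL
import Cfsg.Agent.SuzukiWong.SDSurvivor
import Cfsg.Agent.TwoGroups.NoIndexTwo
import Cfsg.Agent.GW.Classification

/-!
# Suzuki–Wong: the semidihedral configuration in a simple group

In a simple group with semidihedral Sylow 2-subgroups and cyclic odd Sylow subgroups the
centralizer of an involution maps onto some `PGL₂(p)` (Gorenstein–Walter for `C(t)/⟨t⟩`).
-/

set_option autoImplicit false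
set_option linter.unusedSectionVars false
set_option linter.style.haveILetI false

namespace CfsgLib.SuzukiWong

open Subgroup
open scoped MatrixGroups
open CfsgLib.TwoGroups (SDPair hh qq)

universe u

/-- The quotient by a central involution has dihedral Sylow 2-subgroups. -/
theorem dihType_quotient_central {C : Type u} [Group C] [Finite C] {t : C} (ht2 : orderOf t = 2)
    [(zpowers t).Normal] (P : Sylow 2 C) {n : ℕ} {x y : (P : Subgroup C)} (d : SDPair n x y)
    (hzt : (↑(x ^ hh n) : C) = t) : GW.DihType (C ⧸ zpowers t) := by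
  haveI : Fact (Nat.Prime 2) := ⟨Nat.prime_two⟩
  have hn := d.le
  let m : C →* C ⧸ zpowers t := QuotientGroup.mk' (zpowers t)
  let Q : Sylow 2 (C ⧸ zpowers t) := P.mapSurjective (QuotientGroup.mk'_surjective (zpowers t))
  let f : (P : Subgroup C) →* C ⧸ zpowers t := m.comp (P : Subgroup C).subtype
  have hker : ∀ u : (P : Subgroup C), f u = 1 ↔ u = 1 ∨ u = x ^ hh n := by
    intro u
    show QuotientGroup.mk' (zpowers t) (u : C) = 1 ↔ _
    rw [QuotientGroup.mk'_apply, QuotientGroup.eq_one_iff, mem_zpowers_iff]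
    constructor
    · rintro ⟨i, hi⟩
      rw [← zpow_mod_orderOf, ht2] at hi
      rcases Int.emod_two_eq i with e | e
      · rw [show i % ((2 : ℕ) : ℤ) = 0 from e, zpow_zero] at hi
        exact Or.inl (Subtype.ext hi.symm)
      · rw [show i % ((2 : ℕ) : ℤ) = 1 from e, zpow_one, ← hzt] at hi
        exact Or.inr (Subtype.ext hi.symm)
    · rintro (rfl | rfl)
      · exact ⟨0, by simp⟩
      · exact ⟨1, by rw [zpow_one, hzt]⟩
  have hxhh : x ^ hh n = x ^ 2 ^ (n - 1) := by
    rw [hh, ← zpow_natCast, Nat.cast_pow]; norm_num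
  have hrange : f.range = (Q : Subgroup (C ⧸ zpowers t)) := by
    rw [Sylow.coe_mapSurjective, MonoidHom.range_eq_map, ← Subgroup.map_map,
      ← MonoidHom.range_eq_map, Subgroup.range_subtype]
  have hcard : Nat.card f.range = 2 * 2 ^ (n - 1) := by
    have hk : Nat.card f.ker = 2 := by
      have hh2 : f.ker = zpowers (x ^ hh n) := by
        ext u
        rw [MonoidHom.mem_ker, hker]
        constructor
        · rintro (rfl | rfl)
          · exact one_mem _
          · exact mem_zpowers _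
        · intro hu
          obtain ⟨i, rfl⟩ := mem_zpowers_iff.1 hu
          rw [← zpow_mod_orderOf, d.orderOf_z]
          rcases Int.emod_two_eq i with e | e
          · exact Or.inl (by rw [show i % ((2 : ℕ) : ℤ) = 0 from e, zpow_zero])
          · exact Or.inr (by rw [show i % ((2 : ℕ) : ℤ) = 1 from e, zpow_one])
      rw [hh2, Nat.card_zpowers, d.orderOf_z]
    have h := f.ker.card_mul_index
    rw [hk, Subgroup.index_ker, d.card, pow_succ',
      show (2 : ℕ) ^ n = 2 * 2 ^ (n - 1) by rw [← pow_succ']; congr 1; omega] at h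
    exact Nat.eq_of_mul_eq_mul_left two_pos h
  have hfx : orderOf (f x) = 2 ^ (n - 1) := by
    obtain ⟨k, hk⟩ : ∃ k, n - 1 = k + 1 := ⟨n - 2, by omega⟩
    rw [hk]
    refine orderOf_eq_prime_pow (p := 2) ?_ ?_
    · rw [← map_pow, hker]
      rintro (e | e)
      · have := Nat.le_of_dvd (by positivity) (d.ox ▸ orderOf_dvd_of_pow_eq_one e)
        have h2 : 2 ^ k < 2 ^ n := Nat.pow_lt_pow_right (by norm_num) (by omega)
        omega
      · rw [hxhh, hk, pow_eq_pow_iff_modEq, d.ox] at e
        have h2 : 2 ^ (k + 1) < 2 ^ n := Nat.pow_lt_pow_right (by norm_num) (by omega)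
        have h3 : 2 ^ k < 2 ^ (k + 1) := Nat.pow_lt_pow_right (by norm_num) (by omega)
        have := e.eq_of_lt_of_lt (h3.trans h2) h2
        omega
    · rw [← map_pow, hker, hxhh, hk]
      exact Or.inr rfl
  have hnot : f y ∉ zpowers (f x) := by
    intro hmem
    obtain ⟨i, hi⟩ := mem_zpowers_iff.1 hmem
    have h1 : f ((x ^ i)⁻¹ * y) = 1 := by
      rw [map_mul, map_inv, map_zpow, hi, inv_mul_cancel]
    rcases (hker _).1 h1 with e | e
    · exact d.y_notMem (inv_mul_eq_one.1 e ▸ zpow_mem_zpowers x i)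
    · rw [inv_mul_eq_iff_eq_mul] at e
      exact d.y_notMem (e.symm ▸ mul_mem (zpow_mem_zpowers x i) (zpow_mem_zpowers x _))
  obtain ⟨e⟩ := TwoGroups.nonempty_equiv_dihedral (H := f.range) (a := f x) (b := f y)
    ⟨x, rfl⟩ ⟨y, rfl⟩ hfx (by rw [← map_mul, d.y_mul_y, map_one]) (by
      rw [← map_inv, ← map_mul, ← map_mul, d.rel, ← mul_inv_eq_one, inv_inv, map_pow, ← pow_succ,
        show 2 ^ (n - 1) - 1 + 1 = 2 ^ (n - 1) from Nat.sub_add_cancel (Nat.one_le_two_pow),
        ← hfx, pow_orderOf_eq_one]) hnot hcard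
  exact GW.dihType_of_sylow Q ((MulEquiv.subgroupCongr hrange.symm).trans e)

/-- An element fixing a conjugate up to a central involution fixes it, if it has odd order. -/
theorem conj_eq_of_central {C : Type*} [Group C] {t g q : C} (htc : ∀ c, Commute t c)
    (ht2 : t * t = 1) (hg : Odd (orderOf g)) (h : g * q * g⁻¹ = t * q) : t = 1 := by
  have key : ∀ i : ℕ, g ^ i * q * (g ^ i)⁻¹ = t ^ i * q := by
    intro i
    induction i with
    | zero => simp
    | succ i ih =>
      calc g ^ (i + 1) * q * (g ^ (i + 1))⁻¹ = g * (g ^ i * q * (g ^ i)⁻¹) * g⁻¹ := by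
            rw [pow_succ']; group
        _ = g * (t ^ i) * g⁻¹ * (g * q * g⁻¹) := by rw [ih]; group
        _ = t ^ (i + 1) * q := by
          rw [h, ← ((htc g).pow_left i).eq, mul_inv_cancel_right, pow_succ, mul_assoc]
  have := key (orderOf g)
  rw [pow_orderOf_eq_one, one_mul, inv_one, mul_one] at this
  have h1 : t ^ orderOf g = 1 := mul_eq_right.1 this.symm
  obtain ⟨k, hk⟩ := hg
  rwa [hk, pow_succ, pow_mul, sq, ht2, one_pow, one_mul] at h1

set_option maxHeartbeats 1000000 in
/-- The centralizer of the involution maps onto some `PGL₂(p)`. -/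
theorem exists_pgl_hom {C : Type u} [Group C] [Finite C] (hC : SylowHyp C) {t : C}
    (ht2 : orderOf t = 2) (htc : ∀ c, Commute t c) (P : Sylow 2 C) {n : ℕ}
    {x y : (P : Subgroup C)} (d : SDPair n x y) (hzt : (↑(x ^ hh n) : C) = t)
    (hg : ∃ g : C, Odd (orderOf g) ∧ ∃ q ∈ (P : Subgroup C),
      g * q * g⁻¹ ∈ (P : Subgroup C) ∧ g * q * g⁻¹ ≠ q) :
    ∃ (p : ℕ) (_ : Fact p.Prime) (π : C →* PGL(2, ZMod p)), p ≠ 2 ∧ Function.Surjective π ∧
      π t = 1 ∧ ∃ a, Odd a ∧ Nat.card π.ker = 2 * a := by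
  classical
  haveI : Fact (Nat.Prime 2) := ⟨Nat.prime_two⟩
  have hn := d.le
  have ht1 : t ≠ 1 := fun e => by rw [e, orderOf_one] at ht2; omega
  have hZc : ∀ z ∈ zpowers t, ∀ c, Commute z c := fun z hz c => by
    obtain ⟨i, rfl⟩ := mem_zpowers_iff.1 hz
    exact (htc c).zpow_left i
  haveI : (zpowers t).Normal := ⟨fun z hz c => by
    rwa [← (hZc z hz c).eq, mul_inv_cancel_right]⟩
  have hX := GW.known_of_dihType (dihType_quotient_central ht2 P d hzt)
  set O := Cfsg.oddCore (C ⧸ zpowers t)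
  haveI : O.Normal := inferInstance
  have hO : Odd (Nat.card O) := Inv54.odd_card_oddCore
  let f : C →* (C ⧸ zpowers t) ⧸ O :=
    (QuotientGroup.mk' O).comp (QuotientGroup.mk' (zpowers t))
  have hf : Function.Surjective f :=
    (QuotientGroup.mk'_surjective _).comp (QuotientGroup.mk'_surjective _)
  have hcard : Nat.card C = 2 * Nat.card O * Nat.card ((C ⧸ zpowers t) ⧸ O) := by
    rw [(zpowers t).card_eq_card_quotient_mul_card_subgroup, Nat.card_zpowers, ht2,
      O.card_eq_card_quotient_mul_card_subgroup]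
    ring
  have hker : Nat.card f.ker = 2 * Nat.card O := by
    have h := f.ker.card_mul_index
    rw [Subgroup.index_ker, MonoidHom.range_eq_top.2 hf, Subgroup.card_top, hcard] at h
    exact Nat.eq_of_mul_eq_mul_right Nat.card_pos h
  have hft : f t = 1 := by
    show QuotientGroup.mk' O (QuotientGroup.mk' (zpowers t) t) = 1
    rw [QuotientGroup.mk'_apply (zpowers t), (QuotientGroup.eq_one_iff t).2 (mem_zpowers t),
      map_one]
  have hpow : ∀ a ∈ f.ker, a ^ Nat.card O ∈ zpowers t := by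
    intro a ha
    rw [← QuotientGroup.eq_one_iff, QuotientGroup.mk_pow]
    have ha' : (a : C ⧸ zpowers t) ∈ O := (QuotientGroup.eq_one_iff _).1 ha
    exact congrArg Subtype.val
      (pow_card_eq_one' (x := (⟨(a : C ⧸ zpowers t), ha'⟩ : O)))
  -- an isomorphism onto `PGL₂(p)` is enough
  have finish : ∀ (p : ℕ) [Fact p.Prime], p ≠ 2 →
      Nonempty ((C ⧸ zpowers t) ⧸ O ≃* PGL(2, ZMod p)) →
      ∃ (p : ℕ) (_ : Fact p.Prime) (π : C →* PGL(2, ZMod p)), p ≠ 2 ∧ Function.Surjective π ∧
        π t = 1 ∧ ∃ a, Odd a ∧ Nat.card π.ker = 2 * a := by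
    rintro p hp hp2 ⟨e⟩
    refine ⟨p, hp, e.toMonoidHom.comp f, hp2, e.surjective.comp hf, ?_, Nat.card O, hO, ?_⟩
    · rw [MonoidHom.comp_apply, hft, map_one]
    · rw [show (e.toMonoidHom.comp f).ker = f.ker from by
        ext u
        simp [MonoidHom.mem_ker], hker]
  rcases hX with h2 | ⟨⟨eA⟩⟩ | ⟨⟨eS⟩⟩ | ⟨L, hLn, hL, hLc⟩
  · -- a 2-group
    exfalso
    obtain ⟨g, hgo, q, hq, hq', hne⟩ := hg
    have hfg : f g = 1 := orderOf_eq_one_iff.1 (by
      obtain ⟨k, hk⟩ := IsPGroup.iff_orderOf.1 h2 (f g)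
      rw [hk]
      exact Nat.eq_one_of_dvd_coprimes ((Nat.coprime_two_left.2 hgo).pow_left k) dvd_rfl
        (hk ▸ orderOf_map_dvd f g))
    have hs : g * q * g⁻¹ * q⁻¹ ∈ zpowers t := by
      set s := g * q * g⁻¹ * q⁻¹ with hsdef
      have hsk : s ∈ f.ker := by
        rw [MonoidHom.mem_ker, hsdef, map_mul, map_mul, map_mul, hfg, map_inv, map_inv, hfg]
        group
      obtain ⟨k, hk⟩ := IsPGroup.iff_orderOf.1 P.isPGroup' ⟨s, mul_mem hq' (inv_mem hq)⟩
      rw [Subgroup.orderOf_mk] at hk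
      obtain ⟨j, hj⟩ := exists_pow_eq_self_of_coprime (x := s) (n := Nat.card O)
        (by rw [hk]; exact ((Nat.coprime_two_left.2 hO).pow_left k).symm)
      rw [← hj]
      exact pow_mem (hpow s hsk) j
    obtain ⟨i, hi⟩ := mem_zpowers_iff.1 hs
    rw [← zpow_mod_orderOf, ht2] at hi
    rcases Int.emod_two_eq i with e | e
    · rw [show i % ((2 : ℕ) : ℤ) = 0 from e, zpow_zero, eq_comm, mul_inv_eq_one] at hi
      exact hne hi
    · rw [show i % ((2 : ℕ) : ℤ) = 1 from e, zpow_one, eq_mul_inv_iff_mul_eq] at hi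
      exact ht1 (conj_eq_of_central htc (by rw [← sq, ← ht2, pow_orderOf_eq_one]) hgo hi.symm)
  · -- `A₄`
    exfalso
    have h1 : 2 ^ (n + 1) ∣ Nat.card C := d.card ▸ (P : Subgroup C).card_subgroup_dvd_card
    rw [hcard, Nat.card_congr eA.toEquiv,
      show Nat.card (alternatingGroup (Fin 4)) = 12 by
        rw [nat_card_alternatingGroup, Nat.card_fin]; rfl,
      show 2 * Nat.card O * 12 = 2 ^ 3 * (3 * Nat.card O) by ring] at h1
    have h4 : 2 ^ 4 ∣ 2 ^ 3 * (3 * Nat.card O) := (pow_dvd_pow 2 (by omega)).trans h1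
    rw [pow_succ] at h4
    have := (Nat.mul_dvd_mul_iff_left (by positivity)).1 h4
    have hodd3 : Odd (3 * Nat.card O) := (show Odd 3 by decide).mul hO
    exact hodd3.not_two_dvd_nat this
  · -- `S₄`
    haveI : Fact (Nat.Prime 3) := ⟨Nat.prime_three⟩
    obtain ⟨e⟩ := nonempty_equiv_perm_four
    exact finish 3 (by norm_num) ⟨eS.trans e⟩
  · haveI := hLn
    have hQ : SylowHyp ((C ⧸ zpowers t) ⧸ O) := hC.of_surjective f hf
    rcases hL with ⟨F, iF, iT, hFo, hF3, ⟨e⟩⟩ | ⟨⟨e⟩⟩
    · letI := iF; letI := iT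
      have hpr : (Fintype.card F).Prime := psl2_prime_of_equiv (hQ.subgroup L).1 hFo e
      obtain ⟨p, rfl⟩ : ∃ p, Fintype.card F = p := ⟨_, rfl⟩
      haveI : Fact (Fintype.card F).Prime := ⟨hpr⟩
      have h5 : 5 ≤ Fintype.card F := by
        obtain ⟨k, hk⟩ := hFo; omega
      let eL := e.trans (Linear.pslFieldCongr (n := Fin 2) (K := ZMod (Fintype.card F))
        (ZMod.card _).symm)
      refine finish (Fintype.card F) (by omega) ?_
      let c : (C ⧸ zpowers t) ⧸ O →* MulAut L := MulAut.conjNormal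
      have hc : Function.Injective c := by
        rw [← MonoidHom.ker_eq_bot_iff, eq_bot_iff, ← hLc]
        intro u hu
        rw [mem_centralizer_iff]
        intro m hm
        have h1 := congrArg (fun ψ : MulAut L => ((ψ ⟨m, hm⟩ : L) : (C ⧸ zpowers t) ⧸ O))
          (MonoidHom.mem_ker.1 hu)
        simp only [c, MulAut.conjNormal_apply, MulAut.one_apply] at h1
        exact (mul_inv_eq_iff_eq_mul.1 h1).symm
      haveI : Finite (MulAut L) := Finite.of_injective _ DFunLike.coe_injective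
      have hd := card_dvd_of_injective c hc
      rw [Nat.card_congr (MulAut.congr eL).toEquiv, card_mulAut_psl h5,
        ← Nat.card_congr eL.toEquiv, ← L.card_mul_index, mul_comm 2] at hd
      have hd2 : L.index ∣ 2 := Nat.dvd_of_mul_dvd_mul_left Nat.card_pos hd
      have hidx : L.index = 2 := by
        refine ((Nat.dvd_prime Nat.prime_two).1 hd2).resolve_left fun h1 => ?_
        -- then the quotient has no subgroup of index two, but `C` has one
        obtain ⟨K, hK⟩ : ∃ K : Subgroup C, K.index = 2 := by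
          by_contra hno
          push Not at hno
          have hS : Cfsg.IsQuasiDihedral (P : Subgroup C) :=
            ⟨n, hn, d.card, x, y, d.ox, d.oy, d.rel⟩
          obtain ⟨T, Q, hT, hTS, -, -, hT6, -⟩ := d.six_of_no_index_two P hS hno
          obtain ⟨c, hc⟩ := isConj_iff.1 (d.isConj_z_of_six P hT hTS hT6 y d.oy).symm
          rw [hzt, ← (htc c).eq, mul_inv_cancel_right, ← hzt] at hc
          exact d.y_notMem (Subtype.ext hc ▸ zpow_mem_zpowers x _)
        haveI : K.Normal := Subgroup.normal_of_index_eq_two hK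
        have htK : t ∈ K := by
          rw [← hzt, d.hh_eq, two_mul, zpow_add, Subgroup.coe_mul]
          exact Subgroup.mul_self_mem_of_index_two hK _
        have hle : f.ker ≤ K := by
          intro a ha
          have h := hpow a ha
          obtain ⟨k, hk⟩ := hO
          rw [hk, pow_succ, pow_mul, sq] at h
          exact (K.mul_mem_cancel_left (pow_mem (Subgroup.mul_self_mem_of_index_two hK a) k)).1
            (zpowers_le.2 htK h)
        have hM : (K.map f).index = 2 := by
          rw [Subgroup.index_map, MonoidHom.range_eq_top.2 hf, Subgroup.index_top, mul_one,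
            sup_eq_left.2 hle, hK]
        have hperf : commutator ((C ⧸ zpowers t) ⧸ O) = ⊤ := by
          let g := ((MulEquiv.subgroupCongr (Subgroup.index_eq_one.1 h1)).trans
            Subgroup.topEquiv).symm.trans eL
          rw [_root_.commutator_def,
            ← map_top_of_surjective g.symm.toMonoidHom g.symm.surjective, ← map_commutator,
            ← _root_.commutator_def, MultPSL.commutator_PSL_two (by rw [ZMod.card]; omega)]
        haveI : (K.map f).Normal := Subgroup.normal_of_index_eq_two hM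
        have hle' : commutator ((C ⧸ zpowers t) ⧸ O) ≤ K.map f := by
          rw [_root_.commutator_def, commutator_le]
          intro a _ b _
          rw [← QuotientGroup.eq_one_iff, ← QuotientGroup.mk'_apply, map_commutatorElement,
            commutatorElement_eq_one_iff_mul_comm]
          haveI : IsCyclic (((C ⧸ zpowers t) ⧸ O) ⧸ K.map f) := isCyclic_of_prime_card (p := 2)
            (by rw [← Subgroup.index_eq_card, hM])
          haveI := IsCyclic.isMulCommutative (α := ((C ⧸ zpowers t) ⧸ O) ⧸ K.map f)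
          exact mul_comm' _ _
        rw [hperf] at hle'
        rw [top_le_iff.1 hle', Subgroup.index_top] at hM
        omega
      obtain ⟨e'⟩ := nonempty_equiv_mulAut (p := Fintype.card F) h5
      have hb : Function.Bijective c := (Nat.bijective_iff_injective_and_card c).2 ⟨hc, by
        rw [Nat.card_congr (MulAut.congr eL).toEquiv, card_mulAut_psl h5,
          ← Nat.card_congr eL.toEquiv, ← L.card_mul_index, hidx, mul_comm]⟩
      exact ⟨((MulEquiv.ofBijective c hb).trans (MulAut.congr eL)).trans e'⟩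
    · -- `A₇` has a noncyclic Sylow 3-subgroup
      exfalso
      let a : alternatingGroup (Fin 7) :=
        ⟨Equiv.swap 0 1 * Equiv.swap 1 2, Equiv.Perm.mem_alternatingGroup.2 (by decide)⟩
      let b : alternatingGroup (Fin 7) :=
        ⟨Equiv.swap 3 4 * Equiv.swap 4 5, Equiv.Perm.mem_alternatingGroup.2 (by decide)⟩
      have ha : orderOf a = 3 := orderOf_eq_prime (hp := ⟨Nat.prime_three⟩) (by decide) (by decide)
      have hb : orderOf b = 3 := orderOf_eq_prime (hp := ⟨Nat.prime_three⟩) (by decide) (by decide)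
      have hab : Commute a b := by show a * b = b * a; decide
      refine (hQ.subgroup L).not_dvd_of_commute Nat.prime_three (by norm_num)
        (A := zpowers (e.symm a)) (B := zpowers (e.symm b)) (fun u hu v hv => ?_) ?_
        (by rw [Nat.card_zpowers, MulEquiv.orderOf_eq, ha])
        (by rw [Nat.card_zpowers, MulEquiv.orderOf_eq, hb])
      · obtain ⟨i, rfl⟩ := mem_zpowers_iff.1 hu
        obtain ⟨j, rfl⟩ := mem_zpowers_iff.1 hv
        exact (hab.map e.symm.toMonoidHom).zpow_zpow i j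
      · rw [eq_bot_iff]
        rintro u ⟨hua, hub⟩
        rw [Subgroup.mem_bot]
        obtain ⟨i, rfl⟩ := mem_zpowers_iff.1 hua
        obtain ⟨j, hj⟩ := mem_zpowers_iff.1 hub
        rw [← map_zpow, ← map_zpow, e.symm.injective.eq_iff] at hj
        rw [← map_zpow, map_eq_one_iff _ e.symm.injective]
        rw [← zpow_mod_orderOf b, ← zpow_mod_orderOf a, ha, hb] at hj
        rw [← zpow_mod_orderOf a, ha]
        have h1 := Int.emod_nonneg i (show ((3 : ℕ) : ℤ) ≠ 0 by norm_num)
        have h2 := Int.emod_lt_of_pos i (show (0 : ℤ) < ((3 : ℕ) : ℤ) by norm_num)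
        have h3 := Int.emod_nonneg j (show ((3 : ℕ) : ℤ) ≠ 0 by norm_num)
        have h4 := Int.emod_lt_of_pos j (show (0 : ℤ) < ((3 : ℕ) : ℤ) by norm_num)
        generalize i % ((3 : ℕ) : ℤ) = r at *
        generalize j % ((3 : ℕ) : ℤ) = s at *
        interval_cases r <;> interval_cases s <;> revert hj <;> decide

variable {G : Type u} [Group G] [Finite G] [IsSimpleGroup G]

/-- **A simple group has no semidihedral Sylow 2-subgroup here.** -/
theorem absurd_of_quasiDihedral (hna : ¬ IsMulCommutative G) (hG : SylowHyp G)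
    (hno : ∀ K : Subgroup G, K.index ≠ 2) (S : Sylow 2 G)
    (hS : Cfsg.IsQuasiDihedral (S : Subgroup G)) : False := by
  classical
  haveI : Fact (Nat.Prime 2) := ⟨Nat.prime_two⟩
  haveI := Fintype.ofFinite G
  obtain ⟨n, x, y, d⟩ := TwoGroups.exists_sdPair hS
  obtain ⟨T, Q, hT, hTS, hQS, ⟨eQ⟩, hT6, hQ6⟩ := d.six_of_no_index_two S hS hno
  obtain ⟨k, rfl⟩ : ∃ k, n = k + 3 := ⟨n - 3, by have := d.le; omega⟩
  have hhh : x ^ hh (k + 3) = x ^ (2 * 2 ^ (k + 1)) := by
    rw [hh, ← zpow_natCast, ← pow_succ']; norm_num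
  have hqq : x ^ qq (k + 3) = x ^ 2 ^ (k + 1) := by
    rw [qq, ← zpow_natCast, show k + 3 - 2 = k + 1 from rfl]; norm_num
  set σ : G := (x : G) with hσ
  have ht : σ ^ (2 * 2 ^ (k + 1)) = (↑(x ^ hh (k + 3)) : G) := by
    rw [hhh, Subgroup.coe_pow]
  have hSC : (S : Subgroup G) ≤ centralizer ({σ ^ (2 * 2 ^ (k + 1))} : Set G) := fun s hs =>
    mem_centralizer_singleton_iff.2 (by
      rw [ht]
      exact congrArg Subtype.val (Subgroup.mem_center_iff.1 d.z_mem_center ⟨s, hs⟩))
  let S₀ : Sylow 2 (centralizer ({σ ^ (2 * 2 ^ (k + 1))} : Set G)) := S.subtype hSC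
  let e₀ : (S : Subgroup G) ≃*
      (S₀ : Subgroup (centralizer ({σ ^ (2 * 2 ^ (k + 1))} : Set G))) :=
    { toFun := fun a => ⟨⟨a, hSC a.2⟩, a.2⟩
      invFun := fun b => ⟨((b : centralizer ({σ ^ (2 * 2 ^ (k + 1))} : Set G)) : G), b.2⟩
      left_inv := fun a => rfl
      right_inv := fun b => rfl
      map_mul' := fun a b => rfl }
  have ht2 : orderOf (σ ^ (2 * 2 ^ (k + 1))) = 2 := by rw [ht, orderOf_coe]; exact d.orderOf_z
  have htG : σ ^ (2 * 2 ^ (k + 1)) ∈ centralizer ({σ ^ (2 * 2 ^ (k + 1))} : Set G) :=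
    mem_centralizer_singleton_iff.2 rfl
  have hgC : ∃ g : centralizer ({σ ^ (2 * 2 ^ (k + 1))} : Set G), Odd (orderOf g) ∧
      ∃ q ∈ (S₀ : Subgroup (centralizer ({σ ^ (2 * 2 ^ (k + 1))} : Set G))),
        g * q * g⁻¹ ∈ (S₀ : Subgroup (centralizer ({σ ^ (2 * 2 ^ (k + 1))} : Set G))) ∧
          g * q * g⁻¹ ≠ q := by
    obtain ⟨g, hgN, hgQC, hgo⟩ := TwoGroups.exists_odd_mem_notMem
      (H := Q ⊔ centralizer (Q : Set G)) (N := normalizer (Q : Set G)) (by rw [hQ6]; norm_num)
    obtain ⟨hwQ, -⟩ := d.quaternion_sylow S hQS eQ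
    have htQ : σ ^ (2 * 2 ^ (k + 1)) ∈ Q := by
      rw [ht, d.hh_eq, two_mul, zpow_add, Subgroup.coe_mul]
      exact mul_mem hwQ hwQ
    have hgt : g ∈ centralizer ({σ ^ (2 * 2 ^ (k + 1))} : Set G) := by
      refine mem_centralizer_singleton_iff.2 (mul_inv_eq_iff_eq_mul.1 ?_)
      refine TwoGroups.quaternion8_invol_unique eQ ((mem_normalizer_iff.1 hgN _).1 htQ) htQ
        ?_ (Small.mul_self_of_orderOf_two ht2) ?_ ?_
      · rw [conj_mul, Small.mul_self_of_orderOf_two ht2, mul_one, mul_inv_cancel]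
      · exact fun h => by rw [conj_eq_one_iff] at h; rw [h, orderOf_one] at ht2; omega
      · exact fun h => by rw [h, orderOf_one] at ht2; omega
    obtain ⟨q, hq, hne⟩ : ∃ q ∈ Q, g * q * g⁻¹ ≠ q := by
      by_contra hall
      push Not at hall
      exact hgQC (mem_sup_right (mem_centralizer_iff.2 fun q hq =>
        (mul_inv_eq_iff_eq_mul.1 (hall q hq)).symm))
    exact ⟨⟨g, hgt⟩, by rwa [Subgroup.orderOf_mk], ⟨q, hSC (hQS hq)⟩, hQS hq,
      hQS ((mem_normalizer_iff.1 hgN q).1 hq), fun e => hne (congrArg Subtype.val e)⟩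
  obtain ⟨p, hp, π, hp2, hπ, hπt, a, ha, hak⟩ := exists_pgl_hom
    (hG.subgroup (centralizer ({σ ^ (2 * 2 ^ (k + 1))} : Set G)))
    (t := ⟨_, htG⟩) (by rw [Subgroup.orderOf_mk, ht2])
    (fun c => Subtype.ext (mem_centralizer_singleton_iff.1 c.2).symm) S₀ (d.map e₀)
    (by rw [← map_zpow]; exact Subtype.ext ht.symm) hgC
  haveI := hp
  have D : SDData S σ (y : G) (2 ^ (k + 1)) p π :=
    { pow2 := ⟨k, rfl⟩
      memσ := x.2
      memy := y.2
      ordσ := by
        rw [hσ, Subgroup.orderOf_coe, d.ox, show 4 = 2 ^ 2 by rfl, ← pow_add]; congr 1; omega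
      ordy := by rw [Subgroup.orderOf_coe, d.oy]
      rel := by
        rw [hσ, ← Subgroup.coe_inv, ← Subgroup.coe_mul, ← Subgroup.coe_mul, d.rel,
          Subgroup.coe_pow, ← pow_succ']
        rfl
      elems := fun u hu => by
        obtain ⟨i, e | e⟩ := d.eq_cases ⟨u, hu⟩
        · obtain ⟨j, hj⟩ := mem_powers_iff_mem_zpowers.2 (e ▸ zpow_mem_zpowers x i :
            (⟨u, hu⟩ : (S : Subgroup G)) ∈ zpowers x)
          exact ⟨j, Or.inl (by
            rw [hσ, ← Subgroup.coe_pow]; exact (congrArg Subtype.val hj).symm)⟩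
        · obtain ⟨j, hj⟩ := mem_powers_iff_mem_zpowers.2
            (zpow_mem_zpowers x ((hh (k + 3) - 1) * i))
          refine ⟨j, Or.inr ?_⟩
          have h1 : (⟨u, hu⟩ : (S : Subgroup G)) = y * x ^ j := by
            have h2 : x ^ j = y * x ^ i * y⁻¹ := by rw [d.conj_y]; exact hj
            rw [e, h2]
            rw [show y * (y * x ^ i * y⁻¹) = y * y * x ^ i * y⁻¹ by group, d.y_mul_y, one_mul,
              d.y_inv]
          rw [hσ, ← Subgroup.coe_pow, ← Subgroup.coe_mul]
          exact congrArg Subtype.val h1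
      card_P := by rw [d.card, show 8 = 2 ^ 3 by rfl, ← pow_add]; congr 1; omega
      invol := fun b hb => by
        obtain ⟨s, hs, hbs⟩ := TwoGroups.exists_isConj_sylow S (k := 1) (by simpa using hb)
        rw [ht]
        exact ((d.isConj_z_of_six S hT hTS hT6 s (by simpa using hs)).symm).trans hbs.symm
      four := fun b hb => by
        obtain ⟨s, hs, hbs⟩ := TwoGroups.exists_isConj_sylow S (k := 2) (by simpa using hb)
        rw [show σ ^ 2 ^ (k + 1) = (↑(x ^ qq (k + 3)) : G) by rw [hqq, Subgroup.coe_pow]]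
        exact ((d.isConj_w_of_six S hQS eQ hQ6 s (by simpa using hs)).symm).trans hbs.symm
      p2 := hp2
      surj := hπ
      ker_t := hπt
      ker_card := ⟨a, ha, hak⟩ }
  exact D.absurd_semidihedral hG.1 hna

end CfsgLib.SuzukiWong
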