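import Cfsg.Agent.SuzukiWong.SimpleSylow
import Cfsg.Agent.SuzukiWong.SDBuild
import Cfsg.Agent.SuzukiWong.KleinPSL

/-!
# Suzuki–Wong: the simple groups, and the structure theorem
-/

set_option autoImplicit false
set_option linter.unusedSectionVars false
set_option linter.style.haveILetI false

namespace CfsgLib.SuzukiWong

open Subgroup

universe u

/-- A nonabelian simple group does not have order twelve. -/
theorem card_ne_twelve {G : Type u} [Group G] [Finite G] [IsSimpleGroup G]
    (hna : ¬ IsMulCommutative G) : Nat.card G ≠ 12 := by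
  intro h12
  haveI : Fact (Nat.Prime 2) := ⟨Nat.prime_two⟩
  obtain ⟨V, hV⟩ := Sylow.exists_subgroup_card_pow_prime (G := G) 2 (n := 2) (by rw [h12]; norm_num)
  have hi : V.index = 3 := by
    have h := V.card_mul_index
    rw [hV, h12] at h
    omega
  haveI : Finite (G ⧸ V) := inferInstance
  let f := MulAction.toPermHom G (G ⧸ V)
  rcases IsSimpleGroup.eq_bot_or_eq_top_of_normal f.ker inferInstance with e | e
  · have h := Nat.card_le_card_of_injective f ((MonoidHom.ker_eq_bot_iff f).1 e)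
    rw [h12, Nat.card_perm, ← Subgroup.index_eq_card, hi] at h
    norm_num [Nat.factorial] at h
  · obtain ⟨g, hg⟩ : ∃ g, g ∉ V := by
      by_contra hall
      push Not at hall
      rw [(Subgroup.eq_top_iff' V).2 hall, Subgroup.index_top] at hi
      omega
    have hg1 : f g ((1 : G) : G ⧸ V) = ((1 : G) : G ⧸ V) := by
      rw [MonoidHom.mem_ker.1 (e ▸ mem_top g : g ∈ f.ker)]
      rfl
    rw [show f g ((1 : G) : G ⧸ V) = ((g * 1 : G) : G ⧸ V) from rfl, mul_one,
      QuotientGroup.eq] at hg1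
    exact hg (by simpa using hg1)

/-- **The simple groups with the hypotheses are `PSL₂(p)`.** -/
theorem psl2_of_simple {T : Type u} [Group T] [Finite T] [IsSimpleGroup T]
    (hna : ¬ IsMulCommutative T) (hT : SylowHyp T) :
    ∃ (p : ℕ) (_ : Fact p.Prime), 5 ≤ p ∧
      Nonempty (T ≃* Matrix.ProjectiveSpecialLinearGroup (Fin 2) (ZMod p)) := by
  haveI : Fact (Nat.Prime 2) := ⟨Nat.prime_two⟩
  let S : Sylow 2 T := default
  rcases sylow_cases hna hT S with hD | hQ
  · obtain ⟨F, iF, iT, hpr, hodd, ⟨e⟩⟩ := psl2_of_dihedral_sylow hna hT.1 S hD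
    letI := iF; letI := iT
    haveI : Fact (Fintype.card F).Prime := ⟨hpr⟩
    refine ⟨Fintype.card F, inferInstance, ?_, ⟨e.trans (Linear.pslFieldCongr (n := Fin 2)
      (K := ZMod (Fintype.card F)) (ZMod.card _).symm)⟩⟩
    by_contra h5
    have h2 := hpr.two_le
    obtain ⟨j, hj⟩ := hodd
    have h3 : Fintype.card F = 3 := by omega
    refine card_ne_twelve hna ?_
    have h := Linear.card_PSL_two_odd (F := F) ⟨j, hj⟩
    rw [h3, ← Nat.card_congr e.toEquiv] at h
    omega
  · exact (absurd_of_quasiDihedral hna hT (index_ne_two_of_simple hna) S hQ).elim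

/-- The structure theorem. -/
theorem structure_theorem {G : Type u} [Group G] [Finite G] (hns : ¬ Group.IsSolvable G)
    (hG : SylowHyp G) :
    ∃ G₀ : Subgroup G, G₀.Normal ∧ G₀.index ∣ 2 ∧
      ∃ X L : Subgroup ↥G₀, X.Normal ∧ L.Normal ∧ X ⊓ L = ⊥ ∧ X ⊔ L = ⊤ ∧
        (Nat.card X).Coprime (Nat.card L) ∧ Odd (Nat.card X) ∧
        (∃ (C : Subgroup ↥X) (_ : C.Normal), IsCyclic C ∧ IsCyclic (↥X ⧸ C)) ∧
        ∃ (p : ℕ) (_ : Fact p.Prime), 5 ≤ p ∧
          (Nonempty (↥L ≃* Matrix.ProjectiveSpecialLinearGroup (Fin 2) (ZMod p)) ∨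
           Nonempty (↥L ≃* Matrix.SpecialLinearGroup (Fin 2) (ZMod p))) :=
  structure_of_pslBelow hns hG fun T _ _ hs hna hT _ => by
    haveI := hs
    exact psl2_of_simple hna hT

end CfsgLib.SuzukiWong
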