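import Cfsg.Agent.SuzukiWong.AssemblySocle
import Cfsg.Agent.MultPSL.Main
import Cfsg.Agent.SchurTheory.CoverUnique

/-!
# Suzuki–Wong: the structure of a non-solvable group from the simple case
-/

set_option autoImplicit false
set_option linter.unusedSectionVars false
set_option linter.style.haveILetI false

namespace CfsgLib.SuzukiWong

open Subgroup

universe u

section Cover

variable {p : ℕ} [hp : Fact p.Prime]

/-- A perfect central extension of `PSL₂(p)` is `PSL₂(p)` or `SL₂(p)`. -/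
theorem psl_or_sl_of_perfect_central {L : Type u} [Group L] [Finite L] (h5 : 5 ≤ p)
    (σ : L →* Matrix.ProjectiveSpecialLinearGroup (Fin 2) (ZMod p)) (hσ : Function.Surjective σ)
    (hc : σ.ker ≤ center L) (hL : commutator L = ⊤) :
    (Nat.card σ.ker = 1 ∨ Nat.card σ.ker = 2) ∧
      (Nonempty (L ≃* Matrix.ProjectiveSpecialLinearGroup (Fin 2) (ZMod p)) ∨
        Nonempty (L ≃* Matrix.SpecialLinearGroup (Fin 2) (ZMod p))) := by
  classical
  have hp9 : p ≠ 9 := fun e => absurd (e ▸ hp.out) (by norm_num)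
  have hodd : p % 2 = 1 := Nat.odd_iff.1 (hp.out.odd_of_ne_two (by omega))
  have hM := MultPSL.hasCyclicSchurMultiplier_PSL (F := ZMod p) 2 le_rfl
    (fun _ => ⟨by rw [ZMod.card]; omega, by rw [ZMod.card]; exact hp9⟩) (by omega) (by omega)
  have hg : Nat.gcd 2 (Fintype.card (ZMod p) - 1) = 2 :=
    Nat.gcd_eq_left (by rw [ZMod.card]; omega)
  rw [hg] at hM
  -- the kernel has order at most two
  haveI : Small.{0} L := inferInstance
  let eS : Shrink.{0} L ≃* L := Shrink.mulEquiv
  haveI : Finite (Shrink.{0} L) := Finite.of_equiv L eS.symm.toEquiv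
  set σ' := σ.comp eS.toMonoidHom
  have hs' : Cfsg.IsStemExtension σ' := by
    refine ⟨hσ.comp eS.surjective, fun x hx => ?_, ?_⟩
    · rw [mem_center_iff]
      intro y
      apply eS.injective
      rw [map_mul, map_mul]
      exact mem_center_iff.1 (hc (MonoidHom.mem_ker.2 (MonoidHom.mem_ker.1 hx))) (eS y)
    · have h1 : commutator (Shrink.{0} L) = ⊤ := by
        rw [_root_.commutator_def, ← map_top_of_surjective eS.symm.toMonoidHom eS.symm.surjective,
          ← map_commutator, ← _root_.commutator_def, hL]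
      rw [h1]
      exact le_top
  obtain ⟨π₂, hπ₂⟩ := hM.2 (Shrink.{0} L) σ' hs'
  have hk : Nat.card σ.ker ∣ 2 := by
    have h1 := card_dvd_of_surjective π₂ hπ₂
    rw [Nat.card_congr Multiplicative.toAdd, Nat.card_zmod] at h1
    have h2 : σ'.ker.map eS.toMonoidHom = σ.ker := by
      rw [show σ'.ker = σ.ker.comap eS.toMonoidHom from (MonoidHom.comap_ker σ eS.toMonoidHom).symm,
        map_comap_eq_self_of_surjective eS.surjective]
    rwa [← h2, card_map_of_injective eS.injective]
  have hk' := (Nat.dvd_prime Nat.prime_two).1 hk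
  refine ⟨hk', ?_⟩
  rcases hk' with h1 | h2
  · exact Or.inl ⟨MulEquiv.ofBijective σ
      ⟨(MonoidHom.ker_eq_bot_iff σ).1 (card_eq_one.1 h1), hσ⟩⟩
  -- the double cover
  set σ₂ := QuotientGroup.mk' (center (Matrix.SpecialLinearGroup (Fin 2) (ZMod p)))
  have hs₂ : Cfsg.IsStemExtension σ₂ :=
    MultPSL.isStemExtension_mk (WordLaws.commutator_SL2 (by rw [ZMod.card]; omega))
  have hk₂ : Nat.card σ₂.ker = 2 := by
    rw [QuotientGroup.ker_mk', Linear.card_center_SL, Fintype.card_fin, hg]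
  obtain ⟨hMc, hM2⟩ := SchurTheory.hasCyclicSchurMultiplier_iff.1 hM
  haveI := hMc
  haveI : IsCyclic σ.ker := isCyclic_of_prime_card (p := 2) h2
  haveI : IsCyclic σ₂.ker := isCyclic_of_prime_card (p := 2) hk₂
  obtain ⟨e, -⟩ := SchurTheory.exists_iso_of_coprime
    (by
      have hab : commutator (Matrix.ProjectiveSpecialLinearGroup (Fin 2) (ZMod p)) = ⊤ :=
        MultPSL.commutator_PSL_two (by rw [ZMod.card]; omega)
      rw [show Nat.card (Abelianization (Matrix.ProjectiveSpecialLinearGroup (Fin 2) (ZMod p))) = 1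
        from (index_eq_card _).symm.trans (by rw [hab, index_top])]
      exact Nat.coprime_one_left _)
    σ σ₂ ⟨hσ, hc, by rw [hL]; exact le_top⟩ hs₂ (mulEquivOfCyclicCardEq (h2.trans hM2.symm))
    (mulEquivOfCyclicCardEq (hk₂.trans hM2.symm))
  exact Or.inr ⟨e⟩

end Cover

variable {G : Type u} [Group G] [Finite G]

/-- A subgroup centralizing a cover `L` of `PSL₂(p)` has its involutions over `L` inside `L`. -/
theorem mem_of_sq_mem (h : SylowHyp G) {p : ℕ} [Fact p.Prime] (h5 : 5 ≤ p) {R L : Subgroup G}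
    (σ : L →* Matrix.ProjectiveSpecialLinearGroup (Fin 2) (ZMod p)) (hσ : Function.Surjective σ)
    (hker : σ.ker = R.subgroupOf L) (hk : Nat.card σ.ker = 1 ∨ Nat.card σ.ker = 2)
    (hRL : ∀ r ∈ R, ∀ l ∈ L, Commute r l) {u : G} (hu : u ∈ R) (hu2 : u * u ∈ L) : u ∈ L := by
  obtain ⟨a, ha, ha1⟩ : ∃ a, Nat.card σ.ker = 2 ^ a ∧ a ≤ 1 := by
    rcases hk with e | e
    · exact ⟨0, by rw [e, pow_zero], by norm_num⟩
    · exact ⟨1, by rw [e, pow_one], le_rfl⟩
  obtain ⟨V, hV⟩ := exists_klein_psl (p := p) h5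
  set Q₀ := (V.comap σ).map L.subtype with hQ₀
  have hcard : Nat.card Q₀ = 2 ^ (a + 2) := by
    rw [hQ₀, card_map_of_injective L.subtype_injective]
    have h1 : Nat.card (V.comap σ) * V.index = Nat.card L := by
      rw [← index_comap_of_surjective (f := σ) V hσ, card_mul_index]
    have h2 : Nat.card L = Nat.card (Matrix.ProjectiveSpecialLinearGroup (Fin 2) (ZMod p)) *
        Nat.card σ.ker := by
      rw [σ.ker.card_eq_card_quotient_mul_card_subgroup,
        Nat.card_congr (QuotientGroup.quotientKerEquivOfSurjective σ hσ).toEquiv]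
    rw [h2, ← V.card_mul_index, hV.card_four, ha] at h1
    apply Nat.eq_of_mul_eq_mul_right (Nat.pos_of_ne_zero index_ne_zero_of_finite : 0 < V.index)
    rw [h1, pow_add]
    ring
  have hsq : ∀ x ∈ L, x ∈ R → x ^ 2 ^ a = 1 := by
    intro x hxL hxR
    have hx : (⟨x, hxL⟩ : L) ∈ σ.ker := by rw [hker]; exact mem_subgroupOf.2 hxR
    have h1 : (⟨⟨x, hxL⟩, hx⟩ : σ.ker) ^ Nat.card σ.ker = 1 := pow_card_eq_one'
    rw [ha] at h1
    have h2 := congrArg (fun y : σ.ker => ((y : L) : G)) h1
    simpa only [SubmonoidClass.coe_pow, OneMemClass.coe_one] using h2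
  have hQL : Q₀ ≤ L := map_subtype_le _
  have hcu : ∀ q ∈ Q₀, ∀ i : ℤ, Commute q (u ^ i) := fun q hq i =>
    ((hRL u hu q (hQL hq)).symm).zpow_right i
  let W : Subgroup G :=
    { carrier := {g | ∃ q ∈ Q₀, ∃ i : ℤ, g = q * u ^ i}
      mul_mem' := by
        rintro _ _ ⟨q, hq, i, rfl⟩ ⟨q', hq', i', rfl⟩
        refine ⟨q * q', mul_mem hq hq', i + i', ?_⟩
        rw [zpow_add, mul_assoc q (u ^ i), ← mul_assoc (u ^ i) q', ← (hcu q' hq' i).eq]
        group
      one_mem' := ⟨1, one_mem _, 0, by simp⟩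
      inv_mem' := by
        rintro _ ⟨q, hq, i, rfl⟩
        refine ⟨q⁻¹, inv_mem hq, -i, ?_⟩
        rw [mul_inv_rev, zpow_neg]
        exact ((hcu q hq i).inv_inv).eq.symm }
  have hexp : ∀ w ∈ W, w ^ 2 ^ (a + 1) = 1 := by
    rintro _ ⟨q, hq, i, rfl⟩
    obtain ⟨x, hx, rfl⟩ := mem_map.1 hq
    rw [pow_succ', pow_mul, (hcu _ hq i).mul_pow]
    refine hsq _ (mul_mem (pow_mem x.2 2) ?_) (mul_mem ?_ (pow_mem (zpow_mem hu i) 2))
    · rw [← zpow_natCast, ← zpow_mul, mul_comm, zpow_mul, zpow_natCast, sq]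
      exact zpow_mem hu2 i
    · have h1 : x * x ∈ σ.ker := by
        rw [MonoidHom.mem_ker, map_mul]
        exact congrArg Subtype.val (hV.mul_self ⟨σ x, hx⟩)
      rw [hker, mem_subgroupOf] at h1
      rw [sq]
      exact h1
  have hle : Q₀ ≤ W := fun q hq => ⟨q, hq, 0, by simp⟩
  have hW := h.card_le hexp
  rw [← hcard] at hW
  have e := eq_of_le_of_card_ge hle hW
  exact hQL (e ▸ (⟨1, one_mem _, 1, by simp⟩ : u ∈ W))

/-- The structure theorem, granted the simple case. -/
theorem structure_of_pslBelow (hns : ¬ Group.IsSolvable G) (hG : SylowHyp G)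
    (hT : PSLBelow.{u} (Nat.card G)) :
    ∃ G₀ : Subgroup G, G₀.Normal ∧ G₀.index ∣ 2 ∧
      ∃ X L : Subgroup ↥G₀, X.Normal ∧ L.Normal ∧ X ⊓ L = ⊥ ∧ X ⊔ L = ⊤ ∧
        (Nat.card X).Coprime (Nat.card L) ∧ Odd (Nat.card X) ∧
        (∃ (C : Subgroup ↥X) (_ : C.Normal), IsCyclic C ∧ IsCyclic (↥X ⧸ C)) ∧
        ∃ (p : ℕ) (_ : Fact p.Prime), 5 ≤ p ∧
          (Nonempty (↥L ≃* Matrix.ProjectiveSpecialLinearGroup (Fin 2) (ZMod p)) ∨
           Nonempty (↥L ≃* Matrix.SpecialLinearGroup (Fin 2) (ZMod p))) := by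
  classical
  set R := Components.solvRadical G
  have hRs : Group.IsSolvable R := Components.isSolvable_solvRadical
  set π := QuotientGroup.mk' R with hπdef
  have hπ : Function.Surjective π := QuotientGroup.mk'_surjective R
  obtain ⟨N, hNn, hNi, p, hp, h5, ⟨e⟩⟩ := exists_socle (hG.of_surjective π hπ)
    (fun T _ _ h1 h2 h3 h4 => hT T h1 h2 h3 (h4.trans (Nat.le_of_dvd Nat.card_pos
      (card_dvd_of_surjective π hπ))))
    (CyclicZ.trivialRadical_quotient R hRs fun M hM hs =>
      haveI := hM; Components.le_solvRadical hs)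
    (CyclicZ.not_isSolvable_quotient R hRs hns)
  haveI := hp
  haveI := hNn
  set G₁ := N.comap π with hG₁
  haveI : G₁.Normal := inferInstance
  have hRG₁ : R ≤ G₁ := fun r hr => by
    rw [hG₁, mem_comap, hπdef, QuotientGroup.mk'_apply, (QuotientGroup.eq_one_iff r).2 hr]
    exact one_mem _
  set L := AGroups.perfectPart G₁
  haveI : L.Normal := AGroups.perfectPart_normal G₁
  have hLG₁ : L ≤ G₁ := AGroups.perfectPart_le G₁
  have hNp : ⁅N, N⁆ = N := by
    have h1 : commutator N = ⊤ := by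
      rw [_root_.commutator_def, ← map_top_of_surjective e.symm.toMonoidHom e.symm.surjective,
        ← map_commutator, ← _root_.commutator_def,
        MultPSL.commutator_PSL_two (by rw [ZMod.card]; omega)]
    have h2 := congrArg (Subgroup.map N.subtype) h1
    rwa [_root_.commutator_def, map_commutator, ← MonoidHom.range_eq_map, range_subtype] at h2
  have hLmap : L.map π = N := by
    refine le_antisymm (map_le_iff_le_comap.2 hLG₁) ?_
    show N ≤ (AGroups.perfectPart G₁).map π
    rw [AGroups.perfectPart, AGroups.map_derivedFrom, map_comap_eq_self_of_surjective hπ]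
    exact AGroups.le_derivedFrom hNp le_rfl _
  let σ : L →* Matrix.ProjectiveSpecialLinearGroup (Fin 2) (ZMod p) :=
    e.toMonoidHom.comp ((π.comp L.subtype).codRestrict N fun l => hLmap ▸ mem_map_of_mem π l.2)
  have hσ : Function.Surjective σ := by
    intro y
    obtain ⟨l, hl, hly⟩ := mem_map.1 (hLmap.symm ▸ (e.symm y).2 : (e.symm y : G ⧸ R) ∈ L.map π)
    exact ⟨⟨l, hl⟩, by
      show e ⟨π l, _⟩ = y
      rw [← e.apply_symm_apply y]
      exact congrArg e (Subtype.ext hly)⟩
  have hker : σ.ker = R.subgroupOf L := by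
    ext l
    rw [MonoidHom.mem_ker, mem_subgroupOf]
    show e ⟨π l, _⟩ = 1 ↔ _
    rw [map_eq_one_iff e e.injective, Subtype.ext_iff]
    exact QuotientGroup.eq_one_iff (l : G)
  have hLperf : commutator L = ⊤ := by
    rw [_root_.commutator_def]
    apply map_injective L.subtype_injective
    rw [map_commutator, ← MonoidHom.range_eq_map, range_subtype]
    exact AGroups.perfectPart_perfect G₁
  haveI : Group.IsSolvable (R.subgroupOf L) := by
    haveI := hRs
    exact Group.isSolvable_of_isSolvable_injective (f := (L.subtype.subgroupComap R))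
      fun a b h => by
        have h' := congrArg Subtype.val h
        exact Subtype.ext (L.subtype_injective h')
  have hKc : R.subgroupOf L ≤ center L :=
    le_center_of_perfect _ L rfl hLperf (hG.subgroup L) _ inferInstance inferInstance
  obtain ⟨hk, hLiso⟩ := psl_or_sl_of_perfect_central h5 σ hσ (hker.le.trans hKc) hLperf
  -- the radical centralizes `L`
  have hRL : ∀ r ∈ R, ∀ l ∈ L, Commute r l := by
    have h1 : ⁅⁅L, R⁆, L⁆ = ⊥ := by
      rw [commutator_eq_bot_iff_le_centralizer]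
      intro x hx
      have hxL : x ∈ L := commutator_le_left L R hx
      have hxR : x ∈ R := commutator_le_right L R hx
      rw [mem_centralizer_iff]
      intro l hl
      exact congrArg Subtype.val
        (mem_center_iff.1 (hKc (mem_subgroupOf.2 hxR : (⟨x, hxL⟩ : L) ∈ R.subgroupOf L)) ⟨l, hl⟩)
    have h2 : ⁅⁅R, L⁆, L⁆ = ⊥ := by rw [commutator_comm R L]; exact h1
    have h3 := commutator_commutator_eq_bot_of_rotate h1 h2
    rw [AGroups.perfectPart_perfect, commutator_eq_bot_iff_le_centralizer] at h3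
    intro r hr l hl
    exact mem_centralizer_iff.1 (h3 hl) r hr
  -- the odd part of the radical
  set K := L.subgroupOf R
  haveI : K.Normal := inferInstance
  have hKcard : Nat.card K = Nat.card σ.ker := by
    have h1 := card_map_of_injective (G := R) R.subtype_injective (K := L.subgroupOf R)
    have h2 := card_map_of_injective (G := L) L.subtype_injective (K := R.subgroupOf L)
    rw [subgroupOf_map_subtype] at h1 h2
    rw [hker, ← h1, ← h2, inf_comm]
  have hKodd : ¬ 2 ∣ K.index := by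
    intro hd
    haveI := Fact.mk Nat.prime_two
    rw [index_eq_card] at hd
    obtain ⟨q, hq⟩ := exists_prime_orderOf_dvd_card' 2 hd
    obtain ⟨u, rfl⟩ := QuotientGroup.mk'_surjective K q
    have hu2 : u * u ∈ K := by
      rw [← QuotientGroup.eq_one_iff, QuotientGroup.mk_mul, ← sq, ← hq]
      exact pow_orderOf_eq_one _
    have huL : u ∈ K := mem_subgroupOf.2
      (mem_of_sq_mem hG h5 σ hσ hker hk hRL u.2 (mem_subgroupOf.1 hu2))
    rw [QuotientGroup.mk'_apply, (QuotientGroup.eq_one_iff u).2 huL, orderOf_one] at hq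
    omega
  obtain ⟨H, hH⟩ := exists_right_complement'_of_coprime (N := K) (by
    rw [hKcard]
    rcases hk with e | e <;> rw [e]
    · exact Nat.coprime_one_left _
    · exact Nat.prime_two.coprime_iff_not_dvd.2 hKodd)
  set X := H.map R.subtype with hXdef
  have hXR : X ≤ R := map_subtype_le H
  have hXodd : Odd (Nat.card X) := by
    rw [card_map_of_injective R.subtype_injective, ← hH.symm.index_eq_card, Nat.odd_iff,
      ← Nat.two_dvd_ne_zero]
    exact hKodd
  have hmem : ∀ x ∈ R, Odd (orderOf x) → x ∈ X := by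
    intro x hx ho
    obtain ⟨⟨k, h⟩, hkh⟩ := hH.2 ⟨x, hx⟩
    have hkh' : (k : R) * (h : R) = ⟨x, hx⟩ := hkh
    have hcom : Commute (k : R) (h : R) := Subtype.ext
      (hRL ((h : R) : G) (h : R).2 ((k : R) : G) (mem_subgroupOf.1 k.2)).eq.symm
    set n := orderOf x
    have h1 : (k : R) ^ n * (h : R) ^ n = 1 := by
      rw [← hcom.mul_pow, hkh']
      exact Subtype.ext (by rw [SubmonoidClass.coe_pow]; exact pow_orderOf_eq_one x)
    have h2 : (k : R) ^ n = 1 := by
      have hkn : (k : R) ^ n ∈ K ⊓ H :=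
        Subgroup.mem_inf.2 ⟨K.pow_mem k.2 n, by
          rw [eq_inv_of_mul_eq_one_left h1]; exact H.inv_mem (H.pow_mem h.2 n)⟩
      rwa [hH.disjoint.eq_bot, mem_bot] at hkn
    have h3 : (k : R) = 1 := orderOf_eq_one_iff.1 (by
      refine Nat.eq_one_of_dvd_coprimes ?_ (orderOf_dvd_of_pow_eq_one h2)
        (K.orderOf_dvd_natCard k.2)
      rw [hKcard]
      rcases hk with e | e <;> rw [e]
      · exact Nat.coprime_one_right _
      · exact Nat.coprime_two_right.2 ho)
    refine ⟨h, h.2, ?_⟩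
    show ((h : R) : G) = x
    have h4 := congrArg Subtype.val hkh'
    rw [h3, one_mul] at h4
    exact h4
  haveI hXn : X.Normal := ⟨fun x hx g => hmem _
    ((Components.solvRadical_normal (G := G)).conj_mem x (hXR hx) g) (by
      have h1 : orderOf (g * x * g⁻¹) = orderOf x := (MulAut.conj g).orderOf_eq x
      rw [h1]
      exact hXodd.of_dvd_nat (X.orderOf_dvd_natCard hx))⟩
  have hXL : X ⊓ L = ⊥ := by
    rw [eq_bot_iff]
    rintro x ⟨hxX, hxL⟩
    obtain ⟨y, hy, rfl⟩ := mem_map.1 hxX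
    have : y ∈ K ⊓ H := ⟨mem_subgroupOf.2 hxL, hy⟩
    rw [hH.disjoint.eq_bot, mem_bot] at this
    rw [this]
    exact one_mem _
  have hsup : G₁ ≤ X ⊔ L := by
    intro g hg
    obtain ⟨l, hl, hlg⟩ := mem_map.1 (hLmap.symm ▸ hg : π g ∈ L.map π)
    have hr : g * l⁻¹ ∈ R := by
      rw [← QuotientGroup.eq_one_iff, ← QuotientGroup.mk'_apply, ← hπdef, map_mul, map_inv, hlg,
        mul_inv_cancel]
    have hle : R ≤ X ⊔ L := by
      intro r hr
      obtain ⟨⟨k, h⟩, hkh⟩ := hH.2 ⟨r, hr⟩
      have hkh' : ((k : R) : G) * ((h : R) : G) = r := congrArg Subtype.val hkh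
      rw [← hkh']
      exact mul_mem (mem_sup_right (mem_subgroupOf.1 k.2)) (mem_sup_left ⟨h, h.2, rfl⟩)
    rw [show g = g * l⁻¹ * l by group]
    exact mul_mem (hle hr) (mem_sup_right hl)
  have hXG₁ : X ≤ G₁ := hXR.trans hRG₁
  refine ⟨G₁, inferInstance, ?_, X.subgroupOf G₁, L.subgroupOf G₁, inferInstance, inferInstance,
    ?_, ?_, ?_, ?_, ?_, p, hp, h5, ?_⟩
  · rw [hG₁, index_comap_of_surjective N hπ]
    exact hNi
  · apply map_injective G₁.subtype_injective
    rw [map_inf _ _ _ G₁.subtype_injective, map_subgroupOf_eq_of_le hXG₁,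
      map_subgroupOf_eq_of_le hLG₁, hXL, Subgroup.map_bot]
  · apply map_injective G₁.subtype_injective
    rw [Subgroup.map_sup, map_subgroupOf_eq_of_le hXG₁, map_subgroupOf_eq_of_le hLG₁,
      ← MonoidHom.range_eq_map, range_subtype]
    exact le_antisymm (sup_le hXG₁ hLG₁) hsup
  · rw [Nat.card_congr (subgroupOfEquivOfLe hXG₁).toEquiv,
      Nat.card_congr (subgroupOfEquivOfLe hLG₁).toEquiv]
    refine Nat.coprime_of_dvd fun q hq hqX hqL => ?_
    rcases eq_or_ne q 2 with rfl | hq2
    · exact hXodd.not_two_dvd_nat hqX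
    · exact hG.not_dvd_of_commute hq hq2 (fun a ha b hb => hRL a (hXR ha) b hb) hXL hqX hqL
  · rwa [Nat.card_congr (subgroupOfEquivOfLe hXG₁).toEquiv]
  · haveI := isZGroup_of_odd (G := G₁) (hG.subgroup G₁).1
      (Q := X.subgroupOf G₁) (by rwa [Nat.card_congr (subgroupOfEquivOfLe hXG₁).toEquiv])
    exact ⟨commutator _, inferInstance, IsZGroup.isCyclic_commutator _,
      IsZGroup.isCyclic_abelianization⟩
  · exact hLiso.imp (fun ⟨f⟩ => ⟨(subgroupOfEquivOfLe hLG₁).trans f⟩)
      (fun ⟨f⟩ => ⟨(subgroupOfEquivOfLe hLG₁).trans f⟩)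

end CfsgLib.SuzukiWong
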