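import Cfsg.Agent.SuzukiWong.AssemblyTools
import Cfsg.Agent.CyclicZ.Reduction
import Cfsg.Agent.Linear.Basic
import Cfsg.Agent.S0813
import Cfsg.Agent.TwoGroups.Basic

/-!
# Suzuki–Wong: the quotient by the solvable radical
-/

set_option autoImplicit false
set_option linter.unusedSectionVars false
set_option linter.style.haveILetI false

namespace CfsgLib.SuzukiWong

open Subgroup
open scoped MatrixGroups

universe u

section PSL

variable {p : ℕ} [hp : Fact p.Prime]

theorem two_mul_card_psl (h5 : 5 ≤ p) :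
    2 * Nat.card (Matrix.ProjectiveSpecialLinearGroup (Fin 2) (ZMod p)) = p * (p ^ 2 - 1) := by
  have h := Linear.card_PSL_two_odd (F := ZMod p)
    (by rw [ZMod.card]; exact hp.out.odd_of_ne_two (by omega))
  rwa [ZMod.card] at h

theorem three_dvd_card_psl (h5 : 5 ≤ p) :
    3 ∣ Nat.card (Matrix.ProjectiveSpecialLinearGroup (Fin 2) (ZMod p)) := by
  have h3 : ¬ 3 ∣ p := fun h => by
    have := (Nat.prime_dvd_prime_iff_eq Nat.prime_three hp.out).1 h
    omega
  have hmod : 3 ∣ p ^ 2 - 1 := by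
    have hsq : p ^ 2 % 3 = 1 := by
      have : p % 3 = 1 ∨ p % 3 = 2 := by omega
      rw [Nat.pow_mod]
      rcases this with e | e <;> rw [e]
    omega
  have h := two_mul_card_psl h5
  exact (show Nat.Coprime 3 2 by norm_num).dvd_of_dvd_mul_left (h ▸ Dvd.dvd.mul_left hmod p)

theorem card_mulAut_psl (h5 : 5 ≤ p) :
    Nat.card (MulAut (Matrix.ProjectiveSpecialLinearGroup (Fin 2) (ZMod p))) =
      2 * Nat.card (Matrix.ProjectiveSpecialLinearGroup (Fin 2) (ZMod p)) := by
  have h := Cfsg.Agent.S0813.result (F := ZMod p) p 1 le_rfl (by rw [ZMod.card, pow_one]) 2 le_rfl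
    (fun _ => by rw [pow_one]; omega)
  rw [h, if_pos rfl, one_mul, one_mul, Linear.card_PGL, Linear.card_SL_two, two_mul_card_psl h5,
    ZMod.card]

/-- `PSL₂(p)` contains a four-group. -/
theorem exists_klein_psl (h5 : 5 ≤ p) :
    ∃ V : Subgroup (Matrix.ProjectiveSpecialLinearGroup (Fin 2) (ZMod p)), IsKleinFour V := by
  obtain ⟨a, b, hab⟩ := ZMod.sq_add_sq p (-1)
  let i : SL(2, ZMod p) := ⟨!![0, 1; -1, 0], by simp [Matrix.det_fin_two_of]⟩
  let j : SL(2, ZMod p) := ⟨!![a, b; b, -a], by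
    rw [Matrix.det_fin_two_of]; linear_combination -hab⟩
  let z : SL(2, ZMod p) := ⟨!![-1, 0; 0, -1], by simp [Matrix.det_fin_two_of]⟩
  have hz : z ∈ center SL(2, ZMod p) := by
    rw [mem_center_iff]
    intro g
    apply Subtype.ext
    show (g : Matrix (Fin 2) (Fin 2) (ZMod p)) * !![-1, 0; 0, -1] = !![-1, 0; 0, -1] * (g : Matrix (Fin 2) (Fin 2) (ZMod p))
    ext r s
    fin_cases r <;> fin_cases s <;> simp [Matrix.mul_apply, Fin.sum_univ_two]
  have hi2 : i * i = z := by
    apply Subtype.ext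
    show (!![0, 1; -1, 0] : Matrix (Fin 2) (Fin 2) (ZMod p)) * !![0, 1; -1, 0] = !![-1, 0; 0, -1]
    ext r s
    fin_cases r <;> fin_cases s <;> simp [Matrix.mul_apply, Fin.sum_univ_two]
  have hj2 : j * j = z := by
    apply Subtype.ext
    show (!![a, b; b, -a] : Matrix (Fin 2) (Fin 2) (ZMod p)) * !![a, b; b, -a] = !![-1, 0; 0, -1]
    ext r s
    fin_cases r <;> fin_cases s <;> simp [Matrix.mul_apply, Fin.sum_univ_two] <;>
      first
        | linear_combination hab
        | ring1
  have hji : j * i = z * (i * j) := by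
    apply Subtype.ext
    show (!![a, b; b, -a] : Matrix (Fin 2) (Fin 2) (ZMod p)) * !![0, 1; -1, 0] =
      !![-1, 0; 0, -1] * (!![0, 1; -1, 0] * !![a, b; b, -a])
    ext r s
    fin_cases r <;> fin_cases s <;> simp [Matrix.mul_apply, Fin.sum_univ_two]
  have hne : ¬ j * i = i * j := by
    intro e
    rw [hji, mul_eq_right] at e
    have e' := congrArg (fun g : SL(2, ZMod p) => (g : Matrix (Fin 2) (Fin 2) (ZMod p)) 0 0) e
    simp only [z, Matrix.SpecialLinearGroup.coe_one, Matrix.one_apply_eq, Matrix.of_apply,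
      Matrix.cons_val_zero, Matrix.cons_val'] at e'
    haveI : Fact (2 < p) := ⟨by omega⟩
    exact ZMod.neg_one_ne_one e'
  let π := QuotientGroup.mk' (center SL(2, ZMod p))
  have hk : ∀ x, π x = 1 ↔ x ∈ center SL(2, ZMod p) := fun x => QuotientGroup.eq_one_iff x
  have hzπ : π z = 1 := (hk z).2 hz
  obtain ⟨T, hT, -, -⟩ := TwoGroups.exists_kleinFour (a := π i) (b := π j)
    (by rw [← map_mul, hi2, hzπ]) (by rw [← map_mul, hj2, hzπ])
    (by rw [← map_mul, ← map_mul, hji, map_mul π z, hzπ, one_mul])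
    (fun e => hne (mem_center_iff.1 ((hk i).1 e) j))
    (fun e => hne (mem_center_iff.1 ((hk j).1 e) i).symm)
    (fun e => by
      have h1 : i⁻¹ * j ∈ center SL(2, ZMod p) := by
        rw [← hk, map_mul, map_inv, e, inv_mul_cancel]
      have h2 := mem_center_iff.1 h1 i
      rw [mul_inv_cancel_left] at h2
      apply hne
      calc j * i = i * (i⁻¹ * j * i) := by group
        _ = i * j := by rw [← h2])
  exact ⟨T, hT⟩

end PSL

section Socle

variable {Q : Type u} [Group Q] [Finite Q]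

/-- Nonabelian simple subgroups have order divisible by 3. -/
theorem three_dvd_card (h : SylowHyp Q) (hT : PSLBelow.{u} (Nat.card Q)) (T : Subgroup Q)
    (hs : IsSimpleGroup T) (hnc : ¬ IsMulCommutative T) : 3 ∣ Nat.card T := by
  obtain ⟨p, _, h5, ⟨e⟩⟩ := hT T hs hnc (h.subgroup T)
    (Nat.le_of_dvd Nat.card_pos T.card_subgroup_dvd_card)
  rw [Nat.card_congr e.toEquiv]
  exact three_dvd_card_psl h5

/-- With trivial radical, the socle is `PSL₂(p)` of index at most two. -/
theorem exists_socle (h : SylowHyp Q) (hT : PSLBelow.{u} (Nat.card Q))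
    (htr : CyclicZ.TrivialRadical Q) (hns : ¬ Group.IsSolvable Q) :
    ∃ N : Subgroup Q, N.Normal ∧ N.index ∣ 2 ∧ ∃ (p : ℕ) (_ : Fact p.Prime), 5 ≤ p ∧
      Nonempty (N ≃* Matrix.ProjectiveSpecialLinearGroup (Fin 2) (ZMod p)) := by
  have hnc : ∀ M : Subgroup Q, MinNormal.IsMinNormal M → ¬ IsMulCommutative M := fun M hM hc => by
    haveI := hc
    exact hM.ne_bot (htr M hM.normal (Group.isSolvable_of_comm fun a b => mul_comm' a b))
  have htop : (⊤ : Subgroup Q) ≠ ⊥ := fun e => hns (Group.isSolvable_of_top_eq_bot Q e)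
  obtain ⟨N, hN, -⟩ := MinNormal.exists_isMinNormal_le (⊤ : Subgroup Q) htop
  obtain ⟨T, hTN⟩ := MinNormal.exists_isFactor hN
  have h3T := three_dvd_card h hT T (hTN.isSimpleGroup hN) (hTN.not_commutative hN (hnc N hN))
  have hTN' : T = N := by
    by_cases hall : ∀ g : Q, T.map (MulAut.conj g).toMonoidHom = T
    · have : T.Normal := ⟨fun x hx g => by rw [← hall g]; exact ⟨x, hx, rfl⟩⟩
      exact (hN.minimal T this hTN.le).resolve_left hTN.ne_bot
    · push Not at hall
      obtain ⟨g, hg⟩ := hall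
      have hU := hTN.conj hN g
      exact absurd (show 3 ∣ Nat.card (T.map (MulAut.conj g).toMonoidHom) by
          rw [card_map_of_injective (MulAut.conj g).injective]; exact h3T)
        (h.not_dvd_of_commute Nat.prime_three (by norm_num)
          (fun a ha b hb => hTN.commute hU (Ne.symm hg) ha hb)
          (hTN.inf_eq_bot hU (Ne.symm hg)) h3T)
  subst hTN'
  have hsimp := hTN.isSimpleGroup hN
  haveI := hN.normal
  -- the centralizer of the socle is trivial
  have hC : centralizer (T : Set Q) = ⊥ := by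
    by_contra hC
    obtain ⟨M, hM, hMC⟩ := MinNormal.exists_isMinNormal_le (centralizer (T : Set Q)) hC
    obtain ⟨U, hU⟩ := MinNormal.exists_isFactor hM
    have h3U := three_dvd_card h hT U (hU.isSimpleGroup hM) (hU.not_commutative hM (hnc M hM))
    refine h.not_dvd_of_commute Nat.prime_three (by norm_num) (A := T) (B := U)
      (fun a ha b hb => mem_centralizer_iff.1 (hMC (hU.le hb)) a ha) ?_ h3T h3U
    rw [eq_bot_iff]
    rintro x ⟨hxT, hxU⟩
    exact MinNormal.eq_one_of_commute_all hN (hnc T hN) hxT fun m hm =>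
      (mem_centralizer_iff.1 (hMC (hU.le hxU)) m hm).symm
  obtain ⟨p, hp, h5, ⟨e⟩⟩ := hT T hsimp (hnc T hN) (h.subgroup T)
    (Nat.le_of_dvd Nat.card_pos T.card_subgroup_dvd_card)
  refine ⟨T, inferInstance, ?_, p, hp, h5, ⟨e⟩⟩
  let c : Q →* MulAut T := MulAut.conjNormal
  have hc : Function.Injective c := by
    rw [← MonoidHom.ker_eq_bot_iff, eq_bot_iff, ← hC]
    intro y hy
    rw [mem_centralizer_iff]
    intro m hm
    have h1 := congrArg (fun ψ : MulAut T => ((ψ ⟨m, hm⟩ : T) : Q)) (MonoidHom.mem_ker.1 hy)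
    simp only [c, MulAut.conjNormal_apply, MulAut.one_apply] at h1
    exact (mul_inv_eq_iff_eq_mul.1 h1).symm
  haveI : Finite (MulAut T) := Finite.of_injective _ DFunLike.coe_injective
  have hd := card_dvd_of_injective c hc
  rw [Nat.card_congr (MulAut.congr e).toEquiv, card_mulAut_psl h5, ← Nat.card_congr e.toEquiv,
    ← T.card_mul_index, mul_comm 2] at hd
  exact Nat.dvd_of_mul_dvd_mul_left Nat.card_pos hd

end Socle

end CfsgLib.SuzukiWong
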