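import Cfsg.Agent.SuzukiWong.LocalTools
import Cfsg.Agent.Small.Counting

/-!
# Suzuki–Wong: subgroups of cyclic groups and free orbits
-/

set_option autoImplicit false
set_option linter.unusedSectionVars false
set_option linter.style.haveILetI false

namespace CfsgLib.SuzukiWong

open Subgroup

universe u

variable {G : Type u} [Group G] [Finite G]

theorem commute_of_cyclic {R : Subgroup G} [IsCyclic R] {x y : G} (hx : x ∈ R) (hy : y ∈ R) :
    Commute x y := by
  haveI : IsMulCommutative R := IsCyclic.isMulCommutative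
  exact congrArg Subtype.val (mul_comm' (⟨x, hx⟩ : R) ⟨y, hy⟩)

/-- A cyclic subgroup has one subgroup of each order. -/
theorem zpowers_eq_of_cyclic {R : Subgroup G} [IsCyclic R] {x y : G} (hx : x ∈ R) (hy : y ∈ R)
    (h : orderOf x = orderOf y) : zpowers x = zpowers y := by
  let K : Subgroup G :=
    { carrier := {a | a ∈ R ∧ a ^ orderOf x = 1}
      mul_mem' := fun {a b} ha hb => ⟨mul_mem ha.1 hb.1, by
        rw [(commute_of_cyclic ha.1 hb.1).mul_pow, ha.2, hb.2, one_mul]⟩
      one_mem' := ⟨one_mem _, one_pow _⟩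
      inv_mem' := fun {a} ha => ⟨inv_mem ha.1, by rw [inv_pow, ha.2, inv_one]⟩ }
  have hKR : K ≤ R := fun a ha => ha.1
  haveI : IsCyclic K := Subgroup.isCyclic_of_le hKR
  have hcard : Nat.card K ≤ orderOf x := by
    rw [← IsCyclic.exponent_eq_card]
    exact Nat.le_of_dvd (orderOf_pos x) (Monoid.exponent_dvd_of_forall_pow_eq_one fun a =>
      Subtype.ext (by rw [SubmonoidClass.coe_pow]; exact a.2.2))
  have e1 : zpowers x = K := Subgroup.eq_of_le_of_card_ge
    (zpowers_le.2 ⟨hx, pow_orderOf_eq_one x⟩) (by rwa [Nat.card_zpowers])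
  have e2 : zpowers y = K := Subgroup.eq_of_le_of_card_ge
    (zpowers_le.2 ⟨hy, by rw [h, pow_orderOf_eq_one]⟩) (by rwa [Nat.card_zpowers, ← h])
  rw [e1, e2]

theorem eq_pow_of_orderOf_eq {R : Subgroup G} [IsCyclic R] {x y : G} (hx : x ∈ R) (hy : y ∈ R)
    (h : orderOf x = orderOf y) : ∃ k : ℤ, y ^ k = x :=
  Subgroup.mem_zpowers_iff.1 (zpowers_eq_of_cyclic hy hx h.symm ▸ mem_zpowers x)

/-- An automorphism fixes or inverts an element of prime order whose square fixes it. -/
theorem conj_eq_or_inv {r : ℕ} (hr : r.Prime) {O : Subgroup G} [IsCyclic O] {g y : G}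
    (hg : g ∈ normalizer (O : Set G)) (hy : y ∈ O) (hord : orderOf y = r)
    (hgg : g * g * y = y * (g * g)) : g * y * g⁻¹ = y ∨ g * y * g⁻¹ = y⁻¹ := by
  obtain ⟨e, he⟩ := exists_exp hg
  have h1 := he y hy
  have h2 : g * g * y * (g * g)⁻¹ = y ^ (e * e) := by
    have h := conj_pow_exp h1 2
    simpa [sq] using h
  rw [hgg, mul_inv_cancel_right] at h2
  have h3 : (r : ℤ) ∣ (e - 1) * (e + 1) := by
    rw [← hord, orderOf_dvd_iff_zpow_eq_one, show (e - 1) * (e + 1) = e * e - 1 by ring,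
      _root_.zpow_sub, zpow_one, ← h2, mul_inv_cancel]
  rcases (Nat.prime_iff_prime_int.1 hr).dvd_or_dvd h3 with h | h
  · left
    rw [← hord, orderOf_dvd_iff_zpow_eq_one, _root_.zpow_sub, zpow_one, mul_inv_eq_one] at h
    rw [h1, h]
  · right
    rw [← hord, orderOf_dvd_iff_zpow_eq_one, zpow_add_one, mul_eq_one_iff_eq_inv] at h
    rw [h1, h]

theorem ne_inv_of_odd {y : G} (hy : Odd (orderOf y)) (h1 : y ≠ 1) : y ≠ y⁻¹ := fun e => h1 <| by
  have h2 : y ^ 2 = 1 := by rw [sq]; nth_rewrite 2 [e]; exact mul_inv_cancel y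
  exact orderOf_eq_one_iff.1 (Nat.eq_one_of_dvd_coprimes (Nat.coprime_two_right.2 hy) dvd_rfl
    (orderOf_dvd_of_pow_eq_one h2))

/-- The order of a group acting freely divides the number of points. -/
theorem card_dvd_of_free {R α : Type*} [Group R] [Finite R] [Finite α] [MulAction R α]
    (h : ∀ (g : R) (a : α), g • a = a → g = 1) : Nat.card R ∣ Nat.card α := by
  haveI := Fintype.ofFinite (Quotient (MulAction.orbitRel R α))
  rw [Nat.card_congr (MulAction.selfEquivSigmaOrbitsQuotientStabilizer R α), Nat.card_sigma]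
  refine Finset.dvd_sum fun ω _ => ?_
  have hb : MulAction.stabilizer R ω.out = ⊥ := (Subgroup.eq_bot_iff_forall _).2 fun g hg =>
    h g _ (MulAction.mem_stabilizer_iff.1 hg)
  rw [hb, ← Subgroup.index_eq_card, Subgroup.index_bot]

/-- Points outside the fixed set fall into regular orbits. -/
theorem card_dvd_sub_fixed {R : Subgroup G} {Ω F : Set G} (hFΩ : F ⊆ Ω)
    (hΩ : ∀ g ∈ R, ∀ u ∈ Ω, g * u * g⁻¹ ∈ Ω)
    (hF : ∀ g ∈ R, ∀ u ∈ F, g * u * g⁻¹ ∈ F)
    (hfix : ∀ g ∈ R, g ≠ 1 → ∀ u ∈ Ω, g * u * g⁻¹ = u → u ∈ F) :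
    (Nat.card R : ℤ) ∣ (Nat.card Ω : ℤ) - (Nat.card F : ℤ) := by
  letI : MulAction R ↥(Ω \ F) :=
    { smul := fun g u => ⟨(g : G) * u * (g : G)⁻¹, hΩ g g.2 u u.2.1, fun hm => u.2.2 (by
        have := hF _ (inv_mem g.2) _ hm
        simpa [mul_assoc] using this)⟩
      one_smul := fun u => Subtype.ext (show (1 : G) * u * (1 : G)⁻¹ = u by simp)
      mul_smul := fun a b u => Subtype.ext (show (a * b : G) * u * (a * b : G)⁻¹ =
        a * (b * u * (b : G)⁻¹) * (a : G)⁻¹ by group) }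
  have hd := card_dvd_of_free (R := R) (α := ↥(Ω \ F)) fun g u hu => by
    by_contra hg
    exact u.2.2 (hfix g g.2 (fun e => hg (Subtype.ext e)) u u.2.1 (congrArg Subtype.val hu))
  have hc : Nat.card ↥(Ω \ F) + Nat.card F = Nat.card Ω := by
    simp only [Nat.card_coe_set_eq]
    rw [Set.ncard_sdiff hFΩ (Set.toFinite F), Nat.sub_add_cancel (Set.ncard_le_ncard hFΩ (Set.toFinite _))]
  obtain ⟨c, hc'⟩ := hd
  exact ⟨c, by rw [← hc, hc']; push_cast; ring⟩

/-- The conjugates of `t` are as many as the index of its centralizer. -/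
theorem card_conjugates (t : G) :
    Nat.card {g : G // IsConj t g} = (centralizer ({t} : Set G)).index := by
  have h := Small.card_conjugates_mul_card_centralizer t
  rw [← (centralizer ({t} : Set G)).index_mul_card] at h
  exact Nat.eq_of_mul_eq_mul_right Nat.card_pos h

end CfsgLib.SuzukiWong
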