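import Cfsg.Agent.SuzukiWong.Hyp
import Cfsg.Agent.SuzukiWong.Cyclic
import Cfsg.Agent.AGroups.PerfectPart
import Cfsg.Agent.MinNormal.Factors
import Cfsg.Agent.TwoGroups.Automizer

/-!
# Suzuki–Wong: the Sylow hypothesis on sections, and solvable normal subgroups of perfect groups
-/

set_option autoImplicit false
set_option linter.unusedSectionVars false
set_option linter.style.haveILetI false

namespace CfsgLib.SuzukiWong

open Subgroup

universe u

variable {G : Type u} [Group G] [Finite G]

theorem normal_of_index_dvd_two {H : Type*} [Group H] {C : Subgroup H} (h : C.index ∣ 2) :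
    C.Normal := by
  rcases (Nat.dvd_prime Nat.prime_two).1 h with h1 | h1
  · rw [index_eq_one] at h1
    rw [h1]
    infer_instance
  · exact normal_of_index_eq_two h1

/-- The Sylow hypothesis passes to subgroups. -/
theorem SylowHyp.subgroup (h : SylowHyp G) (H : Subgroup G) : SylowHyp H := by
  refine ⟨fun p hp hp2 P => ?_, fun S => ?_⟩
  · haveI := Fact.mk hp
    obtain ⟨Q, hQ⟩ := (P.isPGroup'.map H.subtype).exists_le_sylow
    haveI := h.1 p hp hp2 Q
    haveI : IsCyclic ((P : Subgroup H).map H.subtype) := Subgroup.isCyclic_of_le hQ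
    exact isCyclic_of_surjective _
      (equivMapOfInjective (P : Subgroup H) H.subtype H.subtype_injective).symm.surjective
  · haveI := Fact.mk Nat.prime_two
    obtain ⟨Q, hQ⟩ := (S.isPGroup'.map H.subtype).exists_le_sylow
    obtain ⟨C, hC, hCi⟩ := h.2 Q
    let j : (S : Subgroup H) →* (Q : Subgroup G) :=
      (H.subtype.comp (S : Subgroup H).subtype).codRestrict _ fun x => hQ ⟨x, x.2, rfl⟩
    have hj : Function.Injective j := fun a b e => by
      have e' := congrArg Subtype.val e
      exact Subtype.ext (Subtype.ext e')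
    haveI := normal_of_index_dvd_two hCi
    refine ⟨C.comap j, ?_, ?_⟩
    · haveI := hC
      exact isCyclic_of_injective (j.subgroupComap C) fun a b e => by
        have e' := congrArg Subtype.val e
        exact Subtype.ext (hj e')
    · rw [index_comap]
      exact (relIndex_dvd_index_of_normal C _).trans hCi

/-- The Sylow hypothesis passes to homomorphic images. -/
theorem SylowHyp.of_surjective {H : Type u} [Group H] [Finite H] (h : SylowHyp G) (f : G →* H)
    (hf : Function.Surjective f) : SylowHyp H := by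
  refine ⟨fun p hp hp2 P => ?_, fun S => ?_⟩
  · haveI := Fact.mk hp
    obtain ⟨Q, rfl⟩ := Sylow.mapSurjective_surjective hf p P
    haveI := h.1 p hp hp2 Q
    exact isCyclic_of_surjective (f.subgroupMap (Q : Subgroup G)) (f.subgroupMap_surjective _)
  · haveI := Fact.mk Nat.prime_two
    obtain ⟨Q, rfl⟩ := Sylow.mapSurjective_surjective hf 2 S
    obtain ⟨C, hC, hCi⟩ := h.2 Q
    haveI := hC
    refine ⟨C.map (f.subgroupMap (Q : Subgroup G)), ?_, ?_⟩
    · exact isCyclic_of_surjective _ ((f.subgroupMap (Q : Subgroup G)).subgroupMap_surjective C)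
    · exact (index_map_dvd C (f.subgroupMap_surjective (Q : Subgroup G))).trans hCi

/-- A `2`-subgroup of exponent dividing `2 ^ k` has order at most `2 ^ (k + 1)`. -/
theorem SylowHyp.card_le (h : SylowHyp G) {W : Subgroup G} {k : ℕ}
    (hexp : ∀ w ∈ W, w ^ 2 ^ k = 1) : Nat.card W ≤ 2 ^ (k + 1) := by
  haveI := Fact.mk Nat.prime_two
  have hW : IsPGroup 2 W := fun w => ⟨k, Subtype.ext (by
    rw [SubmonoidClass.coe_pow]; exact hexp w w.2)⟩
  obtain ⟨S⟩ : Nonempty (Sylow 2 W) := inferInstance
  have htop : (S : Subgroup W) = ⊤ :=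
    (S.is_maximal' (hW.of_equiv Subgroup.topEquiv.symm) le_top).symm
  obtain ⟨C, hC, hCi⟩ := (h.subgroup W).2 S
  haveI := hC
  have hCc : Nat.card C ∣ 2 ^ k := by
    rw [← IsCyclic.exponent_eq_card]
    exact Monoid.exponent_dvd_of_forall_pow_eq_one fun c =>
      Subtype.ext (Subtype.ext (Subtype.ext (by
        simp only [SubmonoidClass.coe_pow, OneMemClass.coe_one]
        exact hexp _ ((c : (S : Subgroup W)) : W).2)))
  have hc : Nat.card W = Nat.card C * C.index := by
    rw [C.card_mul_index, htop, Subgroup.card_top]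
  rw [hc, pow_succ]
  exact Nat.mul_le_mul (Nat.le_of_dvd (pow_pos two_pos k) hCc) (Nat.le_of_dvd two_pos hCi)

/-- Commuting subgroups meeting trivially do not share an odd prime. -/
theorem SylowHyp.not_dvd_of_commute (h : SylowHyp G) {p : ℕ} (hp : p.Prime) (hp2 : p ≠ 2)
    {A B : Subgroup G} (hcomm : ∀ a ∈ A, ∀ b ∈ B, Commute a b) (hdisj : A ⊓ B = ⊥)
    (hA : p ∣ Nat.card A) : ¬ p ∣ Nat.card B := by
  intro hB
  haveI := Fact.mk hp
  obtain ⟨a, ha⟩ := exists_prime_orderOf_dvd_card' p hA
  obtain ⟨b, hb⟩ := exists_prime_orderOf_dvd_card' p hB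
  rw [← Subgroup.orderOf_coe] at ha hb
  have hpa : IsPGroup p (zpowers (a : G)) :=
    IsPGroup.of_card (n := 1) (by rw [Nat.card_zpowers, ha, pow_one])
  have hpb : IsPGroup p (zpowers (b : G)) :=
    IsPGroup.of_card (n := 1) (by rw [Nat.card_zpowers, hb, pow_one])
  have hn : zpowers (a : G) ≤ normalizer (zpowers (b : G) : Set G) := by
    rw [zpowers_le, mem_normalizer_iff]
    intro x
    constructor
    · rintro ⟨i, rfl⟩
      refine ⟨i, ?_⟩
      show (b : G) ^ i = _
      rw [((hcomm a a.2 b b.2).zpow_right i).eq, mul_inv_cancel_right]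
    · rintro ⟨i, hi⟩
      refine ⟨i, ?_⟩
      have hi' : (b : G) ^ i = a * x * (a : G)⁻¹ := hi
      show (b : G) ^ i = x
      calc (b : G) ^ i = (a : G)⁻¹ * (a * (b : G) ^ i) := (inv_mul_cancel_left _ _).symm
        _ = (a : G)⁻¹ * ((b : G) ^ i * a) := by rw [((hcomm a a.2 b b.2).zpow_right i).eq]
        _ = x := by rw [hi']; group
  obtain ⟨P, hP⟩ := (hpa.to_sup_of_normal_right' hpb hn).exists_le_sylow
  haveI := h.1 p hp hp2 P
  have e := zpowers_eq_of_cyclic (R := (P : Subgroup G)) (hP (mem_sup_left (mem_zpowers (a : G))))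
    (hP (mem_sup_right (mem_zpowers (b : G)))) (ha.trans hb.symm)
  have haB : (a : G) ∈ A ⊓ B := ⟨a.2, zpowers_le.2 b.2 (e ▸ mem_zpowers (a : G))⟩
  rw [hdisj, mem_bot] at haB
  rw [haB, orderOf_one] at ha
  exact hp.ne_one ha.symm

/-- A normal subgroup with solvable automorphism group is central in a perfect group. -/
theorem le_center_of_solvable_aut {L : Type u} [Group L] [Finite L]
    (hL : commutator L = ⊤) (A : Subgroup L) [A.Normal] (hs : Group.IsSolvable (MulAut A)) :
    A ≤ center L := by
  haveI := hs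
  haveI : Finite (MulAut A) := Finite.of_injective _ DFunLike.coe_injective
  set φ : L →* MulAut A := MulAut.conjNormal
  have hr : ⁅φ.range, φ.range⁆ = φ.range := by
    rw [MonoidHom.range_eq_map, ← map_commutator]
    exact congrArg _ ((_root_.commutator_def L).symm.trans hL)
  have hbot := AGroups.eq_bot_of_perfect hr
  intro a ha
  rw [mem_center_iff]
  intro g
  have hg : φ g = 1 := by
    have : φ g ∈ φ.range := ⟨g, rfl⟩
    rwa [hbot, mem_bot] at this
  have h1 := congrArg (fun ψ : MulAut A => ((ψ ⟨a, ha⟩ : A) : L)) hg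
  simp only [φ, MulAut.conjNormal_apply, MulAut.one_apply] at h1
  exact mul_inv_eq_iff_eq_mul.1 h1

/-- In a perfect group with the Sylow hypothesis, solvable normal subgroups are central. -/
theorem le_center_of_perfect : ∀ (n : ℕ) (L : Type u) [Group L] [Finite L], Nat.card L = n →
    commutator L = ⊤ → SylowHyp L → ∀ K : Subgroup L, K.Normal → Group.IsSolvable K →
      K ≤ center L := by
  intro n
  induction n using Nat.strong_induction_on with
  | _ n IH =>
  intro L _ _ hn hL h K hK hKs
  rcases eq_or_ne K ⊥ with rfl | hK1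
  · exact bot_le
  haveI := hK
  haveI := hKs
  obtain ⟨A, hA, hAK⟩ := MinNormal.exists_isMinNormal_le K hK1
  haveI := hA.normal
  have hcomm : ⁅A, A⁆ = ⊥ := by
    rcases hA.minimal ⁅A, A⁆ inferInstance (commutator_le_self A) with h1 | h1
    · exact h1
    · exfalso
      haveI : Group.IsSolvable A :=
        Group.isSolvable_of_isSolvable_injective (Subgroup.inclusion_injective hAK)
      have htop : ⁅(⊤ : Subgroup A), (⊤ : Subgroup A)⁆ = ⊤ := by
        apply map_injective A.subtype_injective
        rw [map_commutator, ← MonoidHom.range_eq_map, range_subtype, h1]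
      have hbot : (⊤ : Subgroup A) = ⊥ := AGroups.eq_bot_of_perfect htop
      apply hA.ne_bot
      rw [← range_subtype A, MonoidHom.range_eq_map, hbot, Subgroup.map_bot]
  have hab : ∀ x ∈ A, ∀ y ∈ A, Commute x y := fun x hx y hy => by
    have := commutator_mem_commutator hx hy
    rw [hcomm, mem_bot] at this
    exact commutatorElement_eq_one_iff_mul_comm.1 this
  obtain ⟨r, hr, hrA⟩ := Nat.exists_prime_and_dvd (n := Nat.card A)
    (fun e => hA.ne_bot (card_eq_one.1 e))
  haveI := Fact.mk hr
  -- the elements of order dividing `r`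
  let Ar : Subgroup L :=
    { carrier := {x | x ∈ A ∧ x ^ r = 1}
      mul_mem' := fun {a b} ha hb => ⟨mul_mem ha.1 hb.1, by
        rw [(hab a ha.1 b hb.1).mul_pow, ha.2, hb.2, one_mul]⟩
      one_mem' := ⟨one_mem _, one_pow _⟩
      inv_mem' := fun {a} ha => ⟨inv_mem ha.1, by rw [inv_pow, ha.2, inv_one]⟩ }
  have hexp : ∀ x ∈ A, x ^ r = 1 := by
    have hn' : Ar.Normal := ⟨fun x hx g => ⟨hA.normal.conj_mem x hx.1 g, by
      rw [conj_pow, hx.2, mul_one, mul_inv_cancel]⟩⟩
    rcases hA.minimal Ar hn' (fun x hx => hx.1) with h1 | h1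
    · exfalso
      obtain ⟨a, ha⟩ := exists_prime_orderOf_dvd_card' r hrA
      rw [← Subgroup.orderOf_coe] at ha
      have : (a : L) ∈ Ar := ⟨a.2, ha ▸ pow_orderOf_eq_one _⟩
      rw [h1, mem_bot] at this
      rw [this, orderOf_one] at ha
      exact hr.ne_one ha.symm
    · intro x hx
      rw [← h1] at hx
      exact hx.2
  have hAr : IsPGroup r A := fun a => ⟨1, Subtype.ext (by
    rw [SubmonoidClass.coe_pow, pow_one]; exact hexp a a.2)⟩
  have hcyc : IsCyclic A → A ≤ center L := fun hc => by
    haveI := hc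
    refine le_center_of_solvable_aut hL A (Group.isSolvable_of_comm fun a b => ?_)
    apply (IsCyclic.mulAutMulEquiv A).injective
    rw [map_mul, map_mul, mul_comm]
  have hAc : A ≤ center L := by
    by_cases hr2 : r = 2
    · subst hr2
      have h4 : Nat.card A ≤ 4 := h.card_le (k := 1) (fun w hw => by rw [pow_one]; exact hexp w hw)
      obtain ⟨m, hm⟩ := hAr.exists_card_eq
      have hm2 : m ≤ 2 := by
        by_contra hcon
        have := Nat.pow_le_pow_right two_pos (show 3 ≤ m by omega)
        omega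
      interval_cases m
      · exact hcyc (by haveI := (Nat.card_eq_one_iff_unique.1 hm).1; infer_instance)
      · exact hcyc (isCyclic_of_prime_card (p := 2) (by rw [hm, pow_one]))
      · haveI : Finite (MulAut A) := Finite.of_injective _ DFunLike.coe_injective
        haveI : IsZGroup (MulAut A) := IsZGroup.of_squarefree
          ((show Squarefree (2 * 3) from (Nat.squarefree_mul (by norm_num)).2
            ⟨Nat.prime_two.squarefree, Nat.prime_three.squarefree⟩).squarefree_of_dvd
            (TwoGroups.card_mulAut_dvd_six (by rw [hm]; norm_num)))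
        exact le_center_of_solvable_aut hL A inferInstance
    · obtain ⟨P, hP⟩ := hAr.exists_le_sylow
      haveI := h.1 r hr hr2 P
      exact hcyc (Subgroup.isCyclic_of_le hP)
  -- pass to the quotient
  set π := QuotientGroup.mk' A
  have hπ : Function.Surjective π := QuotientGroup.mk'_surjective A
  have hlt : Nat.card (L ⧸ A) < n := by
    have h1 := A.card_eq_card_quotient_mul_card_subgroup
    have h2 : 1 < Nat.card A := (one_lt_card_iff_ne_bot A).2 hA.ne_bot
    rw [← hn, h1]
    exact lt_mul_of_one_lt_right Nat.card_pos h2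
  have hLq : commutator (L ⧸ A) = ⊤ := by
    rw [_root_.commutator_def, ← map_top_of_surjective π hπ, ← map_commutator, ← _root_.commutator_def, hL]
  have hKq : Group.IsSolvable (K.map π) :=
    Group.isSolvable_of_surjective (f := π.subgroupMap K) (π.subgroupMap_surjective K)
  have hIH := IH _ hlt (L ⧸ A) rfl hLq (h.of_surjective π hπ) (K.map π)
    (Subgroup.Normal.map inferInstance π hπ) hKq
  have h1 : ⁅(⊤ : Subgroup L), K⁆ ≤ center L := by
    rw [commutator_le]
    intro g _ k hk
    refine hAc ?_
    rw [← QuotientGroup.ker_mk' A, MonoidHom.mem_ker, map_commutatorElement,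
      commutatorElement_eq_one_iff_mul_comm]
    exact mem_center_iff.1 (hIH ⟨k, hk, rfl⟩) (π g)
  have h2 : ∀ X : Subgroup L, X ≤ center L → ⁅X, (⊤ : Subgroup L)⁆ = ⊥ := fun X hX => by
    rw [commutator_eq_bot_iff_le_centralizer, coe_top, centralizer_univ]
    exact hX
  have h3 : ⁅⁅(⊤ : Subgroup L), ⊤⁆, K⁆ = ⊥ :=
    commutator_commutator_eq_bot_of_rotate (h2 _ h1) (h2 _ (commutator_comm K ⊤ ▸ h1))
  rw [← _root_.commutator_def, hL, commutator_comm, commutator_eq_bot_iff_le_centralizer, coe_top,
    centralizer_univ] at h3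
  exact h3

end CfsgLib.SuzukiWong
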