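import Cfsg.Agent.SuzukiWong.SectionCount
import Cfsg.Agent.SuzukiWong.Sections

/-!
# Suzuki–Wong: sums over the principal block of a group with dihedral Sylow 2-subgroup
-/

set_option autoImplicit false
set_option linter.style.haveILetI false
set_option linter.unusedSectionVars false

namespace CfsgLib.SuzukiWong

open Cfsg CfsgLib.Blocks CfsgLib.PrincipalBlock CfsgLib.Characters CfsgLib.Inv54.DihedralBlock
open scoped ComplexConjugate

universe u

/-- The sums `ζ ^ i + ζ ^ (-i)`, `0 < i < h`, of a `2h`-th root of unity. -/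
theorem sum_pairs_pow {z : ℂ} {h : ℕ} (hh : 1 ≤ h) (hz : z ^ (2 * h) = 1) (hz1 : z ≠ 1) :
    ∑ i ∈ Finset.Ico 1 h, (z ^ i + (z ^ i)⁻¹) = -1 - z ^ h := by
  have hz0 : z ≠ 0 := fun e => by rw [e, zero_pow (by omega)] at hz; exact zero_ne_one hz
  have hinv : ∑ i ∈ Finset.Ico 1 h, (z ^ i)⁻¹ = ∑ i ∈ Finset.Ico (h + 1) (2 * h), z ^ i := by
    refine Finset.sum_bij' (fun i _ => 2 * h - i) (fun i _ => 2 * h - i) ?_ ?_ ?_ ?_ ?_
    · intro i hi; simp only [Finset.mem_Ico] at hi ⊢; omega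
    · intro i hi; simp only [Finset.mem_Ico] at hi ⊢; omega
    · intro i hi; simp only [Finset.mem_Ico] at hi; omega
    · intro i hi; simp only [Finset.mem_Ico] at hi; omega
    · intro i hi
      simp only [Finset.mem_Ico] at hi
      refine inv_eq_of_mul_eq_one_right ?_
      rw [← pow_add, show i + (2 * h - i) = 2 * h by omega, hz]
  rw [Finset.sum_add_distrib, hinv]
  have hgeo : ∑ i ∈ Finset.range (2 * h), z ^ i = 0 := by
    rw [geom_sum_eq hz1, hz, sub_self, zero_div]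
  rw [Finset.range_eq_Ico, ← Finset.sum_Ico_consecutive _ (Nat.zero_le 1) (show 1 ≤ 2 * h by omega),
    ← Finset.sum_Ico_consecutive _ hh (show h ≤ 2 * h by omega),
    Finset.sum_eq_sum_Ico_succ_bot (show h < 2 * h by omega)] at hgeo
  simp only [Nat.Ico_zero_eq_range, Finset.sum_range_one, pow_zero] at hgeo
  linear_combination hgeo

variable {G : Type u} [Group G] [Fintype G] {M : Ideal AlgInt} [M.IsPrime]
  {P : Sylow 2 G} {σ τ : G} {h : ℕ}

open Classical in
/-- A sum over the principal block, by its members. -/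
theorem sum_block_eq {X A B : IrrCharacter G} {Y : ℕ → IrrCharacter G}
    (n1 : trivChar G ≠ X) (n2 : trivChar G ≠ A) (n3 : trivChar G ≠ B) (n4 : X ≠ A) (n5 : X ≠ B)
    (n6 : A ≠ B)
    (hY : ∀ i, 1 ≤ i → i < h → trivChar G ≠ Y i ∧ X ≠ Y i ∧ A ≠ Y i ∧ B ≠ Y i)
    (hYinj : ∀ i k, 1 ≤ i → i < h → 1 ≤ k → k < h → Y i = Y k → i = k)
    (hmem : ∀ χ, χ ∈ Cfsg.principalBlock M G ↔ χ = trivChar G ∨ χ = X ∨ χ = A ∨ χ = B ∨
      ∃ i, 1 ≤ i ∧ i < h ∧ χ = Y i)
    (f : IrrCharacter G → ℂ) :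
    ∑ χ : IrrCharacter G, (if χ ∈ Cfsg.principalBlock M G then f χ else 0) =
      f (trivChar G) + f X + f A + f B + ∑ i ∈ Finset.Ico 1 h, f (Y i) := by
  have hset : (Finset.univ.filter fun χ => χ ∈ Cfsg.principalBlock M G) =
      ({trivChar G, X, A, B} : Finset (IrrCharacter G)) ∪ (Finset.Ico 1 h).image Y := by
    ext χ
    simp only [Finset.mem_filter, Finset.mem_univ, true_and, hmem, Finset.mem_union,
      Finset.mem_insert, Finset.mem_singleton, Finset.mem_image, Finset.mem_Ico]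
    constructor
    · rintro (e | e | e | e | ⟨i, i1, i2, rfl⟩)
      exacts [Or.inl (Or.inl e), Or.inl (Or.inr (Or.inl e)), Or.inl (Or.inr (Or.inr (Or.inl e))),
        Or.inl (Or.inr (Or.inr (Or.inr e))), Or.inr ⟨i, ⟨i1, i2⟩, rfl⟩]
    · rintro ((e | e | e | e) | ⟨i, ⟨i1, i2⟩, rfl⟩)
      exacts [Or.inl e, Or.inr (Or.inl e), Or.inr (Or.inr (Or.inl e)),
        Or.inr (Or.inr (Or.inr (Or.inl e))), Or.inr (Or.inr (Or.inr (Or.inr ⟨i, i1, i2, rfl⟩)))]
  rw [← Finset.sum_filter, hset, Finset.sum_union, Finset.sum_insert, Finset.sum_insert,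
    Finset.sum_insert, Finset.sum_singleton, Finset.sum_image]
  · ring
  · intro i hi k hk e
    simp only [Finset.coe_Ico, Set.mem_Ico] at hi hk
    exact hYinj i k hi.1 hi.2 hk.1 hk.2 e
  · simp [n6]
  · simp [n4, n5]
  · simp [n1, n2, n3]
  · rw [Finset.disjoint_left]
    intro χ hχ hχ'
    obtain ⟨i, hi, rfl⟩ := Finset.mem_image.1 hχ'
    obtain ⟨a, b, c, d⟩ := hY i (Finset.mem_Ico.1 hi).1 (Finset.mem_Ico.1 hi).2
    simp only [Finset.mem_insert, Finset.mem_singleton] at hχ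
    rcases hχ with e | e | e | e
    exacts [a e.symm, b e.symm, c e.symm, d e.symm]

variable (S : Setup P σ τ h)
include S

/-- The order of `C(σ ^ h)`. -/
theorem card_C : Nat.card (Subgroup.centralizer ({σ ^ h} : Set G)) = 4 * h * Nat.card S.core := by
  rw [S.card_centralizer S.J_ne, S.card_P_centralizer S.J_ne, if_pos S.J_sq,
    inf_eq_left.2 S.core_le]
  ring

theorem core_subgroupOf_normal :
    (S.core.subgroupOf (Subgroup.centralizer ({σ ^ h} : Set G))).Normal :=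
  ⟨fun x hx g => Subgroup.mem_subgroupOf.2 (by
    push_cast
    exact S.core_conj g.2 (Subgroup.mem_subgroupOf.1 hx))⟩

/-- A character of the principal block is constant on the section of `σ ^ h`. -/
theorem apply_J_mul (hM : Cfsg.IsPModular 2 M) {χ : IrrCharacter G}
    (hχ : χ ∈ Cfsg.principalBlock M G) {k : G} (hk : k ∈ S.core) :
    (χ : G → ℂ) (σ ^ h * k) = (χ : G → ℂ) (σ ^ h) :=
  haveI : Fact (Nat.Prime 2) := ⟨Nat.prime_two⟩
  apply_mul_core hM ⟨1, by rw [S.J_order, pow_one]⟩ S.core S.core_le (core_subgroupOf_normal S)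
    S.core_odd.not_two_dvd_nat hχ hk

/-- A character constant and nonzero on the section of `σ ^ h` is in the principal block. -/
theorem mem_of_const (hM : Cfsg.IsPModular 2 M) {χ : IrrCharacter G}
    (hc : ∀ k ∈ S.core, (χ : G → ℂ) (σ ^ h * k) = (χ : G → ℂ) (σ ^ h))
    (hne : (χ : G → ℂ) (σ ^ h) ≠ 0) : χ ∈ Cfsg.principalBlock M G := by
  classical
  haveI := Fintype.ofFinite S.core
  by_contra hχ
  have e := S.sum_core_coset hM S.J_ne χ
  rw [if_neg hχ, mul_zero, Finset.sum_congr rfl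
      (g := fun _ => conj ((χ : G → ℂ) (σ ^ h))) fun k _ => by rw [hc k k.2],
    Finset.sum_const, Finset.card_univ, nsmul_eq_mul, mul_eq_zero] at e
  rcases e with e | e
  · exact Fintype.card_ne_zero (Nat.cast_eq_zero.1 e)
  · exact hne ((map_eq_zero _).1 e)

/-- Values at the powers of `σ` are real. -/
theorem conj_apply_pow (χ : IrrCharacter G) (l : ℕ) :
    conj ((χ : G → ℂ) (σ ^ l)) = (χ : G → ℂ) (σ ^ l) := by
  rw [← Characters.character_inv (isCharacter_of_isIrr χ.2)]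
  obtain ⟨c, hc⟩ := isConj_iff.1 (S.isConj_inv l)
  rw [← hc]
  exact isClassFunction_of_isIrr χ.2 _ c

/-- A character constant on `⟨σ⟩#` has degree congruent to that constant modulo `2h`. -/
theorem dvd_of_const {χ : IrrCharacter G} {d : ℕ} {e : ℤ} (hd : (χ : G → ℂ) 1 = d)
    (he : ∀ l : ℕ, σ ^ l ≠ 1 → (χ : G → ℂ) (σ ^ l) = e) : (2 * h : ℤ) ∣ (d : ℤ) - e := by
  classical
  haveI := Fintype.ofFinite (Subgroup.zpowers σ)
  obtain ⟨m, hm⟩ := classInner_gen (isGen_restrict (Subgroup.zpowers σ) (isGen_of_isIrr χ.2))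
    (isGen_one (G := Subgroup.zpowers σ))
  have hsum : ∑ q : Subgroup.zpowers σ, (χ : G → ℂ) q =
      (d : ℂ) + ((Nat.card (Subgroup.zpowers σ) - 1 : ℕ) : ℂ) * e := by
    rw [← Finset.add_sum_erase _ _ (Finset.mem_univ (1 : Subgroup.zpowers σ)), OneMemClass.coe_one,
      hd, Finset.sum_congr rfl (g := fun _ => (e : ℂ)) fun q hq => by
        obtain ⟨l, hl⟩ := mem_powers_iff_mem_zpowers.2 q.2
        change σ ^ l = (q : G) at hl
        rw [← hl]
        refine he l fun e1 => (Finset.mem_erase.1 hq).1 (Subtype.ext ?_)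
        rw [OneMemClass.coe_one, ← hl, e1],
      Finset.sum_const, Finset.card_erase_of_mem (Finset.mem_univ _), Finset.card_univ,
      nsmul_eq_mul, ← Nat.card_eq_fintype_card]
  simp only [classInner, map_one, mul_one] at hm
  rw [hsum, Nat.card_zpowers, S.ordσ] at hm
  refine ⟨m - e, ?_⟩
  have h2 : ((2 * h : ℕ) : ℂ) ≠ 0 := Nat.cast_ne_zero.2 (by have := S.two_le; omega)
  rw [inv_mul_eq_iff_eq_mul₀ h2] at hm
  apply Int.cast_injective (α := ℂ)
  rw [Nat.cast_sub (by have := S.two_le; omega)] at hm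
  push_cast at hm ⊢
  linear_combination hm

end CfsgLib.SuzukiWong
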