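import Mathlib

/-!
# Suzuki–Wong: the arithmetic of the dihedral case
-/

set_option autoImplicit false

namespace CfsgLib.SuzukiWong

/-- The two-class equations leave only `h = 2`, `B = D = 1` and three involutions. -/
theorem two_class_arith {N h A B D κ d : ℕ} {δ s : ℤ} (hh : Even h) (hh0 : 0 < h) (hA0 : 0 < A)
    (hB0 : 0 < B) (hD0 : 0 < D) (hd0 : 0 < d) (hcop : N.Coprime (A * B * D))
    (hκ : κ ∣ A * B * D) (hN : 0 < N) (hδ : δ = 1 ∨ δ = -1) (hs : s = 1 ∨ s = -1)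
    (hmod : (2 * h : ℤ) ∣ δ * d - 1) (hne : δ * d ≠ 1)
    (h1 : (N : ℤ) * (A : ℤ) ^ 2 * (δ * d - 1) ^ 2 =
      2 * (h : ℤ) ^ 2 * ((A * B * D : ℕ) : ℤ) ^ 2 * ((δ * d) * (δ * d + 1)))
    (h2 : (N : ℤ) * 2 * (d + s) * A * B =
      4 * (κ : ℤ) * h * ((A * B * D : ℕ) : ℤ) * d) :
    h = 2 ∧ B = 1 ∧ D = 1 ∧ N = 3 := by
  obtain ⟨j, hj⟩ := hmod
  have hx : δ * (d : ℤ) = 1 + 2 * h * j := by linarith
  have hj0 : j ≠ 0 := fun e => hne (by rw [hx, e]; ring)
  rw [hx] at h1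
  push_cast at h1 h2
  set t : ℤ := (1 + 2 * h * j) * (1 + h * j) with ht
  have h1' : (N : ℤ) * j ^ 2 = ((B : ℤ) * D) ^ 2 * t := by
    have hne4 : (4 : ℤ) * (h : ℤ) ^ 2 * (A : ℤ) ^ 2 ≠ 0 := by positivity
    apply mul_left_cancel₀ hne4
    rw [ht]
    linear_combination h1
  have hcj : IsCoprime j t :=
    IsCoprime.mul_right ⟨-(2 * h), 1, by ring⟩ ⟨-h, 1, by ring⟩
  have hjd : j ∣ (B : ℤ) * D := by
    rw [← Int.pow_dvd_pow_iff two_ne_zero]
    exact (hcj.pow_left).dvd_of_dvd_mul_right ⟨N, by linarith⟩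
  obtain ⟨m, hm⟩ := hjd
  have hNt : (N : ℤ) = m ^ 2 * t := by
    apply mul_right_cancel₀ (pow_ne_zero 2 hj0)
    rw [h1', hm]; ring
  have hm1 : m.natAbs = 1 := by
    have e1 : m.natAbs ∣ N := by
      have : m ∣ (N : ℤ) := ⟨m * t, by rw [hNt]; ring⟩
      exact Int.natAbs_dvd_natAbs.2 this |>.trans (by simp)
    have e2 : m.natAbs ∣ A * B * D := by
      have : m ∣ ((B * D : ℕ) : ℤ) := ⟨j, by push_cast; rw [hm]; ring⟩
      rw [mul_assoc]
      exact (Int.natAbs_dvd_natAbs.2 this |>.trans (by simp [Int.natAbs_mul])).mul_left A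
    exact Nat.eq_one_of_dvd_coprimes hcop e1 e2
  have hm2 : m ^ 2 = 1 := by rw [← Int.natAbs_sq m, hm1]; norm_num
  rw [hm2, one_mul] at hNt
  have hodd : Odd ((h : ℤ) * j + 1) := by
    obtain ⟨r, hr⟩ := hh
    exact ⟨r * j, by rw [hr]; push_cast; ring⟩
  have hδ2 : δ * δ = 1 := by rcases hδ with rfl | rfl <;> norm_num
  have hdz : (d : ℤ) ≠ 0 := by positivity
  -- divide the second equation by the degree
  have h2' : δ * (1 + h * j) * (d + s) = 2 * (κ : ℤ) * h * D := by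
    have hne2 : (2 : ℤ) * A * B * d ≠ 0 := by positivity
    apply mul_left_cancel₀ hne2
    rw [hNt, ht] at h2
    linear_combination h2 + 2 * (A : ℤ) * B * (1 + h * j) * (d + s) * hx
  rcases eq_or_ne (δ * s) 1 with hds | hds
  · exfalso
    have e : (d : ℤ) + s = δ * (2 * (1 + h * j)) := by
      linear_combination δ * hx + δ * hds - (d + s) * hδ2
    rw [e] at h2'
    have h3 : (1 + (h : ℤ) * j) ^ 2 = (κ : ℤ) * h * D := by
      apply mul_left_cancel₀ (show (2 : ℤ) ≠ 0 by norm_num)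
      linear_combination h2' - 2 * (1 + (h : ℤ) * j) ^ 2 * hδ2
    have hhz : Even (h : ℤ) := by exact_mod_cast hh
    have he : Even ((κ : ℤ) * h * D) := (hhz.mul_left _).mul_right _
    rw [← h3, Int.even_pow] at he
    rw [add_comm] at he
    exact Int.not_even_iff_odd.2 hodd he.1
  · have hds' : δ * s = -1 := by
      rcases hδ with rfl | rfl <;> rcases hs with rfl | rfl <;>
        first | (norm_num; done) | exact absurd (by norm_num) hds
    have e : (d : ℤ) + s = δ * (2 * h * j) := by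
      linear_combination δ * hx + δ * hds' - (d + s) * hδ2
    rw [e] at h2'
    have h3 : j * (1 + h * j) = (κ : ℤ) * D := by
      apply mul_left_cancel₀ (show (2 : ℤ) * h ≠ 0 by positivity)
      linear_combination h2' - 2 * (h : ℤ) * j * (1 + h * j) * hδ2
    have hdvd : (1 + (h : ℤ) * j).natAbs ∣ A * B * D := by
      have hb : (B : ℤ) * (κ : ℤ) * D = (1 + h * j) * (j * B) := by linear_combination -(B : ℤ) * h3
      have hjm : (j.natAbs : ℕ) = B * D := by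
        have e3 := congrArg Int.natAbs hm
        rw [Int.natAbs_mul, Int.natAbs_mul, hm1, mul_one, Int.natAbs_natCast,
          Int.natAbs_natCast] at e3
        exact e3.symm
      have e4 := congrArg Int.natAbs hb
      simp only [Int.natAbs_mul, Int.natAbs_natCast, hjm] at e4
      have e5 : (1 + (h : ℤ) * j).natAbs * (B * B) = B * κ := by
        apply Nat.eq_of_mul_eq_mul_right hD0
        rw [e4]; ring
      have e6 : (1 + (h : ℤ) * j).natAbs * B = κ := by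
        apply Nat.eq_of_mul_eq_mul_right hB0
        rw [mul_assoc, e5, mul_comm]
      exact (Dvd.intro _ e6).trans hκ
    have hu1 : (1 + (h : ℤ) * j).natAbs = 1 := by
      refine Nat.eq_one_of_dvd_coprimes hcop ?_ hdvd
      have : (1 + (h : ℤ) * j) ∣ (N : ℤ) := ⟨1 + 2 * h * j, by rw [hNt, ht]; ring⟩
      exact Int.natAbs_dvd_natAbs.2 this |>.trans (by simp)
    have hhj : (h : ℤ) * (-j) = 2 := by
      rcases Int.natAbs_eq_iff.1 hu1 with e | e
      · exact absurd (mul_eq_zero.1 (show (h : ℤ) * j = 0 by push_cast at e; linarith))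
          (by rintro (h' | h'); exacts [by omega, hj0 h'])
      · push_cast at e; linarith
    have hh2 : h = 2 := by
      have hle : h ≤ 2 := Nat.le_of_dvd two_pos (by exact_mod_cast (Dvd.intro _ hhj : (h : ℤ) ∣ 2))
      obtain ⟨r, hr⟩ := hh
      omega
    have hj1 : j = -1 := by rw [hh2] at hhj; omega
    have hBD : B * D = 1 := by
      have e3 := congrArg Int.natAbs hm
      rw [Int.natAbs_mul, Int.natAbs_mul, hm1, mul_one, Int.natAbs_natCast, Int.natAbs_natCast,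
        hj1] at e3
      simpa using e3
    obtain ⟨rfl, rfl⟩ := mul_eq_one.1 hBD
    refine ⟨hh2, rfl, rfl, ?_⟩
    rw [ht, hh2, hj1] at hNt
    norm_num at hNt
    exact_mod_cast hNt

/-- The squares `((2 s + ε) G) ^ 2 - 16 a` with `a + 1 = s G`. -/
theorem residual_main {a z G s ε : ℤ} (ha : 2 ≤ a) (hz0 : 0 ≤ z) (hG : 0 < G) (hs : 2 ≤ s)
    (hGodd : Odd G) (hε : ε = 1 ∨ ε = -1) (hsG : a + 1 = s * G)
    (hzz : z ^ 2 = ((2 * s + ε) * G) ^ 2 - 16 * a) :
    ε = -1 ∧ ((s = 2 ∧ G = 3) ∨ (s = 2 ∧ G = 5) ∨ (s = 4 ∧ G = 1) ∨ (s = 3 ∧ G = 1)) := by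
  set W := (2 * s + ε) * G with hW
  have hW0 : 0 < W := mul_pos (by rcases hε with rfl | rfl <;> omega) hG
  have hzW : z < W := by nlinarith
  have hWodd : W % 2 = 1 := by
    obtain ⟨e, he⟩ := hGodd
    rw [hW, he]
    rcases hε with rfl | rfl <;> ring_nf <;> omega
  have hzodd : z % 2 = 1 := by
    by_contra hne
    obtain ⟨c, rfl⟩ : ∃ c, z = 2 * c := ⟨z / 2, by omega⟩
    obtain ⟨c', hc'⟩ : ∃ c', W = 2 * c' + 1 := ⟨W / 2, by omega⟩
    rw [hc'] at hzz
    ring_nf at hzz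
    omega
  obtain ⟨t, ht⟩ : ∃ t, W = z + 2 * t := ⟨(W - z) / 2, by omega⟩
  have htt : t * (W - t) = 4 * a := by rw [ht] at hzz ⊢; linarith
  have ht1 : 1 ≤ t := by omega
  obtain ⟨e, he⟩ := hGodd
  rcases (show t = 1 ∨ t = 2 ∨ 3 ≤ t by omega) with rfl | rfl | ht3
  · rcases hε with rfl | rfl
    · have e1 : G * (2 * s - 1) = 3 := by rw [hW] at htt; linarith
      have : G ≤ 3 := by nlinarith
      interval_cases G <;> omega
    · have e1 : G * (2 * s + 1) = 3 := by rw [hW] at htt; linarith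
      nlinarith
  · exfalso
    have e0 : 2 * (W - 2) = 4 * (s * G - 1) := by rw [← hsG]; linarith
    rw [hW] at e0
    rcases hε with rfl | rfl <;> linarith
  · have hb : 3 * (W - 3) ≤ 4 * a := by
      rw [← htt]
      nlinarith [mul_nonneg (show (0 : ℤ) ≤ t - 3 by omega) (show (0 : ℤ) ≤ W - t - 3 by omega)]
    rw [hW] at hb
    rcases hε with rfl | rfl
    · nlinarith
    · have hb' : (2 * s - 3) * G ≤ 5 := by linarith
      have hs4 : s ≤ 4 := by nlinarith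
      have hG5 : G ≤ 5 := by nlinarith
      refine ⟨rfl, ?_⟩
      interval_cases s <;> interval_cases G <;> omega

/-- The one-class equations with `h = 2`, `B = D = 1`. -/
theorem residual_arith {N a : ℕ} {x U V : ℤ} (ha : 2 ≤ a) (haodd : Odd a) (hN : Odd N)
    (hmod : 4 ∣ x - 1) (hUV : U + V = -(1 + x))
    (h1 : (N : ℤ) * (a : ℤ) ^ 2 * (x - 1) ^ 2 = 8 * (a : ℤ) ^ 2 * ((a : ℤ) + 1) ^ 2 * (x * (x + 1)))
    (h2 : (N : ℤ) * (a : ℤ) ^ 2 * (U - V) ^ 2 =
      8 * (a : ℤ) ^ 2 * ((a : ℤ) - 1) ^ 2 * (U * V * (1 + x))) :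
    (a = 3 ∧ N = 105) ∨ (a = 5 ∧ N = 189) ∨ (a = 9 ∧ N = 525) := by
  obtain ⟨j, hj⟩ := hmod
  obtain rfl : x = 1 + 4 * j := by linarith
  have ha2 : (a : ℤ) ^ 2 ≠ 0 := by positivity
  have h1' : (N : ℤ) * j ^ 2 = ((a : ℤ) + 1) ^ 2 * ((1 + 4 * j) * (1 + 2 * j)) := by
    apply mul_left_cancel₀ (mul_ne_zero (show (16 : ℤ) ≠ 0 by norm_num) ha2)
    linear_combination h1
  have hj0 : j ≠ 0 := fun e => by
    subst e
    have : ((a : ℤ) + 1) ^ 2 = 0 := by linarith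
    have := pow_eq_zero_iff (two_ne_zero) |>.1 this
    omega
  have hcj : IsCoprime j ((1 + 4 * j) * (1 + 2 * j)) :=
    IsCoprime.mul_right ⟨-4, 1, by ring⟩ ⟨-2, 1, by ring⟩
  have hjd : j ∣ (a : ℤ) + 1 := by
    rw [← Int.pow_dvd_pow_iff two_ne_zero]
    exact (hcj.pow_left).dvd_of_dvd_mul_right ⟨N, by linarith⟩
  obtain ⟨g, hg⟩ := hjd
  have hNt : (N : ℤ) = g ^ 2 * ((1 + 4 * j) * (1 + 2 * j)) := by
    apply mul_right_cancel₀ (pow_ne_zero 2 hj0)
    rw [h1', hg]; ring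
  have hgodd : Odd g := by
    have : Odd (g ^ 2 * ((1 + 4 * j) * (1 + 2 * j))) := hNt ▸ (hN.natCast (R := ℤ))
    exact Int.odd_pow.1 (Int.odd_mul.1 this).1 |>.resolve_right two_ne_zero
  set u := U - V with hu
  have h2' : g ^ 2 * (1 + 4 * j) * u ^ 2 =
      4 * ((a : ℤ) - 1) ^ 2 * (4 * (1 + 2 * j) ^ 2 - u ^ 2) := by
    have h12 : (1 + 2 * j) ≠ 0 := by omega
    apply mul_left_cancel₀ (mul_ne_zero ha2 h12)
    obtain rfl : V = -(1 + (1 + 4 * j)) - U := by linarith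
    rw [hNt] at h2
    linear_combination h2
  set w := g ^ 2 + 4 * g * ((a : ℤ) + 1) + 4 * ((a : ℤ) - 1) ^ 2 with hw
  have hwu : u ^ 2 * w = (4 * ((a : ℤ) - 1) * (1 + 2 * j)) ^ 2 := by
    have e : w = g ^ 2 * (1 + 4 * j) + 4 * ((a : ℤ) - 1) ^ 2 := by rw [hw, hg]; ring
    rw [e]; linear_combination h2'
  have hu0 : u ≠ 0 := fun e => by
    rw [e] at hwu
    have h0 := pow_eq_zero_iff (two_ne_zero) |>.1
      (show (4 * ((a : ℤ) - 1) * (1 + 2 * j)) ^ 2 = 0 by linarith)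
    rcases mul_eq_zero.1 h0 with e' | e' <;> omega
  obtain ⟨q, hq⟩ : u ∣ 4 * ((a : ℤ) - 1) * (1 + 2 * j) := by
    rw [← Int.pow_dvd_pow_iff two_ne_zero]
    exact ⟨w, hwu.symm⟩
  have hwq : w = q ^ 2 := by
    apply mul_left_cancel₀ (pow_ne_zero 2 hu0)
    rw [hwu, hq]; ring
  obtain ⟨z, hz0, hz⟩ : ∃ z : ℤ, 0 ≤ z ∧ w = z ^ 2 := ⟨|q|, abs_nonneg q, by rw [hwq, sq_abs]⟩
  rw [hw] at hz
  have hjg : 0 < j * g := by omega
  obtain ⟨r, hr⟩ := hgodd
  obtain ⟨k, hk⟩ := haodd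
  have hseven : Even j := by
    have : Even (j * g) := ⟨k + 1, by rw [← hg, hk]; push_cast; ring⟩
    rcases Int.even_mul.1 this with e | e
    · exact e
    · obtain ⟨r', hr'⟩ := e; omega
  obtain ⟨i, hi⟩ := hseven
  -- the sign of `g` and the square
  have main := fun (G s ε : ℤ) => residual_main (a := (a : ℤ)) (z := z) (G := G) (s := s) (ε := ε)
    (by omega) hz0
  have h4 : ∀ s G : ℤ, (a : ℤ) + 1 = s * G → j = -s → g = -G →
      (N : ℤ) = G ^ 2 * ((1 - 4 * s) * (1 - 2 * s)) := by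
    intro s G _ e1 e2; rw [hNt, e1, e2]; ring
  rcases lt_or_gt_of_ne hj0 with hneg | hpos
  · have hgn : g < 0 := by nlinarith
    obtain ⟨-, hcases⟩ := main (-g) (-j) (-1) (by omega) (by omega) ⟨-r - 1, by rw [hr]; ring⟩
      (Or.inr rfl) (by rw [hg]; ring) (by linear_combination -hz + (4 * (j * g + ((a : ℤ) + 1)) + 4 * g) * hg)
    have hN' := h4 (-j) (-g) (by rw [hg]; ring) (by ring) (by ring)
    have ha' : (a : ℤ) = -j * -g - 1 := by linarith
    rcases hcases with ⟨e1, e2⟩ | ⟨e1, e2⟩ | ⟨e1, e2⟩ | ⟨e1, e2⟩ <;>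
      rw [e1, e2] at hN' ha' <;> norm_num at hN' ha'
    · exact Or.inr (Or.inl ⟨by omega, by omega⟩)
    · exact Or.inr (Or.inr ⟨by omega, by omega⟩)
    · exact Or.inl ⟨by omega, by omega⟩
    · omega
  · have hgp : 0 < g := by nlinarith
    obtain ⟨he, -⟩ := main g j 1 hgp (by omega) ⟨r, hr⟩ (Or.inl rfl) hg
      (by linear_combination -hz + (4 * (j * g + ((a : ℤ) + 1)) + 4 * g) * hg)
    norm_num at he

end CfsgLib.SuzukiWong
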