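import Cfsg.Agent.SuzukiWong.Dihedral
import Cfsg.Agent.SuzukiWong.OneClass
import Cfsg.Agent.SuzukiWong.DihedralArith

/-!
# Suzuki–Wong: no element of order three moves a four-group of `P`
-/

set_option autoImplicit false
set_option linter.unusedSectionVars false
set_option linter.style.haveILetI false

namespace CfsgLib.SuzukiWong

open Subgroup CfsgLib.Inv54.DihedralBlock

universe u

variable {G : Type u} [Group G] [Finite G]

theorem mem_of_pow_coprime {K : Subgroup G} {n : G} {k : ℕ} (hk : (orderOf n).Coprime k)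
    (h : n ^ k ∈ K) : n ∈ K := by
  obtain ⟨m, hm⟩ := exists_pow_eq_self_of_coprime hk.symm
  rw [← hm]; exact pow_mem h m

/-- Three involutions permuted by `g`. -/
theorem three_points {g a b c : G} (hab : a ≠ b) (hac : a ≠ c) (hbc : b ≠ c)
    (hmap : ∀ v, v = a ∨ v = b ∨ v = c →
      g * v * g⁻¹ = a ∨ g * v * g⁻¹ = b ∨ g * v * g⁻¹ = c) :
    (g * a * g⁻¹ = a ∧ g * b * g⁻¹ = b ∧ g * c * g⁻¹ = c) ∨
    (g * g * a * (g * g)⁻¹ = a ∧ g * g * b * (g * g)⁻¹ = b ∧ g * g * c * (g * g)⁻¹ = c) ∨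
    ((g * g * g * a * (g * g * g)⁻¹ = a ∧ g * g * g * b * (g * g * g)⁻¹ = b ∧
        g * g * g * c * (g * g * g)⁻¹ = c) ∧
      g * a * g⁻¹ ≠ a ∧ g * b * g⁻¹ ≠ b ∧ g * c * g⁻¹ ≠ c) := by
  have e2 : ∀ v, g * g * v * (g * g)⁻¹ = g * (g * v * g⁻¹) * g⁻¹ := fun v => by group
  have e3 : ∀ v, g * g * g * v * (g * g * g)⁻¹ = g * (g * (g * v * g⁻¹) * g⁻¹) * g⁻¹ := fun v => by
    group
  have inj : ∀ u v, u ≠ v → g * u * g⁻¹ ≠ g * v * g⁻¹ := fun u v huv e =>
    huv (mul_left_cancel (mul_right_cancel e))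
  have iab := inj a b hab
  have iac := inj a c hac
  have ibc := inj b c hbc
  rcases hmap a (Or.inl rfl) with ha | ha | ha <;>
    rcases hmap b (Or.inr (Or.inl rfl)) with hb | hb | hb <;>
    rcases hmap c (Or.inr (Or.inr rfl)) with hc | hc | hc <;>
    first
      | exact Or.inl ⟨ha, hb, hc⟩
      | (exact absurd (ha.trans hb.symm) iab)
      | (exact absurd (ha.trans hc.symm) iac)
      | (exact absurd (hb.trans hc.symm) ibc)
      | (refine Or.inr (Or.inl ?_); simp only [e2, ha, hb, hc, and_self]; done)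
      | (refine Or.inr (Or.inr ?_); simp only [e3, ha, hb, hc, and_self, ne_eq, true_and]
         exact ⟨hab.symm, hbc.symm, hac⟩)
      | (refine Or.inr (Or.inr ?_); simp only [e3, ha, hb, hc, and_self, ne_eq, true_and]
         exact ⟨hac.symm, hab, hbc⟩)

variable {P : Sylow 2 G} {σ τ : G}

theorem mem_T (S : Setup P σ τ 2) {y : G} (hτy : τ * y = y * τ)
    (hσy : σ * y ≠ y * σ) (hσ2 : σ ^ 2 * y = y * σ ^ 2) {v : G}
    (hv : v ∈ (P : Subgroup G) ⊓ centralizer ({y} : Set G)) :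
    v = 1 ∨ v = σ ^ 2 ∨ v = τ ∨ v = τ * σ ^ 2 := by
  have key : ∀ i : ℕ, σ ^ i * y = y * σ ^ i → σ ^ i = 1 ∨ σ ^ i = σ ^ 2 := by
    intro i hi
    rcases Nat.even_or_odd' i with ⟨k, rfl | rfl⟩
    · by_cases e : σ ^ (2 * k) = 1
      · exact Or.inl e
      · refine Or.inr (S.J_unique ?_ e)
        rw [← pow_add, S.pow_eq_one]; exact ⟨k, by ring⟩
    · exfalso
      refine hσy ?_
      have h2 : Commute (σ ^ (2 * k)) y := by rw [pow_mul]; exact (show Commute (σ ^ 2) y from hσ2).pow_left k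
      have h1 : Commute (σ ^ (2 * k) * σ) y := by rw [← pow_succ]; exact hi
      have := h2.inv_left.mul_left h1
      rwa [inv_mul_cancel_left] at this
  obtain ⟨i, rfl | rfl⟩ := S.elems v hv.1
  · rcases key i (Subgroup.mem_centralizer_singleton_iff.1 hv.2) with e | e <;> simp [e]
  · have h1 : Commute (σ ^ i) y := by
      have := (show Commute τ y from hτy).inv_left.mul_left
        (show Commute (τ * σ ^ i) y from Subgroup.mem_centralizer_singleton_iff.1 hv.2)
      rwa [inv_mul_cancel_left] at this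
    rcases key i h1 with e | e <;> simp [e]

set_option maxHeartbeats 1000000 in
/-- **The exceptional configuration does not occur.** -/
theorem exceptional [IsSimpleGroup G] (hna : ¬ IsMulCommutative G)
    (hodd : ∀ p : ℕ, p.Prime → p ≠ 2 → ∀ R : Sylow p G, IsCyclic R)
    (hone : ∀ a b : G, orderOf a = 2 → orderOf b = 2 → IsConj a b) (S : Setup P σ τ 2)
    {r : ℕ} [hr : Fact r.Prime] {y : G} (hy : y ∈ S.core) (hord : orderOf y = r)
    (hτy : τ * y = y * τ) (hσy : σ * y ≠ y * σ) (R : Sylow r G) (hyR : y ∈ (R : Subgroup G))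
    (hRN : (R : Subgroup G) ≤
      normalizer (((P : Subgroup G) ⊓ centralizer ({y} : Set G) : Subgroup G) : Set G))
    {x : G} (hxR : x ∈ (R : Subgroup G)) (hxJ : x ∉ centralizer ({σ ^ 2} : Set G)) : False := by
  classical
  haveI : Fact (Nat.Prime 2) := ⟨Nat.prime_two⟩
  haveI := Fintype.ofFinite G
  haveI := core_isCyclic S hna hodd
  have hr2 : r ≠ 2 := fun e => (odd_orderOf S hy).not_two_dvd_nat (by rw [hord, e])
  haveI := hodd r hr.out hr2 R
  have hy1 : y ≠ 1 := fun e => by rw [e, orderOf_one] at hord; exact hr.out.ne_one hord.symm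
  have hJy : σ ^ 2 * y = y * σ ^ 2 := (Subgroup.mem_centralizer_singleton_iff.1 (S.core_le hy)).symm
  set H := centralizer ({y} : Set G) with hH
  set T := (P : Subgroup G) ⊓ H with hTdef
  have hJT : σ ^ 2 ∈ T := ⟨S.J_mem, Subgroup.mem_centralizer_singleton_iff.2 hJy⟩
  have hτT : τ ∈ T := ⟨S.memτ, Subgroup.mem_centralizer_singleton_iff.2 hτy⟩
  set K := τ * σ ^ 2 with hK
  have hKT : K ∈ T := mul_mem hτT hJT
  have hττ := Small.mul_self_of_orderOf_two S.ordτ
  have hcomm : τ * σ ^ 2 = σ ^ 2 * τ := S.J_central S.memτ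
  have hKK : K * K = 1 := by
    calc τ * σ ^ 2 * (τ * σ ^ 2) = τ * (σ ^ 2 * τ) * σ ^ 2 := by group
      _ = τ * τ * (σ ^ 2 * σ ^ 2) := by rw [← hcomm]; group
      _ = 1 := by rw [hττ, S.J_sq, mul_one]
  have hJτ : σ ^ 2 ≠ τ := fun e => S.notMem (e ▸ pow_mem (mem_zpowers σ) 2)
  have hJK : σ ^ 2 ≠ K := fun e => Small.ne_one_of_orderOf_two S.ordτ (right_eq_mul.1 e)
  have hτK : τ ≠ K := fun e => S.J_ne (left_eq_mul.1 e)
  have hK1 : K ≠ 1 := fun e => hJτ ((eq_inv_of_mul_eq_one_right e).trans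
    (Small.inv_eq_self_of_orderOf_two S.ordτ))
  have hmem := fun {v : G} (hv : v ∈ T) => mem_T S hτy hσy hJy hv
  have hinv3 : ∀ {g : G}, g ∈ normalizer (T : Set G) → ∀ v, v = σ ^ 2 ∨ v = τ ∨ v = K →
      g * v * g⁻¹ = σ ^ 2 ∨ g * v * g⁻¹ = τ ∨ g * v * g⁻¹ = K := by
    intro g hg v hv
    have hvT : v ∈ T := by rcases hv with rfl | rfl | rfl <;> assumption
    have hv1 : v ≠ 1 := by
      rcases hv with rfl | rfl | rfl
      exacts [S.J_ne, Small.ne_one_of_orderOf_two S.ordτ, hK1]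
    rcases hmem ((Subgroup.mem_normalizer_iff.1 hg v).1 hvT) with e | e | e | e
    · exact absurd (conj_eq_one_iff.1 e) hv1
    · exact Or.inl e
    · exact Or.inr (Or.inl e)
    · exact Or.inr (Or.inr e)
  have hcentT : ∀ {g : G}, g * σ ^ 2 * g⁻¹ = σ ^ 2 → g * τ * g⁻¹ = τ →
      g ∈ centralizer (T : Set G) := by
    intro g e1 e2
    rw [Subgroup.mem_centralizer_iff]
    intro v hv
    have c1 : Commute g (σ ^ 2) := mul_inv_eq_iff_eq_mul.1 e1
    have c2 : Commute g τ := mul_inv_eq_iff_eq_mul.1 e2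
    rcases hmem hv with rfl | rfl | rfl | rfl
    exacts [(Commute.one_right g).eq.symm, c1.eq.symm, c2.eq.symm, (c2.mul_right c1).eq.symm]
  have hCC : ∀ {g : G}, g ∈ centralizer (T : Set G) → ∀ v ∈ T, g * v * g⁻¹ = v := fun hg v hv =>
    mul_inv_eq_iff_eq_mul.2 (Subgroup.mem_centralizer_iff.1 hg v hv).symm
  have h3p := fun {g : G} (hg : g ∈ normalizer (T : Set G)) =>
    three_points hJτ hJK hτK (hinv3 hg)
  -- odd order elements moving `T`
  have hsix : ∀ {g : G}, g ∈ normalizer (T : Set G) → Odd (orderOf g) → ¬ 3 ∣ orderOf g →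
      g ∈ centralizer (T : Set G) := by
    intro g hg ho h3
    rcases h3p hg with h | h | h
    · exact hcentT h.1 h.2.1
    · refine mem_of_pow_coprime (Nat.coprime_two_right.2 ho) ?_
      rw [sq]; exact hcentT h.1 h.2.1
    · refine mem_of_pow_coprime (k := 3) ((Nat.prime_three.coprime_iff_not_dvd.2 h3).symm) ?_
      rw [pow_three']; exact hcentT h.1.1 h.1.2.1
  have hxN := hRN hxR
  have hxodd : Odd (orderOf x) := by
    obtain ⟨i, hi⟩ := IsPGroup.iff_orderOf.1 R.isPGroup' ⟨x, hxR⟩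
    rw [Subgroup.orderOf_mk] at hi
    rw [hi]; exact (hr.out.odd_of_ne_two hr2).pow
  have hxnot : x ∉ centralizer (T : Set G) := fun hc =>
    hxJ (Subgroup.mem_centralizer_singleton_iff.2 (Subgroup.mem_centralizer_iff.1 hc _ hJT).symm)
  obtain ⟨-, hxJ', hxτ', hxK'⟩ := ((h3p hxN).resolve_left fun h => hxnot (hcentT h.1 h.2.1)
    ).resolve_left fun h => hxnot (mem_of_pow_coprime (Nat.coprime_two_right.2 hxodd)
      (by rw [sq]; exact hcentT h.1 h.2.1))
  obtain rfl : r = 3 := by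
    by_contra hne
    refine hxnot (hsix hxN hxodd fun hd => ?_)
    obtain ⟨i, hi⟩ := IsPGroup.iff_orderOf.1 R.isPGroup' ⟨x, hxR⟩
    rw [Subgroup.orderOf_mk] at hi
    exact hne ((Nat.prime_dvd_prime_iff_eq Nat.prime_three hr.out).1
      (Nat.prime_three.dvd_of_dvd_pow (hi ▸ hd))).symm
  have hRH : (R : Subgroup G) ≤ H := sylow_le_centralizer_elt hyR
  have hmax : ∀ T' : Subgroup G, IsPGroup 2 T' → T' ≤ H → T ≤ T' → T' = T := fun T' h1 h2 h3 =>
    maximal_two S hna hodd hr.out hy hord T' h1 h2 h3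
  -- elements of `H` of order prime to three
  let R₁ : Sylow 3 H := R.subtype hRH
  have hN₁ : normalizer ((R₁ : Subgroup H) : Set H) ≤ centralizer ((R₁ : Subgroup H) : Set H) := by
    intro n hn
    rw [Sylow.coe_subtype] at hn ⊢
    have hnG : (n : G) ∈ normalizer ((R : Subgroup G) : Set G) :=
      Subgroup.mem_normalizer_fintype fun u hu =>
        (Subgroup.mem_normalizer_iff.1 hn ⟨u, hRH hu⟩).1 hu
    have h := centralizes_sylow R hyR hy1 hnG (Subgroup.mem_centralizer_singleton_iff.1 n.2)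
    exact Subgroup.mem_centralizer_iff.2 fun u hu =>
      Subtype.ext (Subgroup.mem_centralizer_iff.1 h (u : G) hu)
  set φ := MonoidHom.transferSylow R₁ hN₁ with hφ
  set U : Subgroup G := φ.ker.map H.subtype with hUdef
  have hUH : U ≤ H := Subgroup.map_subtype_le _
  have hUmem : ∀ {g : G}, g ∈ H → ¬ 3 ∣ orderOf g → g ∈ U := by
    intro g hg h3
    refine ⟨⟨g, hg⟩, ?_, rfl⟩
    rw [SetLike.mem_coe, MonoidHom.mem_ker]
    obtain ⟨j, hj⟩ := IsPGroup.iff_orderOf.1 R₁.isPGroup' (φ ⟨g, hg⟩)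
    refine orderOf_eq_one_iff.1 (Nat.eq_one_of_dvd_coprimes
      ((Nat.prime_three.coprime_iff_not_dvd.2 h3).pow_left j) (hj ▸ dvd_rfl) ?_)
    exact (orderOf_map_dvd φ ⟨g, hg⟩).trans (Subgroup.orderOf_mk g hg).dvd
  have hU3 : ∀ {g : G}, g ∈ U → ¬ 3 ∣ orderOf g := by
    intro g hg hd
    refine R₁.not_dvd_index ?_
    rw [(MonoidHom.ker_transferSylow_isComplement' R₁ hN₁).index_eq_card]
    exact (hd.trans (U.orderOf_dvd_natCard hg)).trans (dvd_of_eq
      (Subgroup.card_map_of_injective H.subtype_injective))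
  have hTU : T ≤ U := fun t ht => hUmem ht.2 fun hd => by
    obtain ⟨i, hi⟩ := IsPGroup.iff_orderOf.1 (P.isPGroup'.to_le (inf_le_left : T ≤ P)) ⟨t, ht⟩
    rw [Subgroup.orderOf_mk] at hi
    rw [hi] at hd
    have := (Nat.prime_dvd_prime_iff_eq Nat.prime_three Nat.prime_two).1
      (Nat.prime_three.dvd_of_dvd_pow hd)
    omega
  -- the normal 2-complement of `U`
  let T₁ : Sylow 2 U := ⟨T.subgroupOf U,
    (P.isPGroup'.to_le (inf_le_left : T ≤ P)).of_equiv (Subgroup.subgroupOfEquivOfLe hTU).symm,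
    fun {Q} hQ hle => by
      have h := hmax (Q.map U.subtype) (hQ.map _) ((Subgroup.map_subtype_le _).trans hUH)
        fun t ht => ⟨⟨t, hTU ht⟩, hle (Subgroup.mem_subgroupOf.2 ht), rfl⟩
      refine le_antisymm (fun q hq => ?_) hle
      exact Subgroup.mem_subgroupOf.2 (h ▸ ⟨q, hq, rfl⟩)⟩
  have hN₂ : normalizer ((T₁ : Subgroup U) : Set U) ≤ centralizer ((T₁ : Subgroup U) : Set U) := by
    intro n hn
    have hnT : (n : G) ∈ normalizer (T : Set G) :=
      Subgroup.mem_normalizer_fintype fun u hu =>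
        (Subgroup.mem_normalizer_iff.1 hn ⟨u, hTU hu⟩).1 hu
    obtain ⟨k, m, hm, hkm⟩ := Nat.exists_eq_two_pow_mul_odd (orderOf_pos (n : G)).ne'
    -- the 2-part lies in `T`
    have h2 : (n : G) ^ m ∈ centralizer (T : Set G) := by
      have hp : IsPGroup 2 ((zpowers ((n : G) ^ m) ⊔ T : Subgroup G)) := by
        refine IsPGroup.to_sup_of_normal_right'
          (IsPGroup.of_card (p := 2) (n := k) (G := zpowers ((n : G) ^ m)) ?_)
          (P.isPGroup'.to_le (inf_le_left : T ≤ P)) (zpowers_le.2 (pow_mem hnT m))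
        rw [Nat.card_zpowers, orderOf_pow, hkm, Nat.gcd_eq_right (Dvd.intro_left _ rfl),
          Nat.mul_div_cancel _ hm.pos]
      have h := hmax _ hp (sup_le (zpowers_le.2 (pow_mem (hUH n.2) m)) inf_le_right) le_sup_right
      have hmT : (n : G) ^ m ∈ T := h ▸ Subgroup.mem_sup_left (mem_zpowers _)
      rw [Subgroup.mem_centralizer_iff]
      intro v hv
      have cJ : ∀ w ∈ T, Commute (σ ^ 2) w := fun w hw => (S.J_central hw.1).symm
      rcases hmem hv with f | f | f | f <;> rcases hmem hmT with e | e | e | e <;>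
        rw [e, f] <;> first
        | exact (Commute.one_left _).eq
        | exact (Commute.one_right _).eq
        | exact (Commute.refl _).eq
        | exact (cJ _ hτT).eq
        | exact (cJ _ hτT).eq.symm
        | exact (cJ _ hKT).eq
        | exact (cJ _ hKT).eq.symm
        | exact ((Commute.refl τ).mul_right (cJ _ hτT).symm).eq
        | exact ((Commute.refl τ).mul_right (cJ _ hτT).symm).eq.symm
    have hodd' : (n : G) ^ (2 ^ k) ∈ centralizer (T : Set G) := by
      have hd : orderOf ((n : G) ^ (2 ^ k)) ∣ m := orderOf_dvd_of_pow_eq_one (by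
        rw [← pow_mul, ← hkm, pow_orderOf_eq_one])
      exact hsix (pow_mem hnT _) (hm.of_dvd_nat hd) fun h3 => hU3 n.2
        ((h3.trans hd).trans ⟨2 ^ k, by rw [hkm]; ring⟩)
    have hn' : (n : G) ∈ centralizer (T : Set G) := by
      have hgcd : Nat.gcd (2 ^ k) m = 1 := (Nat.coprime_two_left.2 hm).pow_left k
      have e := Nat.gcd_eq_gcd_ab (2 ^ k) m
      rw [hgcd] at e
      rw [show (n : G) = ((n : G) ^ (2 ^ k)) ^ Nat.gcdA (2 ^ k) m *
        ((n : G) ^ m) ^ Nat.gcdB (2 ^ k) m by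
          rw [← zpow_natCast, ← zpow_natCast (n : G) m, ← zpow_mul, ← zpow_mul, ← zpow_add, ← e]
          simp]
      exact mul_mem (zpow_mem hodd' _) (zpow_mem h2 _)
    exact Subgroup.mem_centralizer_iff.2 fun u hu =>
      Subtype.ext (Subgroup.mem_centralizer_iff.1 hn' (u : G) hu)
  have hcompl := MonoidHom.ker_transferSylow_isComplement' T₁ hN₂
  set Q : Subgroup G := (MonoidHom.transferSylow T₁ hN₂).ker.map U.subtype with hQdef
  have hQU : Q ≤ U := Subgroup.map_subtype_le _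
  have hQodd : Odd (Nat.card Q) := by
    rw [hQdef, Subgroup.card_map_of_injective U.subtype_injective, ← hcompl.index_eq_card,
      Nat.odd_iff, ← Nat.two_dvd_ne_zero]
    exact T₁.not_dvd_index
  have hQmem : ∀ {g : G}, g ∈ U → Odd (orderOf g) → g ∈ Q := by
    intro g hg ho
    refine ⟨⟨g, hg⟩, ?_, rfl⟩
    rw [SetLike.mem_coe, MonoidHom.mem_ker]
    obtain ⟨j, hj⟩ := IsPGroup.iff_orderOf.1 T₁.isPGroup' (MonoidHom.transferSylow T₁ hN₂ ⟨g, hg⟩)
    refine orderOf_eq_one_iff.1 (Nat.eq_one_of_dvd_coprimes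
      ((Nat.coprime_two_left.2 ho).pow_left j) (hj ▸ dvd_rfl) ?_)
    exact (orderOf_map_dvd (MonoidHom.transferSylow T₁ hN₂) ⟨g, hg⟩).trans (Subgroup.orderOf_mk g hg).dvd
  have hQnorm : ∀ {g : G}, g ∈ H → g ∈ normalizer (Q : Set G) := fun {g} hg =>
    Subgroup.mem_normalizer_fintype fun q hq => hQmem
      (hUmem (mul_mem (mul_mem hg (hUH (hQU hq))) (inv_mem hg))
        (by rw [Small.orderOf_conj_eq]; exact hU3 (hQU hq)))
      (by rw [Small.orderOf_conj_eq]; exact hQodd.of_dvd_nat (Q.orderOf_dvd_natCard hq))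
  haveI := isZGroup_of_odd hodd hQodd
  -- `T` centralizes `Q`
  have hxH := hRH hxR
  have hcom : ∀ v ∈ T, x * v * x⁻¹ * v⁻¹ ∈ centralizer (Q : Set G) := fun v hv => by
    refine commutator_centralizes (hQnorm hxH) (hQnorm hv.2) ?_
    refine Nat.Coprime.coprime_dvd_left (orderOf_dvd_of_pow_eq_one (n := 2) ?_)
      (Nat.coprime_two_left.2 hQodd)
    rcases hmem (mul_mem ((Subgroup.mem_normalizer_iff.1 hxN v).1 hv) (inv_mem hv)) with
      e | e | e | e <;> rw [e, sq]
    exacts [mul_one 1, S.J_sq, hττ, hKK]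
  have hu : x * σ ^ 2 * x⁻¹ * (σ ^ 2)⁻¹ ∈ T :=
    mul_mem ((Subgroup.mem_normalizer_iff.1 hxN _).1 hJT) (inv_mem hJT)
  have hu' : x * τ * x⁻¹ * τ⁻¹ ∈ T :=
    mul_mem ((Subgroup.mem_normalizer_iff.1 hxN _).1 hτT) (inv_mem hτT)
  have hune : x * σ ^ 2 * x⁻¹ * (σ ^ 2)⁻¹ ≠ x * τ * x⁻¹ * τ⁻¹ := fun e => hxK' (by
    rw [inv_eq_of_mul_eq_one_right S.J_sq, Small.inv_eq_self_of_orderOf_two S.ordτ] at e
    have e1 : x * σ ^ 2 * x⁻¹ = x * τ * x⁻¹ * (τ * σ ^ 2) := by
      calc x * σ ^ 2 * x⁻¹ = x * σ ^ 2 * x⁻¹ * σ ^ 2 * σ ^ 2 := by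
            rw [mul_assoc _ (σ ^ 2) (σ ^ 2), S.J_sq, mul_one]
        _ = _ := by rw [e]; group
    calc x * K * x⁻¹ = x * τ * x⁻¹ * (x * σ ^ 2 * x⁻¹) := by rw [hK]; group
      _ = x * (τ * τ) * x⁻¹ * (τ * σ ^ 2) := by rw [e1]; group
      _ = K := by rw [hττ, mul_one, mul_inv_cancel, one_mul])
  have hTQ : ∀ v ∈ T, v ∈ centralizer (Q : Set G) := by
    have hA := hcom _ hJT
    have hB := hcom _ hτT
    have hA1 : x * σ ^ 2 * x⁻¹ * (σ ^ 2)⁻¹ ≠ 1 := fun e => hxJ' (mul_inv_eq_one.1 e)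
    have hB1 : x * τ * x⁻¹ * τ⁻¹ ≠ 1 := fun e => hxτ' (mul_inv_eq_one.1 e)
    have e1 : τ * σ ^ 2 * σ ^ 2 = τ := by rw [mul_assoc, S.J_sq, mul_one]
    have e2 : τ * (τ * σ ^ 2) = σ ^ 2 := by rw [← mul_assoc, hττ, one_mul]
    have e3 : σ ^ 2 * τ = K := hcomm.symm
    intro v hv
    set M := centralizer (Q : Set G)
    have two : σ ^ 2 ∈ M ∧ τ ∈ M := by
      rcases hmem hu with a | a | a | a <;> rcases hmem hu' with b | b | b | b
      all_goals first
        | exact absurd a hA1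
        | exact absurd b hB1
        | exact absurd (a.trans b.symm) hune
        | (rw [a] at hA; rw [b] at hB
           first
            | exact ⟨hA, hB⟩
            | exact ⟨hB, hA⟩
            | exact ⟨hA, e1 ▸ mul_mem hB hA⟩
            | exact ⟨hB, e1 ▸ mul_mem hA hB⟩
            | exact ⟨e2 ▸ mul_mem hA hB, hA⟩
            | exact ⟨e2 ▸ mul_mem hB hA, hB⟩)
    rcases hmem hv with rfl | rfl | rfl | rfl
    exacts [one_mem _, two.1, two.2, mul_mem two.2 two.1]
  -- all involutions of `H` lie in `T`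
  have hinvT : ∀ i : G, orderOf i = 2 → i ∈ H → i = σ ^ 2 ∨ i = τ ∨ i = K := by
    intro i hi hiH
    have hiU : i ∈ U := hUmem hiH (by rw [hi]; omega)
    obtain ⟨⟨⟨q, hq⟩, ⟨t, ht⟩⟩, hqt⟩ := hcompl.existsUnique ⟨i, hiU⟩ |>.exists
    have hqQ : (q : G) ∈ Q := ⟨q, hq, rfl⟩
    have htT : (t : G) ∈ T := ht
    have e : (q : G) * t = i := congrArg Subtype.val hqt
    have hc : Commute (q : G) t := Subgroup.mem_centralizer_iff.1 (hTQ _ htT) _ hqQ
    have ht2 : (t : G) * t = 1 := by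
      rcases hmem htT with f | f | f | f <;> rw [f]
      exacts [mul_one 1, S.J_sq, hττ, hKK]
    have h1 : (q : G) ^ 2 = 1 := by
      have h := Small.mul_self_of_orderOf_two hi
      rw [← e, ← sq, hc.mul_pow, sq (t : G), ht2, mul_one] at h
      exact h
    have hq1 : (q : G) = 1 := orderOf_eq_one_iff.1 (Nat.eq_one_of_dvd_coprimes
      (Nat.coprime_two_right.2 hQodd) (Q.orderOf_dvd_natCard hqQ) (orderOf_dvd_of_pow_eq_one h1))
    rw [hq1, one_mul] at e
    rcases hmem htT with f | f | f | f <;> rw [f] at e <;> subst e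
    exacts [absurd (orderOf_one.symm.trans hi) (by norm_num), Or.inl rfl, Or.inr (Or.inl rfl),
      Or.inr (Or.inr rfl)]
  -- the core centralizes `τ`
  have hOτ : ∀ k ∈ S.core, k * τ = τ * k := by
    intro k hk
    have hkH : k ∈ H := Subgroup.mem_centralizer_singleton_iff.2 (commute_of_cyclic hk hy)
    have hm : k * τ * k⁻¹ ∈ (P : Subgroup G) := by
      rcases hinvT (k * τ * k⁻¹) (by rw [Small.orderOf_conj_eq]; exact S.ordτ)
        (mul_mem (mul_mem hkH hτT.2) (inv_mem hkH)) with f | f | f <;> rw [f]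
      exacts [hJT.1, S.memτ, hKT.1]
    have h1 : k * τ * k⁻¹ * τ⁻¹ ∈ S.core := by
      have := mul_mem hk (S.core_conj (S.P_le_C S.memτ) (inv_mem hk))
      simpa [mul_assoc] using this
    have h3 := S.core_inf h1 (mul_mem hm (inv_mem S.memτ))
    rwa [mul_inv_eq_one, mul_inv_eq_iff_eq_mul] at h3
  have hA : S.core ⊓ centralizer ({τ} : Set G) = S.core :=
    inf_eq_left.2 fun k hk => Subgroup.mem_centralizer_singleton_iff.2 (hOτ k hk)
  have hB : Nat.card (S.core ⊓ centralizer ({σ * τ} : Set G) : Subgroup G) = 1 := by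
    rw [Subgroup.card_eq_one, Subgroup.eq_bot_iff_forall]
    rintro k ⟨hk, hk'⟩
    have h1 : Commute k (σ * τ) := Subgroup.mem_centralizer_singleton_iff.1 hk'
    have h2 : Commute k τ := hOτ k hk
    have h3 : Commute k σ := by
      have := h1.mul_right h2.inv_right
      rwa [mul_inv_cancel_right] at this
    refine eq_one_of_fixed S hna hodd hk fun p hp => ?_
    obtain ⟨i, rfl | rfl⟩ := S.elems p hp
    · exact (h3.pow_right i).eq.symm
    · exact (h2.mul_right (h3.pow_right i)).eq.symm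
  -- the equations
  have h3o : 3 ∣ Nat.card S.core := hord ▸ S.core.orderOf_dvd_natCard hy
  set o := Nat.card S.core with ho
  set N := (centralizer ({σ ^ 2} : Set G)).index with hN
  have hNodd : Odd N := by
    rw [Nat.odd_iff, ← Nat.two_dvd_ne_zero]
    exact fun hd => P.not_dvd_index (hd.trans (Subgroup.index_dvd_of_le S.P_le_C))
  have hσo : orderOf (σ * τ) = 2 := by
    refine Small.orderOf_eq_two_iff_sq.2 ⟨fun e => S.notMem ?_, ?_⟩
    · rw [eq_inv_of_mul_eq_one_right e]; exact inv_mem (mem_zpowers σ)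
    · calc σ * τ * (σ * τ) = σ * (τ * σ * τ⁻¹) * (τ * τ) := by group
        _ = 1 := by rw [S.rel, hττ, mul_one, mul_inv_cancel]
  obtain ⟨M, hM⟩ := Blocks.exists_isPModular 2 Nat.prime_two
  obtain ⟨x₀, U₀, V₀, hmod, -, -, -, hUV, e1, e2⟩ := one_class hM S
    (hone _ _ S.J_order S.ordτ) (hone _ _ S.J_order hσo)
  rw [hA, hB, ← ho, ← hN] at e1 e2
  have ho2 : 2 ≤ o := by
    have := Nat.le_of_dvd Nat.card_pos h3o
    omega
  have hcases := residual_arith ho2 S.core_odd hNodd hmod hUV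
    (by push_cast at e1 ⊢; linear_combination e1) (by push_cast at e2 ⊢; linear_combination e2)
  -- the fixed points
  have hcount : (Nat.card (R : Subgroup G) : ℤ) ∣ (N : ℤ) - 3 := by
    set Ω : Set G := {u | orderOf u = 2}
    set F : Set G := {σ ^ 2, τ, K}
    have hF3 : Nat.card F = 3 := by
      rw [Nat.card_coe_set_eq, Set.ncard_eq_three]
      exact ⟨σ ^ 2, τ, K, hJτ, hJK, hτK, rfl⟩
    have hFo : F ⊆ Ω := by
      rintro u (rfl | rfl | rfl)
      exacts [S.J_order, S.ordτ, Small.orderOf_eq_two_iff_sq.2 ⟨hK1, hKK⟩]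
    have hΩN : Nat.card Ω = N := by
      rw [hN, ← card_conjugates]
      exact Nat.card_congr (Equiv.subtypeEquivRight fun u => ⟨fun hu => hone _ _ S.J_order hu,
        fun hu => by
          obtain ⟨g, rfl⟩ := isConj_iff.1 hu
          show orderOf _ = 2
          rw [Small.orderOf_conj_eq, S.J_order]⟩)
    rw [← hΩN, show (3 : ℤ) = (Nat.card F : ℤ) by rw [hF3]; norm_num]
    refine card_dvd_sub_fixed hFo (fun g _ u hu => ?_) (fun g hg u hu => ?_) fun g hg hg1 u hu e => ?_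
    · show orderOf _ = 2
      rw [Small.orderOf_conj_eq]; exact hu
    · exact hinv3 (hRN hg) u hu
    · refine hinvT u hu (Subgroup.mem_centralizer_singleton_iff.2 ?_)
      obtain ⟨i, hi⟩ := IsPGroup.iff_orderOf.1 R.isPGroup' ⟨g, hg⟩
      rw [Subgroup.orderOf_mk] at hi
      rcases i with _ | i
      · exact absurd (orderOf_eq_one_iff.1 (by simpa using hi)) hg1
      · have hg3 : orderOf (g ^ 3 ^ i) = 3 := by
          rw [orderOf_pow, hi, Nat.gcd_eq_right (pow_dvd_pow 3 i.le_succ), pow_succ',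
            Nat.mul_div_cancel _ (pow_pos three_pos i)]
        obtain ⟨k, hk⟩ := eq_pow_of_orderOf_eq hyR (pow_mem hg (3 ^ i)) (hord.trans hg3.symm)
        rw [← hk]
        exact (((show Commute g u from mul_inv_eq_iff_eq_mul.1 e).symm.pow_right (3 ^ i)).zpow_right k).eq
  obtain ⟨i, hi⟩ := R.isPGroup'.exists_card_eq
  have hR3 : 2 ≤ i := by
    by_contra hlt
    have hR : zpowers y = (R : Subgroup G) := Subgroup.eq_of_le_of_card_ge (zpowers_le.2 hyR) (by
      rw [Nat.card_zpowers, hord, hi]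
      exact (Nat.pow_le_pow_right three_pos (show i ≤ 1 by omega)).trans (le_of_eq (pow_one 3)))
    exact hxJ ((hR ▸ zpowers_le.2 (S.core_le hy) : (R : Subgroup G) ≤ _) hxR)
  rw [hi] at hcount
  rcases hcases with ⟨ha, hb⟩ | ⟨ha, hb⟩ | ⟨ha, hb⟩
  · rw [hb] at hcount
    have : (9 : ℤ) ∣ ((105 : ℕ) : ℤ) - 3 := dvd_trans (by
      push_cast; exact pow_dvd_pow (3 : ℤ) hR3) hcount
    norm_num at this
  · omega
  · rw [hb] at hcount
    rcases Nat.lt_or_ge i 3 with hi3 | hi3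
    · obtain ⟨R', hR'⟩ := (IsPGroup.of_card (p := 3) (n := 2) (G := S.core)
        (by rw [← ho, ha]; norm_num)).exists_le_sylow
      have hR'eq : S.core = (R' : Subgroup G) := Subgroup.eq_of_le_of_card_ge hR' (by
        rw [R'.card_eq_multiplicity, ← R.card_eq_multiplicity, hi, ← ho, ha,
          show i = 2 by omega]; norm_num)
      refine not_dvd_index_of_le S R' (hR'eq ▸ S.core_le) ?_
      show 3 ∣ N
      rw [hb]; norm_num
    · have : (27 : ℤ) ∣ ((525 : ℕ) : ℤ) - 3 := dvd_trans (by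
        push_cast; exact pow_dvd_pow (3 : ℤ) hi3) hcount
      norm_num at this

end CfsgLib.SuzukiWong
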