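import Mathlib

/-!
# Suzuki–Wong: the hypotheses and the conclusion for simple groups
-/

set_option autoImplicit false

namespace CfsgLib.SuzukiWong

universe u

/-- Odd Sylow subgroups are cyclic and Sylow 2-subgroups have a cyclic subgroup of index at most 2. -/
def SylowHyp (G : Type u) [Group G] : Prop :=
  (∀ p : ℕ, p.Prime → p ≠ 2 → ∀ P : Sylow p G, IsCyclic P) ∧
    ∀ S : Sylow 2 G, ∃ C : Subgroup ↥(S : Subgroup G), IsCyclic C ∧ C.index ∣ 2

/-- The nonabelian simple groups of order at most `n` with the hypotheses are `PSL₂(p)`, `p ≥ 5`. -/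
def PSLBelow (n : ℕ) : Prop :=
  ∀ (T : Type u) [Group T] [Finite T], IsSimpleGroup T → ¬ IsMulCommutative T → SylowHyp T →
    Nat.card T ≤ n → ∃ (p : ℕ) (_ : Fact p.Prime), 5 ≤ p ∧
      Nonempty (T ≃* Matrix.ProjectiveSpecialLinearGroup (Fin 2) (ZMod p))

end CfsgLib.SuzukiWong
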