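import Mathlib

/-!
# Suzuki–Wong: the arithmetic of the Klein four case
-/

set_option autoImplicit false

namespace CfsgLib.SuzukiWong

/-- The equation `9 / a = 1 + 1 / x + 1 / y`, `a = 1 + x + y`, has no solution with `x, y` congruent
to `1` modulo `4` and different from `1`. -/
theorem klein_arith {x y : ℤ} (hx : x % 4 = 1) (hy : y % 4 = 1) (hx1 : x ≠ 1) (hy1 : y ≠ 1)
    (h : 9 * (x * y) = (1 + x + y) * (x * y + x + y)) : False := by
  rcases (show x ≤ -3 ∨ 5 ≤ x by omega) with hx' | hx' <;>
    rcases (show y ≤ -3 ∨ 5 ≤ y by omega) with hy' | hy'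
  · -- both negative: the right hand side is negative
    have h1 : 4 ≤ (x + 1) * (y + 1) := by nlinarith
    have h2 : (1 + x + y) * (x * y + x + y) < 0 :=
      mul_neg_of_neg_of_pos (by omega) (by nlinarith)
    nlinarith
  · -- mixed signs
    by_cases ha : 1 + x + y ≤ 0
    · have h2 : x * y + x + y < 0 := by nlinarith
      have h3 : 0 ≤ (1 + x + y) * (x * y + x + y) := mul_nonneg_of_nonpos_of_nonpos ha h2.le
      nlinarith
    · have h9 : 9 < 1 + x + y := by
        by_contra hle
        have hneg : x * y < 0 := by nlinarith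
        nlinarith [mul_nonneg (show (0 : ℤ) ≤ 9 - (1 + x + y) by omega) (neg_nonneg.2 hneg.le),
          mul_nonneg (show (0 : ℤ) ≤ x + y by omega) (show (0 : ℤ) ≤ 1 + x + y by omega)]
      have hb : 3 * (x + y + 3) ≤ -(x * y) := by nlinarith
      have h12 : x + y ≤ 11 := by nlinarith
      obtain rfl : y = 10 - x := by omega
      have : -5 ≤ x := by nlinarith
      interval_cases x <;> omega
  · -- mixed signs
    by_cases ha : 1 + x + y ≤ 0
    · have h2 : x * y + x + y < 0 := by nlinarith
      have h3 : 0 ≤ (1 + x + y) * (x * y + x + y) := mul_nonneg_of_nonpos_of_nonpos ha h2.le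
      nlinarith
    · have h9 : 9 < 1 + x + y := by
        by_contra hle
        have hneg : x * y < 0 := by nlinarith
        nlinarith [mul_nonneg (show (0 : ℤ) ≤ 9 - (1 + x + y) by omega) (neg_nonneg.2 hneg.le),
          mul_nonneg (show (0 : ℤ) ≤ x + y by omega) (show (0 : ℤ) ≤ 1 + x + y by omega)]
      have hb : 3 * (x + y + 3) ≤ -(x * y) := by nlinarith
      have h12 : x + y ≤ 11 := by nlinarith
      obtain rfl : x = 10 - y := by omega
      have : -5 ≤ y := by nlinarith
      interval_cases y <;> omega
  · -- both positive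
    have h1 : (0 : ℤ) < x * y := mul_pos (by omega) (by omega)
    nlinarith [mul_le_mul (show (11 : ℤ) ≤ 1 + x + y by omega) (show x * y ≤ x * y + x + y by omega)
      h1.le (by omega)]

end CfsgLib.SuzukiWong
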