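import Cfsg.Agent.SuzukiWong.TI
import Cfsg.Agent.SuzukiWong.Sections
import Cfsg.Agent.SuzukiWong.KleinArith
import Cfsg.Agent.BlocksFrobenius.KleinSetup

/-!
# Suzuki–Wong: a Klein four Sylow 2-subgroup is not centralized by an odd abelian TI subgroup

If `V` is a Klein four Sylow 2-subgroup of `G`, all involutions are conjugate, `W ≠ 1` is an abelian
subgroup of odd order centralized by `V` with `C(w) = V × W` for `w ∈ W#` and
`|N(W) : V × W| = 3`, then `G` has a nontrivial linear character.  For `λ ∈ Irr(W)#` the function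
induced from `λ × 1 - 1` has norm `4`, its three principal block coefficients are forced, and the
involution pairs give `9 / a = 1 + 1 / x + 1 / y` with `a = 1 + x + y`, which is impossible.
-/

set_option autoImplicit false
set_option linter.unusedSectionVars false
set_option linter.style.haveILetI false

namespace CfsgLib.SuzukiWong

open Cfsg CfsgLib.Characters CfsgLib.Blocks CfsgLib.PrincipalBlock CfsgLib.CharactersDeep.ClassPairs
open scoped ComplexConjugate

universe u

variable {G : Type u} [Group G]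

/-- The inner product of two linear characters minus one. -/
theorem inner_sub_one {K : Type*} [Group K] [Fintype K] (a b : K →* ℂˣ) :
    classInner (fun k => (a k : ℂ) - 1) (fun k => (b k : ℂ) - 1) =
      classInner (fun k => (a k : ℂ)) (fun k => (b k : ℂ)) -
        classInner (fun k => (a k : ℂ)) (fun _ => 1) -
        classInner (fun _ => 1) (fun k => (b k : ℂ)) + classInner (fun _ : K => (1 : ℂ)) (fun _ => 1) := by
  simp only [classInner, ← mul_sub, ← mul_add, ← Finset.sum_sub_distrib, ← Finset.sum_add_distrib,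
    map_sub, map_one]
  congr 1
  refine Finset.sum_congr rfl fun k _ => ?_
  ring

theorem inner_lin_ne {K : Type*} [Group K] [Fintype K] {a b : K →* ℂˣ} (h : a ≠ b) :
    classInner (fun k => (a k : ℂ)) (fun k => (b k : ℂ)) = 0 :=
  classInner_isIrr_ne (isIrr_linChar a) (isIrr_linChar b) fun e =>
    h (MonoidHom.ext fun k => Units.ext (congrFun e k))

theorem inner_lin_one {K : Type*} [Group K] [Fintype K] {a : K →* ℂˣ} (h : a ≠ 1) :
    classInner (fun k => (a k : ℂ)) (fun _ => 1) = 0 ∧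
      classInner (fun _ : K => (1 : ℂ)) (fun k => (a k : ℂ)) = 0 := by
  have e : (fun k : K => ((1 : K →* ℂˣ) k : ℂ)) = fun _ => 1 := funext fun _ => by simp
  exact ⟨e ▸ inner_lin_ne h, e ▸ inner_lin_ne h.symm⟩

variable [Fintype G] {M₀ : Ideal AlgInt}

open Classical in
set_option maxHeartbeats 1000000 in
/-- **The Klein four case.** -/
theorem klein_case (hM : Cfsg.IsPModular 2 M₀) (P : Sylow 2 G) (hP : IsKleinFour (P : Subgroup G))
    (hone : ∀ s t : G, orderOf s = 2 → orderOf t = 2 → IsConj s t)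
    (hlin : ∀ χ : IrrCharacter G, (χ : G → ℂ) 1 = 1 → χ = trivChar G)
    (W H : Subgroup G) (hW1 : W ≠ ⊥) (hWodd : Odd (Nat.card W))
    (hWc : ∀ x ∈ W, ∀ y ∈ W, x * y = y * x)
    (hVW : ∀ v ∈ (P : Subgroup G), ∀ x ∈ W, v * x = x * v)
    (hH : ∀ g, g ∈ H ↔ ∃ v ∈ (P : Subgroup G), ∃ x ∈ W, g = v * x)
    (hC : ∀ x ∈ W, x ≠ 1 → Subgroup.centralizer ({x} : Set G) = H)
    (h3 : Nat.card (Subgroup.normalizer (W : Set G)) = 3 * Nat.card H) : False := by
  haveI : Fact (Nat.Prime 2) := ⟨Nat.prime_two⟩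
  haveI : M₀.IsPrime := Blocks.IsPModular.isPrime hM
  set e := Nat.card W + 1 with he
  have hVpow : ∀ v ∈ (P : Subgroup G), v ^ e = 1 := fun v hv => by
    obtain ⟨k, hk⟩ := hWodd
    rw [show e = 2 * (k + 1) by omega, pow_mul, sq, Small.kleinFour_mul_self hP hv, one_pow]
  have hWpow : ∀ x ∈ W, x ^ e = x := fun x hx => by
    rw [he, pow_succ, orderOf_dvd_iff_pow_eq_one.1 (W.orderOf_dvd_natCard hx), one_mul]
  have hWH : W ≤ H := fun x hx => (hH x).2 ⟨1, one_mem _, x, hx, (one_mul x).symm⟩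
  have hPH : (P : Subgroup G) ≤ H := fun v hv => (hH v).2 ⟨v, hv, 1, one_mem _, (mul_one v).symm⟩
  have hsplit : ∀ g ∈ H, ∃ v ∈ (P : Subgroup G), g = v * g ^ e ∧ g ^ e ∈ W := by
    intro g hg
    obtain ⟨v, hv, x, hx, rfl⟩ := (hH g).1 hg
    have h : (v * x) ^ e = x := by
      rw [(show Commute v x from hVW v hv x hx).mul_pow, hVpow v hv, hWpow x hx, one_mul]
    exact ⟨v, hv, by rw [h], by rw [h]; exact hx⟩
  have hHc : ∀ a ∈ H, ∀ b ∈ H, Commute a b := by
    intro a ha b hb
    obtain ⟨v, hv, x, hx, rfl⟩ := (hH a).1 ha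
    obtain ⟨v', hv', x', hx', rfl⟩ := (hH b).1 hb
    have c1 : Commute v v' := Small.kleinFour_comm hP hv hv'
    have c2 : Commute v x' := hVW v hv x' hx'
    have c3 : Commute x v' := (hVW v' hv' x hx).symm
    have c4 : Commute x x' := hWc x hx x' hx'
    exact (c1.mul_right c2).mul_left (c3.mul_right c4)
  have hWmem : ∀ g ∈ H, g ^ Nat.card W = 1 → g ∈ W := fun g hg h => by
    obtain ⟨v, -, -, hW⟩ := hsplit g hg
    rwa [he, pow_succ, h, one_mul] at hW
  -- mapping of `W` by an element moving one element of `W#` into `W`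
  have hmaps : ∀ g u : G, u ∈ W → u ≠ 1 → g * u * g⁻¹ ∈ W → ∀ x ∈ W, g * x * g⁻¹ ∈ W := by
    intro g u hu hu1 hu' x hx
    refine hWmem _ ?_ (by rw [conj_pow, orderOf_dvd_iff_pow_eq_one.1 (W.orderOf_dvd_natCard hx),
      mul_one, mul_inv_cancel])
    rw [← hC _ hu' (by simpa using hu1), Subgroup.mem_centralizer_singleton_iff]
    calc g * x * g⁻¹ * (g * u * g⁻¹) = g * (x * u) * g⁻¹ := by group
      _ = g * (u * x) * g⁻¹ := by rw [hWc x hx u hu]
      _ = g * u * g⁻¹ * (g * x * g⁻¹) := by group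
  set M := Subgroup.normalizer (W : Set G) with hMdef
  set D : Set G := {z | z ∈ H ∧ z ^ e ≠ 1} with hDdef
  have hMfus : ∀ z ∈ D, ∀ g : G, g * z * g⁻¹ ∈ D → g ∈ M := by
    rintro z ⟨hz, hz1⟩ g ⟨hz', -⟩
    obtain ⟨-, -, -, hu⟩ := hsplit z hz
    obtain ⟨-, -, -, hu'⟩ := hsplit _ hz'
    rw [conj_pow] at hu'
    rw [Subgroup.mem_normalizer_iff]
    refine fun x => ⟨hmaps g _ hu hz1 hu' x, fun hx => ?_⟩
    have := hmaps g⁻¹ _ hu' (by simpa using hz1) (by simpa [mul_assoc] using hu) _ hx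
    simpa [mul_assoc] using this
  obtain ⟨x₀, hx₀, hx₀1⟩ : ∃ x ∈ W, x ≠ 1 := by
    by_contra hno
    push Not at hno
    exact hW1 ((Subgroup.eq_bot_iff_forall _).2 hno)
  have hnormal : ∀ m ∈ M, ∀ h ∈ H, m * h * m⁻¹ ∈ H := by
    intro m hm h hh
    have hy : m * x₀ * m⁻¹ ∈ W := (Subgroup.mem_normalizer_iff.1 hm x₀).1 hx₀
    rw [← hC _ hy (by simpa using hx₀1), Subgroup.mem_centralizer_singleton_iff]
    calc m * h * m⁻¹ * (m * x₀ * m⁻¹) = m * (h * x₀) * m⁻¹ := by group
      _ = m * (x₀ * h) * m⁻¹ := by rw [(hHc h hh x₀ (hWH hx₀)).eq]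
      _ = m * x₀ * m⁻¹ * (m * h * m⁻¹) := by group
  have hHM : H ≤ M := fun h hh => by
    rw [hMdef, Subgroup.mem_normalizer_iff]
    intro x
    constructor
    · intro hx
      rw [(hHc h hh x (hWH hx)).eq, mul_inv_cancel_right]; exact hx
    · intro hx
      have hc := (hHc h hh _ (hWH hx)).eq
      have : x = h * x * h⁻¹ := by
        calc x = h⁻¹ * (h * x * h⁻¹ * h) := by group
          _ = h⁻¹ * (h * (h * x * h⁻¹)) := by rw [hc]
          _ = h * x * h⁻¹ := by group
      rwa [this]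
  have T : TI M H D :=
    { le := hHM
      normal := hnormal
      sub := fun z hz => hz.1
      stable := fun m hm z hz => ⟨hnormal m hm z hz.1, by
        rw [conj_pow]; exact fun h => hz.2 (conj_eq_one_iff.1 h)⟩
      fusion := hMfus }
  -- the linear character
  haveI : Fintype H := Fintype.ofFinite H
  letI : CommGroup W :=
    { (inferInstance : Group W) with mul_comm := fun a b => Subtype.ext (hWc a a.2 b b.2) }
  haveI : Nontrivial W := (Subgroup.nontrivial_iff_ne_bot W).2 hW1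
  obtain ⟨w₀, hw₀⟩ := exists_ne (1 : W)
  obtain ⟨lam₀, hlam₀⟩ := CommGroup.exists_apply_ne_one_of_hasEnoughRootsOfUnity W ℂ hw₀
  let π : H →* W :=
    { toFun := fun h => ⟨(h : G) ^ e, (hsplit h h.2).choose_spec.2.2⟩
      map_one' := Subtype.ext (one_pow e)
      map_mul' := fun a b => Subtype.ext ((hHc a a.2 b b.2).mul_pow e) }
  set lam : H →* ℂˣ := lam₀.comp π with hlamdef
  have hlam_apply : ∀ (h : H) (x : W), (h : G) ^ e = x → lam h = lam₀ x := fun h x hx => by
    show lam₀ (π h) = lam₀ x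
    congr 1
    exact Subtype.ext hx
  have hlam1 : lam ≠ 1 := fun h => hlam₀ (by
    rw [← hlam_apply ⟨w₀, hWH w₀.2⟩ w₀ (hWpow _ w₀.2), h]; rfl)
  set α : H → ℂ := fun h => (lam h : ℂ) - 1 with hα
  have hsupp : SuppOn D α := fun h hh => by
    have h1 : (h : G) ^ e = ((1 : W) : G) := by
      by_contra hne; exact hh ⟨h.2, hne⟩
    simp [hα, hlam_apply h 1 h1]
  have hαgen : IsGeneralizedCharacter H α :=
    isGen_sub (isGen_of_isIrr (isIrr_linChar lam)) isGen_one
  -- conjugates of the linear character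
  have hconj : ∀ g : G, (hg : g ∈ M) → ∃ μ : H →* ℂˣ, μ ≠ 1 ∧
      conjOn H g α = (fun h => (μ h : ℂ) - 1) ∧ (μ = lam ↔ g ∈ H) := by
    intro g hg
    let c : H →* H :=
      { toFun := fun h => ⟨g⁻¹ * h * g, by simpa using hnormal g⁻¹ (inv_mem hg) h h.2⟩
        map_one' := Subtype.ext (by simp)
        map_mul' := fun a b => Subtype.ext (by simp [mul_assoc]) }
    refine ⟨lam.comp c, ?_, ?_, ?_⟩
    · intro h
      refine hlam1 (MonoidHom.ext fun k => ?_)
      have := DFunLike.congr_fun h ⟨g * k * g⁻¹, hnormal g hg k k.2⟩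
      simpa [c, mul_assoc] using this
    · funext h
      show extendByZero H α (g⁻¹ * (h : G) * g) = _
      rw [extendByZero_of_mem H α (by simpa using hnormal g⁻¹ (inv_mem hg) h h.2)]
      rfl
    constructor
    · intro h
      by_contra hgH
      have hin : ∀ x : W, g⁻¹ * (x : G) * g ∈ W := fun x => by
        have := (Subgroup.mem_normalizer_iff.1 (inv_mem hg) (x : G)).1 x.2
        simpa using this
      let φ : W →* W :=
        { toFun := fun x => x⁻¹ * ⟨g⁻¹ * (x : G) * g, hin x⟩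
          map_one' := by
            refine Subtype.ext ?_
            simp
          map_mul' := fun a b => by
            have : (⟨g⁻¹ * ((a * b : W) : G) * g, hin _⟩ : W) =
                ⟨g⁻¹ * (a : G) * g, hin a⟩ * ⟨g⁻¹ * (b : G) * g, hin b⟩ :=
              Subtype.ext (by simp [mul_assoc])
            rw [this, mul_inv, mul_mul_mul_comm] }
      have hinj : Function.Injective φ := (injective_iff_map_eq_one φ).2 fun x hx => by
        by_contra hx1
        have h2 : (x : G) = g⁻¹ * (x : G) * g := congrArg Subtype.val (inv_mul_eq_one.1 hx)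
        refine hgH (hC x x.2 (fun h1 => hx1 (Subtype.ext h1)) ▸
          Subgroup.mem_centralizer_singleton_iff.2 ?_)
        conv_lhs => rw [h2]
        group
      obtain ⟨x, hx⟩ := Finite.injective_iff_surjective.1 hinj w₀
      apply hlam₀
      rw [← hx]
      show lam₀ (x⁻¹ * _) = 1
      rw [map_mul, map_inv, inv_mul_eq_one,
        ← hlam_apply ⟨x, hWH x.2⟩ x (hWpow _ x.2),
        ← hlam_apply ⟨g⁻¹ * (x : G) * g, hWH (hin x)⟩ ⟨g⁻¹ * (x : G) * g, hin x⟩ (hWpow _ (hin x))]
      exact (DFunLike.congr_fun h ⟨x, hWH x.2⟩).symm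
    · intro hgH
      ext h
      show (lam (c h) : ℂ) = lam h
      congr 2
      refine Subtype.ext ?_
      show g⁻¹ * (h : G) * g = h
      rw [mul_assoc, ← (hHc g hgH h h.2).eq, inv_mul_cancel_left]
  -- the induced function
  set f := indFun H α with hf
  have hfgen : IsGeneralizedCharacter G f := isGen_indFun H hαgen
  have hnorm : classInner f f = (4 : ℤ) := by
    rw [hf, T.inner hsupp hsupp]
    have hval : ∀ g : G, (if g ∈ M then classInner α (conjOn H g α) else 0) =
        (if g ∈ M then (1 : ℂ) else 0) + if g ∈ H then (1 : ℂ) else 0 := by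
      intro g
      by_cases hg : g ∈ M
      · obtain ⟨μ, hμ1, hμc, hμl⟩ := hconj g hg
        rw [if_pos hg, if_pos hg, hμc, hα, inner_sub_one, (inner_lin_one hlam1).1,
          (inner_lin_one hμ1).2, classInner_isIrr_self isIrr_one]
        by_cases hgH : g ∈ H
        · rw [if_pos hgH, hμl.2 hgH, classInner_isIrr_self (isIrr_linChar lam)]; ring
        · rw [if_neg hgH, inner_lin_ne fun h => hgH (hμl.1 h.symm)]; ring
      · rw [if_neg hg, if_neg hg, if_neg fun h => hg (T.le h), add_zero]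
    rw [Finset.sum_congr rfl fun g _ => hval g, Finset.sum_add_distrib, Finset.sum_boole,
      Finset.sum_boole, ← Fintype.card_subtype, ← Fintype.card_subtype, ← Nat.card_eq_fintype_card,
      ← Nat.card_eq_fintype_card]
    change (Nat.card H : ℂ)⁻¹ * ((Nat.card M : ℂ) + (Nat.card H : ℂ)) = _
    rw [h3]
    have : (Nat.card H : ℂ) ≠ 0 := subgroup_card_ne_zero H
    push_cast
    field_simp
    norm_num
  have hvanish : ∀ z : G, (∀ x : G, x⁻¹ * z * x ∉ D) → f z = 0 := fun z hz => by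
    simp only [hf, indFun]
    rw [Finset.sum_eq_zero fun x _ => ext_supp hsupp (hz x), mul_zero]
  have hsqD : ∀ y : G, y * y = 1 → y ∉ D := fun y hy hyD => hyD.2 (by
    obtain ⟨k, hk⟩ := hWodd
    rw [show e = 2 * (k + 1) by omega, pow_mul, sq, hy, one_pow])
  have hsq0 : ∀ z : G, z * z = 1 → f z = 0 := fun z hz => hvanish z fun x => hsqD _ (by
    rw [show x⁻¹ * z * x * (x⁻¹ * z * x) = x⁻¹ * (z * z) * x by group, hz, mul_one,
      inv_mul_cancel])
  obtain ⟨t, htP, ht1⟩ : ∃ t ∈ (P : Subgroup G), t ≠ 1 := by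
    by_contra hno
    push Not at hno
    have h4 : Nat.card (P : Subgroup G) = 4 := hP.card_four
    rw [show (P : Subgroup G) = ⊥ from (Subgroup.eq_bot_iff_forall _).2 hno, Subgroup.card_bot] at h4
    omega
  have htt : t * t = 1 := Small.kleinFour_mul_self hP htP
  have hto : orderOf t = 2 := Small.orderOf_eq_two_iff_sq.2 ⟨ht1, htt⟩
  -- no pair of involutions has product conjugate into `D`
  have hpairs0 : ∀ i j : G, IsConj t i → IsConj t j → f (i * j) = 0 := by
    intro i j hi hj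
    refine hvanish _ fun x hy => ?_
    have hi2 : x⁻¹ * i * x * (x⁻¹ * i * x) = 1 := by
      rw [show x⁻¹ * i * x * (x⁻¹ * i * x) = x⁻¹ * (i * i) * x by group,
        mul_self_of_isConj htt hi, mul_one, inv_mul_cancel]
    have hj2 : x⁻¹ * j * x * (x⁻¹ * j * x) = 1 := by
      rw [show x⁻¹ * j * x * (x⁻¹ * j * x) = x⁻¹ * (j * j) * x by group,
        mul_self_of_isConj htt hj, mul_one, inv_mul_cancel]
    rw [show x⁻¹ * (i * j) * x = x⁻¹ * i * x * (x⁻¹ * j * x) by group] at hy
    generalize x⁻¹ * i * x = i' at hy hi2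
    generalize x⁻¹ * j * x = j' at hy hj2
    have hinv : i' * (i' * j') * i'⁻¹ = (i' * j')⁻¹ := by
      rw [mul_inv_rev, inv_eq_of_mul_eq_one_right hi2, inv_eq_of_mul_eq_one_right hj2,
        ← mul_assoc i', hi2, one_mul]
    have hyi : (i' * j')⁻¹ ∈ D := ⟨inv_mem hy.1, by rw [inv_pow]; exact inv_ne_one.2 hy.2⟩
    have hiM : i' ∈ M := T.fusion _ hy i' (hinv.symm ▸ hyi)
    haveI : (H.subgroupOf M).Normal := ⟨fun a ha m => hnormal m m.2 a ha⟩
    have hidx : (H.subgroupOf M).index = 3 := by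
      have h := (H.subgroupOf M).index_mul_card
      rw [Nat.card_congr (Subgroup.subgroupOfEquivOfLe hHM).toEquiv, h3] at h
      exact Nat.eq_of_mul_eq_mul_right Nat.card_pos h
    have hi3 : i' ∈ H := by
      have h := (H.subgroupOf M).pow_index_mem ⟨i', hiM⟩
      rw [hidx, Subgroup.mem_subgroupOf, SubmonoidClass.coe_pow] at h
      simpa [pow_succ, hi2] using h
    rw [(hHc i' hi3 _ hy.1).eq, mul_inv_cancel_right] at hinv
    exact hsqD _ (mul_eq_one_iff_eq_inv.2 hinv) hy
  -- principal block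
  obtain ⟨L, hLC, hLodd, hLn, hdec⟩ := BlocksFrobenius.Klein.exists_complement P hP htP ht1
  haveI : Fintype L := Fintype.ofFinite L
  have hLi : (L.subgroupOf (Subgroup.centralizer ({t} : Set G))).index = 2 ^ 2 := by
    have hcard : Nat.card (Subgroup.centralizer ({t} : Set G)) = Nat.card L * 4 := by
      have h4 : Nat.card (P : Subgroup G) = 4 := hP.card_four
      rw [← h4, ← Nat.card_prod]
      have hPC : ∀ q : (P : Subgroup G), (q : G) ∈ Subgroup.centralizer ({t} : Set G) := fun q =>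
        Subgroup.mem_centralizer_singleton_iff.2 (Small.kleinFour_comm hP q.2 htP)
      symm
      refine Nat.card_eq_of_bijective (fun p : L × (P : Subgroup G) =>
        (⟨(p.1 : G) * p.2, mul_mem (hLC p.1.2) (hPC p.2)⟩ : Subgroup.centralizer ({t} : Set G)))
        ⟨fun p q hpq => ?_, fun c => ?_⟩
      · have hh := congrArg Subtype.val hpq
        have := (hdec _ (mul_mem (hLC p.1.2) (hPC p.2))).unique
          (y₁ := ((p.1 : G), (p.2 : G))) (y₂ := ((q.1 : G), (q.2 : G)))
          ⟨p.1.2, p.2.2, rfl⟩ ⟨q.1.2, q.2.2, hh⟩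
        obtain ⟨a, b⟩ := Prod.ext_iff.1 this
        exact Prod.ext (Subtype.ext a) (Subtype.ext b)
      · obtain ⟨p, ⟨hp1, hp2, hp⟩, -⟩ := hdec c c.2
        exact ⟨(⟨p.1, hp1⟩, ⟨p.2, hp2⟩), Subtype.ext hp.symm⟩
    have h := (L.subgroupOf (Subgroup.centralizer ({t} : Set G))).index_mul_card
    rw [Nat.card_congr (Subgroup.subgroupOfEquivOfLe hLC).toEquiv, hcard,
      mul_comm (Nat.card L) 4] at h
    exact Nat.eq_of_mul_eq_mul_right Nat.card_pos h
  have hPC : (P : Subgroup G) ≤ Subgroup.centralizer ({t} : Set G) := fun q hq =>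
    Subgroup.mem_centralizer_singleton_iff.2 (Small.kleinFour_comm hP hq htP)
  have hsum4 := sum_sq_invol hM hto L hLC hLn
    (Nat.two_dvd_ne_zero.2 (Nat.odd_iff.1 hLodd)) hLi
  obtain ⟨s, B, hBcard, htriv, hB, hs⟩ := exists_four hM P htt hPC (by rw [hsum4]; norm_num)
  set B0 : Finset (IrrCharacter G) := insert (trivChar G) B with hB0
  have hmemB0 : ∀ χ, χ ∈ B0 ↔ χ ∈ Cfsg.principalBlock M₀ G := fun χ => by
    rw [hB, hB0, Finset.mem_insert]
  have hst : s (trivChar G) = 1 := by
    have h := (hs _ trivChar_mem).1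
    rw [trivChar_apply] at h
    exact_mod_cast h.symm
  -- values on the mixed elements
  have hvalue : ∀ χ ∈ B0, ∀ v ∈ (P : Subgroup G), v ≠ 1 → ∀ x ∈ W,
      (χ : G → ℂ) (v * x) = s χ := by
    intro χ hχ v hv hv1 x hx
    obtain ⟨Lv, hLvC, hLvodd, hLvn, hdecv⟩ := BlocksFrobenius.Klein.exists_complement P hP hv hv1
    have hvo : orderOf v = 2 :=
      Small.orderOf_eq_two_iff_sq.2 ⟨hv1, Small.kleinFour_mul_self hP hv⟩
    have hxC : x ∈ Subgroup.centralizer ({v} : Set G) :=
      Subgroup.mem_centralizer_singleton_iff.2 (hVW v hv x hx).symm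
    have hxL : x ∈ Lv := by
      obtain ⟨p, ⟨hp1, hp2, hp⟩, -⟩ := hdecv x hxC
      have hp2x : p.2 * x = x * p.2 := hVW _ hp2 x hx
      have hp1c : Commute p.1 p.2 := by
        have : p.1 = x * p.2⁻¹ := by rw [hp]; group
        rw [this]
        exact (Commute.mul_left (hp2x.symm) ((Commute.refl p.2).inv_left))
      have := congrArg (· ^ Nat.card W) hp
      simp only [orderOf_dvd_iff_pow_eq_one.1 (W.orderOf_dvd_natCard hx), hp1c.mul_pow] at this
      have hp2W : p.2 ^ Nat.card W = p.2 := by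
        obtain ⟨k, hk⟩ := hWodd
        rw [hk, pow_succ, pow_mul, sq, Small.kleinFour_mul_self hP hp2, one_pow, one_mul]
      rw [hp2W, eq_comm, mul_eq_one_iff_inv_eq] at this
      have hp2L : p.2 ∈ Lv := this ▸ inv_mem (pow_mem hp1 _)
      rw [BlocksFrobenius.Klein.eq_one_of_mem_both P hP hv hv1 hLvC hLvodd hLvn hdecv hp2L hp2,
        mul_one] at hp
      exact hp ▸ hp1
    rw [apply_mul_core hM ⟨1, by rw [hvo, pow_one]⟩ Lv hLvC hLvn
      (Nat.two_dvd_ne_zero.2 (Nat.odd_iff.1 hLvodd)) ((hmemB0 χ).1 hχ) hxL]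
    obtain ⟨g, hg⟩ := isConj_iff.1 (hone t v hto hvo)
    rw [← hg, (isClassFunction_of_isIrr χ.2) t g, (hs χ ((hmemB0 χ).1 hχ)).1]
  -- the coefficients
  set c := fun χ : IrrCharacter G => cof f χ with hc
  have hcH : ∀ χ : IrrCharacter G, (c χ : ℂ) =
      (Nat.card H : ℂ)⁻¹ * ∑ h : H, α h * conj ((χ : G → ℂ) h) := fun χ => by
    rw [hc, ← classInner_eq_cof hfgen χ, hf,
      classInner_indFun H α (isClassFunction_of_isIrr χ.2)]
    rfl
  have hαsum : ∑ h : H, α h = -(Nat.card H : ℂ) := by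
    have h0 := (inner_lin_one hlam1).1
    simp only [classInner, map_one, mul_one, mul_eq_zero, inv_eq_zero] at h0
    rw [hα, Finset.sum_sub_distrib,
      h0.resolve_left (subgroup_card_ne_zero H), Finset.sum_const, Finset.card_univ,
      ← Nat.card_eq_fintype_card]
    simp
  have hctriv : c (trivChar G) = -1 := by
    have h := hcH (trivChar G)
    simp only [trivChar_apply, map_one, mul_one, hαsum, mul_neg,
      inv_mul_cancel₀ (subgroup_card_ne_zero H)] at h
    exact_mod_cast h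
  have hαW : ∑ h : H, (if (h : G) ∈ W then α h else 0) = -(Nat.card W : ℂ) := by
    rw [← Finset.sum_filter, Finset.sum_bij' (t := (Finset.univ : Finset W))
      (g := fun x => (lam₀ x : ℂ) - 1)
      (fun h hh => (⟨h.1, (Finset.mem_filter.1 hh).2⟩ : W)) (fun x _ => (⟨x.1, hWH x.2⟩ : H))
      (fun _ _ => Finset.mem_univ _)
      (fun x _ => Finset.mem_filter.2 ⟨Finset.mem_univ _, x.2⟩) (fun _ _ => rfl) (fun _ _ => rfl)
      (fun h hh => by
        rw [hα]
        show (lam h : ℂ) - 1 = _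
        rw [hlam_apply h ⟨h.1, (Finset.mem_filter.1 hh).2⟩ (hWpow _ (Finset.mem_filter.1 hh).2)])]
    have hne : lam₀ ≠ 1 := fun h => hlam₀ (by rw [h]; rfl)
    have h0 := (inner_lin_one hne).1
    simp only [classInner, map_one, mul_one, mul_eq_zero, inv_eq_zero] at h0
    rw [Finset.sum_sub_distrib, h0.resolve_left (subgroup_card_ne_zero W), Finset.sum_const,
      Finset.card_univ, ← Nat.card_eq_fintype_card]
    simp
  have hcardH : Nat.card H = 4 * Nat.card W := by
    have h4 : Nat.card (P : Subgroup G) = 4 := hP.card_four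
    rw [← h4, ← Nat.card_prod]
    refine (Nat.card_eq_of_bijective (fun p : ↥(P : Subgroup G) × ↥W =>
      (⟨(p.1 : G) * p.2, mul_mem (hPH p.1.2) (hWH p.2.2)⟩ : H)) ⟨fun p q hpq => ?_, fun g => ?_⟩).symm
    · have hh : (p.1 : G) * p.2 = q.1 * q.2 := congrArg Subtype.val hpq
      have h2 : (p.2 : G) = q.2 := by
        have := congrArg (· ^ e) hh
        simpa only [(show Commute (p.1 : G) p.2 from hVW _ p.1.2 _ p.2.2).mul_pow,
          (show Commute (q.1 : G) q.2 from hVW _ q.1.2 _ q.2.2).mul_pow, hVpow _ p.1.2,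
          hVpow _ q.1.2, hWpow _ p.2.2, hWpow _ q.2.2, one_mul] using this
      rw [h2] at hh
      exact Prod.ext (Subtype.ext (mul_right_cancel hh)) (Subtype.ext h2)
    · obtain ⟨v, hv, x, hx, hg⟩ := (hH g).1 g.2
      exact ⟨(⟨v, hv⟩, ⟨x, hx⟩), Subtype.ext hg.symm⟩
  have hsc : ∑ χ ∈ B0, s χ * c χ = -3 := by
    apply Int.cast_injective (α := ℂ)
    push_cast
    rw [Finset.sum_congr rfl fun χ _ => by rw [hcH, mul_left_comm, Finset.mul_sum]]
    rw [← Finset.mul_sum, Finset.sum_comm]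
    have hin : ∀ h : H, ∑ χ ∈ B0, (s χ : ℂ) * (α h * conj ((χ : G → ℂ) h)) =
        4 * α h - 4 * if (h : G) ∈ W then α h else 0 := by
      intro h
      obtain ⟨v, hv, hh, hxW⟩ := hsplit h h.2
      by_cases hv1 : v = 1
      · have hhW : (h : G) ∈ W := by rw [hh, hv1, one_mul]; exact hxW
        rw [if_pos hhW, sub_self]
        have h0 := sum_union_mul_conj_eq_zero hM
          (Blocks.isBlockUnion_of_isPBlock (isPBlock_principalBlock (G := G) (M := M₀)))
          (x := (h : G)) (y := t)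
          (fun h2 => by
            have := (h2.trans (W.orderOf_dvd_natCard hhW))
            obtain ⟨k, hk⟩ := hWodd
            omega) (by rw [hto])
        rw [Finset.sum_congr rfl (g := fun χ : IrrCharacter G => α h * conj ((χ : G → ℂ) h *
          conj ((χ : G → ℂ) t))) fun χ hχ => by
            rw [(hs χ ((hmemB0 χ).1 hχ)).1, map_mul, map_intCast, map_intCast]; ring,
          ← Finset.mul_sum, ← map_sum]
        rw [← Finset.sum_filter,
          show Finset.univ.filter (fun χ => χ ∈ Cfsg.principalBlock M₀ G) = B0 from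
            Finset.ext fun χ => by simp [hmemB0]] at h0
        rw [h0, map_zero, mul_zero]
      · have hhW : (h : G) ∉ W := fun hW => hv1 (by
          have h2 : v = (h : G) * ((h : G) ^ e)⁻¹ := by
            conv_rhs => rw [hh]
            rw [← hh, eq_mul_inv_iff_mul_eq, ← hh]
          rw [h2, hWpow _ hW, mul_inv_cancel])
        rw [if_neg hhW, mul_zero, sub_zero, Finset.sum_congr rfl
          (g := fun χ => α h * ((s χ : ℂ) ^ 2)) fun χ hχ => by
            rw [hh, hvalue χ hχ v hv hv1 _ hxW, map_intCast]; ring,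
          ← Finset.mul_sum, mul_comm]
        congr 1
        have hone' : ∀ χ ∈ B0, (s χ : ℂ) ^ 2 = 1 := fun χ hχ => by
          rcases (hs χ ((hmemB0 χ).1 hχ)).2 with h' | h' <;> rw [h'] <;> norm_num
        rw [Finset.sum_congr rfl hone', Finset.sum_const, hB0,
          Finset.card_insert_of_notMem htriv, hBcard]
        norm_num
    rw [Finset.sum_congr rfl fun h _ => hin h, Finset.sum_sub_distrib, ← Finset.mul_sum,
      ← Finset.mul_sum, hαsum, hαW, hcardH]
    have : (Nat.card W : ℂ) ≠ 0 := subgroup_card_ne_zero W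
    push_cast
    field_simp
    ring
  rw [hB0, Finset.sum_insert htriv, hst, hctriv] at hsc
  have hsq := sum_cof_sq hfgen hnorm
  change ∑ χ : IrrCharacter G, c χ ^ 2 = 4 at hsq
  rw [← Finset.sum_add_sum_compl B0, hB0, Finset.sum_insert htriv, hctriv, ← hB0] at hsq
  obtain ⟨X, Y, Z, hXY, hXZ, hYZ, rfl⟩ := Finset.card_eq_three.1 hBcard
  rw [Finset.sum_insert (by simp [hXY, hXZ]), Finset.sum_insert (by simp [hYZ]),
    Finset.sum_singleton] at hsc hsq
  have hR0 : 0 ≤ ∑ χ ∈ B0ᶜ, c χ ^ 2 := Finset.sum_nonneg fun _ _ => sq_nonneg _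
  have hmB : ∀ χ, χ = X ∨ χ = Y ∨ χ = Z → χ ∈ B0 := fun χ h => by
    rw [hB0, Finset.mem_insert, Finset.mem_insert, Finset.mem_insert, Finset.mem_singleton]
    exact Or.inr h
  have hse : ∀ χ ∈ B0, s χ * s χ = 1 := fun χ hχ => by
    rcases (hs χ ((hmemB0 χ).1 hχ)).2 with h | h <;> rw [h] <;> norm_num
  have hcsq : ∀ χ ∈ B0, c χ ^ 2 = (s χ * c χ) ^ 2 := fun χ hχ => by
    rw [mul_pow, sq (s χ), hse χ hχ, one_mul]
  rw [hcsq X (hmB _ (Or.inl rfl)), hcsq Y (hmB _ (Or.inr (Or.inl rfl))),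
    hcsq Z (hmB _ (Or.inr (Or.inr rfl)))] at hsq
  -- the final step for a given pair
  suffices fin : ∀ A A' A'' : IrrCharacter G, A ≠ A' → A ≠ A'' → A' ≠ A'' →
      B0 = {trivChar G, A, A', A''} → s A * c A = -1 → s A' * c A' = -1 → c A'' = 0 →
      ∑ χ ∈ B0ᶜ, c χ ^ 2 = 1 → False by
    have hbound : ∀ a : ℤ, a ^ 2 ≤ 3 → a = -1 ∨ a = 0 ∨ a = 1 := fun a ha => by
      have : -2 < a ∧ a < 2 := by constructor <;> nlinarith
      omega
    have hZ0 : ∀ χ ∈ B0, s χ * c χ = 0 → c χ = 0 := fun χ hχ h => by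
      rcases (hs χ ((hmemB0 χ).1 hχ)).2 with h' | h' <;> rw [h'] at h <;> omega
    rcases hbound (s X * c X) (by nlinarith) with hx | hx | hx <;>
      rcases hbound (s Y * c Y) (by nlinarith) with hy | hy | hy <;>
      rcases hbound (s Z * c Z) (by nlinarith) with hz | hz | hz <;>
      rw [hx, hy, hz] at hsc hsq <;> (try omega) <;> norm_num at hsq
    · exact fin X Y Z hXY hXZ hYZ rfl hx hy (hZ0 Z (hmB _ (Or.inr (Or.inr rfl))) hz) (by linarith)
    · exact fin X Z Y hXZ hXY hYZ.symm (by rw [hB0]; ext; simp; tauto) hx hz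
        (hZ0 Y (hmB _ (Or.inr (Or.inl rfl))) hy) (by linarith)
    · exact fin Y Z X hYZ hXY.symm hXZ.symm (by rw [hB0]; ext; simp; tauto) hy hz
        (hZ0 X (hmB _ (Or.inl rfl)) hx) (by linarith)
  intro A A' A'' h1 h2 h3' hB0e hA hA' hA'' hrest
  obtain ⟨F, hF, hFne⟩ : ∃ F ∈ B0ᶜ, c F ≠ 0 := by
    by_contra hno
    push Not at hno
    rw [Finset.sum_eq_zero fun χ hχ => by rw [hno χ hχ]; rfl] at hrest
    norm_num at hrest
  have hF1 : c F * c F = 1 := by
    have hle := Finset.single_le_sum (f := fun χ => c χ ^ 2) (fun _ _ => sq_nonneg _) hF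
    beta_reduce at hle
    rw [hrest, sq] at hle
    have : 0 < c F * c F := mul_self_pos.2 hFne
    omega
  have hother : ∀ χ ∈ B0ᶜ, χ ≠ F → c χ = 0 := fun χ hχ hne => by
    have := Finset.add_sum_erase (B0ᶜ) (fun χ => c χ ^ 2) hF
    beta_reduce at this
    rw [hrest] at this
    simp only [sq, hF1] at this
    have h0 : c χ * c χ ≤ 0 := by
      have := Finset.single_le_sum (f := fun χ => c χ * c χ) (fun _ _ => mul_self_nonneg _)
        (Finset.mem_erase.2 ⟨hne, hχ⟩)
      linarith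
    exact mul_self_eq_zero.1 (le_antisymm h0 (mul_self_nonneg _))
  have hne1 : A ≠ trivChar G ∧ A' ≠ trivChar G ∧ A'' ≠ trivChar G := by
    have key : ∀ χ : IrrCharacter G, χ = A ∨ χ = A' ∨ χ = A'' → χ ≠ trivChar G := by
      intro χ hχ he'
      have hc4 : B0.card = 4 := by
        rw [hB0, Finset.card_insert_of_notMem htriv, hBcard]
      rw [hB0e, Finset.insert_eq_of_mem (by simp [← he', hχ])] at hc4
      have := (Finset.card_le_three : ({A, A', A''} : Finset (IrrCharacter G)).card ≤ 3)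
      omega
    exact ⟨key A (Or.inl rfl), key A' (Or.inr (Or.inl rfl)), key A'' (Or.inr (Or.inr rfl))⟩
  have hexp : ∀ φ : IrrCharacter G → ℂ, ∑ χ : IrrCharacter G, (c χ : ℂ) * φ χ =
      -φ (trivChar G) + c A * φ A + c A' * φ A' + c F * φ F := by
    intro φ
    rw [← Finset.sum_add_sum_compl B0, hB0e, Finset.sum_insert (by simp [hne1.1.symm, hne1.2.1.symm,
      hne1.2.2.symm]), Finset.sum_insert (by simp [h1, h2]), Finset.sum_insert (by simp [h3']),
      Finset.sum_singleton, hctriv, hA'', ← hB0e,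
      Finset.sum_eq_single F (fun χ hχ hne => by rw [hother χ hχ hne]; simp)
        (fun h => absurd hF h)]
    push_cast
    ring
  obtain ⟨dA, hdA0, hdA⟩ := exists_degree_pos A.2
  obtain ⟨dA', hdA0', hdA'⟩ := exists_degree_pos A'.2
  obtain ⟨dF, hdF0, hdF⟩ := exists_degree_pos F.2
  obtain ⟨zF, hzF⟩ := BlocksFrobenius.exists_int_apply F htt
  have hmA : A ∈ B0 := by rw [hB0e]; simp
  have hmA' : A' ∈ B0 := by rw [hB0e]; simp
  have hsA := hse A hmA
  have hsA' := hse A' hmA'
  have hcA : c A = -(s A) := by linear_combination (s A) * hA - c A * hsA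
  have hcA' : c A' = -(s A') := by linear_combination (s A') * hA' - c A' * hsA'
  have hfz : ∀ z : G, z * z = 1 →
      ∑ χ : IrrCharacter G, (c χ : ℂ) * (χ : G → ℂ) z = 0 := fun z hz => by
    rw [← hsq0 z hz]; exact (eq_sum_cof hfgen z).symm
  have e1 := hfz 1 (mul_one 1)
  have et := hfz t htt
  have ep : ∑ χ : IrrCharacter G, (c χ : ℂ) * ((χ : G → ℂ) t ^ 2 / (χ : G → ℂ) 1) = 0 := by
    have h := pair_count (isClassFunction_of_isGen hfgen) t
    rw [Finset.sum_eq_zero fun p hp => hpairs0 _ _ (mem_classSet.1 (Finset.mem_product.1 hp).1)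
      (mem_classSet.1 (Finset.mem_product.1 hp).2)] at h
    rw [eq_comm, mul_eq_zero] at h
    rcases h with h | h
    · have : (0 : ℕ) < (classSet t).card := Finset.card_pos.2 ⟨t, mem_classSet.2 (IsConj.refl t)⟩
      exact absurd h (pow_ne_zero _ (Nat.cast_ne_zero.2 this.ne'))
    · rw [← h]
      refine Finset.sum_congr rfl fun χ _ => ?_
      rw [classInner_eq_cof hfgen, mul_div_assoc]
  rw [hexp] at e1 et ep
  simp only [trivChar_apply, hdA, hdA', hdF, hzF, (hs A ((hmemB0 A).1 hmA)).1,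
    (hs A' ((hmemB0 A').1 hmA')).1, hcA, hcA', Int.cast_neg, one_pow, div_one] at e1 et ep
  set x : ℤ := s A * dA with hx
  set y : ℤ := s A' * dA' with hy
  have ea : (c F * dF : ℤ) = 1 + x + y := by
    apply Int.cast_injective (α := ℂ)
    simp only [hx, hy]
    push_cast
    linear_combination e1
  have ez : c F * zF = 3 := by
    apply Int.cast_injective (α := ℂ)
    have q1 : ((s A : ℂ)) * s A = 1 := by exact_mod_cast hsA
    have q2 : ((s A' : ℂ)) * s A' = 1 := by exact_mod_cast hsA'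
    push_cast
    linear_combination et + q1 + q2
  have hz9 : zF * zF = 9 := by
    have h := congrArg (fun n => n * n) ez
    linear_combination h - zF * zF * hF1
  have heq : 9 * (x * y) = (1 + x + y) * (x * y + x + y) := by
    have q1 : ((s A : ℂ)) * s A = 1 := by exact_mod_cast hsA
    have q2 : ((s A' : ℂ)) * s A' = 1 := by exact_mod_cast hsA'
    have q3 : ((c F : ℂ)) * c F = 1 := by exact_mod_cast hF1
    have q4 : ((zF : ℂ)) * zF = 9 := by exact_mod_cast hz9
    have n1 : (dA : ℂ) ≠ 0 := Nat.cast_ne_zero.2 hdA0.ne'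
    have n2 : (dA' : ℂ) ≠ 0 := Nat.cast_ne_zero.2 hdA0'.ne'
    have n3 : (dF : ℂ) ≠ 0 := Nat.cast_ne_zero.2 hdF0.ne'
    rw [← ea]
    apply Int.cast_injective (α := ℂ)
    simp only [hx, hy]
    push_cast
    have ep2 : -((dA : ℂ) * dA' * dF) - (s A : ℂ) ^ 3 * dA' * dF - (s A' : ℂ) ^ 3 * dA * dF +
        (c F : ℂ) * (zF : ℂ) ^ 2 * dA * dA' = 0 := by
      rw [← mul_zero ((dA : ℂ) * dA' * dF), ← ep]
      field_simp
      ring
    linear_combination (c F * s A * s A' : ℂ) * ep2 - 9 * (s A * dA * (s A' * dA') : ℂ) * q3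
      - (c F * c F * s A * dA * (s A' * dA') : ℂ) * q4
      + (c F * dF * s A' * dA' * (s A * s A + 1) : ℂ) * q1
      + (c F * dF * s A * dA * (s A' * s A' + 1) : ℂ) * q2
  have hmod : ∀ χ ∈ B0, ∀ d : ℕ, (χ : G → ℂ) 1 = d → (s χ * d) % 4 = 1 := by
    intro χ hχ d hd
    obtain ⟨m, hm⟩ := classInner_gen (isGen_restrict (P : Subgroup G) (isGen_of_isIrr χ.2))
      (isGen_one (G := (P : Subgroup G)))
    have hsumP : ∑ q : (P : Subgroup G), (χ : G → ℂ) q = (d : ℂ) + 3 * (s χ : ℂ) := by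
      rw [← Finset.add_sum_erase _ _ (Finset.mem_univ (1 : (P : Subgroup G))),
        OneMemClass.coe_one, hd, Finset.sum_congr rfl (g := fun _ => (s χ : ℂ)) fun q hq => by
          have := hvalue χ hχ q q.2 (fun h => (Finset.mem_erase.1 hq).1 (Subtype.ext h)) 1
            (one_mem _)
          rwa [mul_one] at this,
        Finset.sum_const, Finset.card_erase_of_mem (Finset.mem_univ _), Finset.card_univ,
        ← Nat.card_eq_fintype_card, hP.card_four]
      norm_num
    simp only [classInner, map_one, mul_one] at hm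
    rw [hsumP, hP.card_four] at hm
    have h4 : (d : ℤ) + 3 * s χ = 4 * m := by
      apply Int.cast_injective (α := ℂ)
      push_cast
      linear_combination (4 : ℂ) * hm
    rcases (hs χ ((hmemB0 χ).1 hχ)).2 with h | h <;> rw [h] at h4 ⊢ <;> omega
  have hxne : ∀ (χ : IrrCharacter G) (d : ℕ), χ ≠ trivChar G → (χ : G → ℂ) 1 = d →
      (s χ = 1 ∨ s χ = -1) → s χ * d ≠ 1 := by
    intro χ d hne hd hsχ h
    refine hne (hlin χ ?_)
    rcases hsχ with h' | h' <;> rw [h'] at h
    · rw [hd, show d = 1 by omega, Nat.cast_one]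
    · omega
  exact klein_arith (hmod A hmA dA hdA) (hmod A' hmA' dA' hdA')
    (hxne A dA hne1.1 hdA (hs A ((hmemB0 A).1 hmA)).2)
    (hxne A' dA' hne1.2.1 hdA' (hs A' ((hmemB0 A').1 hmA')).2) heq

end CfsgLib.SuzukiWong
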