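import Cfsg.Agent.Small.SimpleTools
import Mathlib.GroupTheory.SpecificGroups.ZGroup

/-!
# Suzuki–Wong: local tools for groups with cyclic Sylow subgroups
-/

set_option autoImplicit false
set_option linter.unusedSectionVars false
set_option linter.style.haveILetI false

namespace CfsgLib.SuzukiWong

open Subgroup

universe u

variable {G : Type u} [Group G] [Finite G]

/-- Characteristic subgroups are invariant under automorphisms. -/
theorem map_mem_char {Q : Type*} [Group Q] (H : Subgroup Q) [h : H.Characteristic] (f : Q ≃* Q)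
    {x : Q} : f x ∈ H ↔ x ∈ H := by
  conv_rhs => rw [← h.fixed f]
  rfl

/-- An element normalising a cyclic subgroup acts on it by a power map. -/
theorem exists_exp {R : Subgroup G} [IsCyclic R] {g : G} (hg : g ∈ normalizer (R : Set G)) :
    ∃ e : ℤ, ∀ x ∈ R, g * x * g⁻¹ = x ^ e := by
  obtain ⟨e, he⟩ := MonoidHom.map_cyclic (R.normalizerMonoidHom ⟨g, hg⟩).toMonoidHom
  refine ⟨e, fun x hx => ?_⟩
  have := congrArg (fun y : R => (y : G)) (he ⟨x, hx⟩)
  simpa using this

theorem conj_pow_exp {g x : G} {e : ℤ} (h : g * x * g⁻¹ = x ^ e) (k : ℕ) :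
    g ^ k * x * (g ^ k)⁻¹ = x ^ (e ^ k) := by
  induction k with
  | zero => simp
  | succ k ih =>
    calc g ^ (k + 1) * x * (g ^ (k + 1))⁻¹ = g * (g ^ k * x * (g ^ k)⁻¹) * g⁻¹ := by
          rw [pow_succ']; group
      _ = (g * x * g⁻¹) ^ (e ^ k) := by rw [ih, conj_zpow]
      _ = x ^ (e ^ (k + 1)) := by rw [h, ← zpow_mul, pow_succ']

/-- An automorphism of order prime to `r` of a cyclic `r`-group fixing an element `≠ 1` is
trivial. -/
theorem centralizes_of_fix {r : ℕ} [Fact r.Prime] {R : Subgroup G} [IsCyclic R]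
    (hR : IsPGroup r R) {g : G} (hg : g ∈ normalizer (R : Set G)) {k : ℕ} (hk : ¬ r ∣ k)
    (hgk : g ^ k ∈ centralizer (R : Set G)) {x : G} (hx : x ∈ R) (hx1 : x ≠ 1)
    (hfix : g * x = x * g) : g ∈ centralizer (R : Set G) := by
  obtain ⟨e, he⟩ := exists_exp hg
  have hr : r.Prime := Fact.out
  have hdvd : ∀ y ∈ R, ∃ i : ℕ, orderOf y = r ^ i := fun y hy => by
    obtain ⟨i, hi⟩ := IsPGroup.iff_orderOf.1 hR ⟨y, hy⟩
    exact ⟨i, by rwa [Subgroup.orderOf_mk] at hi⟩
  have her : (r : ℤ) ∣ e - 1 := by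
    have h1 : x ^ (e - 1) = 1 := by
      rw [_root_.zpow_sub, zpow_one, ← he x hx, hfix, mul_inv_cancel_right, mul_inv_cancel]
    obtain ⟨i, hi⟩ := hdvd x hx
    have hi0 : i ≠ 0 := fun h0 => hx1 (orderOf_eq_one_iff.1 (by rw [hi, h0, pow_zero]))
    refine (Dvd.dvd.trans ?_ (orderOf_dvd_iff_zpow_eq_one.2 h1))
    rw [hi]; exact_mod_cast dvd_pow_self r hi0
  rw [Subgroup.mem_centralizer_iff]
  intro y hy
  obtain ⟨i, hi⟩ := hdvd y hy
  have h2 : y ^ (e ^ k - 1) = 1 := by
    rw [_root_.zpow_sub, zpow_one, ← conj_pow_exp (he y hy) k,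
      ← Subgroup.mem_centralizer_iff.1 hgk y hy, mul_inv_cancel_right, mul_inv_cancel]
  have h3 : ((orderOf y : ℕ) : ℤ) ∣ e - 1 := by
    have hgeo : (∑ j ∈ Finset.range k, e ^ j) * (e - 1) = e ^ k - 1 := geom_sum_mul e k
    have hcop : IsCoprime ((orderOf y : ℕ) : ℤ) (∑ j ∈ Finset.range k, e ^ j) := by
      rw [hi, Nat.cast_pow]
      refine IsCoprime.pow_left ?_
      rw [(Nat.prime_iff_prime_int.1 hr).coprime_iff_not_dvd]
      intro hd
      refine hk (Int.natCast_dvd_natCast.1 ?_)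
      have hsum : (r : ℤ) ∣ (∑ j ∈ Finset.range k, e ^ j) - k := by
        have hone : ∀ j : ℕ, (r : ℤ) ∣ e ^ j - 1 := fun j => her.trans (by
          simpa using sub_dvd_pow_sub_pow e 1 j)
        have : (∑ j ∈ Finset.range k, e ^ j) - k = ∑ j ∈ Finset.range k, (e ^ j - 1) := by
          simp [Finset.sum_sub_distrib]
        rw [this]
        exact Finset.dvd_sum fun j _ => hone j
      exact (dvd_sub hd hsum).trans (by simp)
    exact hcop.dvd_of_dvd_mul_left (hgeo ▸ orderOf_dvd_iff_zpow_eq_one.2 h2)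
  have h4 := orderOf_dvd_iff_zpow_eq_one.1 h3
  have h5 : g * y * g⁻¹ = y := by
    rw [he y hy, show e = e - 1 + 1 by ring, zpow_add_one, h4, one_mul]
  exact (mul_inv_eq_iff_eq_mul.1 h5).symm

theorem sylow_le_centralizer_elt {p : ℕ} {R : Sylow p G} [IsCyclic R] {y : G}
    (hy : y ∈ (R : Subgroup G)) : (R : Subgroup G) ≤ centralizer ({y} : Set G) := by
  intro z hz
  rw [Subgroup.mem_centralizer_singleton_iff]
  haveI : IsMulCommutative (R : Subgroup G) := IsCyclic.isMulCommutative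
  exact congrArg Subtype.val (mul_comm' (⟨z, hz⟩ : (R : Subgroup G)) ⟨y, hy⟩)

/-- Inside the centralizer of a nontrivial element, a cyclic Sylow subgroup is central in its
normaliser. -/
theorem centralizes_sylow {r : ℕ} [Fact r.Prime] (R : Sylow r G) [IsCyclic R] {y : G}
    (hy : y ∈ (R : Subgroup G)) (hy1 : y ≠ 1) {g : G}
    (hg : g ∈ normalizer ((R : Subgroup G) : Set G)) (hgy : g * y = y * g) :
    g ∈ centralizer ((R : Subgroup G) : Set G) := by
  set C := centralizer ((R : Subgroup G) : Set G)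
  set N := normalizer ((R : Subgroup G) : Set G) with hN
  have hCN : C ≤ N := Subgroup.centralizer_le_normalizer _
  haveI : IsMulCommutative (R : Subgroup G) := IsCyclic.isMulCommutative
  have hRC : (R : Subgroup G) ≤ C := Subgroup.le_centralizer _
  have hk : ¬ r ∣ C.relIndex N := fun h => R.not_dvd_index
    (h.trans ((Subgroup.relIndex_dvd_of_le_left (L := N) hRC).trans
      (Dvd.intro _ (Subgroup.relIndex_mul_index (R : Subgroup G).le_normalizer))))
  haveI : (C.subgroupOf N).Normal := by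
    rw [← Subgroup.normalizerMonoidHom_ker]
    infer_instance
  have h := (C.subgroupOf N).pow_index_mem ⟨g, hg⟩
  rw [Subgroup.mem_subgroupOf, SubmonoidClass.coe_pow] at h
  exact centralizes_of_fix R.isPGroup' hg hk h hy hy1 hgy

/-- In a simple group some element normalises but does not centralize a cyclic Sylow subgroup. -/
theorem exists_not_centralizing [IsSimpleGroup G] (hna : ¬ IsMulCommutative G) {r : ℕ}
    [Fact r.Prime] (R : Sylow r G) [IsCyclic R] (hr : r ∣ Nat.card G) :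
    ∃ g ∈ normalizer ((R : Subgroup G) : Set G), g ∉ centralizer ((R : Subgroup G) : Set G) := by
  by_contra hno
  push Not at hno
  exact Small.not_normalizer_le_centralizer hna hr R hno

/-- A cyclic Sylow subgroup through `y` normalising a given Sylow 2-subgroup of `C(y)`. -/
theorem exists_sylow_normalizing {r : ℕ} [hr : Fact r.Prime] (hr2 : r ≠ 2)
    (hcyc : ∀ R : Sylow r G, IsCyclic R) {y : G} (hy : orderOf y = r)
    (T : Subgroup G) (hT2 : IsPGroup 2 T) (hTC : T ≤ centralizer ({y} : Set G))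
    (hT : ∀ T' : Subgroup G, IsPGroup 2 T' → T' ≤ centralizer ({y} : Set G) → T ≤ T' → T' = T) :
    ∃ R : Sylow r G, y ∈ (R : Subgroup G) ∧ (R : Subgroup G) ≤ normalizer (T : Set G) := by
  haveI : Fact (Nat.Prime 2) := ⟨Nat.prime_two⟩
  obtain ⟨R₀, hR₀⟩ := (IsPGroup.of_card (p := r) (n := 1)
    (show Nat.card (zpowers y) = r ^ 1 by rw [Nat.card_zpowers, hy, pow_one])).exists_le_sylow
  haveI := hcyc R₀
  have hyR : y ∈ (R₀ : Subgroup G) := hR₀ (mem_zpowers y)
  have hy1 : y ≠ 1 := fun h => by rw [h, orderOf_one] at hy; exact hr.out.ne_one hy.symm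
  set X := centralizer ({y} : Set G) with hX
  have hRX : (R₀ : Subgroup G) ≤ X := sylow_le_centralizer_elt hyR
  let R₁ : Sylow r X := R₀.subtype hRX
  have hN : normalizer ((R₁ : Subgroup X) : Set X) ≤
      centralizer ((R₁ : Subgroup X) : Set X) := by
    intro n hn
    rw [Sylow.coe_subtype] at hn ⊢
    have hnG : (n : G) ∈ normalizer ((R₀ : Subgroup G) : Set G) := by
      rw [Subgroup.mem_normalizer_iff]
      intro u
      constructor
      · intro hu
        exact (Subgroup.mem_normalizer_iff.1 hn ⟨u, hRX hu⟩).1 hu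
      · intro hu
        have hmem : u ∈ X := by
          have := mul_mem (mul_mem (Subgroup.inv_mem _ n.2) (hRX hu)) n.2
          simpa [mul_assoc] using this
        exact (Subgroup.mem_normalizer_iff.1 hn ⟨u, hmem⟩).2 hu
    have h := centralizes_sylow R₀ hyR hy1 hnG (Subgroup.mem_centralizer_singleton_iff.1 n.2)
    exact Subgroup.mem_centralizer_iff.2 fun u hu =>
      Subtype.ext (Subgroup.mem_centralizer_iff.1 h (u : G) hu)
  have hcompl := MonoidHom.ker_transferSylow_isComplement' R₁ hN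
  set U := (MonoidHom.transferSylow R₁ hN).ker with hU
  -- a Sylow 2-subgroup of the complement
  have hT' : IsPGroup 2 (T.subgroupOf X) :=
    hT2.of_equiv (Subgroup.subgroupOfEquivOfLe hTC).symm
  have hTU : T.subgroupOf X ≤ U := by
    intro t ht
    rw [hU, MonoidHom.mem_ker]
    obtain ⟨i, hi⟩ := IsPGroup.iff_orderOf.1 hT' ⟨t, ht⟩
    rw [Subgroup.orderOf_mk] at hi
    obtain ⟨j, hj⟩ := IsPGroup.iff_orderOf.1 R₁.isPGroup' (MonoidHom.transferSylow R₁ hN t)
    refine orderOf_eq_one_iff.1 (Nat.eq_one_of_dvd_coprimes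
      (((Nat.coprime_primes hr.out Nat.prime_two).2 hr2).pow j i) (hj ▸ dvd_rfl) ?_)
    exact hi ▸ orderOf_map_dvd _ t
  obtain ⟨Q, hQ⟩ :=
    (hT'.of_equiv (Subgroup.subgroupOfEquivOfLe hTU).symm).exists_le_sylow
  have hQT : ((Q : Subgroup U).map U.subtype) = T.subgroupOf X := by
    have h1 : T.subgroupOf X ≤ (Q : Subgroup U).map U.subtype := fun t ht =>
      ⟨⟨t, hTU ht⟩, hQ (Subgroup.mem_subgroupOf.2 ht), rfl⟩
    have h2 := hT ((((Q : Subgroup U).map U.subtype)).map X.subtype)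
      ((Q.isPGroup'.map _).map _) (Subgroup.map_subtype_le _)
      (fun t ht => ⟨⟨t, hTC ht⟩, h1 (Subgroup.mem_subgroupOf.2 ht), rfl⟩)
    refine le_antisymm (fun q hq => ?_) h1
    exact Subgroup.mem_subgroupOf.2 (h2 ▸ ⟨q, hq, rfl⟩)
  haveI : U.Normal := by rw [hU]; infer_instance
  have htop : normalizer ((T.subgroupOf X : Subgroup X) : Set X) ⊔ U = ⊤ := by
    rw [← hQT]
    exact Sylow.normalizer_sup_eq_top Q
  -- a Sylow `r`-subgroup of the normalizer
  set N' := normalizer ((T.subgroupOf X : Subgroup X) : Set X)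
  have hdvd : Nat.card (R₁ : Subgroup X) ∣ Nat.card N' := by
    rw [← hcompl.symm.index_eq_card]
    have h2 : U.index = U.relIndex N' := by
      rw [← Subgroup.relIndex_sup_right, htop, Subgroup.relIndex_top_right]
    rw [h2]
    exact Subgroup.relIndex_dvd_card _ _
  obtain ⟨R₂, hR₂⟩ : ∃ R₂ : Subgroup X, R₂ ≤ N' ∧ IsPGroup r R₂ ∧
      Nat.card R₂ = Nat.card (R₁ : Subgroup X) := by
    obtain ⟨i, hi⟩ := R₁.isPGroup'.exists_card_eq
    rw [hi] at hdvd ⊢
    obtain ⟨K, hK⟩ := Sylow.exists_subgroup_card_pow_prime r hdvd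
    have hc : Nat.card (K.map N'.subtype) = r ^ i := by
      rw [Subgroup.card_map_of_injective N'.subtype_injective, hK]
    exact ⟨K.map N'.subtype, Subgroup.map_subtype_le _, IsPGroup.of_card hc, hc⟩
  obtain ⟨hR₂N, hR₂p, hR₂c⟩ := hR₂
  have hcard : Nat.card (R₂.map X.subtype) = r ^ (Nat.card G).factorization r := by
    rw [Subgroup.card_map_of_injective X.subtype_injective, hR₂c, Sylow.coe_subtype,
      Nat.card_congr (Subgroup.subgroupOfEquivOfLe hRX).toEquiv, R₀.card_eq_multiplicity]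
  let R : Sylow r G := Sylow.ofCard (R₂.map X.subtype) hcard
  refine ⟨R, ?_, ?_⟩
  · -- `y` is central in `X`
    have hyX : y ∈ X := Subgroup.mem_centralizer_singleton_iff.2 rfl
    let R₂' : Sylow r X := Sylow.ofCard R₂ (by rw [hR₂c, R₁.card_eq_multiplicity])
    obtain ⟨c, hc⟩ := MulAction.exists_smul_eq X R₁ R₂'
    show y ∈ R₂.map X.subtype
    refine ⟨⟨y, hyX⟩, ?_, rfl⟩
    show (⟨y, hyX⟩ : X) ∈ R₂
    have hm : (⟨y, hyX⟩ : X) ∈ ((c • R₁ : Sylow r X) : Subgroup X) := by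
      rw [Sylow.coe_subgroup_smul]
      have hy₁ : (⟨y, hyX⟩ : X) ∈ (R₁ : Subgroup X) := by
        rw [Sylow.coe_subtype]; exact hyR
      have h := Subgroup.smul_mem_pointwise_smul _ (MulAut.conj c) _ hy₁
      have he : MulAut.conj c • (⟨y, hyX⟩ : X) = ⟨y, hyX⟩ := by
        refine Subtype.ext ?_
        show (c : G) * y * (c : G)⁻¹ = y
        rw [Subgroup.mem_centralizer_singleton_iff.1 c.2, mul_inv_cancel_right]
      rwa [he] at h
    rw [hc] at hm
    exact hm
  · show R₂.map X.subtype ≤ normalizer (T : Set G)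
    rintro _ ⟨z, hz, rfl⟩
    have hzN := hR₂N hz
    rw [Subgroup.mem_normalizer_iff]
    intro u
    constructor
    · intro hu
      exact (Subgroup.mem_normalizer_iff.1 hzN ⟨u, hTC hu⟩).1 hu
    · intro hu
      have hmem : u ∈ X := by
        have := mul_mem (mul_mem (Subgroup.inv_mem _ z.2) (hTC hu)) z.2
        simpa [mul_assoc] using this
      exact (Subgroup.mem_normalizer_iff.1 hzN ⟨u, hmem⟩).2 hu

/-- An odd `r`-group normalising a 2-group without automorphisms of odd order centralizes it. -/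
theorem centralizes_of_aut_two {r : ℕ} [hr : Fact r.Prime] (hr2 : r ≠ 2) {R T : Subgroup G}
    (hR : IsPGroup r R) (hN : R ≤ normalizer (T : Set G)) (hA : IsPGroup 2 (MulAut T)) :
    R ≤ centralizer (T : Set G) := by
  haveI : Fact (Nat.Prime 2) := ⟨Nat.prime_two⟩
  intro x hx
  obtain ⟨i, hi⟩ := IsPGroup.iff_orderOf.1 hR ⟨x, hx⟩
  rw [Subgroup.orderOf_mk] at hi
  obtain ⟨j, hj⟩ := IsPGroup.iff_orderOf.1 hA (T.normalizerMonoidHom ⟨x, hN hx⟩)
  have h1 : T.normalizerMonoidHom ⟨x, hN hx⟩ = 1 := by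
    refine orderOf_eq_one_iff.1 (Nat.eq_one_of_dvd_coprimes
      (((Nat.coprime_primes hr.out Nat.prime_two).2 hr2).pow i j) ?_ (hj ▸ dvd_rfl))
    have h := orderOf_map_dvd T.normalizerMonoidHom ⟨x, hN hx⟩
    rwa [Subgroup.orderOf_mk, hi] at h
  have h2 : (⟨x, hN hx⟩ : normalizer (T : Set G)) ∈ T.normalizerMonoidHom.ker := h1
  rw [Subgroup.normalizerMonoidHom_ker] at h2
  exact h2

/-- The automorphism group of a cyclic 2-group is a 2-group. -/
theorem isPGroup_aut_cyclic {T : Type*} [Group T] [Finite T] [IsCyclic T] (hT : IsPGroup 2 T) :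
    IsPGroup 2 (MulAut T) := by
  haveI : Fact (Nat.Prime 2) := ⟨Nat.prime_two⟩
  obtain ⟨i, hi⟩ := hT.exists_card_eq
  rcases i with _ | i
  · exact IsPGroup.of_card (n := 0) (by
      rw [IsCyclic.card_mulAut, hi]; simp)
  · exact IsPGroup.of_card (n := i) (by
      rw [IsCyclic.card_mulAut, hi, Nat.totient_prime_pow Nat.prime_two (Nat.succ_pos i)]; simp)

/-- The Frattini argument inside a subgroup invariant under `g`. -/
theorem frattini {p : ℕ} [Fact p.Prime] {K T : Subgroup G} (hT : IsPGroup p T) (hTK : T ≤ K)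
    (hmax : ∀ T' : Subgroup G, IsPGroup p T' → T' ≤ K → T ≤ T' → T' = T) {g : G}
    (hg : ∀ k ∈ K, g * k * g⁻¹ ∈ K) : ∃ c ∈ K, c * g ∈ normalizer (T : Set G) := by
  let S₁ : Sylow p K := ⟨T.subgroupOf K, hT.of_equiv (Subgroup.subgroupOfEquivOfLe hTK).symm,
    fun {Q} hQ hle => by
      have h := hmax (Q.map K.subtype) (hQ.map _) (Subgroup.map_subtype_le _) fun t ht =>
        ⟨⟨t, hTK ht⟩, hle (Subgroup.mem_subgroupOf.2 ht), rfl⟩
      refine le_antisymm (fun q hq => ?_) hle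
      exact Subgroup.mem_subgroupOf.2 (h ▸ ⟨q, hq, rfl⟩)⟩
  let T₂ := T.map (MulAut.conj g).toMonoidHom
  have hT₂K : T₂ ≤ K := by
    rintro _ ⟨t, ht, rfl⟩
    exact hg t (hTK ht)
  have hT₂ : IsPGroup p (T₂.subgroupOf K) :=
    (hT.map _).of_equiv (Subgroup.subgroupOfEquivOfLe hT₂K).symm
  obtain ⟨S₂, hS₂⟩ := hT₂.exists_le_sylow
  obtain ⟨c, hc⟩ := MulAction.exists_smul_eq K S₂ S₁
  refine ⟨c, c.2, ?_⟩
  have hle : ∀ t ∈ T, c * g * t * (c * g)⁻¹ ∈ T := by
    intro t ht
    have h1 : (⟨g * t * g⁻¹, hg t (hTK ht)⟩ : K) ∈ (S₂ : Subgroup K) :=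
      hS₂ (Subgroup.mem_subgroupOf.2 ⟨t, ht, rfl⟩)
    have h2 : c • (⟨g * t * g⁻¹, hg t (hTK ht)⟩ : K) = _ := rfl
    have h3 := Subgroup.smul_mem_pointwise_smul _ (MulAut.conj c) _ h1
    rw [← Sylow.coe_subgroup_smul, hc] at h3
    have h4 : ((MulAut.conj c • (⟨g * t * g⁻¹, hg t (hTK ht)⟩ : K) : K) : G) ∈ T := h3
    simpa [mul_assoc] using h4
  exact Subgroup.mem_normalizer_fintype hle

/-- Odd subgroups are Z-groups when all odd Sylow subgroups are cyclic. -/
theorem isZGroup_of_odd (hodd : ∀ p : ℕ, p.Prime → p ≠ 2 → ∀ P : Sylow p G, IsCyclic P)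
    {Q : Subgroup G} (hQ : Odd (Nat.card Q)) : IsZGroup Q := by
  refine ⟨fun p hp P => ?_⟩
  haveI := Fact.mk hp
  by_cases hp2 : p = 2
  · subst hp2
    have hbot : (P : Subgroup Q) = ⊥ := by
      obtain ⟨i, hi⟩ := P.isPGroup'.exists_card_eq
      rcases i with _ | i
      · exact Subgroup.card_eq_one.1 (by rw [hi, pow_zero])
      · exact absurd (((dvd_pow_self 2 i.succ_ne_zero).trans hi.symm.dvd).trans
          (Subgroup.card_subgroup_dvd_card _)) hQ.not_two_dvd_nat
    rw [show (P : Subgroup Q) = ⊥ from hbot]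
    infer_instance
  · obtain ⟨P', hP'⟩ := (P.isPGroup'.map Q.subtype).exists_le_sylow
    haveI := hodd p hp hp2 P'
    haveI : IsCyclic ((P : Subgroup Q).map Q.subtype) := Subgroup.isCyclic_of_le hP'
    exact isCyclic_of_surjective _
      (Subgroup.equivMapOfInjective (P : Subgroup Q) Q.subtype Q.subtype_injective).symm.surjective

/-- A commutator of two elements normalising an odd Z-group, of order prime to the group,
centralizes it. -/
theorem commutator_centralizes {Q : Subgroup G} [IsZGroup Q] {g g' : G}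
    (hg : g ∈ normalizer (Q : Set G)) (hg' : g' ∈ normalizer (Q : Set G))
    (hc : (orderOf (g * g' * g⁻¹ * g'⁻¹)).Coprime (Nat.card Q)) :
    g * g' * g⁻¹ * g'⁻¹ ∈ centralizer (Q : Set G) := by
  set c := g * g' * g⁻¹ * g'⁻¹ with hcdef
  have hcN : c ∈ normalizer (Q : Set G) := mul_mem (mul_mem (mul_mem hg hg') (inv_mem hg)) (inv_mem hg')
  haveI := IsZGroup.isCyclic_commutator Q
  -- trivial action on both layers
  set φ := Q.normalizerMonoidHom with hφ
  have hpow : ∀ (n : normalizer (Q : Set G)), ∃ e : ℤ, ∀ x : Abelianization Q,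
      Abelianization.map (φ n).toMonoidHom x = x ^ e := fun n => MonoidHom.map_cyclic _
  have hpow' : ∀ (n : normalizer (Q : Set G)), ∃ e : ℤ, ∀ x ∈ commutator Q, φ n x = x ^ e := by
    intro n
    have hmap : ∀ x ∈ commutator Q, φ n x ∈ commutator Q := fun x hx =>
      (map_mem_char _ (φ n)).2 hx
    obtain ⟨e, he⟩ := MonoidHom.map_cyclic
      (((φ n).toMonoidHom.comp (commutator Q).subtype).codRestrict (commutator Q)
        fun x => hmap x x.2)
    exact ⟨e, fun x hx => congrArg Subtype.val (he ⟨x, hx⟩)⟩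
  let gN : normalizer (Q : Set G) := ⟨g, hg⟩
  let gN' : normalizer (Q : Set G) := ⟨g', hg'⟩
  let cN : normalizer (Q : Set G) := gN * gN' * gN⁻¹ * gN'⁻¹
  have hcN' : (cN : G) = c := rfl
  have hcomm : cN * (gN' * gN) = gN * gN' := by
    simp [cN, mul_assoc]
  have hab : ∀ x : Q, Abelianization.of (φ cN x) = Abelianization.of x := by
    intro x
    obtain ⟨e, he⟩ := hpow gN
    obtain ⟨e', he'⟩ := hpow gN'
    have h1 : ∀ z : Q, Abelianization.of (φ gN z) = Abelianization.of z ^ e := fun z => by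
      have := he (Abelianization.of z)
      rwa [Abelianization.map_of] at this
    have h2 : ∀ z : Q, Abelianization.of (φ gN' z) = Abelianization.of z ^ e' := fun z => by
      have := he' (Abelianization.of z)
      rwa [Abelianization.map_of] at this
    obtain ⟨z, rfl⟩ := (φ (gN' * gN)).surjective x
    rw [← MulAut.mul_apply, ← map_mul, hcomm, map_mul, MulAut.mul_apply, h1, h2, map_mul,
      MulAut.mul_apply, h2, h1, ← zpow_mul, ← zpow_mul, mul_comm]
  have hder : ∀ x ∈ commutator Q, φ cN x = x := by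
    intro x hx
    obtain ⟨e, he⟩ := hpow' gN
    obtain ⟨e', he'⟩ := hpow' gN'
    obtain ⟨z, rfl⟩ := (φ (gN' * gN)).surjective x
    have hz : z ∈ commutator Q := (map_mem_char _ _).1 hx
    rw [← MulAut.mul_apply, ← map_mul, hcomm, map_mul, MulAut.mul_apply, map_mul, MulAut.mul_apply,
      he' z hz, he z hz, map_zpow, map_zpow, he' z hz, he z hz, ← zpow_mul, ← zpow_mul, mul_comm]
  rw [Subgroup.mem_centralizer_iff]
  intro x hx
  set y : Q := (⟨x, hx⟩ : Q)⁻¹ * φ cN ⟨x, hx⟩ with hy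
  have hyD : y ∈ commutator Q := by
    rw [← Abelianization.ker_of, MonoidHom.mem_ker, hy, map_mul, map_inv, hab, inv_mul_cancel]
  have hiter : ∀ j : ℕ, φ (cN ^ j) ⟨x, hx⟩ = ⟨x, hx⟩ * y ^ j := by
    intro j
    induction j with
    | zero => simp
    | succ j ih =>
      rw [pow_succ', map_mul, MulAut.mul_apply, ih, map_mul, map_pow, hder y hyD, pow_succ',
        ← mul_assoc]
      congr 1
      rw [hy, mul_inv_cancel_left]
  have h1 := hiter (orderOf c)
  have hc1 : cN ^ orderOf c = 1 := Subtype.ext (by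
    rw [SubmonoidClass.coe_pow, OneMemClass.coe_one, hcN', pow_orderOf_eq_one])
  rw [hc1, map_one, MulAut.one_apply, left_eq_mul] at h1
  have hy1 : y = 1 := orderOf_eq_one_iff.1 (Nat.eq_one_of_dvd_coprimes hc
    (orderOf_dvd_of_pow_eq_one h1) (orderOf_dvd_natCard y))
  rw [hy, inv_mul_eq_one] at hy1
  have h2 : x = c * x * c⁻¹ := congrArg Subtype.val hy1
  exact eq_mul_inv_iff_mul_eq.1 h2

/-- A fixed point in the coset of an element moved by an involutory automorphism. -/
theorem sqrt_fix {a x : G} {y : G} (hy : y = x⁻¹ * (a * x * a⁻¹)) (hx2 : a * (a * x * a⁻¹) * a⁻¹ = x)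
    (hodd : Odd (orderOf y)) :
    ∃ k : ℕ, a * (x * y ^ k) * a⁻¹ = x * y ^ k := by
  obtain ⟨j, hj⟩ := hodd
  refine ⟨j + 1, ?_⟩
  have hay : a * y * a⁻¹ = y⁻¹ := by
    rw [hy]
    calc a * (x⁻¹ * (a * x * a⁻¹)) * a⁻¹ = (a * x * a⁻¹)⁻¹ * (a * (a * x * a⁻¹) * a⁻¹) := by group
      _ = _ := by rw [hx2]; group
  calc a * (x * y ^ (j + 1)) * a⁻¹ = a * x * a⁻¹ * (a * y * a⁻¹) ^ (j + 1) := by
        rw [conj_pow]; group
    _ = x * y * (y ^ (j + 1))⁻¹ := by
        rw [hay, inv_pow, show a * x * a⁻¹ = x * y by rw [hy, mul_inv_cancel_left]]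
    _ = x * y ^ (j + 1) := by
        rw [mul_assoc]
        congr 1
        rw [mul_inv_eq_iff_eq_mul, ← pow_add, show j + 1 + (j + 1) = 2 * j + 1 + 1 by omega,
          pow_succ, ← hj, pow_orderOf_eq_one, one_mul]

/-- An odd Z-group with two commuting involutory automorphisms without common fixed points is
cyclic. -/
theorem isCyclic_of_four {Q : Subgroup G} [IsZGroup Q] (hQ : Odd (Nat.card Q)) {a b : G}
    (ha : a ∈ normalizer (Q : Set G)) (hb : b ∈ normalizer (Q : Set G))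
    (ha2 : a * a ∈ centralizer (Q : Set G)) (hb2 : b * b ∈ centralizer (Q : Set G))
    (hab : b⁻¹ * a⁻¹ * b * a ∈ centralizer (Q : Set G))
    (hfix : ∀ x ∈ Q, a * x = x * a → b * x = x * b → x = 1) : IsCyclic Q := by
  haveI := IsZGroup.isCyclic_commutator Q
  suffices hcen : commutator Q ≤ Subgroup.center Q by
    haveI : IsMulCommutative Q := MonoidHom.isMulCommutative_of_isCyclic_of_ker_le_center
      Abelianization.of (by rw [Abelianization.ker_of]; exact hcen)
    letI := IsMulCommutative.instCommGroup (G := Q)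
    infer_instance
  intro z hz
  rw [Subgroup.mem_center_iff]
  intro x
  -- `K` is the centralizer of the derived group
  set K : Subgroup Q := centralizer ((commutator Q : Subgroup Q) : Set Q) with hKdef
  suffices hK : x ∈ K from (Subgroup.mem_centralizer_iff.1 hK z hz).symm
  have hcomm : ∀ (n : normalizer (Q : Set G)) (w : Q),
      w⁻¹ * Q.normalizerMonoidHom n w ∈ K := by
    intro n w
    rw [hKdef, Subgroup.mem_centralizer_iff]
    intro d hd
    have hmap : ∀ (f : Q ≃* Q), ∀ d ∈ commutator Q, f d ∈ commutator Q := fun f d hd =>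
      (map_mem_char _ f).2 hd
    have hexp : ∀ f : Q ≃* Q, ∃ e : ℤ, ∀ d ∈ commutator Q, f d = d ^ e := fun f => by
      obtain ⟨e, he⟩ := MonoidHom.map_cyclic
        ((f.toMonoidHom.comp (commutator Q).subtype).codRestrict (commutator Q)
          fun d => hmap f d d.2)
      exact ⟨e, fun d hd => congrArg Subtype.val (he ⟨d, hd⟩)⟩
    obtain ⟨e, he⟩ := hexp (Q.normalizerMonoidHom n)
    obtain ⟨e', he'⟩ := hexp (MulAut.conj w)
    set w' := Q.normalizerMonoidHom n w
    obtain ⟨d', rfl⟩ := (Q.normalizerMonoidHom n).surjective d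
    have hd' : d' ∈ commutator Q := (map_mem_char _ _).1 hd
    have h1 : w' * Q.normalizerMonoidHom n d' * w'⁻¹ = w * Q.normalizerMonoidHom n d' * w⁻¹ := by
      rw [← map_inv, ← map_mul, ← map_mul]
      have h2 := he' d' hd'
      have h3 := he' _ hd
      simp only [MulAut.conj_apply] at h2 h3
      rw [h2, h3, map_zpow]
    calc Q.normalizerMonoidHom n d' * (w⁻¹ * w')
        = w⁻¹ * (w * Q.normalizerMonoidHom n d' * w⁻¹) * w' := by group
      _ = w⁻¹ * w' * Q.normalizerMonoidHom n d' := by rw [← h1]; group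
  have hoddy : ∀ y : Q, Odd (orderOf (y : G)) := fun y => by
    rw [Subgroup.orderOf_coe]; exact hQ.of_dvd_nat (orderOf_dvd_natCard y)
  have hconj : ∀ {n : G} (hn : n ∈ normalizer (Q : Set G)) (w : Q),
      ((Q.normalizerMonoidHom ⟨n, hn⟩ w : Q) : G) = n * w * n⁻¹ := fun hn w => rfl
  -- first `a`
  have key : ∀ {n : G} (hn : n ∈ normalizer (Q : Set G)) (_ : n * n ∈ centralizer (Q : Set G))
      (w : Q), ∃ k : ℕ, n * ((w : G) * ((w : G)⁻¹ * (n * w * n⁻¹)) ^ k) * n⁻¹ =
        (w : G) * ((w : G)⁻¹ * (n * w * n⁻¹)) ^ k := by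
    intro n hn hn2 w
    refine sqrt_fix rfl ?_ ?_
    · have h := Subgroup.mem_centralizer_iff.1 hn2 w w.2
      calc n * (n * w * n⁻¹) * n⁻¹ = n * n * w * (n * n)⁻¹ := by group
        _ = w := by rw [← h]; group
    · exact hoddy ((w⁻¹ : Q) * Q.normalizerMonoidHom ⟨n, hn⟩ w)
  obtain ⟨k, hk⟩ := key ha ha2 x
  set y : Q := x⁻¹ * Q.normalizerMonoidHom ⟨a, ha⟩ x with hy
  have hyK : y ∈ K := hcomm _ x
  set x₁ : Q := x * y ^ k with hx₁
  suffices hx₁K : x₁ ∈ K by
    have := mul_mem hx₁K (inv_mem (pow_mem hyK k))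
    rwa [hx₁, mul_inv_cancel_right] at this
  have hx₁a : a * (x₁ : G) = (x₁ : G) * a := mul_inv_eq_iff_eq_mul.1 (by
    rw [hx₁]; simpa [hy, hconj] using hk)
  -- then `b`
  obtain ⟨k', hk'⟩ := key hb hb2 x₁
  set y' : Q := x₁⁻¹ * Q.normalizerMonoidHom ⟨b, hb⟩ x₁ with hy'
  have hy'K : y' ∈ K := hcomm _ x₁
  have hy'a : a * (y' : G) = (y' : G) * a := by
    have hbx : (b * (x₁ : G) * b⁻¹) ∈ Q := (Subgroup.mem_normalizer_iff.1 hb _).1 x₁.2
    have h := Subgroup.mem_centralizer_iff.1 hab _ x₁.2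
    have hab' : a * (b * (x₁ : G) * b⁻¹) = b * (x₁ : G) * b⁻¹ * a := by
      calc a * (b * (x₁ : G) * b⁻¹) = b * a * ((b⁻¹ * a⁻¹ * b * a)⁻¹ * (x₁ : G)) * b⁻¹ := by group
        _ = b * a * ((x₁ : G) * (b⁻¹ * a⁻¹ * b * a)⁻¹) * b⁻¹ := by
            rw [((show Commute (b⁻¹ * a⁻¹ * b * a) (x₁ : G) from h.symm).inv_left).eq]
        _ = b * (a * (x₁ : G)) * (b⁻¹ * a⁻¹ * b * a)⁻¹ * b⁻¹ := by group
        _ = b * ((x₁ : G) * a) * (b⁻¹ * a⁻¹ * b * a)⁻¹ * b⁻¹ := by rw [hx₁a]
        _ = _ := by group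
    have e : (y' : G) = (x₁ : G)⁻¹ * (b * x₁ * b⁻¹) := by simp [hy', hconj]
    rw [e]
    exact ((show Commute a (x₁ : G) from hx₁a).inv_right.mul_right hab').eq
  set x₂ : Q := x₁ * y' ^ k' with hx₂
  have hx₂b : b * (x₂ : G) = (x₂ : G) * b := mul_inv_eq_iff_eq_mul.1 (by
    rw [hx₂]; simpa [hy', hconj] using hk')
  have hx₂a : a * (x₂ : G) = (x₂ : G) * a := by
    rw [hx₂, Subgroup.coe_mul, SubmonoidClass.coe_pow]
    exact ((show Commute a (x₁ : G) from hx₁a).mul_right
      ((show Commute a (y' : G) from hy'a).pow_right k')).eq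
  have h1 : x₂ = 1 := Subtype.ext (hfix _ x₂.2 hx₂a hx₂b)
  have := mul_mem (h1 ▸ one_mem K : x₂ ∈ K) (inv_mem (pow_mem hy'K k'))
  rwa [hx₂, mul_inv_cancel_right] at this

end CfsgLib.SuzukiWong
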