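import Cfsg.Agent.SuzukiWong.BlockSums
import Cfsg.Agent.S0944

/-!
# Suzuki–Wong: two equations for a dihedral Sylow 2-subgroup with a sign character

`sg` is a sign character, trivial on `τ` and nontrivial on `σ`, and `σ ^ h ~ τ`.  Pairs from the class
of `σ ^ h`, and pairs from the classes of `σ ^ h` and `σ τ`, over the sections of `σ` and `σ ^ 2`
determine `|G : C(σ ^ h)|` and the order of `C(σ τ)`.
-/

set_option autoImplicit false
set_option linter.style.haveILetI false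
set_option linter.unusedSectionVars false

namespace CfsgLib.SuzukiWong

open Cfsg CfsgLib.Blocks CfsgLib.PrincipalBlock CfsgLib.Characters CfsgLib.Inv54.DihedralBlock
open scoped ComplexConjugate

universe u

variable {G : Type u} [Group G] [Fintype G]

open Classical in
set_option maxHeartbeats 1000000 in
/-- **The two-class equations.** -/
theorem two_class {M : Ideal AlgInt} (hM : Cfsg.IsPModular 2 M) {P : Sylow 2 G} {σ τ : G} {h : ℕ}
    (S : Setup P σ τ h) (sg : G →* ℂˣ) (hσ : (sg σ : ℂ) = -1) (hτs : (sg τ : ℂ) = 1)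
    (hsq : ∀ g, sg g * sg g = 1) (hτ : IsConj (σ ^ h) τ) (L : Subgroup G)
    (hLC : L ≤ Subgroup.centralizer ({σ * τ} : Set G))
    (hLn : (L.subgroupOf (Subgroup.centralizer ({σ * τ} : Set G))).Normal)
    (hLodd : Odd (Nat.card L))
    {k : ℕ} (hLi : (L.subgroupOf (Subgroup.centralizer ({σ * τ} : Set G))).index = 2 ^ k) :
    ∃ (d : ℕ) (δ s : ℤ), 0 < d ∧ (δ = 1 ∨ δ = -1) ∧ (s = 1 ∨ s = -1) ∧
      (2 * h : ℤ) ∣ δ * d - 1 ∧ δ * d ≠ 1 ∧
      ((Subgroup.centralizer ({σ ^ h} : Set G)).index : ℤ) *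
          (Nat.card (S.core ⊓ Subgroup.centralizer ({τ} : Set G) : Subgroup G) : ℤ) ^ 2 *
          (δ * d - 1) ^ 2 =
        2 * (h : ℤ) ^ 2 * (Nat.card S.core : ℤ) ^ 2 * ((δ * d) * (δ * d + 1)) ∧
      ((Subgroup.centralizer ({σ ^ h} : Set G)).index : ℤ) * 2 * (d + s) *
          (Nat.card (S.core ⊓ Subgroup.centralizer ({τ} : Set G) : Subgroup G) : ℤ) *
          (Nat.card (S.core ⊓ Subgroup.centralizer ({σ * τ} : Set G) : Subgroup G) : ℤ) =
        4 * (Nat.card L : ℤ) * h * (Nat.card S.core : ℤ) * d := by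
  haveI : M.IsPrime := Blocks.IsPModular.isPrime hM
  haveI : Fact (Nat.Prime 2) := ⟨Nat.prime_two⟩
  haveI : NeZero (2 * h) := S.ne_zero
  haveI := Fintype.ofFinite L
  have h2 := S.two_le
  obtain ⟨k₀, hk₀⟩ := S.pow2
  have hheven : Even h := by
    rcases k₀ with _ | k₀
    · simp at hk₀; omega
    · rw [hk₀, pow_succ]; exact even_two.mul_left _
  have hl : ∀ l : ℕ, 0 < l → l < 2 * h → σ ^ l ≠ 1 := fun l l0 l1 e => by
    have := Nat.le_of_dvd l0 (S.pow_eq_one.1 e); omega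
  -- the sign character
  have hsgσpow : ∀ l : ℕ, (sg (σ ^ l) : ℂ) = (-1) ^ l := fun l => by
    rw [map_pow, Units.val_pow_eq_pow_val, hσ]
  have hsgJ : (sg (σ ^ h) : ℂ) = 1 := by rw [hsgσpow, hheven.neg_one_pow]
  have hsgK : ∀ x ∈ S.core, sg x = 1 := by
    intro x hx
    obtain ⟨j, hj⟩ := S.core_odd
    have e : sg x ^ Nat.card S.core = 1 := by
      rw [← map_pow, orderOf_dvd_iff_pow_eq_one.1 (S.core.orderOf_dvd_natCard hx), map_one]
    rwa [hj, pow_succ, pow_mul, sq, hsq, one_pow, one_mul] at e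
  have hsgu : (sg (σ * τ) : ℂ) = -1 := by rw [map_mul, Units.val_mul, hσ, hτs, mul_one]
  have hnoJ : ¬ IsConj (σ ^ h) (σ * τ) := fun hc => by
    obtain ⟨g, hg⟩ := isConj_iff.1 hc
    have e := congrArg (fun z => (sg z : ℂ)) hg
    simp only [map_mul, map_inv, Units.val_mul, hσ, hτs, hsgJ, mul_one,
      Units.val_inv_eq_inv_val] at e
    rw [mul_inv_cancel₀ (Units.ne_zero _)] at e
    norm_num at e
  let tw : IrrCharacter G → IrrCharacter G := fun χ =>
    ⟨fun g => (sg g : ℂ) * (χ : G → ℂ) g, isIrr_twist sg χ.2⟩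
  have htw : ∀ χ g, (tw χ : G → ℂ) g = (sg g : ℂ) * (χ : G → ℂ) g := fun χ g => rfl
  have htwmem : ∀ χ, χ ∈ Cfsg.principalBlock M G → tw χ ∈ Cfsg.principalBlock M G := by
    intro χ hχ
    refine mem_of_const S hM (fun x hx => ?_) ?_
    · rw [htw, htw, apply_J_mul S hM hχ hx, map_mul, hsgK x hx, mul_one]
    · rw [htw, hsgJ, one_mul]; exact S.apply_J_ne_zero hM hχ
  -- the block
  obtain ⟨ζ, hζ⟩ : ∃ ζ : ℂ, IsPrimitiveRoot ζ (2 * h) :=
    ⟨_, Complex.isPrimitiveRoot_exp (2 * h) (NeZero.ne _)⟩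
  have hζh : ζ ^ h = -1 := by
    have h1 : ζ ^ h * ζ ^ h = 1 := by rw [← pow_add, ← two_mul, hζ.pow_eq_one]
    exact (mul_self_eq_one_iff.1 h1).resolve_left
      (hζ.pow_ne_one_of_pos_of_lt (by omega) (by omega))
  obtain ⟨X, A₀, B₀, Y, δ, a₀, b₀, hδ, ha₀, hb₀, n1, n2₀, n3₀, n4₀, n5₀, n6₀, hY₀, hYinj, hmem₀,
    hv₀, hrel⟩ := S.principal_block hM hζ
  have hYJ : ∀ i, 1 ≤ i → i < h → (Y i : G → ℂ) (σ ^ h) = δ * (2 * (-1) ^ i) := by
    intro i i1 i2
    rw [(hv₀ h S.J_ne).2.2.2 i i1 i2, mul_comm i h, pow_mul, hζh]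
    rcases Nat.even_or_odd i with hi | hi <;> rw [hi.neg_one_pow] <;> norm_num
  have hδc : (δ : ℂ) * δ = 1 := by rcases hδ with rfl | rfl <;> norm_num
  obtain ⟨dX, hdX0, hdX⟩ := exists_degree_pos X.2
  have hxmod : (2 * h : ℤ) ∣ δ * dX - 1 := by
    obtain ⟨c, hc⟩ := dvd_of_const S hdX fun l hl' => (hv₀ l hl').1
    refine ⟨δ * c, ?_⟩
    rcases hδ with rfl | rfl
    · linear_combination hc
    · linear_combination -hc
  set T := tw (trivChar G) with hTdef
  have hT1 : ∀ g, (T : G → ℂ) g = (sg g : ℂ) := fun g => by rw [hTdef, htw]; simp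
  have hTmem : T ∈ Cfsg.principalBlock M G := htwmem _ trivChar_mem
  obtain ⟨B, b, hb, n2, n3, n4, n5, n6, hY, hmem, hvB⟩ :
      ∃ (B : IrrCharacter G) (b : ℤ), (b = 1 ∨ b = -1) ∧ trivChar G ≠ T ∧ trivChar G ≠ B ∧
        X ≠ T ∧ X ≠ B ∧ T ≠ B ∧
        (∀ i, 1 ≤ i → i < h → trivChar G ≠ Y i ∧ X ≠ Y i ∧ T ≠ Y i ∧ B ≠ Y i) ∧
        (∀ χ, χ ∈ Cfsg.principalBlock M G ↔ χ = trivChar G ∨ χ = X ∨ χ = T ∨ χ = B ∨
          ∃ i, 1 ≤ i ∧ i < h ∧ χ = Y i) ∧
        (∀ l : ℕ, σ ^ l ≠ 1 → (B : G → ℂ) (σ ^ l) = b * (-1) ^ (l + 1)) := by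
    rcases (hmem₀ T).1 hTmem with e | e | e | e | ⟨i, i1, i2, e⟩
    · exfalso
      have e' := hT1 σ
      rw [e, hσ, trivChar_apply] at e'
      norm_num at e'
    · exfalso
      have q1 := (hv₀ 1 (hl 1 one_pos (by omega))).1
      have q2 := (hv₀ 2 (hl 2 two_pos (by omega))).1
      rw [← e, hT1, hsgσpow] at q1 q2
      rw [← q1] at q2
      norm_num at q2
    · exact ⟨B₀, b₀, hb₀, e ▸ n2₀, n3₀, e ▸ n4₀, n5₀, e ▸ n6₀, e ▸ hY₀, e ▸ hmem₀,
        fun l hl' => (hv₀ l hl').2.2.1⟩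
    · refine ⟨A₀, a₀, ha₀, e ▸ n3₀, n2₀, e ▸ n5₀, n4₀, e ▸ n6₀.symm, fun i i1 i2 => ?_,
        fun χ => ?_, fun l hl' => (hv₀ l hl').2.1⟩
      · obtain ⟨p, q, r, w⟩ := hY₀ i i1 i2
        exact ⟨p, q, e ▸ w, r⟩
      · rw [hmem₀, e]; tauto
    · exfalso
      have q := hYJ i i1 i2
      rw [← e, hT1, hsgJ] at q
      rcases Nat.even_or_odd i with hi | hi <;> rw [hi.neg_one_pow] at q <;>
        rcases hδ with rfl | rfl <;> norm_num at q
  have hxne : δ * dX ≠ 1 → dX ≠ 1 := fun hne e => by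
    subst e
    rcases hδ with rfl | rfl
    · exact hne rfl
    · obtain ⟨c, hc⟩ := hxmod
      push_cast at hc
      have : ((h : ℤ) * c) = -1 := by linarith
      have := Int.eq_one_or_neg_one_of_mul_eq_neg_one this
      omega
  -- section counts
  set o := Nat.card S.core with ho
  set CA := Nat.card (S.core ⊓ Subgroup.centralizer ({τ} : Set G) : Subgroup G) with hCA
  set CB := Nat.card (S.core ⊓ Subgroup.centralizer ({σ * τ} : Set G) : Subgroup G) with hCB
  have hστo : orderOf (σ * τ) = 2 := by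
    refine Small.orderOf_eq_two_iff_sq.2 ⟨fun e => ?_, ?_⟩
    · rw [eq_inv_of_mul_eq_one_left e] at hσ
      rw [map_inv, Units.val_inv_eq_inv_val, hτs] at hσ
      norm_num at hσ
    · calc σ * τ * (σ * τ) = σ * (τ * σ * τ⁻¹) * (τ * τ) := by group
        _ = 1 := by rw [S.rel, Small.mul_self_of_orderOf_two S.ordτ, mul_one, mul_inv_cancel]
  have hnJ : ∀ i : ZMod (2 * h), overRefl S (σ ^ h) i * CA = if Even i.val then o else 0 := by
    intro i
    have e := overRefl_eq S (t := σ ^ h) i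
    by_cases hi : Even i.val
    · simp only [if_pos hi] at e ⊢
      rwa [if_pos hτ] at e
    · simp only [if_neg hi] at e ⊢
      rw [if_neg hnoJ, mul_eq_zero] at e
      rcases e with e | e
      · rw [e, zero_mul]
      · exact absurd e Nat.card_pos.ne'
  have hnU : ∀ i : ZMod (2 * h), ¬ Even i.val → overRefl S (σ * τ) i * CB = o := by
    intro i hi
    have e := overRefl_eq S (t := σ * τ) i
    simp only [if_neg hi] at e
    rwa [if_pos (IsConj.refl _)] at e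
  have hone : ((1 : ℕ) : ZMod (2 * h)) ≠ 0 := fun e => by
    have := Nat.le_of_dvd one_pos ((ZMod.natCast_eq_zero_iff _ _).1 e); omega
  have htwo : ((2 : ℕ) : ZMod (2 * h)) ≠ 0 := fun e => by
    have := Nat.le_of_dvd two_pos ((ZMod.natCast_eq_zero_iff _ _).1 e); omega
  have hv1 : ¬ Even ((1 : ℕ) : ZMod (2 * h)).val := by
    rw [ZMod.val_natCast_of_lt (by omega)]; simp
  have hv2 : Even ((2 : ℕ) : ZMod (2 * h)).val := by
    rw [ZMod.val_natCast_of_lt (by omega)]; exact even_two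
  have hc11 : (∑ i : ZMod (2 * h), overRefl S (σ ^ h) i * overRefl S (σ ^ h) (i + (1 : ℕ))) = 0 := by
    refine Finset.sum_eq_zero fun i _ => ?_
    have e1 := hnJ i
    have e2 := hnJ (i + (1 : ℕ))
    by_cases hi : Even i.val
    · rw [if_neg (fun he => hv1 (((even_val_add S i _).1 he).1 hi)), mul_eq_zero] at e2
      rcases e2 with e2 | e2
      · rw [e2, mul_zero]
      · exact absurd e2 Nat.card_pos.ne'
    · rw [if_neg hi, mul_eq_zero] at e1
      rcases e1 with e1 | e1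
      · rw [e1, zero_mul]
      · exact absurd e1 Nat.card_pos.ne'
  have hc12 : (∑ i : ZMod (2 * h), overRefl S (σ ^ h) i * overRefl S (σ ^ h) (i + (2 : ℕ))) *
      (CA * CA) = h * (o * o) := by
    rw [Finset.sum_mul, Finset.sum_congr rfl (g := fun i : ZMod (2 * h) =>
      if Even i.val then o * o else 0) fun i _ => ?_, ← Finset.sum_filter, Finset.sum_const,
      card_even_val S, smul_eq_mul]
    rw [mul_mul_mul_comm, hnJ, hnJ]
    have hiff : Even (i + ((2 : ℕ) : ZMod (2 * h))).val ↔ Even i.val := by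
      rw [even_val_add S]; exact iff_true_right hv2
    by_cases hi : Even i.val
    · rw [if_pos hi, if_pos (hiff.2 hi), if_pos hi]
    · rw [if_neg hi, zero_mul, if_neg hi]
  have hc21 : (∑ i : ZMod (2 * h), overRefl S (σ ^ h) i * overRefl S (σ * τ) (i + (1 : ℕ))) *
      (CA * CB) = h * (o * o) := by
    rw [Finset.sum_mul, Finset.sum_congr rfl (g := fun i : ZMod (2 * h) =>
      if Even i.val then o * o else 0) fun i _ => ?_, ← Finset.sum_filter, Finset.sum_const,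
      card_even_val S, smul_eq_mul]
    rw [mul_mul_mul_comm, hnJ]
    by_cases hi : Even i.val
    · rw [if_pos hi, if_pos hi, hnU _ (fun he => hv1 (((even_val_add S i _).1 he).1 hi))]
    · rw [if_neg hi, zero_mul, if_neg hi]
  have hsc : ∀ {t : G} {l : ℕ}, orderOf t = 2 → (l : ZMod (2 * h)) ≠ 0 →
      (Nat.card G : ℂ) * (o : ℂ) * (∑ χ : IrrCharacter G, if χ ∈ Cfsg.principalBlock M G then
        (χ : G → ℂ) (σ ^ l) * ((χ : G → ℂ) (σ ^ h) * (χ : G → ℂ) t / (χ : G → ℂ) 1) else 0) =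
      (Nat.card (Subgroup.centralizer ({σ ^ h} : Set G)) : ℂ) *
        (Nat.card (Subgroup.centralizer ({t} : Set G)) : ℂ) *
        ((∑ i : ZMod (2 * h), overRefl S (σ ^ h) i * overRefl S t (i + (l : ℕ)) : ℕ) : ℂ) := by
    intro t l ht hlne
    have e := section_count₂ S hM S.J_order ht hlne
    rw [Finset.sum_congr rfl fun χ _ => by rw [S.pw_natCast, conj_apply_pow S χ l]] at e
    exact e
  -- degrees and values of the remaining characters
  have hrel1 : ∀ i, 1 ≤ i → i < h → (Y i : G → ℂ) 1 = δ + (dX : ℂ) := by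
    intro i i1 i2
    have e := (hrel 1 (by rw [orderOf_one]; exact odd_one) i i1 i2).2
    rw [hdX] at e
    linear_combination -(δ : ℂ) * e - ((Y i : G → ℂ) 1 - dX) * hδc
  have hxC : ((δ : ℂ) * dX) ≠ 0 := mul_ne_zero (left_ne_zero_of_mul_eq_one hδc)
    (Nat.cast_ne_zero.2 hdX0.ne')
  have hTv : ∀ l : ℕ, (T : G → ℂ) (σ ^ l) = (-1) ^ l := fun l => by rw [hT1, hsgσpow]
  set E : ℕ → ℂ := fun l => ∑ χ : IrrCharacter G, if χ ∈ Cfsg.principalBlock M G then
    (χ : G → ℂ) (σ ^ l) * ((χ : G → ℂ) (σ ^ h) * (χ : G → ℂ) (σ ^ h) / (χ : G → ℂ) 1) else 0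
    with hE
  have hbb : (b : ℂ) * b = 1 := by rcases hb with rfl | rfl <;> norm_num
  have hJodd : ((-1 : ℂ)) ^ (h + 1) = -1 := hheven.add_one.neg_one_pow
  have hEsum : E 1 + E 2 = 2 + 2 / ((δ : ℂ) * dX) - 8 / (1 + (δ : ℂ) * dX) := by
    simp only [hE]
    rw [sum_block_eq n1 n2 n3 n4 n5 n6 hY hYinj hmem, sum_block_eq n1 n2 n3 n4 n5 n6 hY hYinj hmem]
    simp only [trivChar_apply, (hv₀ h S.J_ne).1, (hv₀ 1 (hl 1 one_pos (by omega))).1,
      (hv₀ 2 (hl 2 two_pos (by omega))).1, hTv, hvB h S.J_ne, hvB 1 (hl 1 one_pos (by omega)),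
      hvB 2 (hl 2 two_pos (by omega)), hdX, hJodd]
    have hYs : ∀ l : ℕ, 0 < l → l < 2 * h → ∑ i ∈ Finset.Ico 1 h, (Y i : G → ℂ) (σ ^ l) *
        ((Y i : G → ℂ) (σ ^ h) * (Y i : G → ℂ) (σ ^ h) / (Y i : G → ℂ) 1) =
        4 / (1 + (δ : ℂ) * dX) * (-1 - (-1) ^ l) := by
      intro l l0 l1
      rw [show ((-1 : ℂ)) ^ l = (ζ ^ l) ^ h by rw [← hζh, ← pow_mul, ← pow_mul, mul_comm],
        ← sum_pairs_pow (z := ζ ^ l) (by omega) (by
          rw [← pow_mul, mul_comm, pow_mul, hζ.pow_eq_one, one_pow])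
          (hζ.pow_ne_one_of_pos_of_lt l0.ne' l1), Finset.mul_sum]
      refine Finset.sum_congr rfl fun i hi => ?_
      obtain ⟨i1, i2⟩ := Finset.mem_Ico.1 hi
      rw [(hv₀ l (hl l l0 l1)).2.2.2 i i1 i2, hYJ i i1 i2, hrel1 i i1 i2, ← pow_mul, mul_comm l i]
      have hsum : (δ : ℂ) + dX = δ * (1 + (δ : ℂ) * dX) := by linear_combination -(dX : ℂ) * hδc
      rw [hsum]
      generalize (1 : ℂ) + (δ : ℂ) * dX = D
      rcases hδ with rfl | rfl <;> rcases Nat.even_or_odd i with hp | hp <;>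
        rw [hp.neg_one_pow] <;> push_cast <;> ring
    rw [hYs 1 one_pos (by omega), hYs 2 two_pos (by omega)]
    rcases hδ with rfl | rfl <;> push_cast <;> ring
  set C := Nat.card (Subgroup.centralizer ({σ ^ h} : Set G)) with hC
  have hCeq : C = 4 * h * o := card_C S
  set Ni := (Subgroup.centralizer ({σ ^ h} : Set G)).index with hNi
  have hG : Nat.card G = Ni * C := by rw [hNi, hC, Subgroup.index_mul_card]
  have hne : (Nat.card G : ℂ) * (o : ℂ) ≠ 0 :=
    mul_ne_zero natCard_ne_zero (Nat.cast_ne_zero.2 Nat.card_pos.ne')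
  have e1 : E 1 = 0 := by
    have e := hsc (l := 1) S.J_order hone
    rw [hc11, Nat.cast_zero, mul_zero, mul_eq_zero] at e
    exact e.resolve_left hne
  have e2 := hsc (l := 2) S.J_order htwo
  rw [← hC] at e2
  have hCA0 : (CA : ℂ) ≠ 0 := Nat.cast_ne_zero.2 Nat.card_pos.ne'
  have key : (Ni : ℂ) * (CA : ℂ) ^ 2 * (E 1 + E 2) = 4 * (h : ℂ) ^ 2 * (o : ℂ) ^ 2 := by
    rw [e1, zero_add]
    have hc := congrArg (fun n : ℕ => (n : ℂ)) hc12
    push_cast at hc
    rw [hG, Nat.cast_mul] at e2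
    have hCne : (C : ℂ) * o ≠ 0 :=
      mul_ne_zero (subgroup_card_ne_zero _) (Nat.cast_ne_zero.2 Nat.card_pos.ne')
    apply mul_left_cancel₀ hCne
    push_cast at e2
    rw [hCeq] at e2 hCne ⊢
    push_cast at e2 ⊢
    linear_combination (CA : ℂ) ^ 2 * e2 + (4 * h * o) * (4 * h * o) * hc
  have hxne1 : δ * dX ≠ 1 := by
    intro e
    have e' : (δ : ℂ) * dX = 1 := by exact_mod_cast e
    rw [hEsum, e'] at key
    have h0 : (4 : ℂ) * (h : ℂ) ^ 2 * (o : ℂ) ^ 2 = 0 := by rw [← key]; norm_num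
    exact mul_ne_zero (mul_ne_zero (by norm_num) (pow_ne_zero 2 (Nat.cast_ne_zero.2 (by omega))))
      (pow_ne_zero 2 (Nat.cast_ne_zero.2 (Nat.card_pos.ne' : o ≠ 0))) h0
  have hx1C : 1 + (δ : ℂ) * dX ≠ 0 := by
    intro e
    have : δ * (dX : ℤ) = -1 := by
      apply Int.cast_injective (α := ℂ); push_cast; linear_combination e
    rw [this] at hxmod
    obtain ⟨c, hc⟩ := hxmod
    have : ((h : ℤ) * c) = -1 := by linarith
    have := Int.eq_one_or_neg_one_of_mul_eq_neg_one this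
    omega
  have hδ0 : (δ : ℂ) ≠ 0 := left_ne_zero_of_mul hxC
  have hdX0C : (dX : ℂ) ≠ 0 := right_ne_zero_of_mul hxC
  have hI1 : (Ni : ℤ) * (CA : ℤ) ^ 2 * (δ * dX - 1) ^ 2 =
      2 * (h : ℤ) ^ 2 * (o : ℤ) ^ 2 * ((δ * dX) * (δ * dX + 1)) := by
    apply Int.cast_injective (α := ℂ)
    push_cast
    rw [hEsum] at key
    have : (2 + 2 / ((δ : ℂ) * dX) - 8 / (1 + (δ : ℂ) * dX)) * ((δ * dX) * (δ * dX + 1)) =
        2 * ((δ : ℂ) * dX - 1) ^ 2 := by
      field_simp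
      ring
    linear_combination ((δ : ℂ) * dX * (δ * dX + 1) / 2) * key -
      ((Ni : ℂ) * (CA : ℂ) ^ 2 / 2) * this
  -- the twisted character
  have hdX1 := hxne hxne1
  have hBtw : tw X = B := by
    rcases (hmem (tw X)).1 (htwmem X ((hmem X).2 (Or.inr (Or.inl rfl)))) with
      e | e | e | e | ⟨i, i1, i2, e⟩
    · exfalso
      have q := congrArg (fun χ : IrrCharacter G => (χ : G → ℂ) 1) e
      simp only [htw, map_one, Units.val_one, one_mul, hdX, trivChar_apply] at q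
      exact hdX1 (by exact_mod_cast q)
    · exfalso
      have q := congrArg (fun χ : IrrCharacter G => (χ : G → ℂ) σ) e
      have q1 := (hv₀ 1 (hl 1 one_pos (by omega))).1
      rw [pow_one] at q1
      simp only [htw, hσ, q1] at q
      rcases hδ with rfl | rfl <;> norm_num at q
    · exfalso
      have q := congrArg (fun χ : IrrCharacter G => (χ : G → ℂ) 1) e
      simp only [htw, hT1, map_one, Units.val_one, one_mul, hdX] at q
      exact hdX1 (by exact_mod_cast q)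
    · exact e
    · exfalso
      have q := congrArg (fun χ : IrrCharacter G => (χ : G → ℂ) (σ ^ h)) e
      simp only [htw, hsgJ, one_mul, (hv₀ h S.J_ne).1, hYJ i i1 i2] at q
      rcases Nat.even_or_odd i with hi | hi <;> rw [hi.neg_one_pow] at q <;>
        rcases hδ with rfl | rfl <;> norm_num at q
  -- the column at `σ τ`
  have huu : σ * τ * (σ * τ) = 1 := Small.mul_self_of_orderOf_two hστo
  choose z hz using fun χ : IrrCharacter G => BlocksFrobenius.exists_int_apply χ huu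
  have hzodd : z X ≠ 0 := by
    intro e
    obtain ⟨n, hn, hn2⟩ := Cfsg.Agent.S0944.result X (σ * τ) hστo
    rw [hz X, e] at hn
    have hn0 : n = 0 := by exact_mod_cast hn.symm
    rw [hn0, sub_zero, show (Cfsg.charDegree (X : G → ℂ)) = dX from by
      simp [Cfsg.charDegree, hdX]] at hn2
    obtain ⟨c, hc⟩ := hxmod
    obtain ⟨m, hm⟩ := hn2
    rcases hδ with rfl | rfl <;> rw [mul_assoc] at hc <;> omega
  have hk2 : k ≤ 2 := by
    set Cu := Subgroup.centralizer ({σ * τ} : Set G) with hCu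
    have hdvd : 2 ^ k ∣ Nat.card Cu := hLi ▸ Subgroup.index_dvd_card _
    obtain ⟨T', hT'⟩ := (IsPGroup.of_card (p := 2) (n := 1)
      (show Nat.card (Subgroup.zpowers (⟨σ * τ, Subgroup.mem_centralizer_singleton_iff.2 rfl⟩ : Cu))
        = 2 ^ 1 by rw [Nat.card_zpowers, Subgroup.orderOf_mk, hστo, pow_one])).exists_le_sylow
    have hkT : 2 ^ k ∣ Nat.card (T' : Subgroup Cu) := by
      rw [T'.card_eq_multiplicity]
      exact (Nat.pow_dvd_pow 2
        ((Nat.prime_two.pow_dvd_iff_le_factorization Nat.card_pos.ne').1 hdvd))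
    obtain ⟨P', hP'⟩ := (T'.isPGroup'.map Cu.subtype).exists_le_sylow
    obtain ⟨g, hg⟩ := MulAction.exists_smul_eq G P' P
    have hmapP : ∀ x : Cu, x ∈ (T' : Subgroup Cu) → g * (x : G) * g⁻¹ ∈ (P : Subgroup G) := by
      intro x hx
      rw [← hg, Sylow.coe_subgroup_smul]
      exact Subgroup.smul_mem_pointwise_smul _ _ _ (hP' ⟨x, hx, rfl⟩)
    have huP : g * (σ * τ) * g⁻¹ ∈ (P : Subgroup G) :=
      hmapP _ (hT' (Subgroup.mem_zpowers _))
    obtain ⟨i, hi | hi⟩ := S.elems_pw huP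
    · exfalso
      refine hnoJ (IsConj.symm (isConj_iff.2 ⟨g, ?_⟩))
      rw [hi]
      refine S.J_unique ?_ ?_
      · show pw σ i * pw σ i = 1
        rw [← hi, conj_mul, huu, mul_one, mul_inv_cancel]
      · show pw σ i ≠ 1
        rw [← hi, ne_eq, conj_eq_one_iff]
        exact Small.ne_one_of_orderOf_two hστo
    · let f : ↥(T' : Subgroup Cu) →
          ((P : Subgroup G) ⊓ Subgroup.centralizer ({τ * pw σ i} : Set G) : Subgroup G) :=
        fun x => ⟨g * ((x : Cu) : G) * g⁻¹, hmapP _ x.2, Subgroup.mem_centralizer_singleton_iff.2 (by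
          rw [← hi]
          have hxc := Subgroup.mem_centralizer_singleton_iff.1 (x : Cu).2
          calc g * ((x : Cu) : G) * g⁻¹ * (g * (σ * τ) * g⁻¹)
              = g * (((x : Cu) : G) * (σ * τ)) * g⁻¹ := by group
            _ = g * (σ * τ * ((x : Cu) : G)) * g⁻¹ := by rw [hxc]
            _ = g * (σ * τ) * g⁻¹ * (g * ((x : Cu) : G) * g⁻¹) := by group)⟩
      have hle := Nat.card_le_card_of_injective f fun x y e =>
        Subtype.ext (Subtype.ext (mul_left_cancel (mul_right_cancel (congrArg Subtype.val e))))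
      rw [S.card_P_refl] at hle
      have h4 : 2 ^ k ≤ 2 ^ 2 := (Nat.le_of_dvd Nat.card_pos hkT).trans hle
      exact (Nat.pow_le_pow_iff_right one_lt_two).1 h4
  have hsum := sum_sq_invol hM hστo L hLC hLn hLodd.not_two_dvd_nat hLi
  rw [sum_block_eq n1 n2 n3 n4 n5 n6 hY hYinj hmem] at hsum
  have hBz : z B = -z X := by
    have e := hz B
    rw [← hBtw, htw, hsgu, hz X] at e
    have : -(z X : ℂ) = (z (tw X) : ℂ) := by linear_combination e
    rw [← hBtw]
    exact_mod_cast this.symm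
  simp only [trivChar_apply, hT1, hsgu, map_neg, map_one] at hsum
  simp only [hz, hBz, Int.cast_neg, map_neg, map_intCast] at hsum
  have hsumZ : 2 + 2 * (z X) ^ 2 + ∑ i ∈ Finset.Ico 1 h, z (Y i) ^ 2 = 2 ^ k := by
    apply Int.cast_injective (α := ℂ)
    push_cast
    rw [← hsum, Finset.sum_congr rfl fun i _ => sq (z (Y i) : ℂ)]
    ring
  have hpos : 1 ≤ z X ^ 2 := Int.add_one_le_iff.2 (lt_of_le_of_ne (sq_nonneg _)
    (Ne.symm (pow_ne_zero _ hzodd)))
  have h4 : (2 : ℤ) ^ k ≤ 4 := by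
    calc (2 : ℤ) ^ k ≤ 2 ^ 2 := pow_le_pow_right₀ (by norm_num) hk2
      _ = 4 := by norm_num
  have hnn : 0 ≤ ∑ i ∈ Finset.Ico 1 h, z (Y i) ^ 2 := Finset.sum_nonneg fun _ _ => sq_nonneg _
  have hy0 : ∀ i ∈ Finset.Ico 1 h, z (Y i) = 0 := fun i hi => by
    have := Finset.single_le_sum (f := fun i => z (Y i) ^ 2) (fun _ _ => sq_nonneg _) hi
    have h0 : z (Y i) ^ 2 ≤ 0 := by linarith
    exact pow_eq_zero_iff (two_ne_zero) |>.1 (le_antisymm h0 (sq_nonneg _))
  have hs1 : z X = 1 ∨ z X = -1 := sq_eq_one_iff.1 (le_antisymm (by linarith) hpos)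
  have hk : k = 2 := by
    have : (2 : ℤ) ^ k = 2 ^ 2 := le_antisymm (by norm_num; exact h4) (by norm_num; linarith)
    exact_mod_cast (pow_right_injective₀ (by norm_num) (by norm_num) this)
  have hcu : Nat.card (Subgroup.centralizer ({σ * τ} : Set G)) = 4 * Nat.card L := by
    rw [← Nat.card_congr (Subgroup.subgroupOfEquivOfLe hLC).toEquiv,
      ← (L.subgroupOf (Subgroup.centralizer ({σ * τ} : Set G))).index_mul_card, hLi, hk]
    norm_num
  have e3 := hsc (l := 1) hστo hone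
  rw [sum_block_eq n1 n2 n3 n4 n5 n6 hY hYinj hmem,
    Finset.sum_eq_zero (s := Finset.Ico 1 h) fun i hi => by rw [hz, hy0 i hi]; simp] at e3
  simp only [trivChar_apply, hTv, (hv₀ h S.J_ne).1, (hv₀ 1 (hl 1 one_pos (by omega))).1] at e3
  have qB1 : (B : G → ℂ) (σ ^ 1) = -(δ : ℂ) := by
    rw [← hBtw, htw, hsgσpow, (hv₀ 1 (hl 1 one_pos (by omega))).1]; ring
  have qBJ : (B : G → ℂ) (σ ^ h) = (δ : ℂ) := by
    rw [← hBtw, htw, hsgJ, (hv₀ h S.J_ne).1, one_mul]
  have qB0 : (B : G → ℂ) 1 = (dX : ℂ) := by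
    rw [← hBtw, htw, map_one, Units.val_one, one_mul, hdX]
  rw [qB1, qBJ, qB0, hz B, hBz, hz X, hdX, hT1, hT1, hsgu, map_one, Units.val_one,
    hheven.neg_one_pow, hcu, hG] at e3
  have hI2 : (Ni : ℤ) * 2 * (dX + z X) * CA * CB = 4 * (Nat.card L : ℤ) * h * o * dX := by
    apply Int.cast_injective (α := ℂ)
    push_cast
    have hc := congrArg (fun n : ℕ => (n : ℂ)) hc21
    push_cast at hc e3
    have hCne : (C : ℂ) * o ≠ 0 :=
      mul_ne_zero (subgroup_card_ne_zero _) (Nat.cast_ne_zero.2 Nat.card_pos.ne')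
    apply mul_left_cancel₀ hCne
    field_simp at e3
    linear_combination (CA : ℂ) * CB * e3 + (C : ℂ) * 4 * (Nat.card L : ℂ) * dX * hc
      - (C : ℂ) * (o : ℂ) * Ni * 2 * (z X : ℂ) * CA * CB * hδc
  exact ⟨dX, δ, z X, hdX0, hδ, hs1, hxmod, hxne1, hI1, hI2⟩

end CfsgLib.SuzukiWong
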