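import Cfsg.Agent.SuzukiWong.Exceptional
import Cfsg.Agent.SuzukiWong.TwoClass

/-!
# Suzuki–Wong: reflections invert the core
-/

set_option autoImplicit false
set_option linter.unusedSectionVars false
set_option linter.style.haveILetI false

namespace CfsgLib.SuzukiWong

open Subgroup CfsgLib.Inv54.DihedralBlock

universe u

variable {G : Type u} [Group G] [Finite G] {P : Sylow 2 G} {σ τ : G} {h : ℕ}

theorem setup_swap (S : Setup P σ τ h) : Setup P σ (σ * τ) h := by
  have hττ := Small.mul_self_of_orderOf_two S.ordτ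
  have hrel : σ * τ * σ * (σ * τ)⁻¹ = σ⁻¹ := by
    calc σ * τ * σ * (σ * τ)⁻¹ = σ * (τ * σ * τ⁻¹) * σ⁻¹ := by group
      _ = σ⁻¹ := by rw [S.rel, mul_inv_cancel, one_mul]
  have ho : orderOf (σ * τ) = 2 := by
    refine Small.orderOf_eq_two_iff_sq.2 ⟨fun e => S.notMem ?_, ?_⟩
    · rw [eq_inv_of_mul_eq_one_right e]; exact inv_mem (mem_zpowers σ)
    · calc σ * τ * (σ * τ) = σ * (τ * σ * τ⁻¹) * (τ * τ) := by group
        _ = 1 := by rw [S.rel, hττ, mul_one, mul_inv_cancel]
  refine setup_of_generators P S.two_le S.pow2 S.ordσ ho hrel (le_antisymm ?_ fun p hp => ?_)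
  · rw [Subgroup.closure_le]
    rintro x (rfl | rfl)
    exacts [S.memσ, mul_mem S.memσ S.memτ]
  · set K := Subgroup.closure ({σ, σ * τ} : Set G)
    have hσK : σ ∈ K := Subgroup.subset_closure (Or.inl rfl)
    have hτK : τ ∈ K := by
      have := mul_mem (inv_mem hσK) (Subgroup.subset_closure (k := ({σ, σ * τ} : Set G)) (Or.inr rfl))
      rwa [inv_mul_cancel_left] at this
    obtain ⟨i, rfl | rfl⟩ := S.elems p hp
    exacts [pow_mem hσK i, mul_mem hτK (pow_mem hσK i)]

theorem core_le_core {τ' : G} (S : Setup P σ τ h) (S' : Setup P σ τ' h) : S.core ≤ S'.core :=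
  fun _ hg => mem_core_of S' (S.core_le hg) (odd_orderOf S hg)

section

variable [IsSimpleGroup G] (hna : ¬ IsMulCommutative G)
  (hodd : ∀ p : ℕ, p.Prime → p ≠ 2 → ∀ R : Sylow p G, IsCyclic R)
  (hone : ∀ a b : G, orderOf a = 2 → orderOf b = 2 → IsConj a b) (S : Setup P σ τ h)

include hna hodd S

/-- A core element of prime order fixed by `σ` and `τ` is trivial. -/
theorem not_both_fixed {r : ℕ} (hr : r.Prime) {y : G} (hy : y ∈ S.core) (hord : orderOf y = r)
    (hσ : σ * y = y * σ) (hτ : τ * y = y * τ) : False := by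
  have h1 := eq_one_of_fixed S hna hodd hy fun p hp => by
    obtain ⟨i, rfl | rfl⟩ := S.elems p hp
    · exact ((show Commute σ y from hσ).pow_left i).eq
    · exact ((show Commute τ y from hτ).mul_left ((show Commute σ y from hσ).pow_left i)).eq
  rw [h1, orderOf_one] at hord
  exact hr.ne_one hord.symm

include hone

/-- The index of `C(σ ^ h)` is prime to the order of the core. -/
theorem coprime_index :
    (centralizer ({σ ^ h} : Set G)).index.Coprime (Nat.card S.core) := by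
  haveI := core_isCyclic S hna hodd
  have hσ2 := sigma_sq_centralizes S hodd
  refine Nat.coprime_of_dvd' fun r hr hrN hro => ?_
  haveI := Fact.mk hr
  obtain ⟨⟨y, hy⟩, hy'⟩ := exists_prime_orderOf_dvd_card' (G := S.core) r hro
  rw [Subgroup.orderOf_mk] at hy'
  exfalso
  obtain ⟨R, hyR, hRN, hRC⟩ := exists_sylow_fixing S hna hodd hy hy'
  by_cases hs : σ ^ (h / 2) * y = y * σ ^ (h / 2)
  · exact not_dvd_index_of_le S R (hRC hs) hrN
  have hh2 : h = 2 := by
    obtain ⟨k, hk⟩ := S.pow2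
    have := S.two_le
    rcases k with _ | _ | k
    · simp at hk; omega
    · simpa using hk
    · exfalso
      refine hs ?_
      rw [hk, show 2 ^ (k + 2) / 2 = 2 * 2 ^ k by rw [pow_succ, Nat.mul_div_cancel _ two_pos]; ring,
        pow_mul]
      exact (Subgroup.mem_centralizer_iff.1 (pow_mem hσ2 (2 ^ k)) y hy).symm
  subst hh2
  have hσy : σ * y ≠ y * σ := fun e => hs (by simpa using e)
  by_cases hle : (R : Subgroup G) ≤ centralizer ({σ ^ 2} : Set G)
  · exact not_dvd_index_of_le S R hle hrN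
  obtain ⟨x, hxR, hxJ⟩ := Set.not_subset.1 hle
  rcases fix_or_inv S hσ2 hr hy hy' S.memτ with e | e
  · exact exceptional hna hodd hone S hy hy' (mul_inv_eq_iff_eq_mul.1 e) hσy R hyR hRN hxR hxJ
  · have hσ' := (fix_or_inv S hσ2 hr hy hy' S.memσ).resolve_left fun e' =>
      hσy (mul_inv_eq_iff_eq_mul.1 e')
    have e2 : σ * τ * y = y * (σ * τ) := by
      refine mul_inv_eq_iff_eq_mul.1 ?_
      calc σ * τ * y * (σ * τ)⁻¹ = σ * (τ * y * τ⁻¹) * σ⁻¹ := by group
        _ = (σ * y * σ⁻¹)⁻¹ := by rw [e]; group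
        _ = y := by rw [hσ', inv_inv]
    exact exceptional hna hodd hone (setup_swap S) (core_le_core S (setup_swap S) hy) hy' e2 hσy R
      hyR hRN hxR hxJ

set_option maxHeartbeats 1000000 in
/-- No core element of prime order commutes with `τ`. -/
theorem no_fixed_prime {r : ℕ} [hr : Fact r.Prime] {y : G} (hy : y ∈ S.core)
    (hord : orderOf y = r) (hτy : τ * y = y * τ) : False := by
  classical
  haveI : Fact (Nat.Prime 2) := ⟨Nat.prime_two⟩
  haveI := core_isCyclic S hna hodd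
  haveI := Fintype.ofFinite G
  have hσ2 := sigma_sq_centralizes S hodd
  have hσy : σ * y ≠ y * σ := fun e => not_both_fixed hna hodd S hr.out hy hord e hτy
  have hσinv : σ * y * σ⁻¹ = y⁻¹ := (fix_or_inv S hσ2 hr.out hy hord S.memσ).resolve_left
    fun e => hσy (mul_inv_eq_iff_eq_mul.1 e)
  have hy1 : y ≠ 1 := fun e => by rw [e, orderOf_one] at hord; exact hr.out.ne_one hord.symm
  have hyy : y ≠ y⁻¹ := ne_inv_of_odd (odd_orderOf S hy) hy1
  have hττ := Small.mul_self_of_orderOf_two S.ordτ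
  have hJy : σ ^ h * y = y * σ ^ h :=
    (Subgroup.mem_centralizer_singleton_iff.1 (S.core_le hy)).symm
  -- the elements fixing or inverting `y`
  let X : Subgroup G :=
    { carrier := {g | g * y * g⁻¹ = y ∨ g * y * g⁻¹ = y⁻¹}
      mul_mem' := fun {a b} ha hb => by
        have e : a * b * y * (a * b)⁻¹ = a * (b * y * b⁻¹) * a⁻¹ := by group
        show a * b * y * (a * b)⁻¹ = y ∨ _ = y⁻¹
        rcases hb with hb | hb <;> rw [e, hb] <;> rcases ha with ha | ha
        · exact Or.inl ha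
        · exact Or.inr ha
        · exact Or.inr (by rw [← conj_inv, ha])
        · exact Or.inl (by rw [← conj_inv, ha, inv_inv])
      one_mem' := Or.inl (by simp)
      inv_mem' := fun {a} ha => by
        show a⁻¹ * y * a⁻¹⁻¹ = y ∨ _ = y⁻¹
        rcases ha with ha | ha
        · left; nth_rewrite 1 [← ha]; group
        · right
          calc a⁻¹ * y * a⁻¹⁻¹ = a⁻¹ * (a * y * a⁻¹)⁻¹ * a := by rw [ha]; group
            _ = y⁻¹ := by group }
  have hXmem : ∀ {g : G}, g ∈ X ↔ g * y * g⁻¹ = y ∨ g * y * g⁻¹ = y⁻¹ := Iff.rfl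
  have hCX : centralizer ({σ ^ h} : Set G) ≤ X := fun c hc => by
    obtain ⟨k, hk, p, hp, rfl⟩ := S.decomp hc
    refine mul_mem (Or.inl ?_) (fix_or_inv S hσ2 hr.out hy hord hp)
    rw [(commute_of_cyclic hk hy).eq, mul_inv_cancel_right]
  have hPX : (P : Subgroup G) ≤ X := S.P_le_C.trans hCX
  let σX : X := ⟨σ, hPX S.memσ⟩
  let τX : X := ⟨τ, hPX S.memτ⟩
  haveI := Fintype.ofFinite X
  let sg : X →* ℂˣ :=
    { toFun := fun g => if (g : G) * y * (g : G)⁻¹ = y then 1 else -1
      map_one' := by simp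
      map_mul' := fun a b => by
        have e : (a : G) * b * y * ((a : G) * b)⁻¹ = a * ((b : G) * y * (b : G)⁻¹) * (a : G)⁻¹ := by
          group
        simp only [Subgroup.coe_mul, e]
        rcases hXmem.1 a.2 with ha | ha <;> rcases hXmem.1 b.2 with hb | hb <;>
          simp [hb, ha, ← conj_inv, hyy.symm] }
  have hsgσ : (sg σX : ℂ) = -1 := by
    show ((if σ * y * σ⁻¹ = y then (1 : ℂˣ) else -1 : ℂˣ) : ℂ) = -1
    rw [if_neg (by rw [hσinv]; exact hyy.symm)]; simp
  have hsgτ : (sg τX : ℂ) = 1 := by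
    show ((if τ * y * τ⁻¹ = y then (1 : ℂˣ) else -1 : ℂˣ) : ℂ) = 1
    rw [if_pos (mul_inv_eq_iff_eq_mul.2 hτy)]; simp
  have hsq : ∀ g, sg g * sg g = 1 := fun g => by
    show (if _ then (1 : ℂˣ) else -1) * (if _ then (1 : ℂˣ) else -1) = 1
    split_ifs <;> simp
  -- `σ ^ h` is conjugate to `τ` in `X`
  have hfusion : IsConj (σX ^ h) τX := by
    obtain ⟨f, hf⟩ := isConj_iff.1 (hone τ (σ ^ h) S.ordτ S.J_order)
    set u := f * σ ^ h * f⁻¹ with hu
    have huJ : Commute u (σ ^ h) := by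
      have h1 : Commute (f * σ ^ h * f⁻¹) (f * τ * f⁻¹) :=
        (Commute.conj_iff f).2 (S.J_central S.memτ).symm
      rwa [hf] at h1
    have huu : u * u = 1 := by rw [hu, conj_mul, S.J_sq, mul_one, mul_inv_cancel]
    have hu1 : u ≠ 1 := by rw [hu, ne_eq, conj_eq_one_iff]; exact S.J_ne
    have huC : u ∈ centralizer ({σ ^ h} : Set G) := Subgroup.mem_centralizer_singleton_iff.2 huJ
    obtain ⟨k, hk, p, hp, hkp⟩ := S.decomp huC
    have hpp : p * p = 1 := by
      have h1 := congrArg S.pr huu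
      rwa [S.pr_mul huC huC, hkp, S.pr_eq hk hp, S.pr_of_core S.core.one_mem] at h1
    have hpk : p * k * p⁻¹ = k⁻¹ := by
      rw [hkp] at huu
      rw [inv_eq_of_mul_eq_one_right hpp]
      exact eq_inv_of_mul_eq_one_right (by simpa [mul_assoc] using huu)
    obtain ⟨j, hj⟩ := odd_orderOf S hk
    set m := k ^ (j + 1) with hm
    have hmm : m * m = k := by
      rw [hm, ← pow_add, show j + 1 + (j + 1) = 2 * j + 1 + 1 by omega, pow_succ, ← hj,
        pow_orderOf_eq_one, one_mul]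
    have hmcore : m ∈ S.core := pow_mem hk _
    have hpm : p * m * p⁻¹ = m⁻¹ := by rw [hm, ← conj_pow, hpk, inv_pow]
    set f' := m⁻¹ * f with hf'
    have hmJ : Commute m (σ ^ h) := Subgroup.mem_centralizer_singleton_iff.1 (S.core_le hmcore)
    have hf'τ : f' * τ * f'⁻¹ = σ ^ h := by
      calc f' * τ * f'⁻¹ = m⁻¹ * (f * τ * f⁻¹) * m := by rw [hf']; group
        _ = σ ^ h := by rw [hf, mul_assoc, ← hmJ.eq, inv_mul_cancel_left]
    have hf'J : f' * σ ^ h * f'⁻¹ = p := by
      calc f' * σ ^ h * f'⁻¹ = m⁻¹ * u * m := by rw [hf', hu]; group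
        _ = m * (p * m * p⁻¹) * p := by rw [hkp, ← hmm]; group
        _ = p := by rw [hpm]; group
    have hp1 : p ≠ 1 := fun e => by
      rw [e] at hf'J; exact S.J_ne (conj_eq_one_iff.1 hf'J)
    have hpJ : p ≠ σ ^ h := fun e => by
      rw [e] at hf'J
      exact S.notMem (mul_left_cancel (mul_right_cancel (hf'J.trans hf'τ.symm)) ▸
        pow_mem (mem_zpowers σ) h)
    obtain ⟨i, hi⟩ : ∃ i : ℕ, p = τ * σ ^ i := by
      obtain ⟨i, e | e⟩ := S.elems p hp
      · exact absurd (S.J_unique (e ▸ hpp) (e ▸ hp1)) (e ▸ hpJ)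
      · exact ⟨i, e⟩
    set s := σ ^ (h / 2) with hs
    have hsJ : s * s = σ ^ h := by
      obtain ⟨k, hk⟩ := h_even S
      rw [hs, ← pow_add]; congr 1; omega
    have hsP : s ∈ (P : Subgroup G) := pow_mem S.memσ _
    have hsp : s * p * s⁻¹ = p * σ ^ h := by
      have h1 : p * s * p⁻¹ = s⁻¹ := by
        rw [hi, hs]
        calc τ * σ ^ i * σ ^ (h / 2) * (τ * σ ^ i)⁻¹
            = τ * (σ ^ i * σ ^ (h / 2) * (σ ^ i)⁻¹) * τ⁻¹ := by group
          _ = (σ ^ (h / 2))⁻¹ := by rw [← pow_mul_comm, mul_inv_cancel_right, S.inverts]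
      calc s * p * s⁻¹ = p * (p⁻¹ * s * p) * s⁻¹ := by group
        _ = p * (p * s * p⁻¹) * s⁻¹ := by rw [inv_eq_of_mul_eq_one_right hpp]
        _ = p * (σ ^ h)⁻¹ := by rw [h1, ← hsJ]; group
        _ = _ := by rw [inv_eq_of_mul_eq_one_right S.J_sq]
    -- the second element fixes `τ` and moves `σ ^ h`
    set t := f'⁻¹ * s * f' with ht
    have hy'core : f' * y * f'⁻¹ ∈ S.core := mem_core_of S
      (Subgroup.mem_centralizer_singleton_iff.2 (by
        have h1 : Commute (f' * y * f'⁻¹) (f' * τ * f'⁻¹) :=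
          (Commute.conj_iff f').2 (show Commute y τ from hτy.symm)
        rw [hf'τ] at h1; exact h1))
      (by rw [Small.orderOf_conj_eq]; exact odd_orderOf S hy)
    have htX : t ∈ X := by
      rw [hXmem, ht]
      rcases fix_or_inv S hσ2 hr.out hy'core (by rw [Small.orderOf_conj_eq]; exact hord) hsP with
        e | e
      · left
        calc f'⁻¹ * s * f' * y * (f'⁻¹ * s * f')⁻¹ = f'⁻¹ * (s * (f' * y * f'⁻¹) * s⁻¹) * f' := by
              group
          _ = y := by rw [e]; group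
      · right
        calc f'⁻¹ * s * f' * y * (f'⁻¹ * s * f')⁻¹ = f'⁻¹ * (s * (f' * y * f'⁻¹) * s⁻¹) * f' := by
              group
          _ = y⁻¹ := by rw [e]; group
    refine isConj_iff.2 ⟨(⟨s, hPX hsP⟩ : X) * ⟨t, htX⟩, Subtype.ext ?_⟩
    show s * t * σ ^ h * (s * t)⁻¹ = τ
    have etJ : t * σ ^ h * t⁻¹ = σ ^ h * τ := by
      calc t * σ ^ h * t⁻¹ = f'⁻¹ * (s * (f' * σ ^ h * f'⁻¹) * s⁻¹) * f' := by rw [ht]; group
        _ = f'⁻¹ * ((f' * σ ^ h * f'⁻¹) * (f' * τ * f'⁻¹)) * f' := by rw [hf'J, hsp, hf'τ]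
        _ = σ ^ h * τ := by group
    have esτ : s * τ * s⁻¹ = τ * σ ^ h := by
      have h1 : τ * s * τ⁻¹ = s⁻¹ := by rw [hs]; exact S.inverts _
      calc s * τ * s⁻¹ = τ * (τ⁻¹ * s * τ) * s⁻¹ := by group
        _ = τ * (τ * s * τ⁻¹) * s⁻¹ := by rw [Small.inv_eq_self_of_orderOf_two S.ordτ]
        _ = τ * (σ ^ h)⁻¹ := by rw [h1, ← hsJ]; group
        _ = _ := by rw [inv_eq_of_mul_eq_one_right S.J_sq]
    calc s * t * σ ^ h * (s * t)⁻¹ = s * (t * σ ^ h * t⁻¹) * s⁻¹ := by group
      _ = (s * σ ^ h * s⁻¹) * (s * τ * s⁻¹) := by rw [etJ]; group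
      _ = σ ^ h * (τ * σ ^ h) := by rw [S.J_central hsP, mul_inv_cancel_right, esτ]
      _ = τ := by rw [S.J_central S.memτ, ← mul_assoc, S.J_sq, one_mul]
  -- the setting inside `X`
  let PX : Sylow 2 X := P.subtype hPX
  have hPXmem : ∀ {g : X}, g ∈ (PX : Subgroup X) ↔ (g : G) ∈ (P : Subgroup G) := fun {g} => by
    rw [Sylow.coe_subtype]; exact Subgroup.mem_subgroupOf
  have SX : Setup PX σX τX h :=
    { two_le := S.two_le
      pow2 := S.pow2
      memσ := hPXmem.2 S.memσ
      memτ := hPXmem.2 S.memτ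
      ordσ := (Subgroup.orderOf_mk σ _).trans S.ordσ
      ordτ := (Subgroup.orderOf_mk τ _).trans S.ordτ
      rel := Subtype.ext S.rel
      notMem := fun hm => by
        obtain ⟨k, hk⟩ := Subgroup.mem_zpowers_iff.1 hm
        exact S.notMem ⟨k, by simpa using congrArg Subtype.val hk⟩
      elems := fun g hg => by
        obtain ⟨i, e | e⟩ := S.elems g (hPXmem.1 hg)
        · exact ⟨i, Or.inl (Subtype.ext e)⟩
        · exact ⟨i, Or.inr (Subtype.ext e)⟩
      iso := by
        obtain ⟨e⟩ := S.iso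
        exact ⟨((MulEquiv.subgroupCongr (Sylow.coe_subtype P hPX)).trans
          (Subgroup.subgroupOfEquivOfLe hPX)).trans e⟩ }
  have hCXmem : ∀ {g : X}, g ∈ centralizer ({σX ^ h} : Set X) ↔
      (g : G) ∈ centralizer ({σ ^ h} : Set G) := fun {g} => by
    rw [Subgroup.mem_centralizer_singleton_iff, Subgroup.mem_centralizer_singleton_iff]
    exact ⟨fun e => congrArg Subtype.val e, fun e => Subtype.ext e⟩
  have hcoreX : ∀ {g : X}, g ∈ SX.core ↔ (g : G) ∈ S.core := fun {g} =>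
    ⟨fun hg => mem_core_of S (hCXmem.1 (SX.core_le hg))
      (by rw [Subgroup.orderOf_coe]; exact odd_orderOf SX hg),
     fun hg => mem_core_of SX (hCXmem.2 (S.core_le hg))
      (by rw [← Subgroup.orderOf_coe]; exact odd_orderOf S hg)⟩
  have hcards : ∀ (A : Subgroup G) (B : Subgroup X), A ≤ X → (∀ g : X, g ∈ B ↔ (g : G) ∈ A) →
      Nat.card B = Nat.card A := fun A B hA hAB => by
    rw [← Subgroup.card_map_of_injective (K := B) X.subtype_injective]
    congr 2
    ext g
    exact ⟨fun ⟨b, hb, e⟩ => e ▸ (hAB b).1 hb, fun hg => ⟨⟨g, hA hg⟩, (hAB _).2 hg, rfl⟩⟩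
  have hcoreXle : S.core ≤ X := S.core_le.trans hCX
  have ho : Nat.card SX.core = Nat.card S.core := hcards _ _ hcoreXle fun g => hcoreX
  have hAB : ∀ v : X, Nat.card (SX.core ⊓ centralizer ({v} : Set X) : Subgroup X) =
      Nat.card (S.core ⊓ centralizer ({(v : G)} : Set G) : Subgroup G) := fun v =>
    hcards _ _ (inf_le_left.trans hcoreXle) fun g => by
      rw [Subgroup.mem_inf, Subgroup.mem_inf, hcoreX, Subgroup.mem_centralizer_singleton_iff,
        Subgroup.mem_centralizer_singleton_iff]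
      exact and_congr_right' ⟨fun e => congrArg Subtype.val e, fun e => Subtype.ext e⟩
  have hindex : (centralizer ({σX ^ h} : Set X)).index = (centralizer ({σ ^ h} : Set G)).relIndex X :=
    congrArg Subgroup.index (Subgroup.ext fun g => hCXmem.trans Subgroup.mem_subgroupOf.symm)
  -- the odd core of `C(σ τ)`
  have hσo : orderOf (σ * τ) = 2 := (setup_swap S).ordτ
  obtain ⟨c, hc⟩ := isConj_iff.1 (hone (σ * τ) (σ ^ h) hσo S.J_order)
  let Φ : X →* G := (MulAut.conj c).toMonoidHom.comp X.subtype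
  let L : Subgroup X := S.core.comap Φ
  have hCu : ∀ g : X, g ∈ centralizer ({σX * τX} : Set X) ↔ Φ g ∈ centralizer ({σ ^ h} : Set G) :=
    fun g => by
      rw [Subgroup.mem_centralizer_singleton_iff, Subgroup.mem_centralizer_singleton_iff,
        Subtype.ext_iff, ← hc]
      show (g : G) * (σ * τ) = σ * τ * (g : G) ↔
        c * (g : G) * c⁻¹ * (c * (σ * τ) * c⁻¹) = c * (σ * τ) * c⁻¹ * (c * (g : G) * c⁻¹)
      rw [conj_mul, conj_mul]
      exact ⟨fun e => by rw [e], fun e => mul_left_cancel (mul_right_cancel e)⟩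
  have hLC : L ≤ centralizer ({σX * τX} : Set X) := fun g hg => (hCu g).2 (S.core_le hg)
  let ψ : ↥(centralizer ({σX * τX} : Set X)) →* ↥(P : Subgroup G) :=
    { toFun := fun g => ⟨S.pr (Φ g), (S.pr_spec ((hCu g).1 g.2)).1⟩
      map_one' := Subtype.ext (by simp only [OneMemClass.coe_one, map_one]
                                  exact S.pr_of_core S.core.one_mem)
      map_mul' := fun a b => Subtype.ext (by
        simp only [Subgroup.coe_mul, map_mul]
        exact S.pr_mul ((hCu a).1 a.2) ((hCu b).1 b.2)) }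
  have hker : ψ.ker = L.subgroupOf (centralizer ({σX * τX} : Set X)) := by
    ext g
    rw [MonoidHom.mem_ker, Subgroup.mem_subgroupOf, Subtype.ext_iff]
    show S.pr (Φ g) = 1 ↔ Φ g ∈ S.core
    refine ⟨fun e => ?_, S.pr_of_core⟩
    have := (S.pr_spec ((hCu g).1 g.2)).2
    rwa [e, inv_one, mul_one] at this
  have hLn : (L.subgroupOf (centralizer ({σX * τX} : Set X))).Normal := hker ▸ inferInstance
  have hLodd : Odd (Nat.card L) := by
    refine S.core_odd.of_dvd_nat ?_
    rw [← Subgroup.card_map_of_injective (K := L) (f := Φ)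
      ((MulAut.conj c).injective.comp X.subtype_injective)]
    exact Subgroup.card_dvd_of_le (Subgroup.map_comap_le _ _)
  have hκ : Nat.card L ∣ Nat.card S.core := by
    rw [← Subgroup.card_map_of_injective (K := L) (f := Φ)
      ((MulAut.conj c).injective.comp X.subtype_injective)]
    exact Subgroup.card_dvd_of_le (Subgroup.map_comap_le _ _)
  obtain ⟨k, hLi⟩ : ∃ k, (L.subgroupOf (centralizer ({σX * τX} : Set X))).index = 2 ^ k := by
    obtain ⟨a, ha⟩ := P.isPGroup'.exists_card_eq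
    rw [← hker, Subgroup.index_ker]
    obtain ⟨k, -, hk⟩ := (Nat.dvd_prime_pow Nat.prime_two).1 (ha ▸ ψ.range.card_subgroup_dvd_card)
    exact ⟨k, hk⟩
  obtain ⟨M, hM⟩ := Blocks.exists_isPModular 2 Nat.prime_two
  obtain ⟨d, δ, s₀, hd0, hδ, hs₀, hmod, hne, e1, e2⟩ :=
    two_class hM SX sg hsgσ hsgτ hsq hfusion L hLC hLn hLodd hLi
  have hτc : ((τX : X) : G) = τ := rfl
  have hστc : ((σX * τX : X) : G) = σ * τ := rfl
  rw [hAB, hAB, ho, hindex, hτc, hστc] at e2
  rw [hAB, ho, hindex, hτc] at e1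
  set o := Nat.card S.core with hodef
  set A := Nat.card (S.core ⊓ centralizer ({τ} : Set G) : Subgroup G) with hAdef
  set B := Nat.card (S.core ⊓ centralizer ({σ * τ} : Set G) : Subgroup G) with hBdef
  set NX := (centralizer ({σ ^ h} : Set G)).relIndex X
  have hAo : A ∣ o := Subgroup.card_dvd_of_le inf_le_left
  have hBo : B ∣ o := Subgroup.card_dvd_of_le inf_le_left
  have hcopAB : A.Coprime B := Nat.coprime_of_dvd' fun q hq hqA hqB => by
    haveI := Fact.mk hq
    obtain ⟨⟨a, ha⟩, ha'⟩ := exists_prime_orderOf_dvd_card'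
      (G := (S.core ⊓ centralizer ({τ} : Set G) : Subgroup G)) q hqA
    obtain ⟨⟨b, hb⟩, hb'⟩ := exists_prime_orderOf_dvd_card'
      (G := (S.core ⊓ centralizer ({σ * τ} : Set G) : Subgroup G)) q hqB
    rw [Subgroup.orderOf_mk] at ha' hb'
    exfalso
    obtain ⟨e, he⟩ := eq_pow_of_orderOf_eq ha.1 hb.1 (ha'.trans hb'.symm)
    have h1 : Commute (σ * τ) a := by
      rw [← he]
      exact (show Commute (σ * τ) b from (Subgroup.mem_centralizer_singleton_iff.1 hb.2).symm).zpow_right e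
    have h2 : Commute τ a := (Subgroup.mem_centralizer_singleton_iff.1 ha.2).symm
    refine not_both_fixed hna hodd S hq ha.1 ha' ?_ h2
    have := h1.mul_left h2.inv_left
    rwa [mul_inv_cancel_right] at this
  obtain ⟨D, hD⟩ := hcopAB.mul_dvd_of_dvd_of_dvd hAo hBo
  have hcopX : NX.Coprime o := Nat.Coprime.coprime_dvd_left
    (Dvd.intro _ (Subgroup.relIndex_mul_index hCX)) (coprime_index hna hodd hone S)
  have hNX0 : 0 < NX := Nat.pos_of_ne_zero (fun e => by
    have := Subgroup.relIndex_mul_index hCX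
    rw [show (centralizer ({σ ^ h} : Set G)).relIndex X = 0 from e, zero_mul] at this
    exact Subgroup.index_ne_zero_of_finite this.symm)
  have ho0 : 0 < o := Nat.card_pos
  have hD0 : 0 < D := Nat.pos_of_ne_zero fun e => by rw [e, mul_zero] at hD; omega
  rw [hD] at hcopX
  have hκ' : Nat.card L ∣ A * B * D := hD ▸ hκ
  obtain ⟨rfl, hB1, hD1, hN3⟩ := two_class_arith (h_even S) (by have := S.two_le; omega)
    Nat.card_pos Nat.card_pos hD0 hd0 hcopX hκ' hNX0 hδ hs₀ hmod hne
    (by rw [← hD]; exact e1) (by rw [← hD]; exact e2)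
  -- the equations in `G`
  replace hB1 : B = 1 := hB1
  have hA1 : A = o := by rw [hD, hB1, hD1, mul_one, mul_one]
  obtain ⟨x₀, U₀, V₀, hmod', -, -, -, hUV, f1, f2⟩ := one_class hM S
    (hone _ _ S.J_order S.ordτ) (hone _ _ S.J_order hσo)
  rw [← hodef, ← hAdef, ← hBdef, hA1, hB1] at f1 f2
  set N := (centralizer ({σ ^ 2} : Set G)).index with hN
  have hNodd : Odd N := by
    rw [Nat.odd_iff, ← Nat.two_dvd_ne_zero]
    exact fun hd => P.not_dvd_index (hd.trans (Subgroup.index_dvd_of_le S.P_le_C))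
  have ho2 : 2 ≤ o := by
    have h1 : r ∣ o := hord ▸ S.core.orderOf_dvd_natCard hy
    have := Nat.le_of_dvd ho0 h1
    have := hr.out.two_le
    omega
  have hcases := residual_arith ho2 S.core_odd hNodd hmod' hUV
    (by push_cast at f1 ⊢; linear_combination f1) (by push_cast at f2 ⊢; linear_combination f2)
  have hcop := coprime_index hna hodd hone S
  rw [← hN, ← hodef] at hcop
  rcases hcases with ⟨ha, hb⟩ | ⟨ha, hb⟩ | ⟨ha, hb⟩
  · rw [ha, hb] at hcop; norm_num at hcop
  swap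
  · rw [ha, hb] at hcop; norm_num at hcop
  -- five: count the involutions fixed by `y`
  have hr5 : r = 5 := (Nat.prime_dvd_prime_iff_eq hr.out (by norm_num)).1
    (ha ▸ hord ▸ S.core.orderOf_dvd_natCard hy)
  subst hr5
  have hJy' : σ ^ 2 * y = y * σ ^ 2 := hJy
  set Ω : Set G := {u | orderOf u = 2}
  set F : Set G := {u | orderOf u = 2 ∧ u * y = y * u}
  have hΩN : Nat.card Ω = N := by
    rw [hN, ← card_conjugates]
    exact Nat.card_congr (Equiv.subtypeEquivRight fun u => ⟨fun hu => hone _ _ S.J_order hu,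
      fun hu => by
        obtain ⟨g, rfl⟩ := isConj_iff.1 hu
        show orderOf _ = 2
        rw [Small.orderOf_conj_eq, S.J_order]⟩)
  have hJτX : IsConj (σX ^ 2) (τX * σX ^ 2) := hfusion.trans (isConj_iff.2 ⟨σX, Subtype.ext (by
    show σ * τ * σ⁻¹ = τ * σ ^ 2
    calc σ * τ * σ⁻¹ = τ * (τ⁻¹ * σ * τ) * σ⁻¹ := by group
      _ = τ * (τ * σ * τ⁻¹) * σ⁻¹ := by rw [Small.inv_eq_self_of_orderOf_two S.ordτ]
      _ = τ * (σ ^ 2)⁻¹ := by rw [S.rel]; group
      _ = _ := by rw [inv_eq_of_mul_eq_one_right S.J_sq])⟩)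
  have hF3 : Nat.card F = 3 := by
    rw [← hN3, ← hindex, ← card_conjugates]
    symm
    refine Nat.card_eq_of_bijective (fun g => ⟨((g.1 : X) : G), ?_⟩) ⟨fun a b e => ?_, fun u => ?_⟩
    · obtain ⟨g, hg⟩ := g
      obtain ⟨w, rfl⟩ := isConj_iff.1 hg
      refine ⟨?_, ?_⟩
      · show orderOf ((w : G) * σ ^ 2 * (w : G)⁻¹) = 2
        rw [Small.orderOf_conj_eq, S.J_order]
      · show Commute ((w : G) * σ ^ 2 * (w : G)⁻¹) y
        have h1 : Commute ((w : G) * σ ^ 2 * (w : G)⁻¹) ((w : G) * y * (w : G)⁻¹) :=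
          (Commute.conj_iff _).2 hJy'
        rcases hXmem.1 w.2 with e | e <;> rw [e] at h1
        · exact h1
        · simpa using h1.inv_right
    · exact Subtype.ext (Subtype.ext (congrArg Subtype.val e :))
    · obtain ⟨u, hu2, huy⟩ := u
      have huX : u ∈ X := Or.inl (mul_inv_eq_iff_eq_mul.2 huy)
      obtain ⟨Q, hQ⟩ := (IsPGroup.of_card (p := 2) (n := 1) (G := zpowers (⟨u, huX⟩ : X))
        (by rw [Nat.card_zpowers, Subgroup.orderOf_mk, hu2, pow_one])).exists_le_sylow
      obtain ⟨w, hw⟩ := MulAction.exists_smul_eq X Q PX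
      have hwu : w * (⟨u, huX⟩ : X) * w⁻¹ ∈ (PX : Subgroup X) := by
        rw [← hw, Sylow.coe_subgroup_smul]
        exact Subgroup.smul_mem_pointwise_smul _ _ _ (hQ (mem_zpowers _))
      have hwy : ((w * (⟨u, huX⟩ : X) * w⁻¹ : X) : G) * y =
          y * ((w * (⟨u, huX⟩ : X) * w⁻¹ : X) : G) := by
        show Commute ((w : G) * u * (w : G)⁻¹) y
        have h1 : Commute ((w : G) * u * (w : G)⁻¹) ((w : G) * y * (w : G)⁻¹) :=
          (Commute.conj_iff _).2 huy
        rcases hXmem.1 w.2 with e | e <;> rw [e] at h1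
        · exact h1
        · simpa using h1.inv_right
      have hconj : IsConj (σX ^ 2) (w * (⟨u, huX⟩ : X) * w⁻¹) := by
        rcases mem_T S hτy hσy hJy' ⟨hPXmem.1 hwu, Subgroup.mem_centralizer_singleton_iff.2 hwy⟩
          with e | e | e | e
        · exfalso
          have h1 : orderOf ((w : G) * u * (w : G)⁻¹) = 2 := by rw [Small.orderOf_conj_eq, hu2]
          rw [show (w : G) * u * (w : G)⁻¹ = 1 from e, orderOf_one] at h1
          norm_num at h1
        · rw [show w * (⟨u, huX⟩ : X) * w⁻¹ = σX ^ 2 from Subtype.ext e]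
        · rw [show w * (⟨u, huX⟩ : X) * w⁻¹ = τX from Subtype.ext e]; exact hfusion
        · rw [show w * (⟨u, huX⟩ : X) * w⁻¹ = τX * σX ^ 2 from Subtype.ext e]; exact hJτX
      exact ⟨⟨⟨u, huX⟩, hconj.trans (isConj_iff.2 ⟨w⁻¹, by group⟩)⟩, rfl⟩
  have hcount : (Nat.card (zpowers y) : ℤ) ∣ (Nat.card Ω : ℤ) - (Nat.card F : ℤ) := by
    refine card_dvd_sub_fixed (fun u hu => hu.1) (fun g _ u hu => ?_) (fun g hg u hu => ?_)
      fun g hg hg1 u hu e => ⟨hu, ?_⟩
    · show orderOf _ = 2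
      rw [Small.orderOf_conj_eq]; exact hu
    · obtain ⟨i, rfl⟩ := Subgroup.mem_zpowers_iff.1 hg
      have : y ^ i * u * (y ^ i)⁻¹ = u := by
        rw [((show Commute u y from hu.2).zpow_right i).symm.eq, mul_inv_cancel_right]
      rw [this]; exact hu
    · have hg5 : zpowers g = zpowers y := Small.eq_zpowers_of_mem_prime (p := 5)
        (by rw [Nat.card_zpowers, hord]) hg hg1
      obtain ⟨i, hi⟩ := Subgroup.mem_zpowers_iff.1 (hg5 ▸ mem_zpowers y)
      rw [← hi]
      exact ((show Commute g u from mul_inv_eq_iff_eq_mul.1 e).symm.zpow_right i).eq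
  rw [Nat.card_zpowers, hord, hΩN, hF3, hb] at hcount
  norm_num at hcount

end

end CfsgLib.SuzukiWong
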