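import Cfsg.Agent.SuzukiWong.SDLocal

/-!
# Suzuki–Wong: `y` inverts the cores of `C(t)` and of `C(σ^h)`
-/

set_option autoImplicit false
set_option linter.unusedSectionVars false
set_option linter.style.haveILetI false

namespace CfsgLib.SuzukiWong

open Subgroup
open scoped MatrixGroups

universe u

variable {G : Type u} [Group G] [Finite G]

/-- An involution acting without fixed points on a finite subgroup inverts it. -/
theorem inverts_of_fixed_free {y : G} (hy : y * y = 1) {X : Subgroup G}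
    (hN : ∀ x ∈ X, y * x * y⁻¹ ∈ X) (hfix : ∀ x ∈ X, y * x = x * y → x = 1) :
    (∀ x ∈ X, y * x * y⁻¹ = x⁻¹) ∧ ∀ a ∈ X, ∀ b ∈ X, a * b = b * a := by
  have hy' : y⁻¹ = y := inv_eq_of_mul_eq_one_right hy
  let φ : X →* X :=
    { toFun := fun x => ⟨y * x * y⁻¹, hN x x.2⟩
      map_one' := Subtype.ext (by simp)
      map_mul' := fun a b => Subtype.ext (by
        show y * ((a : G) * b) * y⁻¹ = (y * a * y⁻¹) * (y * b * y⁻¹); group) }
  have hfp : MonoidHom.FixedPointFree φ := fun x hx => Subtype.ext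
    (hfix x x.2 (mul_inv_eq_iff_eq_mul.1 (congrArg Subtype.val hx)))
  have hinv : Function.Involutive φ := fun x => Subtype.ext (by
    show y * (y * x * y⁻¹) * y⁻¹ = x
    rw [hy', ← mul_assoc, ← mul_assoc, hy, one_mul, mul_assoc, hy, mul_one])
  have h := MonoidHom.FixedPointFree.coe_eq_inv_of_involutive hfp hinv
  exact ⟨fun x hx => congrArg Subtype.val (congrFun h ⟨x, hx⟩),
    fun a ha b hb => congrArg Subtype.val
      (MonoidHom.FixedPointFree.commute_all_of_involutive hfp hinv (⟨a, ha⟩ : X) ⟨b, hb⟩).eq⟩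

/-- An element of odd order commuting with a power `2 ^ k` of an automorphism. -/
theorem commute_of_pow_two {m x : G} (hm : Odd (orderOf m)) {k : ℕ}
    (h : Commute (m ^ 2 ^ k) x) : Commute m x := by
  obtain ⟨i, hi⟩ := exists_pow_eq_self_of_coprime (x := m) (n := 2 ^ k)
    ((Nat.coprime_two_left.2 hm).pow_left k)
  rw [← hi]
  exact h.pow_left i

variable {P : Sylow 2 G} {σ y : G} {h p : ℕ} [Fact p.Prime]
  {π : Subgroup.centralizer ({σ ^ (2 * h)} : Set G) →* PGL(2, ZMod p)} (D : SDData P σ y h p π)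
include D

theorem SDData.sh_mem_C : σ ^ h ∈ centralizer ({σ ^ (2 * h)} : Set G) :=
  D.P_le_C (pow_mem D.memσ h)

theorem SDData.sy_order : orderOf (σ * y) = 4 := by
  haveI : Fact (Nat.Prime 2) := ⟨Nat.prime_two⟩
  have h2 := D.two_le
  have e : σ * y * (σ * y) = σ ^ (2 * h) := by
    calc σ * y * (σ * y) = σ * (y * σ * y⁻¹) := by rw [D.y_inv]; group
      _ = _ := by rw [D.rel, ← pow_succ', show 2 * h - 1 + 1 = 2 * h by omega]
  refine orderOf_eq_prime_pow (p := 2) (n := 1) ?_ ?_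
  · rw [pow_one, sq, e]; exact D.t_ne
  · rw [show 2 ^ (1 + 1) = 2 * 2 from rfl, pow_mul, sq (σ * y), e, sq, D.t_sq]

theorem SDData.sy_sq : (σ * y) ^ 2 = σ ^ (2 * h) := by
  have h2 := D.two_le
  calc (σ * y) ^ 2 = σ * (y * σ * y⁻¹) := by rw [D.y_inv, sq]; group
    _ = _ := by rw [D.rel, ← pow_succ', show 2 * h - 1 + 1 = 2 * h by omega]

/-- `σ y` and `σ ^ h` are conjugate in `C(t)`. -/
theorem SDData.sy_conj :
    ∃ c ∈ centralizer ({σ ^ (2 * h)} : Set G), c * σ ^ h * c⁻¹ = σ * y := by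
  obtain ⟨c, hc⟩ := isConj_iff.1 (D.four _ D.sy_order)
  refine ⟨c, mem_centralizer_singleton_iff.2 (mul_inv_eq_iff_eq_mul.1 ?_), hc⟩
  have e := congrArg (· ^ 2) hc
  simp only [_root_.conj_pow, ← pow_mul, D.sy_sq] at e
  rwa [mul_comm h 2] at e

variable (hodd : ∀ q : ℕ, q.Prime → q ≠ 2 → ∀ R : Sylow q G, IsCyclic R)
include hodd

theorem SDData.sh_centralizes_X : σ ^ h ∈ centralizer (D.X : Set G) := by
  obtain ⟨h', hh'⟩ := D.h_even
  have e : σ ^ h = (σ ^ 2) ^ h' := by rw [← pow_mul]; congr 1; omega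
  rw [e]
  exact pow_mem (D.sigma_sq_centralizes hodd D.X_odd
    (D.P_le_C.trans D.C_le_normalizer_X)) h'

theorem SDData.sy_centralizes_X : σ * y ∈ centralizer (D.X : Set G) := by
  obtain ⟨c, hc, hcσ⟩ := D.sy_conj
  rw [mem_centralizer_iff]
  intro u hu
  have h1 := mem_centralizer_iff.1 (D.sh_centralizes_X hodd) _ (D.X_conj (inv_mem hc) hu)
  rw [← hcσ]
  calc u * (c * σ ^ h * c⁻¹) = c * ((c⁻¹ * u * c⁻¹⁻¹) * σ ^ h) * c⁻¹ := by group
    _ = c * (σ ^ h * (c⁻¹ * u * c⁻¹⁻¹)) * c⁻¹ := by rw [h1]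
    _ = c * σ ^ h * c⁻¹ * u := by group

theorem SDData.X_le_O : D.X ≤ D.O := fun u hu =>
  D.mem_O.2 ⟨mem_centralizer_singleton_iff.2
    (mem_centralizer_iff.1 (D.sh_centralizes_X hodd) u hu), (D.mem_X.1 hu).2⟩

omit hodd in
/-- An element of `O` commuting with `y`, or with `σ y`, lies in `X`. -/
theorem SDData.mem_X_of_fixed {u v : G} (hu : u ∈ D.O)
    (hv : v = y ∨ v = σ * y) (hc : v * u = u * v) : u ∈ D.X := by
  have h2 := D.two_le
  obtain ⟨huC, huo⟩ := D.mem_O.1 hu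
  refine D.mem_X.2 ⟨⟨D.C0_le huC, ?_⟩, huo⟩
  by_contra hne
  have hvP : v ∈ (P : Subgroup G) := by
    rcases hv with rfl | rfl
    exacts [D.memy, mul_mem D.memσ D.memy]
  have hkey : ∀ (a : Subgroup.centralizer ({σ ^ (2 * h)} : Set G)), (a : G) * a ∈ ({1, σ ^ (2 * h)} : Set G) →
      π a * π a = 1 := by
    intro a ha
    rw [← map_mul]
    rcases ha with e | e
    · rw [show a * a = 1 from Subtype.ext e, map_one]
    · rw [show a * a = ⟨_, Subgroup.mem_centralizer_singleton_iff.2 rfl⟩ from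
        Subtype.ext (Set.mem_singleton_iff.1 e), D.ker_t]
  have hker : ∀ x (hx : x ∈ centralizer ({σ ^ (2 * h)} : Set G)), x ∈ (P : Subgroup G) →
      π ⟨x, hx⟩ = 1 → x ∈ zpowers (σ ^ (2 * h)) := by
    intro x hx hxP hk
    obtain ⟨q, hq, z, hz, e⟩ := D.exists_X.choose_spec.2.2.2 x ⟨⟨x, hx⟩, hk, rfl⟩
    have hqP : q ∈ (P : Subgroup G) := by
      rw [show q = x * z⁻¹ by rw [e]; group]
      exact mul_mem hxP (inv_mem (zpowers_le.2 (pow_mem D.memσ _) hz))
    haveI : Fact (Nat.Prime 2) := ⟨Nat.prime_two⟩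
    obtain ⟨i, hi⟩ := P.isPGroup'.exists_card_eq
    have hq1 : q = 1 := orderOf_eq_one_iff.1 (Nat.eq_one_of_dvd_coprimes
      ((Nat.coprime_two_right.2 D.X_odd).pow_right i) (D.X.orderOf_dvd_natCard hq)
      (hi ▸ Subgroup.orderOf_dvd_natCard _ hqP))
    rw [e, hq1, one_mul]; exact hz
  have h2el : ∀ x ∈ zpowers (σ ^ (2 * h)), x = 1 ∨ x = σ ^ (2 * h) := by
    intro x hx
    obtain ⟨i, rfl⟩ := mem_powers_iff_mem_zpowers.2 hx
    rcases Nat.even_or_odd' i with ⟨j, rfl | rfl⟩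
    · left; show (σ ^ (2 * h)) ^ (2 * j) = 1; rw [pow_mul, sq, D.t_sq, one_pow]
    · right; show (σ ^ (2 * h)) ^ (2 * j + 1) = _; rw [pow_succ, pow_mul, sq, D.t_sq, one_pow, one_mul]
  have hvC := D.P_le_C hvP
  have hsh : π ⟨σ ^ h, D.sh_mem_C⟩ ≠ 1 := fun e => by
    rcases h2el _ (hker _ _ (pow_mem D.memσ h) e) with e' | e'
    · have := D.sh_order
      rw [e', orderOf_one] at this; omega
    · have := D.sh_order
      rw [e', D.t_order] at this; omega
  have hv1 : π ⟨v, hvC⟩ ≠ 1 := fun e => by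
    rcases h2el _ (hker _ _ hvP e) with e' | e' <;> rcases hv with hv | hv <;> rw [hv] at e'
    · have := D.ordy; rw [e', orderOf_one] at this; omega
    · have := D.sy_order; rw [e', orderOf_one] at this; omega
    · have hy : Commute y σ := e' ▸ (Commute.refl σ).pow_left (2 * h)
      have := D.rel
      rw [hy.eq, mul_inv_cancel_right] at this
      have hone : σ ^ (2 * h - 2) = 1 := by
        have e2 : σ ^ (2 * h - 1) = σ ^ (2 * h - 2) * σ := by
          rw [← pow_succ, show 2 * h - 2 + 1 = 2 * h - 1 by omega]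
        rw [e2] at this
        exact mul_eq_right.1 this.symm
      have := Nat.le_of_dvd (by omega) (D.pow_eq_one.1 hone)
      omega
    · have := D.sy_order; rw [e', D.t_order] at this; omega
  have hne2 : π ⟨σ ^ h, D.sh_mem_C⟩ ≠ π ⟨v, hvC⟩ := fun e => by
    have e1 : π ⟨(σ ^ h)⁻¹ * v, mul_mem (inv_mem D.sh_mem_C) hvC⟩ = 1 := by
      show π (⟨σ ^ h, D.sh_mem_C⟩⁻¹ * ⟨v, hvC⟩) = 1
      rw [map_mul, map_inv, e, inv_mul_cancel]
    have e2 := hker _ _ (mul_mem (inv_mem (pow_mem D.memσ h)) hvP) e1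
    have hzp : v ∈ zpowers σ := by
      have := mul_mem (pow_mem (mem_zpowers σ) h)
        (zpowers_le.2 (pow_mem (mem_zpowers σ) (2 * h)) e2)
      rwa [mul_inv_cancel_left] at this
    have hyz : y ∈ zpowers σ := by
      rcases hv with rfl | rfl
      · exact hzp
      · exact ((zpowers σ).mul_mem_cancel_left (mem_zpowers σ)).1 hzp
    obtain ⟨i, hi⟩ := mem_zpowers_iff.1 hyz
    have hc' : Commute y σ := hi ▸ (Commute.refl σ).zpow_left i
    have := D.rel
    rw [hc'.eq, mul_inv_cancel_right] at this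
    have e2' : σ ^ (2 * h - 1) = σ ^ (2 * h - 2) * σ := by
      rw [← pow_succ, show 2 * h - 2 + 1 = 2 * h - 1 by omega]
    rw [e2'] at this
    have := Nat.le_of_dvd (by omega) (D.pow_eq_one.1 (mul_eq_right.1 this.symm))
    omega
  refine hne2 (invol_unique_of_commute_odd
    (Ring.two_ne_zero (by rw [ZMod.ringChar_zmod_n]; exact D.p2)) hne
    (huo.of_dvd_nat ((orderOf_map_dvd π _).trans (Subgroup.orderOf_mk u _).dvd))
    ?_ ?_ hsh hv1 (hkey _ ?_) (hkey _ ?_))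
  · exact (show Commute (⟨u, _⟩ : Subgroup.centralizer ({σ ^ (2 * h)} : Set G)) ⟨σ ^ h, D.sh_mem_C⟩
      from Subtype.ext (mem_centralizer_singleton_iff.1 huC)).map π
  · exact (show Commute (⟨u, _⟩ : Subgroup.centralizer ({σ ^ (2 * h)} : Set G)) ⟨v, hvC⟩
      from Subtype.ext hc.symm).map π
  · right; show σ ^ h * σ ^ h = _; rw [← pow_add, two_mul]
  · rcases hv with rfl | rfl
    · left; exact D.y_sq
    · right; show σ * y * (σ * y) = _; rw [← sq, D.sy_sq]

variable [IsSimpleGroup G] (hna : ¬ IsMulCommutative G)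
include hna

/-- No element `≠ 1` of `X` commutes with `y`. -/
theorem SDData.X_fixed_free {x : G} (hxX : x ∈ D.X) (hxy : y * x = x * y) : x = 1 := by
  haveI : Fact (Nat.Prime 2) := ⟨Nat.prime_two⟩
  set W := D.X ⊓ centralizer ({y} : Set G) with hW
  have hWP : ∀ w ∈ W, ∀ q ∈ (P : Subgroup G), q * w = w * q := by
    intro w hw q hq
    have hwy : Commute y w := (mem_centralizer_singleton_iff.1 hw.2).symm
    have hsy : Commute (σ * y) w :=
      (mem_centralizer_iff.1 (D.sy_centralizes_X hodd) w hw.1).symm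
    have hσ : Commute σ w := by
      have := hsy.mul_left hwy.inv_left
      rwa [mul_inv_cancel_right] at this
    obtain ⟨i, rfl | rfl⟩ := D.elems q hq
    · exact (hσ.pow_left i).eq
    · exact (hwy.mul_left (hσ.pow_left i)).eq
  by_contra hx1
  have hxW : x ∈ W := ⟨hxX, mem_centralizer_singleton_iff.2 hxy.symm⟩
  have hcard : Nat.card W ≠ 1 := fun e => hx1
    (Subgroup.mem_bot.1 ((Subgroup.card_eq_one.1 e) ▸ hxW))
  set r := (Nat.card W).minFac with hr
  haveI hrp : Fact r.Prime := ⟨Nat.minFac_prime hcard⟩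
  have hWodd : Odd (Nat.card W) := D.X_odd.of_dvd_nat (Subgroup.card_dvd_of_le inf_le_left)
  have hr2 : r ≠ 2 := fun e => hWodd.not_two_dvd_nat (e ▸ Nat.minFac_dvd _)
  obtain ⟨w', hw'⟩ := exists_prime_orderOf_dvd_card' (G := W) r (Nat.minFac_dvd _)
  set z : G := (w' : G)
  have hz : orderOf z = r := by rw [Subgroup.orderOf_coe]; exact hw'
  obtain ⟨R, hR⟩ := (IsPGroup.of_card (p := r) (n := 1)
    (show Nat.card (zpowers z) = r ^ 1 by rw [Nat.card_zpowers, hz, pow_one])).exists_le_sylow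
  haveI := hodd r hrp.out hr2 R
  have hzR : z ∈ (R : Subgroup G) := hR (mem_zpowers z)
  have hz1 : z ≠ 1 := fun e => by rw [e, orderOf_one] at hz; exact hrp.out.ne_one hz.symm
  obtain ⟨g, hgN, hgC⟩ := exists_not_centralizing hna R (hz ▸ orderOf_dvd_natCard z)
  apply hgC
  refine centralizes_sylow R hzR hz1 hgN ?_
  obtain ⟨e, he⟩ := exists_exp hgN
  have hy' : g * z * g⁻¹ = z ^ e := he z hzR
  obtain ⟨k', hk'⟩ := eq_pow_of_orderOf_eq (y := g * z * g⁻¹) hzR
    ((Subgroup.mem_normalizer_iff.1 hgN z).1 hzR) (by rw [Small.orderOf_conj_eq])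
  have hinv : ∀ q ∈ centralizer ({z} : Set G), g * q * g⁻¹ ∈ centralizer ({z} : Set G) := by
    intro q hq
    rw [Subgroup.mem_centralizer_singleton_iff] at hq ⊢
    have hc : Commute (g * q * g⁻¹) (g * z * g⁻¹) := (Commute.conj_iff g).2 hq
    have := hc.zpow_right k'
    rwa [hk'] at this
  obtain ⟨c, hc, hcg⟩ := frattini (p := 2) (K := centralizer ({z} : Set G)) P.isPGroup'
    (fun q hq => Subgroup.mem_centralizer_singleton_iff.2 (hWP _ w'.2 q hq))
    (fun T' hT' _ hle => P.is_maximal' hT' hle) hinv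
  -- the odd part of `c g` lies in `W`
  have hnC : c * g ∈ centralizer ({σ ^ (2 * h)} : Set G) := by
    have hmem := (Subgroup.mem_normalizer_iff.1 hcg (σ ^ (2 * h))).1 (pow_mem D.memσ _)
    have hord : orderOf (c * g * σ ^ (2 * h) * (c * g)⁻¹) = 2 := by
      rw [Small.orderOf_conj_eq, D.t_order]
    have hnσ : c * g * σ * (c * g)⁻¹ ∈ zpowers σ :=
      D.mem_zpowers_of_order ((Subgroup.mem_normalizer_iff.1 hcg σ).1 D.memσ)
        (by rw [Small.orderOf_conj_eq, D.ordσ])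
    obtain ⟨l, hl⟩ := mem_powers_iff_mem_zpowers.2 hnσ
    have e1 : c * g * σ ^ (2 * h) * (c * g)⁻¹ = σ ^ (2 * h * l) := by
      rw [← _root_.conj_pow, ← hl, ← pow_mul, mul_comm]
    rw [mem_centralizer_singleton_iff, ← mul_inv_eq_iff_eq_mul, e1]
    rcases Nat.even_or_odd' l with ⟨j, rfl | rfl⟩
    · exfalso
      rw [e1, show 2 * h * (2 * j) = 4 * h * j by ring, D.pow_eq_one.2 (dvd_mul_right _ _),
        orderOf_one] at hord
      omega
    · rw [show 2 * h * (2 * j + 1) = 4 * h * j + 2 * h by ring, pow_add,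
        D.pow_eq_one.2 (dvd_mul_right _ _), one_mul]
  obtain ⟨a2, m, hm, ham⟩ := Nat.exists_eq_two_pow_mul_odd (orderOf_pos (c * g)).ne'
  set n' := (c * g) ^ 2 ^ a2 with hn'
  have hn'o : Odd (orderOf n') := hm.of_dvd_nat (orderOf_dvd_of_pow_eq_one (by
    rw [hn', ← pow_mul, ← ham, pow_orderOf_eq_one]))
  have hn'N : n' ∈ normalizer ((P : Subgroup G) : Set G) := pow_mem hcg _
  have hσ' : n' * σ * n'⁻¹ ∈ zpowers σ :=
    D.mem_zpowers_of_order ((Subgroup.mem_normalizer_iff.1 hn'N σ).1 D.memσ)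
      (by rw [Small.orderOf_conj_eq, D.ordσ])
  have hnσ : n' ∈ normalizer (zpowers σ : Set G) := by
    refine Subgroup.mem_normalizer_fintype fun q hq => ?_
    obtain ⟨i, rfl⟩ := mem_powers_iff_mem_zpowers.2 hq
    show n' * σ ^ i * n'⁻¹ ∈ zpowers σ
    rw [← _root_.conj_pow]
    exact pow_mem hσ' i
  have hn0 : Commute n' σ := by
    obtain ⟨k, hk⟩ := isPGroup_aut_cyclic (P.isPGroup'.to_le (zpowers_le.2 D.memσ))
      ((zpowers σ).normalizerMonoidHom ⟨n', hnσ⟩)
    have h1 : (⟨n', hnσ⟩ : normalizer (zpowers σ : Set G)) ^ 2 ^ k ∈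
        (zpowers σ).normalizerMonoidHom.ker := by rw [MonoidHom.mem_ker, map_pow, hk]
    rw [Subgroup.normalizerMonoidHom_ker] at h1
    exact commute_of_pow_two hn'o (mem_centralizer_iff.1 h1 σ (mem_zpowers σ)).symm
  have hn'O : n' ∈ D.O := D.mem_O.2 ⟨mem_centralizer_singleton_iff.2 (hn0.pow_right h).eq, hn'o⟩
  have hn'y : y * n' = n' * y := by
    have h1 : n' * y * n'⁻¹ * y⁻¹ ∈ D.O := by
      have := mul_mem hn'O (D.O_conj D.memy (inv_mem hn'O))
      simpa [mul_assoc] using this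
    have h2' : n' * y * n'⁻¹ * y⁻¹ ∈ (P : Subgroup G) :=
      mul_mem ((Subgroup.mem_normalizer_iff.1 hn'N y).1 D.memy) (inv_mem D.memy)
    obtain ⟨i, hi⟩ := P.isPGroup'.exists_card_eq
    have h3 : n' * y * n'⁻¹ * y⁻¹ = 1 := orderOf_eq_one_iff.1 (Nat.eq_one_of_dvd_coprimes
      ((Nat.coprime_two_right.2 D.O_odd).pow_right i) (D.O.orderOf_dvd_natCard h1)
      (hi ▸ Subgroup.orderOf_dvd_natCard _ h2'))
    rw [mul_inv_eq_one, mul_inv_eq_iff_eq_mul] at h3
    exact h3.symm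
  have hn'W : n' ∈ W := ⟨D.mem_X_of_fixed hn'O (Or.inl rfl) hn'y,
    mem_centralizer_singleton_iff.2 hn'y.symm⟩
  -- exponents
  have hcy : c * z * c⁻¹ = z := by
    rw [Subgroup.mem_centralizer_singleton_iff.1 hc, mul_inv_cancel_right]
  have hcg' : c * g * z * (c * g)⁻¹ = z ^ e := by
    calc c * g * z * (c * g)⁻¹ = c * (g * z * g⁻¹) * c⁻¹ := by group
      _ = z ^ e := by rw [hy', ← conj_zpow, hcy]
  have h1 := conj_pow_exp hcg' (2 ^ a2)
  rw [← hn'] at h1
  have h1' := conj_pow_exp h1 (Nat.card W)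
  rw [orderOf_dvd_iff_pow_eq_one.1 (W.orderOf_dvd_natCard hn'W), one_mul, inv_one, mul_one,
    ← pow_mul] at h1'
  have hd : (r : ℤ) ∣ e ^ (2 ^ a2 * Nat.card W) - 1 := by
    rw [← hz, orderOf_dvd_iff_zpow_eq_one, _root_.zpow_sub, zpow_one, ← h1', mul_inv_cancel]
  have he1 : (e : ZMod r) ^ (2 ^ a2 * Nat.card W) = 1 := by
    have := (ZMod.intCast_zmod_eq_zero_iff_dvd _ r).2 hd
    push_cast at this
    exact sub_eq_zero.1 this
  have he0 : (e : ZMod r) ≠ 0 := fun h0 => by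
    have hd : (r : ℤ) ∣ e := (ZMod.intCast_zmod_eq_zero_iff_dvd e r).1 h0
    rw [← hz] at hd
    rw [orderOf_dvd_iff_zpow_eq_one.1 hd, conj_eq_one_iff] at hy'
    exact hz1 hy'
  have hgcd : Nat.gcd (Nat.card W) (r - 1) = 1 := by
    by_contra hne
    obtain ⟨q, hq, hqd⟩ := Nat.exists_prime_and_dvd hne
    have h1 : r ≤ q := Nat.minFac_le_of_dvd hq.two_le (hqd.trans (Nat.gcd_dvd_left _ _))
    have h3 : 2 ≤ r := hrp.out.two_le
    have h2 : q ≤ r - 1 := Nat.le_of_dvd (by omega) (hqd.trans (Nat.gcd_dvd_right _ _))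
    generalize r = r' at h1 h2 h3
    omega
  have he2 : (e : ZMod r) ^ 2 ^ a2 = 1 := by
    have := pow_gcd_eq_one.2 (And.intro
      (show ((e : ZMod r) ^ 2 ^ a2) ^ Nat.card W = 1 by rw [← pow_mul]; exact he1)
      (ZMod.pow_card_sub_one_eq_one (pow_ne_zero (2 ^ a2) he0)))
    rwa [hgcd, pow_one] at this
  -- an automorphism of two-power order with `y`: compare with the action of `c g` on `⟨z⟩`
  have hcgW : ∀ q : ℕ, Odd q → (e : ZMod r) ^ q = 1 → (e : ZMod r) = 1 := fun q hq hq1 => by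
    have := pow_gcd_eq_one.2 ⟨he2, hq1⟩
    rwa [((Nat.coprime_two_left.2 hq).pow_left a2).gcd_eq_one, pow_one] at this
  have he3 : (e : ZMod r) = 1 := by
    refine hcgW m hm ?_
    have h2P : IsPGroup 2 (zpowers ((c * g) ^ m)) := by
      obtain ⟨i, -, hi⟩ := (Nat.dvd_prime_pow Nat.prime_two).1
        (show orderOf ((c * g) ^ m) ∣ 2 ^ a2 from orderOf_dvd_of_pow_eq_one (by
          rw [← pow_mul, mul_comm, ← ham, pow_orderOf_eq_one]))
      exact IsPGroup.of_card (n := i) (by rw [Nat.card_zpowers, hi])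
    have hsup : IsPGroup 2 (zpowers ((c * g) ^ m) ⊔ (P : Subgroup G) : Subgroup G) :=
      h2P.to_sup_of_normal_right' P.isPGroup' (zpowers_le.2 (pow_mem hcg m))
    have hqP : (c * g) ^ m ∈ (P : Subgroup G) := by
      rw [← P.is_maximal' hsup le_sup_right]
      exact mem_sup_left (mem_zpowers _)
    have h5 := conj_pow_exp hcg' m
    rw [hWP _ w'.2 _ hqP, mul_inv_cancel_right] at h5
    have hd : (r : ℤ) ∣ e ^ m - 1 := by
      rw [← hz, orderOf_dvd_iff_zpow_eq_one, _root_.zpow_sub, zpow_one, ← h5, mul_inv_cancel]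
    have := (ZMod.intCast_zmod_eq_zero_iff_dvd _ r).2 hd
    push_cast at this
    exact sub_eq_zero.1 this
  have hd' : (r : ℤ) ∣ e - 1 := (ZMod.intCast_zmod_eq_zero_iff_dvd _ r).1 (by
    push_cast; rw [he3, sub_self])
  rw [← hz, orderOf_dvd_iff_zpow_eq_one, _root_.zpow_sub, zpow_one, mul_inv_eq_one] at hd'
  rw [hd'] at hy'
  exact mul_inv_eq_iff_eq_mul.1 hy'

theorem SDData.O_fixed_free {u : G} (hu : u ∈ D.O) (huy : y * u = u * y) : u = 1 :=
  D.X_fixed_free hodd hna (D.mem_X_of_fixed hu (Or.inl rfl) huy) huy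

theorem SDData.y_inv_O {u : G} (hu : u ∈ D.O) : y * u * y⁻¹ = u⁻¹ :=
  (inverts_of_fixed_free D.y_sq (fun _ => D.O_conj D.memy)
    fun _ hx hxy => D.O_fixed_free hodd hna hx hxy).1 u hu

theorem SDData.O_comm {u v : G} (hu : u ∈ D.O) (hv : v ∈ D.O) : u * v = v * u :=
  (inverts_of_fixed_free D.y_sq (fun _ => D.O_conj D.memy)
    fun _ hx hxy => D.O_fixed_free hodd hna hx hxy).2 u hu v hv

omit hna in
theorem SDData.sigma_sq_O {u : G} (hu : u ∈ D.O) : σ ^ 2 * u = u * σ ^ 2 :=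
  (mem_centralizer_iff.1 (D.sigma_sq_centralizes hodd D.O_odd D.P_le_normalizer_O) u hu).symm

omit hna in
theorem SDData.fixed_sy_iff {u : G} :
    (u ∈ D.O ∧ σ * y * u = u * (σ * y)) ↔ u ∈ D.X :=
  ⟨fun hu => D.mem_X_of_fixed hu.1 (Or.inr rfl) hu.2,
    fun hu => ⟨D.X_le_O hodd hu,
      (mem_centralizer_iff.1 (D.sy_centralizes_X hodd) u hu).symm⟩⟩

end CfsgLib.SuzukiWong
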