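import Mathlib

/-!
# Suzuki–Wong: short integer vectors with pairwise products one

Vectors of norm two with products one and constant degree form a star; the last lemma fixes the two
coordinates of the remaining constituents of the function of norm four.
-/

set_option autoImplicit false

namespace CfsgLib.SuzukiWong

open Finset

variable {α : Type*} [Fintype α]

/-- A vector of small norm has unit entries. -/
theorem unit_support {v : α → ℤ} {n : ℕ} (hn : n ≤ 3) (hv : ∑ a, v a ^ 2 = n) :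
    (∀ a, v a = 0 ∨ v a = 1 ∨ v a = -1) ∧ {a | v a ≠ 0}.ncard = n := by
  classical
  have h1 : ∀ a, v a = 0 ∨ v a = 1 ∨ v a = -1 := fun a => by
    have hle : v a ^ 2 ≤ (n : ℤ) := hv ▸ Finset.single_le_sum
      (f := fun a => v a ^ 2) (fun _ _ => sq_nonneg _) (Finset.mem_univ a)
    have h2 : (n : ℤ) ≤ 3 := by exact_mod_cast hn
    have h3 : -2 < v a ∧ v a < 2 := by constructor <;> nlinarith
    omega
  refine ⟨h1, ?_⟩
  have e : ({a | v a ≠ 0} : Set α) = ↑(Finset.univ.filter fun a => v a ≠ 0) := by ext; simp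
  rw [e, Set.ncard_coe_finset]
  apply Nat.cast_injective (R := ℤ)
  rw [← hv, Finset.card_filter, Nat.cast_sum]
  refine Finset.sum_congr rfl fun a _ => ?_
  rcases h1 a with e' | e' | e' <;> simp [e']

/-- A vector of norm two. -/
theorem exists_pair {v : α → ℤ} (hv : ∑ a, v a ^ 2 = 2) :
    ∃ a b, a ≠ b ∧ (v a = 1 ∨ v a = -1) ∧ (v b = 1 ∨ v b = -1) ∧
      ∀ c, c ≠ a → c ≠ b → v c = 0 := by
  obtain ⟨h1, h2⟩ := unit_support (n := 2) (by norm_num) (by exact_mod_cast hv)
  obtain ⟨a, b, hab, he⟩ := Set.ncard_eq_two.1 h2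
  have ha : v a ≠ 0 := (Set.ext_iff.1 he a).2 (by simp)
  have hb : v b ≠ 0 := (Set.ext_iff.1 he b).2 (by simp)
  refine ⟨a, b, hab, (h1 a).resolve_left ha, (h1 b).resolve_left hb, fun c hca hcb => ?_⟩
  by_contra hc
  have := (Set.ext_iff.1 he c).1 hc
  simp [hca, hcb] at this

/-- A vector of norm three. -/
theorem exists_triple {v : α → ℤ} (hv : ∑ a, v a ^ 2 = 3) :
    ∃ a b c, a ≠ b ∧ a ≠ c ∧ b ≠ c ∧ (v a = 1 ∨ v a = -1) ∧ (v b = 1 ∨ v b = -1) ∧
      (v c = 1 ∨ v c = -1) ∧ ∀ d, d ≠ a → d ≠ b → d ≠ c → v d = 0 := by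
  obtain ⟨h1, h2⟩ := unit_support (n := 3) (by norm_num) (by exact_mod_cast hv)
  obtain ⟨a, b, c, hab, hac, hbc, he⟩ := Set.ncard_eq_three.1 h2
  have hm : ∀ d, (v d ≠ 0 ↔ d = a ∨ d = b ∨ d = c) := fun d => by
    simpa using Set.ext_iff.1 he d
  refine ⟨a, b, c, hab, hac, hbc, (h1 a).resolve_left ((hm a).2 (Or.inl rfl)),
    (h1 b).resolve_left ((hm b).2 (Or.inr (Or.inl rfl))),
    (h1 c).resolve_left ((hm c).2 (Or.inr (Or.inr rfl))), fun d da db dc => ?_⟩
  by_contra hd
  exact absurd ((hm d).1 hd) (by simp [da, db, dc])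

theorem sum_pair [DecidableEq α] {v : α → ℤ} {a b : α} (hab : a ≠ b)
    (h : ∀ c, c ≠ a → c ≠ b → v c = 0) (w : α → ℤ) :
    ∑ c, v c * w c = v a * w a + v b * w b := by
  rw [← Finset.sum_pair (f := fun c => v c * w c) hab]
  refine (Finset.sum_subset (Finset.subset_univ _) fun c _ hc => ?_).symm
  simp only [Finset.mem_insert, Finset.mem_singleton, not_or] at hc
  rw [h c hc.1 hc.2, zero_mul]

/-- Vectors of norm two, products one and constant degree form a star. -/
theorem exists_star {ι : Type*} {K : Finset ι} {v : ι → α → ℤ} {d : α → ℤ} {s : ℤ}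
    (hd : ∀ a, d a ≠ 0) (hs : s = 0 ∨ Odd s) (hn : ∀ i ∈ K, ∑ a, v i a ^ 2 = 2)
    (hc : ∀ i ∈ K, ∀ j ∈ K, i ≠ j → ∑ a, v i a * v j a = 1)
    (hdeg : ∀ i ∈ K, ∑ a, v i a * d a = s) {i0 : ι} (hi0 : i0 ∈ K) :
    ∃ (a : α) (ε : ℤ) (b : ι → α), (ε = 1 ∨ ε = -1) ∧
      (∀ i ∈ K, v i a = ε ∧ b i ≠ a ∧ (v i (b i) = 1 ∨ v i (b i) = -1) ∧
        ∀ c, c ≠ a → c ≠ b i → v i c = 0) ∧
      Set.InjOn b K := by
  classical
  obtain ⟨A, B, hAB, hA, hB, hoff⟩ := exists_pair (hn i0 hi0)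
  have hsplit : ∀ j ∈ K, j ≠ i0 → (v j A = v i0 A ∧ v j B = 0) ∨ (v j A = 0 ∧ v j B = v i0 B) := by
    intro j hj hne
    have e := hc i0 hi0 j hj (Ne.symm hne)
    rw [sum_pair hAB hoff] at e
    obtain ⟨h1, -⟩ := unit_support (n := 2) (by norm_num) (by exact_mod_cast hn j hj)
    rcases h1 A with u | u | u <;> rcases h1 B with w | w | w <;> rcases hA with p | p <;>
      rcases hB with q | q <;> simp [u, w, p, q] at e ⊢
  -- a common element
  obtain ⟨a, ha, hall⟩ : ∃ a, (v i0 a = 1 ∨ v i0 a = -1) ∧ ∀ j ∈ K, v j a = v i0 a := by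
    by_contra hno
    push Not at hno
    obtain ⟨j, hj, hjA⟩ := hno A hA
    obtain ⟨k, hk, hkB⟩ := hno B hB
    have hji : j ≠ i0 := fun e => hjA (e ▸ rfl)
    have hki : k ≠ i0 := fun e => hkB (e ▸ rfl)
    obtain ⟨ja, jb⟩ := (hsplit j hj hji).resolve_left fun e => hjA e.1
    obtain ⟨ka, kb⟩ := (hsplit k hk hki).resolve_right fun e => hkB e.2
    have hjk : j ≠ k := fun e => hjA (e ▸ ka)
    obtain ⟨x, y, hxy, hx, hy, hxyoff⟩ := exists_pair (hn j hj)
    obtain ⟨C, hC, hBC, hjoff⟩ : ∃ C, (v j C = 1 ∨ v j C = -1) ∧ B ≠ C ∧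
        ∀ c, c ≠ B → c ≠ C → v j c = 0 := by
      by_cases exB : x = B
      · subst exB; exact ⟨y, hy, hxy, hxyoff⟩
      · by_cases eyB : y = B
        · subst eyB; exact ⟨x, hx, Ne.symm exB, fun c c1 c2 => hxyoff c c2 c1⟩
        · exfalso
          have := hxyoff B (Ne.symm exB) (Ne.symm eyB)
          rcases hB with q | q <;> rw [this, q] at jb <;> omega
    have hCA : C ≠ A := fun e => by
      rw [e, ja] at hC; omega
    have e := hc j hj k hk hjk
    rw [sum_pair hBC hjoff, kb, mul_zero, zero_add] at e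
    have hkC : v k C = v j C := by
      rcases hC with q | q <;> rw [q] at e ⊢ <;> linarith
    -- the support of `k` is `{A, C}`
    obtain ⟨h1, -⟩ := unit_support (n := 2) (by norm_num) (by exact_mod_cast hn k hk)
    have hkoff : ∀ c, c ≠ A → c ≠ C → v k c = 0 := by
      intro c c1 c2
      obtain ⟨x', y', -, -, -, hoff'⟩ := exists_pair (hn k hk)
      by_contra h0
      have m1 : c = x' ∨ c = y' := by
        by_contra hne; push Not at hne; exact h0 (hoff' c hne.1 hne.2)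
      have m2 : A = x' ∨ A = y' := by
        by_contra hne; push Not at hne
        have := hoff' A hne.1 hne.2
        rcases hA with q | q <;> rw [this, q] at ka <;> omega
      have m3 : C = x' ∨ C = y' := by
        by_contra hne; push Not at hne
        have := hoff' C hne.1 hne.2
        rw [this] at hkC
        rcases hC with q | q <;> rw [q] at hkC <;> omega
      rcases m1 with r | r <;> rcases m2 with r' | r' <;> rcases m3 with r'' | r'' <;>
        first | exact c1 (r.trans r'.symm) | exact c2 (r.trans r''.symm) |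
          exact hCA (r''.trans r'.symm)
    have d0 := hdeg i0 hi0
    have dj := hdeg j hj
    have dk := hdeg k hk
    rw [sum_pair hAB hoff] at d0
    rw [sum_pair hBC hjoff, jb] at dj
    rw [sum_pair (Ne.symm hCA) hkoff, ka, hkC] at dk
    have h2 : 2 * (v j C * d C) = s := by linarith
    rcases hs with rfl | hs
    · have := hd C
      rcases hC with q | q <;> rw [q] at h2 <;> omega
    · obtain ⟨m, rfl⟩ := hs; omega
  -- the other elements
  have hother : ∀ i ∈ K, ∃ b, b ≠ a ∧ (v i b = 1 ∨ v i b = -1) ∧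
      ∀ c, c ≠ a → c ≠ b → v i c = 0 := by
    intro i hi
    obtain ⟨x, y, hxy, hx, hy, hoff'⟩ := exists_pair (hn i hi)
    by_cases exa : x = a
    · subst exa; exact ⟨y, Ne.symm hxy, hy, hoff'⟩
    · by_cases eya : y = a
      · subst eya; exact ⟨x, exa, hx, fun c c1 c2 => hoff' c c2 c1⟩
      · exfalso
        have := hoff' a (Ne.symm exa) (Ne.symm eya)
        rw [hall i hi] at this
        omega
  have : Nonempty α := ⟨a⟩
  choose! b hb using hother
  refine ⟨a, v i0 a, b, ha, fun i hi => ⟨hall i hi, hb i hi⟩, fun i hi j hj e => ?_⟩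
  by_contra hne
  have hp := hc i hi j hj hne
  rw [sum_pair (hb i hi).1.symm (hb i hi).2.2, hall i hi, hall j hj] at hp
  have hbi := (hb i hi).2.1
  have hbj := (hb j hj).2.1
  rw [← e] at hbj
  rcases ha with q | q <;> rcases hbi with r | r <;> rcases hbj with r' | r' <;>
    rw [q, r, r'] at hp <;> omega

/-- The two coordinates of the remaining constituents. -/
theorem sd_pq {cP cQ lP lQ : ℤ} (hc : cP + cQ = -1) (hl : lP + lQ = -1)
    (hP : cP ≠ 0 ∨ lP ≠ 0) (hQ : cQ ≠ 0 ∨ lQ ≠ 0)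
    (hle : cP ^ 2 + cQ ^ 2 + (lP ^ 2 + lQ ^ 2) ≤ 4) :
    (cP = 0 ∧ lP = -1 ∧ cQ = -1 ∧ lQ = 0) ∨ (cP = -1 ∧ lP = 0 ∧ cQ = 0 ∧ lQ = -1) := by
  obtain rfl : cQ = -1 - cP := by linarith
  obtain rfl : lQ = -1 - lP := by linarith
  have h1 : -2 ≤ cP ∧ cP ≤ 1 := by constructor <;> nlinarith
  have h2 : -2 ≤ lP ∧ lP ≤ 1 := by constructor <;> nlinarith
  obtain ⟨h1, h1'⟩ := h1
  obtain ⟨h2, h2'⟩ := h2
  interval_cases cP <;> interval_cases lP <;> simp_all

end CfsgLib.SuzukiWong
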