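import Cfsg.Agent.SuzukiWong.SDFunctions
import Cfsg.Agent.SuzukiWong.SDStar
import Cfsg.Agent.BlocksFrobenius.InvolutionPairs

/-!
# Suzuki–Wong: the constituents of the induced functions

The functions `indLam lam 0 (2i)` share one constituent besides the principal character; the
functions `indLam lam (4i+1) 1` live on `h` further characters.
-/

set_option autoImplicit false
set_option linter.unusedSectionVars false
set_option linter.style.haveILetI false

namespace CfsgLib.SuzukiWong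

open Cfsg CfsgLib.Characters CfsgLib.Blocks CfsgLib.PrincipalBlock
open scoped ComplexConjugate MatrixGroups

universe u

variable {G : Type u} [Group G] [Fintype G]

/-- The degree as an integer. -/
noncomputable def degZ (χ : IrrCharacter G) : ℤ := ((exists_degree_pos χ.2).choose : ℕ)

theorem degZ_pos (χ : IrrCharacter G) : 0 < degZ χ := by
  have := (exists_degree_pos χ.2).choose_spec.1
  rw [degZ]; exact_mod_cast this

theorem apply_one_eq (χ : IrrCharacter G) : (χ : G → ℂ) 1 = (degZ χ : ℂ) := by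
  refine (exists_degree_pos χ.2).choose_spec.2.trans ?_
  rw [degZ]; push_cast; rfl

open Classical in
/-- The value at an element of square one as an integer. -/
noncomputable def intVal (χ : IrrCharacter G) (t : G) : ℤ :=
  if ht : t * t = 1 then (BlocksFrobenius.exists_int_apply χ ht).choose else 0

theorem apply_invol_eq (χ : IrrCharacter G) {t : G} (ht : t * t = 1) :
    (χ : G → ℂ) t = (intVal χ t : ℂ) := by
  classical
  rw [intVal, dif_pos ht]
  exact (BlocksFrobenius.exists_int_apply χ ht).choose_spec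

theorem intVal_triv {t : G} (ht : t * t = 1) : intVal (trivChar G) t = 1 := by
  have := apply_invol_eq (trivChar G) ht
  rw [trivChar_apply] at this
  exact_mod_cast this.symm

open Classical in
/-- The coefficients off the principal character. -/
noncomputable def redCof {σ : G} {h : ℕ} (lam : C0 σ h →* ℂˣ) (i : ℕ) (χ : IrrCharacter G) : ℤ :=
  if χ = trivChar G then 0 else cof (indLam lam 0 (2 * i)) χ

theorem redCof_triv {σ : G} {h : ℕ} (lam : C0 σ h →* ℂˣ) (i : ℕ) :
    redCof lam i (trivChar G) = 0 := by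
  classical
  exact if_pos rfl

theorem redCof_of_ne {σ : G} {h : ℕ} (lam : C0 σ h →* ℂˣ) (i : ℕ) {χ : IrrCharacter G}
    (hχ : χ ≠ trivChar G) : redCof lam i χ = cof (indLam lam 0 (2 * i)) χ := by
  classical
  exact if_neg hχ

variable {P : Sylow 2 G} {σ y : G} {h p : ℕ} [Fact p.Prime]
  {π : Subgroup.centralizer ({σ ^ (2 * h)} : Set G) →* PGL(2, ZMod p)} (D : SDData P σ y h p π)
  (hodd : ∀ q : ℕ, q.Prime → q ≠ 2 → ∀ R : Sylow q G, IsCyclic R) [IsSimpleGroup G]
  (hna : ¬ IsMulCommutative G) {lam : C0 σ h →* ℂˣ} (hl : IsLam D lam)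
include D hodd hna hl

theorem SDData.cofE_triv {i : ℕ} (a : 1 ≤ i) (b : i ≤ h) :
    cof (indLam lam 0 (2 * i)) (trivChar G) = 1 := by
  have h2 := D.two_le
  rw [D.cof_triv hodd hna hl (by omega) (by omega)]
  simp [show 2 * i ≠ 0 by omega]

theorem SDData.redCof_mul {i j : ℕ} (a : 1 ≤ i) (b : i ≤ h) (a' : 1 ≤ j) (b' : j ≤ h) :
    ∑ χ, redCof lam i χ * redCof lam j χ =
      if i = j then (if i = h then 3 else 2) else 1 := by
  classical
  have h2 := D.two_le
  have e := sum_cof_mul (indLam_gen lam 0 (2 * i)) (indLam_gen lam 0 (2 * j))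
  rw [D.inner_EE hodd hna hl (even_two_mul i) (even_two_mul j) (by omega) (by omega) (by omega)
    (by omega)] at e
  have e' := Int.cast_injective e
  rw [Finset.sum_eq_add_sum_sdiff_singleton_of_mem (Finset.mem_univ (trivChar G)),
    D.cofE_triv hodd hna hl a b, D.cofE_triv hodd hna hl a' b'] at e'
  rw [Finset.sum_eq_add_sum_sdiff_singleton_of_mem (Finset.mem_univ (trivChar G)), redCof_triv,
    Finset.sum_congr rfl fun χ hχ => by
      rw [redCof_of_ne lam i (by simpa using hχ), redCof_of_ne lam j (by simpa using hχ)]]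
  by_cases hij : i = j
  · subst hij
    simp only [if_true] at e' ⊢
    by_cases hh : i = h
    · subst hh; simp only [if_true] at e' ⊢; linarith
    · rw [if_neg hh]; rw [if_neg (show 2 * i ≠ 2 * h by omega)] at e'; linarith
  · rw [if_neg hij]; rw [if_neg (show 2 * i ≠ 2 * j by omega)] at e'; linarith

/-- Linear functionals from elements where the functions vanish. -/
theorem SDData.redCof_val {i : ℕ} (a : 1 ≤ i) (b : i ≤ h) {g : G} (hg : ¬ 4 ∣ orderOf g) :
    ∑ χ, (redCof lam i χ : ℂ) * (χ : G → ℂ) g = -1 := by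
  classical
  have h2 := D.two_le
  have e := eq_sum_cof (indLam_gen lam 0 (2 * i)) g
  rw [D.indLam_zero hodd hl (by simp) hg,
    Finset.sum_eq_add_sum_sdiff_singleton_of_mem (Finset.mem_univ (trivChar G)),
    D.cofE_triv hodd hna hl a b, trivChar_apply] at e
  rw [Finset.sum_eq_add_sum_sdiff_singleton_of_mem (Finset.mem_univ (trivChar G)), redCof_triv,
    Finset.sum_congr rfl fun χ hχ => by rw [redCof_of_ne lam i (by simpa using hχ)]]
  push_cast at e ⊢
  linear_combination -e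

theorem SDData.not_four_one : ¬ 4 ∣ orderOf (1 : G) := by
  rw [orderOf_one]; omega

theorem SDData.not_four_t : ¬ 4 ∣ orderOf (σ ^ (2 * h)) := by
  rw [D.t_order]; omega

theorem SDData.redCof_deg {i : ℕ} (a : 1 ≤ i) (b : i ≤ h) :
    ∑ χ, redCof lam i χ * degZ χ = -1 := by
  have e := D.redCof_val hodd hna hl a b (D.not_four_one hodd hna hl)
  simp only [apply_one_eq] at e
  exact_mod_cast e

theorem SDData.redCof_t {i : ℕ} (a : 1 ≤ i) (b : i ≤ h) :
    ∑ χ, redCof lam i χ * intVal χ (σ ^ (2 * h)) = -1 := by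
  have e := D.redCof_val hodd hna hl a b (D.not_four_t hodd hna hl)
  simp only [apply_invol_eq _ D.t_sq] at e
  exact_mod_cast e

open Classical in
/-- The common constituent and the others. -/
theorem SDData.exists_XW :
    ∃ (X A B : IrrCharacter G) (W : ℕ → IrrCharacter G) (ε α β : ℤ) (w : ℕ → ℤ),
      (ε = 1 ∨ ε = -1) ∧ (α = 1 ∨ α = -1) ∧ (β = 1 ∨ β = -1) ∧
      (∀ i, 1 ≤ i → i < h → redCof lam i X = ε ∧ redCof lam i (W i) = w i ∧
        (w i = 1 ∨ w i = -1) ∧ W i ≠ X ∧ W i ≠ A ∧ W i ≠ B ∧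
        ∀ χ, χ ≠ X → χ ≠ W i → redCof lam i χ = 0) ∧
      Set.InjOn W (Finset.Ico 1 h) ∧ A ≠ X ∧ B ≠ X ∧ A ≠ B ∧
      redCof lam h X = ε ∧ redCof lam h A = α ∧ redCof lam h B = β ∧
      ∀ χ, χ ≠ X → χ ≠ A → χ ≠ B → redCof lam h χ = 0 := by
  have h2 := D.two_le
  obtain ⟨k, hk⟩ := D.pow2
  set K := Finset.Ico 1 h with hK
  have hKmem : ∀ {i}, i ∈ K ↔ 1 ≤ i ∧ i < h := Finset.mem_Ico
  obtain ⟨a, ε, b, hε, hstar, hinj⟩ := exists_star (K := K) (v := fun i => redCof lam i)
    (d := degZ) (s := -1) (fun χ => (degZ_pos χ).ne') (Or.inr (by decide))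
    (fun i hi => by
      obtain ⟨i1, i2⟩ := hKmem.1 hi
      have := D.redCof_mul hodd hna hl i1 i2.le i1 i2.le
      simp only [if_true, if_neg i2.ne] at this
      simpa [sq] using this)
    (fun i hi j hj hij => by
      obtain ⟨i1, i2⟩ := hKmem.1 hi
      obtain ⟨j1, j2⟩ := hKmem.1 hj
      rw [D.redCof_mul hodd hna hl i1 i2.le j1 j2.le, if_neg hij])
    (fun i hi => by
      obtain ⟨i1, i2⟩ := hKmem.1 hi
      exact D.redCof_deg hodd hna hl i1 i2.le)
    (i0 := 1) (hKmem.2 ⟨le_rfl, by omega⟩)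
  set v := redCof lam h with hv
  have hvn : ∑ χ, v χ ^ 2 = 3 := by
    have := D.redCof_mul hodd hna hl (show 1 ≤ h by omega) le_rfl (show 1 ≤ h by omega) le_rfl
    simp only [if_true] at this
    simpa [sq] using this
  obtain ⟨hunit, hcard⟩ := unit_support (n := 3) le_rfl (by exact_mod_cast hvn)
  have hvi : ∀ i, 1 ≤ i → i < h →
      ε * v a + redCof lam i (b i) * v (b i) = 1 := by
    intro i i1 i2
    obtain ⟨e1, e2, -, e4⟩ := hstar i (hKmem.2 ⟨i1, i2⟩)
    have := D.redCof_mul hodd hna hl i1 i2.le (show 1 ≤ h by omega) le_rfl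
    rw [if_neg i2.ne, sum_pair e2.symm e4, e1] at this
    exact this
  -- choose the constituent shared with the function of norm four
  obtain ⟨X, εX, W, hεX, hXW, hWinj, hvX⟩ : ∃ (X : IrrCharacter G) (εX : ℤ) (W : ℕ → IrrCharacter G),
      (εX = 1 ∨ εX = -1) ∧
      (∀ i ∈ K, redCof lam i X = εX ∧ W i ≠ X ∧
        (redCof lam i (W i) = 1 ∨ redCof lam i (W i) = -1) ∧
        ∀ χ, χ ≠ X → χ ≠ W i → redCof lam i χ = 0) ∧
      Set.InjOn W K ∧ v X = εX := by
    by_cases hva : v a = ε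
    · exact ⟨a, ε, b, hε, hstar, hinj, hva⟩
    · have hb1 : ∀ i, 1 ≤ i → i < h → v (b i) = redCof lam i (b i) := by
        intro i i1 i2
        have e := hvi i i1 i2
        obtain ⟨-, -, e3, -⟩ := hstar i (hKmem.2 ⟨i1, i2⟩)
        rcases e3 with q | q <;> rcases hε with r | r <;> rcases hunit a with s | s | s <;>
          rcases hunit (b i) with s' | s' | s' <;> simp [q, r, s, s'] at e hva ⊢
      rcases eq_or_lt_of_le h2 with h2' | h2'
      · refine ⟨b 1, redCof lam 1 (b 1), fun _ => a, ?_, ?_, ?_, hb1 1 le_rfl (by omega)⟩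
        · exact (hstar 1 (hKmem.2 ⟨le_rfl, by omega⟩)).2.2.1
        · intro i hi
          obtain ⟨i1, i2⟩ := hKmem.1 hi
          obtain rfl : i = 1 := by omega
          obtain ⟨e1, e2, e3, e4⟩ := hstar 1 hi
          exact ⟨rfl, e2.symm, e1.symm ▸ hε, fun χ c1 c2 => e4 χ c2 c1⟩
        · intro i hi j hj _
          obtain ⟨i1, i2⟩ := hKmem.1 hi
          obtain ⟨j1, j2⟩ := hKmem.1 hj
          omega
      · exfalso
        have hsub : (↑(K.image b) : Set (IrrCharacter G)) ⊆ {χ | v χ ≠ 0} := by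
          intro χ hχ
          obtain ⟨i, hi, rfl⟩ := Finset.mem_image.1 (Finset.mem_coe.1 hχ)
          show v (b i) ≠ 0
          rw [hb1 i (hKmem.1 hi).1 (hKmem.1 hi).2]
          rcases (hstar i hi).2.2.1 with q | q <;> omega
        have hle := Set.ncard_le_ncard hsub
        rw [Set.ncard_coe_finset, Finset.card_image_of_injOn hinj, hK, Nat.card_Ico, hcard] at hle
        have h4 : h = 4 := by
          rcases k with _ | _ | k
          · omega
          · rw [hk]; norm_num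
          · have : 2 ^ 3 ≤ h := hk ▸ Nat.pow_le_pow_right two_pos (by omega)
            omega
        have heq : (↑(K.image b) : Set (IrrCharacter G)) = {χ | v χ ≠ 0} := by
          refine Set.eq_of_subset_of_ncard_le hsub ?_
          rw [Set.ncard_coe_finset, Finset.card_image_of_injOn hinj, hK, Nat.card_Ico, hcard, h4]
        have hd := D.redCof_deg hodd hna hl (show 1 ≤ h by omega) le_rfl
        rw [← hv, ← Finset.sum_subset (Finset.subset_univ (K.image b)) (fun χ _ hχ => by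
          have : ¬ v χ ≠ 0 := fun hne => hχ (Finset.mem_coe.1 (heq ▸ hne))
          rw [not_ne_iff.1 this, zero_mul]), Finset.sum_image hinj] at hd
        have heach : ∀ i ∈ K, v (b i) * degZ (b i) = -1 - ε * degZ a := by
          intro i hi
          obtain ⟨i1, i2⟩ := hKmem.1 hi
          obtain ⟨e1, e2, -, e4⟩ := hstar i hi
          have := D.redCof_deg hodd hna hl i1 i2.le
          rw [sum_pair e2.symm e4, e1] at this
          rw [hb1 i i1 i2]; linarith
        rw [Finset.sum_congr rfl heach, Finset.sum_const, hK, Nat.card_Ico, h4, nsmul_eq_mul] at hd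
        push_cast at hd
        omega
  -- the other two
  have hW0 : ∀ i ∈ K, v (W i) = 0 := by
    intro i hi
    obtain ⟨i1, i2⟩ := hKmem.1 hi
    obtain ⟨e1, e2, e3, e4⟩ := hXW i hi
    have := D.redCof_mul hodd hna hl i1 i2.le (show 1 ≤ h by omega) le_rfl
    rw [if_neg i2.ne, sum_pair e2.symm e4, e1, ← hv, hvX] at this
    rcases hεX with q | q <;> rcases e3 with r | r <;> rw [q, r] at this <;> omega
  obtain ⟨c1, c2, c3, d12, d13, d23, g1, g2, g3, hoff⟩ := exists_triple hvn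
  have hXne : v X ≠ 0 := by rcases hεX with q | q <;> omega
  have hWne : ∀ i ∈ K, ∀ c, (v c = 1 ∨ v c = -1) → W i ≠ c := fun i hi c hc e => by
    have := hW0 i hi
    rw [e] at this
    omega
  have fin : ∀ A B : IrrCharacter G, A ≠ X → B ≠ X → A ≠ B → (v A = 1 ∨ v A = -1) →
      (v B = 1 ∨ v B = -1) → (∀ χ, χ ≠ X → χ ≠ A → χ ≠ B → v χ = 0) →
      ∃ (X A B : IrrCharacter G) (W : ℕ → IrrCharacter G) (ε α β : ℤ) (w : ℕ → ℤ),
      (ε = 1 ∨ ε = -1) ∧ (α = 1 ∨ α = -1) ∧ (β = 1 ∨ β = -1) ∧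
      (∀ i, 1 ≤ i → i < h → redCof lam i X = ε ∧ redCof lam i (W i) = w i ∧
        (w i = 1 ∨ w i = -1) ∧ W i ≠ X ∧ W i ≠ A ∧ W i ≠ B ∧
        ∀ χ, χ ≠ X → χ ≠ W i → redCof lam i χ = 0) ∧
      Set.InjOn W (Finset.Ico 1 h) ∧ A ≠ X ∧ B ≠ X ∧ A ≠ B ∧
      redCof lam h X = ε ∧ redCof lam h A = α ∧ redCof lam h B = β ∧
      ∀ χ, χ ≠ X → χ ≠ A → χ ≠ B → redCof lam h χ = 0 :=
    fun A B hA hB hAB gA gB h0 =>
      ⟨X, A, B, W, εX, v A, v B, fun i => redCof lam i (W i), hεX, gA, gB, fun i i1 i2 =>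
        ⟨(hXW i (hKmem.2 ⟨i1, i2⟩)).1, rfl, (hXW i (hKmem.2 ⟨i1, i2⟩)).2.2.1,
          (hXW i (hKmem.2 ⟨i1, i2⟩)).2.1, hWne i (hKmem.2 ⟨i1, i2⟩) A gA,
          hWne i (hKmem.2 ⟨i1, i2⟩) B gB, (hXW i (hKmem.2 ⟨i1, i2⟩)).2.2.2⟩,
        hWinj, hA, hB, hAB, hvX, rfl, rfl, h0⟩
  by_cases x1 : X = c1
  · subst x1; exact fin c2 c3 d12.symm d13.symm d23 g2 g3 hoff
  by_cases x2 : X = c2
  · subst x2; exact fin c1 c3 d12 d23.symm d13 g1 g3 fun χ a b c => hoff χ b a c
  by_cases x3 : X = c3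
  · subst x3; exact fin c1 c2 d13 d23 d12 g1 g2 fun χ a b c => hoff χ b c a
  exact absurd (hoff X x1 x2 x3) hXne

/-- The pair equation in the signed values of the common constituent. -/
theorem SDData.main_eq {X W : IrrCharacter G} {ε w : ℤ} (hε : ε = 1 ∨ ε = -1)
    (hw : w = 1 ∨ w = -1) {i : ℕ} (i1 : 1 ≤ i) (i2 : i < h)
    (hX : redCof lam i X = ε) (hW : redCof lam i W = w) (hne : X ≠ W)
    (hoff : ∀ χ, χ ≠ X → χ ≠ W → redCof lam i χ = 0) {j : ℤ}
    (hp : (1 + 2 * (h : ℤ) * j).natAbs = p) (ho : Nat.card D.O = Nat.card D.X * j.natAbs) :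
    ((Subgroup.centralizer ({σ ^ (2 * h)} : Set G)).index : ℤ) *
        (ε * degZ X - ε * intVal X (σ ^ (2 * h))) ^ 2 =
      8 * (h : ℤ) ^ 2 * (Nat.card D.O : ℤ) ^ 2 * (1 + 2 * h * j) * (1 + h * j) *
        (ε * degZ X) * (ε * degZ X + 1) ∧
    ε * degZ X + 1 ≠ 0 ∧ ε * degZ X ≠ ε * intVal X (σ ^ (2 * h)) := by
  classical
  have h2 := D.two_le
  have hd := D.redCof_deg hodd hna hl i1 i2.le
  have ht := D.redCof_t hodd hna hl i1 i2.le
  rw [sum_pair hne hoff, hX, hW] at hd ht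
  have e := D.pair_eq hodd hna hl (k := 0) (l := 2 * i) (by simp)
  rw [card_classSet_eq, show ((C0 σ h).index : ℂ) = ((((Subgroup.centralizer ({σ ^ (2 * h)} : Set G)).index : ℤ) *
      (2 * (1 + 2 * (h : ℤ) * j) * (1 + h * j)) : ℤ) : ℂ) from by
      rw [← D.index_C0 hp ho, Int.cast_natCast], if_pos (dvd_zero _),
    if_neg (fun hdv => by have := Nat.le_of_dvd (by omega) hdv; omega), sub_zero,
    Finset.sum_eq_add_sum_sdiff_singleton_of_mem (Finset.mem_univ (trivChar G)),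
    classInner_eq_cof (indLam_gen lam 0 (2 * i)), D.cofE_triv hodd hna hl i1 i2.le, trivChar_apply,
    trivChar_apply, Finset.sum_congr rfl (g := fun χ => (redCof lam i χ : ℂ) *
      ((χ : G → ℂ) (σ ^ (2 * h)) ^ 2 / (χ : G → ℂ) 1)) fun χ hχ => by
      rw [classInner_eq_cof (indLam_gen lam 0 (2 * i)), redCof_of_ne lam i (by simpa using hχ)]
      ring] at e
  have hsum : ∑ χ ∈ Finset.univ \ {trivChar G}, (redCof lam i χ : ℂ) *
      ((χ : G → ℂ) (σ ^ (2 * h)) ^ 2 / (χ : G → ℂ) 1) =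
      (ε : ℂ) * ((intVal X (σ ^ (2 * h)) : ℂ) ^ 2 / (degZ X : ℂ)) +
      (w : ℂ) * ((intVal W (σ ^ (2 * h)) : ℂ) ^ 2 / (degZ W : ℂ)) := by
    have hXt : X ≠ trivChar G := fun e => by
      rw [e, redCof_triv] at hX; omega
    have hWt : W ≠ trivChar G := fun e => by
      rw [e, redCof_triv] at hW; omega
    rw [← Finset.sum_subset (s₁ := {X, W}) (fun χ hχ => by
      rcases Finset.mem_insert.1 hχ with rfl | hχ
      · simp [hXt]
      · rw [Finset.mem_singleton.1 hχ]; simp [hWt]) (fun χ _ hχ => by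
        simp only [Finset.mem_insert, Finset.mem_singleton, not_or] at hχ
        rw [hoff χ hχ.1 hχ.2, Int.cast_zero, zero_mul]), Finset.sum_pair hne, hX, hW,
      apply_invol_eq _ D.t_sq, apply_invol_eq _ D.t_sq, apply_one_eq, apply_one_eq]
  rw [hsum] at e
  set N := (Subgroup.centralizer ({σ ^ (2 * h)} : Set G)).index with hN
  set u := intVal X (σ ^ (2 * h))
  set u' := intVal W (σ ^ (2 * h))
  set d := degZ X with hdd
  set d' := degZ W with hdd'
  have hdpos : 0 < d := degZ_pos X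
  have hd'pos : 0 < d' := degZ_pos W
  have hx1 : ε * d + 1 ≠ 0 := fun e0 => by
    rcases hw with q | q <;> rw [q] at hd <;> omega
  have hNne : (N : ℂ) ≠ 0 := Nat.cast_ne_zero.2 Subgroup.index_ne_zero_of_finite
  have hεC : (ε : ℂ) ^ 2 = 1 := by rcases hε with rfl | rfl <;> norm_num
  have hwC : (w : ℂ) ^ 2 = 1 := by rcases hw with rfl | rfl <;> norm_num
  have hu' : (w : ℂ) * u' = -1 - ε * u := by
    have : w * u' = -1 - ε * u := by linarith
    exact_mod_cast congrArg (fun n : ℤ => (n : ℂ)) this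
  have hd' : (w : ℂ) * d' = -1 - ε * d := by
    have : w * d' = -1 - ε * d := by linarith
    exact_mod_cast congrArg (fun n : ℤ => (n : ℂ)) this
  have hdC : (d : ℂ) ≠ 0 := Int.cast_ne_zero.2 hdpos.ne'
  have hd'C : (d' : ℂ) ≠ 0 := Int.cast_ne_zero.2 hd'pos.ne'
  have eS : (1 + ((ε : ℂ) * ((u : ℂ) ^ 2 / d) + (w : ℂ) * ((u' : ℂ) ^ 2 / d'))) *
      ((ε * d) * (ε * d + 1)) = ((ε : ℂ) * d - ε * u) ^ 2 := by
    have hε0 : (ε : ℂ) ≠ 0 := fun e0 => by rw [e0] at hεC; norm_num at hεC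
    have hw0 : (w : ℂ) ≠ 0 := fun e0 => by rw [e0] at hwC; norm_num at hwC
    have eA : (ε : ℂ) * ((u : ℂ) ^ 2 / d) = ((ε : ℂ) * u) ^ 2 / (ε * d) := by field_simp
    have eB : (w : ℂ) * ((u' : ℂ) ^ 2 / d') = ((w : ℂ) * u') ^ 2 / (w * d') := by field_simp
    have hne' : (-1 : ℂ) - ε * d ≠ 0 := hd' ▸ mul_ne_zero hw0 hd'C
    have hne0 : (ε : ℂ) * d ≠ 0 := mul_ne_zero hε0 hdC
    rw [eA, eB, hu', hd']
    generalize (ε : ℂ) * d = xx at hne' hne0 ⊢
    generalize (ε : ℂ) * u = uu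
    field_simp
    ring
  have heq : (N : ℤ) * (ε * d - ε * u) ^ 2 =
      8 * (h : ℤ) ^ 2 * (Nat.card D.O : ℤ) ^ 2 * (1 + 2 * h * j) * (1 + h * j) *
        (ε * d) * (ε * d + 1) := by
    apply Int.cast_injective (α := ℂ)
    push_cast
    apply mul_left_cancel₀ hNne
    push_cast at e
    linear_combination ((ε : ℂ) * d * (ε * d + 1)) * e - (N : ℂ) ^ 2 * eS
  refine ⟨heq, hx1, fun e0 => ?_⟩
  rw [e0, sub_self, zero_pow two_ne_zero, mul_zero, ← e0] at heq
  obtain ⟨h', hh'⟩ := D.h_even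
  have hj0 : j ≠ 0 := fun hj => by
    rw [hj, mul_zero, add_zero] at hp; exact (Fact.out (p := p.Prime)).ne_one hp.symm
  have hs : (1 : ℤ) + h * j ≠ 0 := fun e1 => by
    rw [hh'] at e1; push_cast at e1
    have : (h' : ℤ) * j * 2 = -1 := by linarith
    omega
  have hxb : (1 : ℤ) + 2 * h * j ≠ 0 := fun e1 => by
    rw [e1] at hp; exact (Fact.out (p := p.Prime)).ne_zero hp.symm
  have hε0 : ε * d ≠ 0 := mul_ne_zero (by omega) hdpos.ne'
  simp [mul_eq_zero, hs, hxb, hε0, hx1, show h ≠ 0 by omega] at heq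

end CfsgLib.SuzukiWong
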