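import Cfsg.Agent.SuzukiWong.SDValues

/-!
# Suzuki–Wong: the two families of induced functions

`indLam lam 0 k` for even `k` and `indLam lam (4i+1) 1`: inner products, values at elements of order
not divisible by four, and the symmetry under `y`.
-/

set_option autoImplicit false
set_option linter.unusedSectionVars false
set_option linter.style.haveILetI false

namespace CfsgLib.SuzukiWong

open Cfsg CfsgLib.Characters CfsgLib.Blocks CfsgLib.PrincipalBlock
open scoped ComplexConjugate MatrixGroups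

universe u

theorem delta_self (m a : ℕ) : delta m a a = 1 := if_pos rfl

theorem delta_one {m a b : ℕ} (h : a % m = b % m) : delta m a b = 1 := if_pos h

theorem delta_zero {m a b : ℕ} (h : a % m ≠ b % m) : delta m a b = 0 := if_neg h

theorem delta_lt {m a b : ℕ} (ha : a < m) (hb : b < m) :
    delta m a b = if a = b then 1 else 0 := by
  rw [delta, Nat.mod_eq_of_lt ha, Nat.mod_eq_of_lt hb]

theorem conj_exp_zero (h : ℕ) : (2 * h - 1) * 0 % (4 * h) = 0 := by simp

theorem conj_exp_even {h k : ℕ} (h2 : 2 ≤ h) (hk : Even k) (h0 : 0 < k) (hle : k < 4 * h) :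
    (2 * h - 1) * k % (4 * h) = 4 * h - k := by
  obtain ⟨m, rfl⟩ := hk
  have e : (2 * h - 1) * (m + m) + (m + m) = 4 * h * m := by
    rw [← add_one_mul ((2 * h - 1)), show 2 * h - 1 + 1 = 2 * h by omega]; ring
  obtain ⟨m', rfl⟩ : ∃ m', m = m' + 1 := ⟨m - 1, by omega⟩
  rw [show (2 * h - 1) * (m' + 1 + (m' + 1)) = (4 * h - (m' + 1 + (m' + 1))) + 4 * h * m' by
    simp only [mul_add, mul_one] at e ⊢; omega,
    Nat.add_mul_mod_self_left, Nat.mod_eq_of_lt (by omega)]

theorem conj_exp_odd {h k : ℕ} (h2 : 2 ≤ h) (hk : Odd k) :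
    ((2 * h - 1) * k + k) % (4 * h) = 2 * h % (4 * h) := by
  obtain ⟨m, rfl⟩ := hk
  rw [← add_one_mul ((2 * h - 1)), show 2 * h - 1 + 1 = 2 * h by omega,
    show 2 * h * (2 * m + 1) = 2 * h + 4 * h * m by ring, Nat.add_mul_mod_self_left]

theorem conj_exp_odd_four {h k : ℕ} (hh : Even h) (h2 : 2 ≤ h) :
    (k % 4 = 1 → (2 * h - 1) * k % 4 = 3) ∧ (k % 4 = 3 → (2 * h - 1) * k % 4 = 1) := by
  obtain ⟨e, rfl⟩ := hh
  constructor <;> intro hk <;> rw [Nat.mul_mod, hk, show (2 * (e + e) - 1) % 4 = 3 by omega]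

variable {G : Type u} [Group G] [Fintype G]

theorem cof_eq_of_classInner {f : G → ℂ} (hf : IsGeneralizedCharacter G f) {χ : IrrCharacter G}
    {z : ℤ} (e : classInner f (χ : G → ℂ) = z) : cof f χ = z :=
  Int.cast_injective (α := ℂ) ((classInner_eq_cof hf χ).symm.trans e)

theorem indLam_neg {σ : G} {h : ℕ} (lam : C0 σ h →* ℂˣ) (k l : ℕ) (g : G) :
    indLam lam k l g = - indLam lam l k g := by
  simp only [indLam, indFun]
  rw [← mul_neg, ← Finset.sum_neg_distrib]
  congr 1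
  refine Finset.sum_congr rfl fun x _ => ?_
  by_cases hx : x⁻¹ * g * x ∈ C0 σ h
  · rw [extendByZero_of_mem _ _ hx, extendByZero_of_mem _ _ hx]; simp [alphaFun]
  · rw [extendByZero_of_not_mem _ _ hx, extendByZero_of_not_mem _ _ hx, neg_zero]

theorem cof_neg {σ : G} {h : ℕ} (lam : C0 σ h →* ℂˣ) (k l : ℕ) (χ : IrrCharacter G) :
    cof (indLam lam k l) χ = - cof (indLam lam l k) χ := by
  refine cof_eq_of_classInner (indLam_gen lam k l) ?_
  push_cast
  rw [← classInner_eq_cof (indLam_gen lam l k)]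
  simp only [classInner, indLam_neg lam k l, neg_mul, Finset.sum_neg_distrib, mul_neg]

theorem cof_indLam_self {σ : G} {h : ℕ} (lam : C0 σ h →* ℂˣ) (k : ℕ) (χ : IrrCharacter G) :
    cof (indLam lam k k) χ = 0 := by
  have := cof_neg lam k k χ
  omega

variable {P : Sylow 2 G} {σ y : G} {h p : ℕ} [Fact p.Prime]
  {π : Subgroup.centralizer ({σ ^ (2 * h)} : Set G) →* PGL(2, ZMod p)} (D : SDData P σ y h p π)
include D

variable (hodd : ∀ q : ℕ, q.Prime → q ≠ 2 → ∀ R : Sylow q G, IsCyclic R) [IsSimpleGroup G]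
  (hna : ¬ IsMulCommutative G) {lam : C0 σ h →* ℂˣ} (hl : IsLam D lam)
include hodd hna hl

theorem SDData.inner_EE {k k' : ℕ} (hk : Even k) (hk' : Even k') (a : 2 ≤ k) (b : k ≤ 2 * h)
    (a' : 2 ≤ k') (b' : k' ≤ 2 * h) :
    classInner (indLam lam 0 k) (indLam lam 0 k') =
      (((if k = k' then (if k = 2 * h then 4 else 3) else 2 : ℤ)) : ℂ) := by
  have h2 := D.two_le
  rw [D.inner_indLam hodd hna hl (k := 0) (l := k) (k' := 0) (l' := k')
    (by rw [Nat.zero_mod, Nat.even_iff.1 hk]) (by rw [Nat.zero_mod, Nat.even_iff.1 hk'])]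
  have e0 : (2 * h - 1) * 0 = 0 := mul_zero _
  have ek : (2 * h - 1) * k' % (4 * h) = 4 * h - k' := conj_exp_even h2 hk' (by omega) (by omega)
  simp only [e0, delta, Nat.zero_mod, Nat.mod_eq_of_lt (show k < 4 * h by omega),
    Nat.mod_eq_of_lt (show k' < 4 * h by omega), ek]
  split_ifs <;> first | omega | (push_cast; ring)

theorem SDData.inner_EE' {k : ℕ} (hk : Even k) (a : 2 ≤ k) (b : k < 2 * h) :
    classInner (indLam lam 0 k) (indLam lam 0 (4 * h - k)) = ((3 : ℤ) : ℂ) ∧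
      classInner (indLam lam 0 (4 * h - k)) (indLam lam 0 (4 * h - k)) = ((3 : ℤ) : ℂ) := by
  have h2 := D.two_le
  have hk' : Even (4 * h - k) := (Nat.even_sub (by omega)).2
    (iff_of_true ⟨2 * h, by ring⟩ hk)
  have ek : (2 * h - 1) * (4 * h - k) % (4 * h) = 4 * h - (4 * h - k) :=
    conj_exp_even h2 hk' (by omega) (by omega)
  have e0 : (2 * h - 1) * 0 = 0 := mul_zero _
  constructor
  · rw [D.inner_indLam hodd hna hl (k := 0) (l := k) (k' := 0) (l' := 4 * h - k)
      (by rw [Nat.zero_mod, Nat.even_iff.1 hk]) (by rw [Nat.zero_mod, Nat.even_iff.1 hk'])]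
    simp only [e0, delta, Nat.zero_mod, Nat.mod_eq_of_lt (show k < 4 * h by omega),
      Nat.mod_eq_of_lt (show 4 * h - k < 4 * h by omega), ek]
    split_ifs <;> first | omega | (push_cast; ring)
  · rw [D.inner_indLam hodd hna hl (k := 0) (l := 4 * h - k) (k' := 0) (l' := 4 * h - k)
      (by rw [Nat.zero_mod, Nat.even_iff.1 hk']) (by rw [Nat.zero_mod, Nat.even_iff.1 hk'])]
    simp only [e0, delta, Nat.zero_mod, Nat.mod_eq_of_lt (show 4 * h - k < 4 * h by omega), ek]
    split_ifs <;> first | omega | (push_cast; ring)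

theorem SDData.inner_DD {k k' : ℕ} (hk : k % 4 = 1) (hk' : k' % 4 = 1) (a : 1 < k)
    (b : k < 4 * h) (a' : 1 < k') (b' : k' < 4 * h) :
    classInner (indLam lam k 1) (indLam lam k' 1) = (((if k = k' then 2 else 1 : ℤ)) : ℂ) := by
  have h2 := D.two_le
  obtain ⟨h', hh'⟩ := D.h_even
  rw [D.inner_indLam hodd hna hl (k := k) (l := 1) (k' := k') (l' := 1) (by omega) (by omega)]
  have h4 : 4 ∣ 4 * h := dvd_mul_right 4 h
  have e4 : ∀ n : ℕ, n % 4 = 1 → (2 * h - 1) * n % (4 * h) % 4 = 3 := fun n hn => by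
    rw [Nat.mod_mod_of_dvd _ h4]; exact (conj_exp_odd_four D.h_even h2).1 hn
  have z : ∀ n m : ℕ, n % 4 = 1 → m % 4 = 1 → n < 4 * h → delta (4 * h) n ((2 * h - 1) * m) = 0 :=
    fun n m hn hm hlt => delta_zero (by
      rw [Nat.mod_eq_of_lt hlt]; intro e; have := e4 m hm; omega)
  rw [z k k' hk hk' b, z k 1 hk rfl b, z 1 k' rfl hk' (by omega), z 1 1 rfl rfl (by omega),
    delta_lt b b', delta_lt b (by omega : 1 < 4 * h), delta_lt (by omega : 1 < 4 * h) b', delta_self]
  split_ifs <;> first | omega | (push_cast; ring)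

theorem SDData.inner_DE {k k' : ℕ} (hk : k % 4 = 1) (hk' : Even k') :
    classInner (indLam lam k 1) (indLam lam 0 k') = 0 := by
  have h2 := D.two_le
  rw [D.inner_indLam hodd hna hl (k := k) (l := 1) (k' := 0) (l' := k') (by omega)
    (by rw [Nat.zero_mod, Nat.even_iff.1 hk'])]
  have hz : ∀ n m : ℕ, n % 2 = 1 → m % 2 = 0 → delta (4 * h) n m = 0 := fun n m hn hm =>
    delta_zero fun e => by
      have h2' : 2 ∣ 4 * h := ⟨2 * h, by ring⟩
      have := congrArg (· % 2) e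
      simp only [Nat.mod_mod_of_dvd _ h2'] at this
      omega
  have he : (2 * h - 1) * k' % 2 = 0 := by rw [Nat.mul_mod, Nat.even_iff.1 hk', mul_zero]; rfl
  rw [hz k 0 (by omega) rfl, hz k k' (by omega) (Nat.even_iff.1 hk'), hz 1 0 rfl rfl,
    hz 1 k' rfl (Nat.even_iff.1 hk'), hz k _ (by omega) (by simp), hz k _ (by omega) he,
    hz 1 _ rfl (by simp), hz 1 _ rfl he]
  simp

theorem SDData.odd_partner {k : ℕ} (hk : k % 4 = 3) (hlt : k < 4 * h) :
    ∃ k', k' % 4 = 1 ∧ k' < 4 * h ∧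
      ∀ χ : IrrCharacter G, cof (indLam lam k 1) χ = cof (indLam lam k' 1) χ := by
  have h2 := D.two_le
  obtain ⟨h', hh'⟩ := D.h_even
  refine ⟨(2 * h - 1) * k % (4 * h), ?_, Nat.mod_lt _ (by omega), fun χ => ?_⟩
  · rw [Nat.mod_mod_of_dvd _ (dvd_mul_right 4 h)]
    exact (conj_exp_odd_four D.h_even h2).2 hk
  have hk4 : (2 * h - 1) * k % (4 * h) % 4 = 1 := by
    rw [Nat.mod_mod_of_dvd _ (dvd_mul_right 4 h)]
    exact (conj_exp_odd_four D.h_even h2).2 hk
  set k' := (2 * h - 1) * k % (4 * h) with hk'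
  have hlt' : k' < 4 * h := Nat.mod_lt _ (by omega)
  have ek : ((2 * h - 1) * k') % (4 * h) = k := by
    rw [hk', Nat.mul_mod, Nat.mod_mod, ← Nat.mul_mod, ← mul_assoc]
    obtain ⟨e, he⟩ : ∃ e, (2 * h - 1) * (2 * h - 1) = 4 * h * e + 1 :=
      ⟨h - 1, by
        obtain ⟨n, rfl⟩ : ∃ n, h = n + 1 := ⟨h - 1, by omega⟩
        rw [Nat.add_sub_cancel, show 2 * (n + 1) - 1 = 2 * n + 1 by omega]; ring⟩
    rw [he, add_mul, one_mul, mul_assoc, Nat.add_mod, Nat.mul_mod_right, zero_add, Nat.mod_mod,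
      Nat.mod_eq_of_lt hlt]
  have e1 : (2 * h - 1) * 1 % (4 * h) = 2 * h - 1 := by rw [mul_one, Nat.mod_eq_of_lt (by omega)]
  have e3 : (2 * h - 1) % 4 = 3 := by omega
  by_cases hk1 : k' = 1
  · refine cof_congr (indLam_gen lam k 1) (indLam_gen lam k' 1) (n := 0) ?_ ?_ ?_ χ
    all_goals
      rw [D.inner_indLam hodd hna hl (by omega) (by omega)]
      simp only [delta, ek, e1, ← hk', Nat.mod_eq_of_lt hlt, Nat.mod_eq_of_lt hlt',
        Nat.mod_eq_of_lt (show 1 < 4 * h by omega)]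
      have hk2 : k = 2 * h - 1 := by rw [← ek, hk1]; exact e1
      split_ifs <;> first | omega | (push_cast; ring)
  · refine cof_congr (indLam_gen lam k 1) (indLam_gen lam k' 1) (n := 2) ?_ ?_ ?_ χ
    all_goals
      rw [D.inner_indLam hodd hna hl (by omega) (by omega)]
      simp only [delta, ek, e1, ← hk', Nat.mod_eq_of_lt hlt, Nat.mod_eq_of_lt hlt',
        Nat.mod_eq_of_lt (show 1 < 4 * h by omega)]
      have hk2 : k ≠ 2 * h - 1 := fun e => hk1 (by
        rw [hk', e, show (2 * h - 1) * (2 * h - 1) = 4 * h * (h - 1) + 1 by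
          obtain ⟨n, rfl⟩ : ∃ n, h = n + 1 := ⟨h - 1, by omega⟩
          rw [Nat.add_sub_cancel, show 2 * (n + 1) - 1 = 2 * n + 1 by omega]; ring,
          Nat.add_mod, Nat.mul_mod_right, zero_add, Nat.mod_mod, Nat.mod_eq_of_lt (by omega)])
      split_ifs <;> first | omega | (push_cast; ring)

theorem SDData.even_partner {k : ℕ} (hk : Even k) (a : 2 ≤ k) (b : k < 2 * h)
    (χ : IrrCharacter G) : cof (indLam lam 0 (4 * h - k)) χ = cof (indLam lam 0 k) χ := by
  have h3 : classInner (indLam lam 0 k) (indLam lam 0 k) = ((3 : ℤ) : ℂ) := by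
    rw [D.inner_EE hodd hna hl hk hk a b.le a b.le]
    simp [show k ≠ 2 * h by omega]
  obtain ⟨e1, e2⟩ := D.inner_EE' hodd hna hl hk a b
  exact (cof_congr (indLam_gen lam 0 k) (indLam_gen lam 0 (4 * h - k)) h3 e1 e2 χ).symm

theorem SDData.cof_triv {k l : ℕ} (a : k < 4 * h) (b : l < 4 * h) :
    cof (indLam lam k l) (trivChar G) =
      (if k = 0 then 1 else 0) - (if l = 0 then 1 else 0) := by
  classical
  haveI := Fintype.ofFinite (C0 σ h)
  have h2 := D.two_le
  refine cof_eq_of_classInner (indLam_gen lam k l) ?_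
  rw [indLam, classInner_indFun (C0 σ h) _ (isClassFunction_of_isIrr (trivChar G).2)]
  have hdel : ∀ m : ℕ, m < 4 * h → classInner (fun x => ((lam ^ m : C0 σ h →* ℂˣ) x : ℂ))
      (fun _ => 1) = if m = 0 then 1 else 0 := by
    intro m hm
    rw [show (fun _ : C0 σ h => (1 : ℂ)) = fun x => ((1 : C0 σ h →* ℂˣ) x : ℂ) from
      funext fun _ => by simp, inner_lin_eq]
    refine if_congr ⟨fun e => ?_, fun e => by
      subst e; exact MonoidHom.ext fun x => by simp⟩ rfl rfl
    by_contra h0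
    have e' := congrArg (fun f : C0 σ h →* ℂˣ => (f ⟨σ, D.sigma_mem_C0⟩ : ℂ)) e
    simp only [MonoidHom.pow_apply, Units.val_pow_eq_pow_val, MonoidHom.one_apply, Units.val_one]
      at e'
    exact hl.prim.pow_ne_one_of_pos_of_lt h0 hm e'
  push_cast
  rw [← hdel k a, ← hdel l b]
  simp only [classInner, alphaFun, trivChar_apply, map_one, mul_one, ← mul_sub,
    ← Finset.sum_sub_distrib]

omit hna in
/-- The functions vanish at elements of order not divisible by four. -/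
theorem SDData.indLam_zero {k l : ℕ} (hkl : k % 2 = l % 2) {g : G} (hg : ¬ 4 ∣ orderOf g) :
    indLam lam k l g = 0 := by
  unfold indLam indFun
  rw [Finset.sum_eq_zero fun x _ => ext_supp (D.alpha_supp hodd hl hkl) fun hx => hg ?_, mul_zero]
  obtain ⟨n, hn⟩ := Subgroup.mem_zpowers_iff.1 hx
  rw [← D.sh_order, ← hn, ← Small.orderOf_conj_eq x⁻¹ g, inv_inv]
  exact orderOf_dvd_of_mem_zpowers (Subgroup.mem_zpowers_iff.2 ⟨n, rfl⟩)

end CfsgLib.SuzukiWong
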