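import Cfsg.Agent.SuzukiWong.SDAction
import Cfsg.Agent.SuzukiWong.TI
import Cfsg.Agent.SuzukiWong.Cyclic

/-!
# Suzuki–Wong: functions induced from `C(σ^h)`

`C(σ^h) = O⟨σ⟩`, `H = N(⟨σ^h⟩) = C(σ^h)⟨y⟩`, and the elements whose powers contain `σ^h` form a
trivial intersection set.  `ind lam k l` is induced from `lam ^ k - lam ^ l`.
-/

set_option autoImplicit false
set_option linter.unusedSectionVars false
set_option linter.style.haveILetI false

namespace CfsgLib.SuzukiWong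

open Cfsg CfsgLib.Characters CfsgLib.CharactersDeep.ClassPairs
open scoped ComplexConjugate MatrixGroups

universe u

variable {G : Type u} [Group G] [Fintype G]

/-- `C(σ^h)`. -/
abbrev C0 (σ : G) (h : ℕ) : Subgroup G := Subgroup.centralizer ({σ ^ h} : Set G)

/-- `N(⟨σ^h⟩)`. -/
abbrev HH (σ : G) (h : ℕ) : Subgroup G := Subgroup.normalizer (Subgroup.zpowers (σ ^ h) : Set G)

/-- The elements having `σ^h` as a power. -/
def D0 (σ : G) (h : ℕ) : Set G := {z | σ ^ h ∈ Subgroup.zpowers z}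

theorem D0_sub {σ : G} {h : ℕ} {z : G} (hz : z ∈ D0 σ h) : z ∈ C0 σ h := by
  obtain ⟨n, hn⟩ := Subgroup.mem_zpowers_iff.1 hz
  rw [C0, Subgroup.mem_centralizer_singleton_iff, ← hn]
  exact ((Commute.refl z).zpow_right n).eq

/-- The function `lam ^ k - lam ^ l` on `C(σ^h)`. -/
noncomputable def alphaFun {σ : G} {h : ℕ} (lam : C0 σ h →* ℂˣ) (k l : ℕ) : C0 σ h → ℂ :=
  fun x => ((lam ^ k : C0 σ h →* ℂˣ) x : ℂ) - ((lam ^ l : C0 σ h →* ℂˣ) x : ℂ)

/-- The function induced from `lam ^ k - lam ^ l`. -/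
noncomputable def indLam {σ : G} {h : ℕ} (lam : C0 σ h →* ℂˣ) (k l : ℕ) : G → ℂ :=
  indFun (C0 σ h) (alphaFun lam k l)

theorem indLam_gen {σ : G} {h : ℕ} (lam : C0 σ h →* ℂˣ) (k l : ℕ) :
    IsGeneralizedCharacter G (indLam lam k l) :=
  isGen_indFun _ (isGen_sub (isGen_of_isIrr (isIrr_linChar _)) (isGen_of_isIrr (isIrr_linChar _)))

theorem inner_lin_eq {K : Type*} [Group K] [Fintype K] (a b : K →* ℂˣ) [Decidable (a = b)] :
    classInner (fun k => (a k : ℂ)) (fun k => (b k : ℂ)) = if a = b then 1 else 0 := by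
  split_ifs with e
  · subst e; exact classInner_isIrr_self (isIrr_linChar a)
  · exact classInner_isIrr_ne (isIrr_linChar a) (isIrr_linChar b) fun e' =>
      e (MonoidHom.ext fun k => Units.ext (congrFun e' k))

/-- The indicator of congruence mod `m`. -/
def delta (m a b : ℕ) : ℂ := if a % m = b % m then 1 else 0

/-- A geometric sum. -/
theorem sum_pow_unity {z : ℂ} {n : ℕ} (hz : z ^ n = 1) [Decidable (z = 1)] :
    ∑ i ∈ Finset.range n, z ^ i = if z = 1 then (n : ℂ) else 0 := by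
  split_ifs with e
  · simp [e]
  · rw [geom_sum_eq e, hz, sub_self, zero_div]

variable {P : Sylow 2 G} {σ y : G} {h p : ℕ} [Fact p.Prime]
  {π : Subgroup.centralizer ({σ ^ (2 * h)} : Set G) →* PGL(2, ZMod p)}

/-- A linear character of `C(σ^h)` trivial on the core and faithful on `⟨σ⟩`. -/
structure IsLam (D : SDData P σ y h p π) (lam : C0 σ h →* ℂˣ) : Prop where
  prim : IsPrimitiveRoot (lam ⟨σ, D.sigma_mem_C0⟩ : ℂ) (4 * h)
  triv : ∀ u (hu : u ∈ C0 σ h), u ∈ D.O → lam ⟨u, hu⟩ = 1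

variable (D : SDData P σ y h p π)
include D

theorem SDData.O_eq_one {u : G} (hu : u ∈ D.O) {i : ℕ} (e : u = σ ^ i) : u = 1 := by
  refine orderOf_eq_one_iff.1 (Nat.eq_one_of_dvd_coprimes (a := Nat.card D.O) (b := 4 * h) ?_
    (D.O.orderOf_dvd_natCard hu) (by rw [e, ← D.ordσ]; exact orderOf_pow_dvd i))
  obtain ⟨k, hk⟩ := D.pow2
  have h4 : 4 * h = 2 ^ (k + 3) := by rw [hk]; ring
  exact Nat.Coprime.coprime_dvd_right h4.dvd ((Nat.coprime_two_right.2 D.O_odd).pow_right _)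

theorem SDData.decomp_unique {u v : G} (hu : u ∈ D.O) (hv : v ∈ D.O) {i j : ℕ}
    (e : u * σ ^ i = v * σ ^ j) : u = v ∧ σ ^ i = σ ^ j := by
  have e1 : v⁻¹ * u = σ ^ (j + i * (4 * h - 1)) := by
    have e2 : v⁻¹ * u * σ ^ i = σ ^ j := by rw [mul_assoc, e, inv_mul_cancel_left]
    have e3 : σ ^ i * σ ^ (i * (4 * h - 1)) = 1 := by
      rw [← pow_add, D.pow_eq_one]
      have := D.two_le
      refine ⟨i, ?_⟩
      obtain ⟨n, hn⟩ : ∃ n, 4 * h = n + 1 := ⟨4 * h - 1, by omega⟩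
      rw [hn, Nat.add_sub_cancel]; ring
    rw [pow_add, ← e2, mul_assoc, e3, mul_one]
  have := D.O_eq_one (mul_mem (inv_mem hv) hu) e1
  rw [inv_mul_eq_one] at this
  subst this
  exact ⟨rfl, mul_left_cancel e⟩

theorem SDData.O_conj0 {c u : G} (hc : c ∈ C0 σ h) (hu : u ∈ D.O) : c * u * c⁻¹ ∈ D.O :=
  D.mem_O.2 ⟨mul_mem (mul_mem hc (D.O_le hu)) (inv_mem hc),
    by rw [Small.orderOf_conj_eq]; exact (D.mem_O.1 hu).2⟩

theorem SDData.exists_lam : ∃ lam : C0 σ h →* ℂˣ, IsLam D lam := by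
  classical
  have h2 := D.two_le
  haveI hn : (D.O.subgroupOf (C0 σ h)).Normal := ⟨fun x hx g => by
    rw [Subgroup.mem_subgroupOf] at hx ⊢
    exact D.O_conj0 g.2 hx⟩
  set N := D.O.subgroupOf (C0 σ h) with hN
  set g : C0 σ h ⧸ N := QuotientGroup.mk ⟨σ, D.sigma_mem_C0⟩ with hg
  have hgen : ∀ x : C0 σ h ⧸ N, x ∈ Subgroup.zpowers g := by
    intro x
    obtain ⟨⟨c, hc⟩, rfl⟩ := QuotientGroup.mk_surjective x
    obtain ⟨q, hq, i, rfl⟩ := D.decomp0 hc
    refine Subgroup.mem_zpowers_iff.2 ⟨i, ?_⟩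
    rw [zpow_natCast, hg, ← QuotientGroup.mk_pow, QuotientGroup.eq]
    show ((⟨σ, D.sigma_mem_C0⟩ : C0 σ h) ^ i)⁻¹ * ⟨q * σ ^ i, hc⟩ ∈ N
    rw [hN, Subgroup.mem_subgroupOf]
    have := D.O_conj0 (pow_mem D.sigma_mem_C0 i |> inv_mem) hq
    simpa [mul_assoc] using this
  have hord : orderOf g = 4 * h := by
    refine Nat.dvd_antisymm (orderOf_dvd_of_pow_eq_one ?_) ?_
    · rw [hg, ← QuotientGroup.mk_pow, QuotientGroup.eq_one_iff, hN, Subgroup.mem_subgroupOf]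
      show σ ^ (4 * h) ∈ D.O
      rw [D.pow_eq_one.2 dvd_rfl]
      exact one_mem _
    · have e := pow_orderOf_eq_one g
      conv at e => lhs; arg 1; rw [hg]
      rw [← QuotientGroup.mk_pow, QuotientGroup.eq_one_iff] at e
      have e' : σ ^ orderOf g ∈ D.O := Subgroup.mem_subgroupOf.1 e
      have := D.O_eq_one (i := orderOf g) e' rfl
      exact D.pow_eq_one.1 this
  obtain ⟨ζ, hζ⟩ : ∃ ζ : ℂ, IsPrimitiveRoot ζ (4 * h) :=
    ⟨_, Complex.isPrimitiveRoot_exp (4 * h) (by omega)⟩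
  set z : ℂˣ := (hζ.isUnit (by omega)).unit with hz
  have hzd : orderOf z ∣ orderOf g := by
    rw [hord]
    refine orderOf_dvd_of_pow_eq_one (Units.ext ?_)
    rw [Units.val_pow_eq_pow_val, hz, IsUnit.unit_spec, hζ.pow_eq_one, Units.val_one]
  refine ⟨(monoidHomOfForallMemZpowers hgen hzd).comp (QuotientGroup.mk' N), ?_, ?_⟩
  · show IsPrimitiveRoot (monoidHomOfForallMemZpowers hgen hzd g : ℂ) (4 * h)
    rwa [monoidHomOfForallMemZpowers_apply_gen, hz, IsUnit.unit_spec]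
  · intro u hu huO
    show monoidHomOfForallMemZpowers hgen hzd (QuotientGroup.mk ⟨u, hu⟩) = 1
    rw [(QuotientGroup.eq_one_iff _).2 (Subgroup.mem_subgroupOf.2 huO), map_one]

theorem SDData.card_C0 : Nat.card (C0 σ h) = 4 * h * Nat.card D.O := by
  have h2 := D.two_le
  rw [← Nat.card_eq_of_bijective
    (fun x : D.O × Fin (4 * h) =>
      (⟨(x.1 : G) * σ ^ (x.2 : ℕ), mul_mem (D.O_le x.1.2) (pow_mem D.sigma_mem_C0 _)⟩ : C0 σ h))
    ⟨fun a b e => ?_, fun c => ?_⟩, Nat.card_prod, Nat.card_fin, mul_comm]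
  · obtain ⟨e1, e2⟩ := D.decomp_unique a.1.2 b.1.2 (congrArg Subtype.val e)
    refine Prod.ext (Subtype.ext e1) (Fin.ext ?_)
    rw [pow_eq_pow_iff_modEq, D.ordσ, Nat.ModEq, Nat.mod_eq_of_lt a.2.2, Nat.mod_eq_of_lt b.2.2] at e2
    exact e2
  · obtain ⟨q, hq, i, e⟩ := D.decomp0 c.2
    refine ⟨⟨⟨q, hq⟩, ⟨i % (4 * h), Nat.mod_lt _ (by omega)⟩⟩, Subtype.ext ?_⟩
    show q * σ ^ (i % (4 * h)) = c
    rw [← D.ordσ, pow_mod_orderOf, e]

/-- Powers of `σ` outside `⟨t⟩` have `σ^h` as a power. -/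
theorem SDData.sh_mem_zpowers {m : ℕ} (hm : ¬ 2 * h ∣ m) :
    σ ^ h ∈ Subgroup.zpowers (σ ^ m) := by
  have h2 := D.two_le
  obtain ⟨k, hk⟩ := D.pow2
  obtain ⟨e, he, hd⟩ := (Nat.dvd_prime_pow Nat.prime_two).1
    (show Nat.gcd m (4 * h) ∣ 2 ^ (k + 3) from
      (Nat.gcd_dvd_right _ _).trans (dvd_of_eq (by rw [hk]; ring)))
  have hek : e ≤ k + 1 := by
    by_contra hlt
    apply hm
    refine (dvd_of_eq (by rw [hk]; ring : 2 * h = 2 ^ (k + 2))).trans ?_
    refine (pow_dvd_pow 2 (show k + 2 ≤ e by omega)).trans ?_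
    rw [← hd]; exact Nat.gcd_dvd_left _ _
  obtain ⟨c, hc⟩ : Nat.gcd m (4 * h) ∣ h := hd ▸ hk ▸ pow_dvd_pow 2 hek
  have hg : σ ^ Nat.gcd m (4 * h) ∈ Subgroup.zpowers (σ ^ m) := by
    refine Subgroup.mem_zpowers_iff.2 ⟨Nat.gcdA m (4 * h), ?_⟩
    rw [← zpow_natCast σ m, ← zpow_mul, ← zpow_natCast σ (Nat.gcd _ _), Nat.gcd_eq_gcd_ab,
      _root_.zpow_add, zpow_mul σ ((4 * h : ℕ) : ℤ), zpow_natCast, D.pow_eq_one.2 dvd_rfl,
      one_zpow, mul_one]
  rw [show σ ^ h = (σ ^ Nat.gcd m (4 * h)) ^ c by rw [← pow_mul, ← hc]]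
  exact pow_mem hg c

theorem SDData.mem_HH {g : G} :
    g ∈ HH σ h ↔ g * σ ^ h * g⁻¹ = σ ^ h ∨ g * σ ^ h * g⁻¹ = (σ ^ h)⁻¹ := by
  constructor
  · intro hg
    have hm := (Subgroup.mem_normalizer_iff.1 hg _).1 (Subgroup.mem_zpowers (σ ^ h))
    have ho : orderOf (g * σ ^ h * g⁻¹) = 4 := by rw [Small.orderOf_conj_eq, D.sh_order]
    obtain ⟨n, hn⟩ := mem_powers_iff_mem_zpowers.2 hm
    simp only at hn
    rw [← hn] at ho ⊢
    have h4 : (σ ^ h) ^ (4 : ℕ) = 1 := orderOf_dvd_iff_pow_eq_one.1 D.sh_order.dvd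
    rw [← Nat.mod_add_div n 4, pow_add, pow_mul, h4, one_pow, mul_one] at ho ⊢
    have : n % 4 < 4 := Nat.mod_lt _ (by norm_num)
    generalize n % 4 = r at this ho ⊢
    interval_cases r
    · rw [pow_zero, orderOf_one] at ho; omega
    · left; rw [pow_one]
    · exfalso
      have : orderOf ((σ ^ h) ^ 2) ∣ 2 :=
        orderOf_dvd_of_pow_eq_one (by rw [← pow_mul]; exact h4)
      rw [ho] at this; norm_num at this
    · right; exact eq_inv_of_mul_eq_one_left (by rw [← pow_succ]; exact h4)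
  · intro hg
    refine Subgroup.mem_normalizer_fintype fun x hx => ?_
    obtain ⟨n, rfl⟩ := Subgroup.mem_zpowers_iff.1 hx
    rw [← conj_zpow]
    rcases hg with e | e <;> rw [e]
    · exact zpow_mem (Subgroup.mem_zpowers _) n
    · exact zpow_mem (inv_mem (Subgroup.mem_zpowers _)) n

theorem SDData.y_mem_HH : y ∈ HH σ h := D.mem_HH.2 (D.conj_sh D.memy)

theorem SDData.C0_le_HH : C0 σ h ≤ HH σ h := fun c hc =>
  D.mem_HH.2 (Or.inl (mul_inv_eq_iff_eq_mul.2 (Subgroup.mem_centralizer_singleton_iff.1 hc)))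

/-- `H = C(σ^h) ∪ y C(σ^h)`. -/
theorem SDData.HH_cases {g : G} (hg : g ∈ HH σ h) : g ∈ C0 σ h ∨ y * g ∈ C0 σ h := by
  rcases D.mem_HH.1 hg with e | e
  · exact Or.inl (Subgroup.mem_centralizer_singleton_iff.2 (mul_inv_eq_iff_eq_mul.1 e))
  · right
    refine Subgroup.mem_centralizer_singleton_iff.2 (mul_inv_eq_iff_eq_mul.1 ?_)
    rw [show y * g * σ ^ h * (y * g)⁻¹ = y * (g * σ ^ h * g⁻¹) * y⁻¹ by group, e]
    obtain ⟨h', hh'⟩ := D.h_even
    rw [show h = 2 * h' by omega, ← conj_inv, D.conj_even, inv_inv]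

theorem SDData.y_not_C0 : y ∉ C0 σ h := fun hy => by
  have e := mul_inv_eq_iff_eq_mul.2 (Subgroup.mem_centralizer_singleton_iff.1 hy)
  obtain ⟨h', hh'⟩ := D.h_even
  have hh : h = 2 * h' := by omega
  rw [hh, D.conj_even] at e
  have h4 := D.sh_order
  have h5 : orderOf (σ ^ h) ∣ 2 := orderOf_dvd_of_pow_eq_one (by
    rw [sq, hh]; exact mul_eq_one_iff_eq_inv.2 e.symm)
  rw [h4] at h5
  norm_num at h5

theorem SDData.ti : TI (HH σ h) (C0 σ h) (D0 σ h) where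
  le := D.C0_le_HH
  normal := by
    intro m hm c hc
    rw [C0, Subgroup.mem_centralizer_singleton_iff] at hc ⊢
    have hc' : Commute (m * c * m⁻¹) (m * σ ^ h * m⁻¹) := (Commute.conj_iff m).2 hc
    rcases D.mem_HH.1 hm with e | e <;> rw [e] at hc'
    · exact hc'
    · exact (inv_inv (σ ^ h) ▸ hc'.inv_right : Commute (m * c * m⁻¹) (σ ^ h)).eq
  sub := fun _ => D0_sub
  stable := by
    intro m hm z hz
    obtain ⟨n, hn⟩ := Subgroup.mem_zpowers_iff.1 hz
    have e0 : m * σ ^ h * m⁻¹ ∈ Subgroup.zpowers (m * z * m⁻¹) :=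
      Subgroup.mem_zpowers_iff.2 ⟨n, by rw [conj_zpow, hn]⟩
    rcases D.mem_HH.1 hm with e | e <;> rw [e] at e0
    · exact e0
    · exact inv_mem_iff.1 e0
  fusion := by
    intro z hz g hgz
    obtain ⟨n, hn⟩ := Subgroup.mem_zpowers_iff.1 hz
    have e0 : g * σ ^ h * g⁻¹ ∈ Subgroup.zpowers (g * z * g⁻¹) :=
      Subgroup.mem_zpowers_iff.2 ⟨n, by rw [conj_zpow, hn]⟩
    have e1 := zpowers_eq_of_cyclic e0 hgz (Small.orderOf_conj_eq g (σ ^ h))
    refine Subgroup.mem_normalizer_fintype fun x hx => ?_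
    obtain ⟨i, rfl⟩ := Subgroup.mem_zpowers_iff.1 hx
    rw [← conj_zpow, ← e1]
    exact zpow_mem (Subgroup.mem_zpowers _) i

variable (hodd : ∀ q : ℕ, q.Prime → q ≠ 2 → ∀ R : Sylow q G, IsCyclic R)
include hodd

omit hodd in
theorem IsLam.apply {lam : C0 σ h →* ℂˣ} (hl : IsLam D lam) {u : G} (hu : u ∈ D.O) (i : ℕ)
    (hx : u * σ ^ i ∈ C0 σ h) :
    (lam ⟨u * σ ^ i, hx⟩ : ℂ) = (lam ⟨σ, D.sigma_mem_C0⟩ : ℂ) ^ i := by
  rw [show (⟨u * σ ^ i, hx⟩ : C0 σ h) = ⟨u, D.O_le hu⟩ * ⟨σ, D.sigma_mem_C0⟩ ^ i from rfl,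
    map_mul, hl.triv u _ hu, one_mul, map_pow, Units.val_pow_eq_pow_val]

variable [IsSimpleGroup G]

theorem SDData.mem_D0 {u : G} (hu : u ∈ D.O) {i : ℕ} (hi : ¬ 2 * h ∣ i) :
    u * σ ^ i ∈ D0 σ h := by
  have h2 := D.two_le
  obtain ⟨k, hk⟩ := D.pow2
  set o := Nat.card D.O with ho
  have hpow : ∀ v ∈ D.O, v ^ o = 1 := fun v hv =>
    orderOf_dvd_iff_pow_eq_one.1 (D.O.orderOf_dvd_natCard hv)
  have hcomm : ∀ v ∈ D.O, ∀ m : ℕ, Commute (σ ^ (2 * m)) v := fun v hv m => by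
    rw [pow_mul]; exact (show Commute (σ ^ 2) v from D.sigma_sq_O hodd hv).pow_left m
  have hcop : Nat.Coprime (2 * h) o := by
    rw [hk, ← pow_succ']
    exact (Nat.coprime_two_left.2 D.O_odd).pow_left _
  rcases Nat.even_or_odd' i with ⟨m, rfl | rfl⟩
  · have e : (u * σ ^ (2 * m)) ^ o = σ ^ (2 * m * o) := by
      rw [(hcomm u hu m).symm.mul_pow, hpow u hu, one_mul, ← pow_mul]
    have hm : ¬ 2 * h ∣ 2 * m * o := fun hd => hi (hcop.dvd_of_dvd_mul_right hd)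
    exact Subgroup.zpowers_le.2 (e ▸ pow_mem (Subgroup.mem_zpowers _) o) (D.sh_mem_zpowers hm)
  · have hu' : u * (σ ^ (2 * m + 1) * u * (σ ^ (2 * m + 1))⁻¹) ∈ D.O :=
      mul_mem hu (D.O_conj0 (pow_mem D.sigma_mem_C0 _) hu)
    have e : (u * σ ^ (2 * m + 1)) ^ 2 =
        u * (σ ^ (2 * m + 1) * u * (σ ^ (2 * m + 1))⁻¹) * σ ^ (2 * (2 * m + 1)) := by
      rw [sq, two_mul (2 * m + 1), pow_add]; group
    have e' : (u * σ ^ (2 * m + 1)) ^ (2 * o) = σ ^ (2 * (2 * m + 1) * o) := by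
      rw [pow_mul, e, (hcomm _ hu' (2 * m + 1)).symm.mul_pow, hpow _ hu', one_mul, ← pow_mul]
    have hm : ¬ 2 * h ∣ 2 * (2 * m + 1) * o := fun hd => by
      have hd' := hcop.dvd_of_dvd_mul_right hd
      obtain ⟨h', hh'⟩ := D.h_even
      obtain ⟨c, hc⟩ := hd'
      rw [hh', show 2 * (h' + h') * c = 2 * (2 * (h' * c)) by ring] at hc
      omega
    exact Subgroup.zpowers_le.2 (e' ▸ pow_mem (Subgroup.mem_zpowers _) (2 * o))
      (D.sh_mem_zpowers hm)

theorem SDData.alpha_supp {lam : C0 σ h →* ℂˣ} (hl : IsLam D lam) {k l : ℕ}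
    (hkl : k % 2 = l % 2) : SuppOn (D0 σ h) (alphaFun lam k l) := by
  intro c hc
  obtain ⟨q, hq, i, e⟩ := D.decomp0 c.2
  have hi : 2 * h ∣ i := by
    by_contra hi
    exact hc (e ▸ D.mem_D0 hodd hq hi)
  have hz := hl.prim
  set z := (lam ⟨σ, D.sigma_mem_C0⟩ : ℂ)
  have e1 : (lam c : ℂ) = z ^ i := by
    rw [show c = ⟨q * σ ^ i, e ▸ c.2⟩ from Subtype.ext e]; exact hl.apply D hq i _
  simp only [alphaFun, MonoidHom.pow_apply, Units.val_pow_eq_pow_val, e1]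
  obtain ⟨m, rfl⟩ := hi
  have hsq : (z ^ (2 * h * m)) ^ 2 = 1 := by
    rw [← pow_mul, show 2 * h * m * 2 = 4 * h * m by ring, pow_mul, hz.pow_eq_one, one_pow]
  conv_lhs =>
    rw [← Nat.mod_add_div k 2, ← Nat.mod_add_div l 2, pow_add, pow_add, pow_mul _ 2 (k / 2),
      pow_mul _ 2 (l / 2), hsq, one_pow, one_pow, hkl]
  ring

variable (hna : ¬ IsMulCommutative G)
include hna

/-- `y` acts on `C(σ^h)` modulo `O` as `σ ↦ σ^(2h-1)`. -/
theorem SDData.lam_conj {lam : C0 σ h →* ℂˣ} (hl : IsLam D lam) {g : G} (hg : g ∈ HH σ h)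
    (hg' : g ∉ C0 σ h) (c : C0 σ h) (hx : g⁻¹ * (c : G) * g ∈ C0 σ h) :
    (lam ⟨g⁻¹ * (c : G) * g, hx⟩ : ℂ) = (lam c : ℂ) ^ (2 * h - 1) := by
  have hyg := (D.HH_cases hg).resolve_left hg'
  obtain ⟨q, hq, i, e⟩ := D.decomp0 c.2
  have hy' : y * q * y⁻¹ * σ ^ ((2 * h - 1) * i) = y * (c : G) * y⁻¹ := by
    rw [← D.conj_pow, e]; group
  have hx' : y * q * y⁻¹ * σ ^ ((2 * h - 1) * i) ∈ C0 σ h :=
    mul_mem (D.O_le (D.O_conj D.memy hq)) (pow_mem D.sigma_mem_C0 _)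
  have e2 : (⟨g⁻¹ * (c : G) * g, hx⟩ : C0 σ h) =
      ⟨y * g, hyg⟩⁻¹ * ⟨_, hx'⟩ * ⟨y * g, hyg⟩ := Subtype.ext (by
    show g⁻¹ * (c : G) * g = (y * g)⁻¹ * (y * q * y⁻¹ * σ ^ ((2 * h - 1) * i)) * (y * g)
    rw [hy']; group)
  rw [e2, map_mul, map_mul, map_inv, mul_comm (lam ⟨y * g, hyg⟩)⁻¹, inv_mul_cancel_right,
    hl.apply D (D.O_conj D.memy hq) _ hx', show c = ⟨q * σ ^ i, e ▸ c.2⟩ from Subtype.ext e,
    hl.apply D hq i _, ← pow_mul, mul_comm i]

open Classical in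
/-- Inner products of the induced functions. -/
theorem SDData.inner_indLam {lam : C0 σ h →* ℂˣ} (hl : IsLam D lam) {k l k' l' : ℕ}
    (hkl : k % 2 = l % 2) (hkl' : k' % 2 = l' % 2) :
    classInner (indLam lam k l) (indLam lam k' l') =
      delta (4 * h) k k' - delta (4 * h) k l' - delta (4 * h) l k' + delta (4 * h) l l' +
      (delta (4 * h) k ((2 * h - 1) * k') - delta (4 * h) k ((2 * h - 1) * l') -
        delta (4 * h) l ((2 * h - 1) * k') + delta (4 * h) l ((2 * h - 1) * l')) := by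
  haveI := Fintype.ofFinite (C0 σ h)
  have h2 := D.two_le
  rw [indLam, indLam, D.ti.inner (D.alpha_supp hodd hl hkl) (D.alpha_supp hodd hl hkl')]
  have hdel : ∀ a b : ℕ, classInner (fun x => ((lam ^ a : C0 σ h →* ℂˣ) x : ℂ))
      (fun x => ((lam ^ b : C0 σ h →* ℂˣ) x : ℂ)) = delta (4 * h) a b := by
    intro a b
    rw [inner_lin_eq, delta]
    refine if_congr ⟨fun e => ?_, fun e => ?_⟩ rfl rfl
    · have e' := congrArg (fun f : C0 σ h →* ℂˣ => (f ⟨σ, D.sigma_mem_C0⟩ : ℂ)) e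
      simp only [MonoidHom.pow_apply, Units.val_pow_eq_pow_val] at e'
      rw [← Nat.mod_add_div a (4 * h), ← Nat.mod_add_div b (4 * h), pow_add, pow_add,
        pow_mul _ (4 * h), pow_mul _ (4 * h), hl.prim.pow_eq_one, one_pow, one_pow, mul_one,
        mul_one] at e'
      exact hl.prim.pow_inj (Nat.mod_lt _ (by omega)) (Nat.mod_lt _ (by omega)) e'
    · refine MonoidHom.ext fun x => Units.ext ?_
      obtain ⟨q, hq, i, ex⟩ := D.decomp0 x.2
      rw [show x = ⟨q * σ ^ i, ex ▸ x.2⟩ from Subtype.ext ex]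
      simp only [MonoidHom.pow_apply, Units.val_pow_eq_pow_val, hl.apply D hq]
      rw [← pow_mul, ← pow_mul, mul_comm i, mul_comm i, pow_mul, pow_mul,
        ← Nat.mod_add_div a (4 * h), ← Nat.mod_add_div b (4 * h), e, pow_add, pow_add,
        pow_mul _ (4 * h), pow_mul _ (4 * h), hl.prim.pow_eq_one, one_pow, one_pow]
  have hsub : ∀ a b a' b' : ℕ, classInner (alphaFun lam a b) (alphaFun lam a' b') =
      delta (4 * h) a a' - delta (4 * h) a b' - delta (4 * h) b a' + delta (4 * h) b b' := by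
    intro a b a' b'
    rw [← hdel, ← hdel, ← hdel, ← hdel]
    simp only [classInner, alphaFun, ← mul_sub, ← mul_add, ← Finset.sum_sub_distrib,
      ← Finset.sum_add_distrib, map_sub]
    congr 1
    refine Finset.sum_congr rfl fun x _ => ?_
    ring
  have hin : ∀ g : G, g ∈ HH σ h → classInner (alphaFun lam k l) (conjOn (C0 σ h) g (alphaFun lam k' l')) =
      if g ∈ C0 σ h then delta (4 * h) k k' - delta (4 * h) k l' - delta (4 * h) l k' + delta (4 * h) l l'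
      else delta (4 * h) k ((2 * h - 1) * k') - delta (4 * h) k ((2 * h - 1) * l') -
        delta (4 * h) l ((2 * h - 1) * k') + delta (4 * h) l ((2 * h - 1) * l') := by
    intro g hg
    have hmem : ∀ c : C0 σ h, g⁻¹ * (c : G) * g ∈ C0 σ h := fun c => by
      simpa using D.ti.normal g⁻¹ (inv_mem hg) c c.2
    split_ifs with hgC
    · rw [← hsub]
      congr 1
      funext c
      rw [conjOn, extendByZero_of_mem _ _ (hmem c)]
      simp only [alphaFun]
      rw [show (⟨g⁻¹ * (c : G) * g, hmem c⟩ : C0 σ h) = ⟨g, hgC⟩⁻¹ * c * ⟨g, hgC⟩ from rfl]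
      simp only [map_mul, map_inv, mul_comm _⁻¹, inv_mul_cancel_right]
    · rw [← hsub]
      congr 1
      funext c
      rw [conjOn, extendByZero_of_mem _ _ (hmem c)]
      simp only [alphaFun, MonoidHom.pow_apply, Units.val_pow_eq_pow_val,
        D.lam_conj hodd hna hl hg hgC c (hmem c), ← pow_mul]
  rw [Finset.sum_congr rfl fun g _ => (show
    (if g ∈ HH σ h then classInner (alphaFun lam k l) (conjOn (C0 σ h) g (alphaFun lam k' l')) else 0) =
      (if g ∈ C0 σ h then delta (4 * h) k k' - delta (4 * h) k l' - delta (4 * h) l k' + delta (4 * h) l l'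
        else 0) + (if y * g ∈ C0 σ h then
        delta (4 * h) k ((2 * h - 1) * k') - delta (4 * h) k ((2 * h - 1) * l') -
          delta (4 * h) l ((2 * h - 1) * k') + delta (4 * h) l ((2 * h - 1) * l') else 0) from by
    have hnot : g ∈ C0 σ h → y * g ∉ C0 σ h := fun h1 h3 =>
      D.y_not_C0 ((Subgroup.mul_mem_cancel_right _ h1).1 h3)
    by_cases a : g ∈ C0 σ h
    · rw [if_pos (D.C0_le_HH a), hin g (D.C0_le_HH a)]
      simp [a, hnot a]
    · by_cases b : y * g ∈ C0 σ h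
      · have hm : g ∈ HH σ h := by
          simpa using mul_mem (inv_mem D.y_mem_HH) (D.C0_le_HH b)
        rw [if_pos hm, hin g hm]
        simp [a, b]
      · rw [if_neg fun hm => (D.HH_cases hm).elim a b]
        simp [a, b])]
  rw [Finset.sum_add_distrib]
  have hc1 : (Finset.univ.filter (fun g : G => g ∈ C0 σ h)).card = Nat.card (C0 σ h) := by
    rw [Nat.card_eq_fintype_card, Fintype.card_subtype]
  have hc2 : (Finset.univ.filter (fun g : G => y * g ∈ C0 σ h)).card = Nat.card (C0 σ h) := by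
    rw [← hc1]
    exact Finset.card_bij' (fun g _ => y * g) (fun g _ => y⁻¹ * g)
      (fun g hg => by simpa using hg) (fun g hg => by simpa using hg)
      (fun g _ => by simp) (fun g _ => by simp)
  rw [← Finset.sum_filter, ← Finset.sum_filter, Finset.sum_const, Finset.sum_const, hc1, hc2,
    nsmul_eq_mul, nsmul_eq_mul, ← mul_add, ← mul_assoc,
    inv_mul_cancel₀ (subgroup_card_ne_zero _), one_mul]

theorem SDData.invol_outside {g : G} (hg : g ∈ HH σ h) (ho : orderOf g = 2) :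
    g = σ ^ (2 * h) ∨ ∃ u ∈ D.O, ∃ m : ℕ, g = u * σ ^ (2 * m) * y := by
  have h2 := D.two_le
  have hsq : g * g = 1 := Small.mul_self_of_orderOf_two ho
  have hyy : ∀ x : G, y * (y * x) = x := fun x => by rw [← mul_assoc, D.y_sq, one_mul]
  rcases D.HH_cases hg with hc | hc
  · left
    obtain ⟨q, hq, i, rfl⟩ := D.decomp0 hc
    have e : q * (σ ^ i * q * (σ ^ i)⁻¹) * σ ^ (i + i) = 1 * σ ^ 0 := by
      rw [pow_zero, one_mul, pow_add, ← hsq]; group
    obtain ⟨e1, e2⟩ := D.decomp_unique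
      (mul_mem hq (D.O_conj0 (pow_mem D.sigma_mem_C0 i) hq)) (one_mem _) e
    rw [pow_zero, D.pow_eq_one] at e2
    obtain ⟨c, hc'⟩ := e2
    have hi : i = 2 * (h * c) := by
      rw [mul_assoc] at hc'
      omega
    have hc3 : σ ^ i * q = q * σ ^ i := by
      rw [hi, pow_mul]
      exact ((show Commute (σ ^ 2) q from D.sigma_sq_O hodd hq).pow_left _).eq
    rw [hc3, mul_inv_cancel_right] at e1
    have hq1 : q = 1 := by
      have hd := orderOf_dvd_of_pow_eq_one (show q ^ 2 = 1 by rw [sq, e1])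
      rcases (Nat.dvd_prime Nat.prime_two).1 hd with hd | hd
      · exact orderOf_eq_one_iff.1 hd
      · have := (D.mem_O.1 hq).2
        rw [hd] at this; exact absurd this (by decide)
    subst hq1
    rw [one_mul] at ho ⊢
    rcases Nat.even_or_odd' c with ⟨b, rfl | rfl⟩
    · rw [hi, show 2 * (h * (2 * b)) = 4 * h * b by ring, D.pow_eq_one.2 (dvd_mul_right _ _),
        orderOf_one] at ho
      omega
    · rw [hi, show 2 * (h * (2 * b + 1)) = 4 * h * b + 2 * h by ring, pow_add,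
        D.pow_eq_one.2 (dvd_mul_right _ _), one_mul]
  · right
    obtain ⟨q, hq, i, e⟩ := D.decomp0 hc
    have hg' : g = y * q * y⁻¹ * σ ^ ((2 * h - 1) * i) * y := by
      rw [← D.conj_pow, D.y_inv, show g = y * (y * g) from (hyy g).symm, e]
      simp only [mul_assoc, hyy, D.y_sq, mul_one]
    refine ⟨y * q * y⁻¹, D.O_conj D.memy hq, ?_⟩
    set u := y * q * y⁻¹ with hu
    set n := (2 * h - 1) * i with hn
    have hu' : u ∈ D.O := D.O_conj D.memy hq
    rcases Nat.even_or_odd' n with ⟨m, em | em⟩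
    · exact ⟨m, by rw [hg', em]⟩
    · exfalso
      have e2 : u * (σ ^ n * u⁻¹ * (σ ^ n)⁻¹) * σ ^ (n + (2 * h - 1) * n) = 1 * σ ^ 0 := by
        calc u * (σ ^ n * u⁻¹ * (σ ^ n)⁻¹) * σ ^ (n + (2 * h - 1) * n)
            = u * σ ^ n * (y * u * y⁻¹) * (y * σ ^ n * y⁻¹) := by
              rw [D.y_inv_O hodd hna hu', D.conj_pow, pow_add]; group
          _ = g * g := by
              rw [hg', D.y_inv]
              simp only [mul_assoc, hyy]
          _ = _ := by rw [hsq, pow_zero, mul_one]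
      have e3 := (D.decomp_unique
        (mul_mem hu' (D.O_conj0 (pow_mem D.sigma_mem_C0 n) (inv_mem hu'))) (one_mem _) e2).2
      rw [pow_zero, D.pow_eq_one] at e3
      rw [show n + (2 * h - 1) * n = (2 * h - 1 + 1) * n by ring,
        show 2 * h - 1 + 1 = 2 * h by omega, show 4 * h = 2 * h * 2 by ring,
        Nat.mul_dvd_mul_iff_left (by omega : 0 < 2 * h)] at e3
      omega

theorem SDData.outside_invol {u : G} (hu : u ∈ D.O) (m : ℕ) :
    u * σ ^ (2 * m) * y ∈ inM (HH σ h) (σ ^ (2 * h)) := by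
  have hmem : u * σ ^ (2 * m) * y ∈ HH σ h :=
    mul_mem (D.C0_le_HH (mul_mem (D.O_le hu) (pow_mem D.sigma_mem_C0 _))) D.y_mem_HH
  have hyy : ∀ x : G, y * (y * x) = x := fun x => by rw [← mul_assoc, D.y_sq, one_mul]
  refine mem_inM.2 ⟨D.invol _ (orderOf_eq_prime ?_ ?_), hmem⟩
  · have hc : Commute (σ ^ (2 * m)) u⁻¹ := by
      rw [pow_mul]; exact ((show Commute (σ ^ 2) u from D.sigma_sq_O hodd hu).pow_left m).inv_right
    calc (u * σ ^ (2 * m) * y) ^ 2
        = u * σ ^ (2 * m) * (y * u * y⁻¹) * (y * σ ^ (2 * m) * y⁻¹) := by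
          rw [sq, D.y_inv]
          simp only [mul_assoc, hyy]
      _ = u * σ ^ (2 * m) * u⁻¹ * (σ ^ (2 * m))⁻¹ := by rw [D.y_inv_O hodd hna hu, D.conj_even]
      _ = 1 := by rw [mul_assoc u, hc.eq]; group
  · intro e
    apply D.y_not_C0
    rw [show y = (u * σ ^ (2 * m))⁻¹ from (eq_inv_of_mul_eq_one_right e)]
    exact inv_mem (mul_mem (D.O_le hu) (pow_mem D.sigma_mem_C0 _))

end CfsgLib.SuzukiWong
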