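import Cfsg.Agent.SuzukiWong.PGLFacts
import Cfsg.Agent.SuzukiWong.KleinPSL

/-!
# Suzuki–Wong: the centralizer of an involution, semidihedral Sylow 2-subgroup

`SDData`: `σ` of order `4h` and the involution `y` generate the Sylow 2-subgroup `P`, `t = σ^(2h)`,
one class of involutions and of elements of order four, and `π` maps `C(t)` onto `PGL₂(p)` with kernel
twice an odd number.
-/

set_option autoImplicit false
set_option linter.unusedSectionVars false
set_option linter.style.haveILetI false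

namespace CfsgLib.SuzukiWong

open Subgroup
open scoped MatrixGroups

universe u

variable {G : Type u} [Group G] [Finite G]

/-- An abelian Sylow 2-subgroup of `K` with a 2-group of induced automorphisms is central in its
normalizer. -/
theorem normalizer_centralizes {T K : Subgroup G} (hT : IsPGroup 2 T) (hTK : T ≤ K)
    (hmax : ∀ T' : Subgroup G, IsPGroup 2 T' → T' ≤ K → T ≤ T' → T' = T)
    (hab : T ≤ centralizer (T : Set G)) {n : G} (hnK : n ∈ K)
    (hn : n ∈ normalizer (T : Set G)) {k : ℕ} (hk : n ^ 2 ^ k ∈ centralizer (T : Set G)) :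
    n ∈ centralizer (T : Set G) := by
  haveI : Fact (Nat.Prime 2) := ⟨Nat.prime_two⟩
  obtain ⟨e, m, hm, hem⟩ := Nat.exists_eq_two_pow_mul_odd (orderOf_pos n).ne'
  have h2 : IsPGroup 2 (zpowers (n ^ m)) := by
    refine IsPGroup.iff_orderOf.2 fun x => ?_
    obtain ⟨i, -, hi⟩ := (Nat.dvd_prime_pow Nat.prime_two).1
      ((show orderOf x ∣ orderOf (n ^ m) from
        Nat.card_zpowers (n ^ m) ▸ _root_.orderOf_dvd_natCard x).trans
        (show orderOf (n ^ m) ∣ 2 ^ e from orderOf_dvd_of_pow_eq_one (by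
          rw [← pow_mul, mul_comm, ← hem, pow_orderOf_eq_one])))
    exact ⟨i, hi⟩
  have hsup : IsPGroup 2 (zpowers (n ^ m) ⊔ T : Subgroup G) :=
    h2.to_sup_of_normal_right' hT (zpowers_le.2 (pow_mem hn m))
  have hle : zpowers (n ^ m) ⊔ T ≤ K := sup_le (zpowers_le.2 (pow_mem hnK m)) hTK
  have hmT : n ^ m ∈ centralizer (T : Set G) := by
    refine hab ?_
    rw [← hmax _ hsup hle le_sup_right]
    exact mem_sup_left (mem_zpowers _)
  have hg : Nat.gcd m (2 ^ k) = 1 := (Nat.coprime_two_right.2 hm).pow_right k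
  have := mul_mem (zpow_mem hmT (Nat.gcdA m (2 ^ k))) (zpow_mem hk (Nat.gcdB m (2 ^ k)))
  rwa [← zpow_natCast n m, ← zpow_mul, ← zpow_natCast n (2 ^ k), ← zpow_mul, ← zpow_add,
    ← Nat.gcd_eq_gcd_ab, hg, Nat.cast_one, zpow_one] at this

/-- The semidihedral setting. -/
structure SDData (P : Sylow 2 G) (σ y : G) (h p : ℕ) [Fact p.Prime]
    (π : Subgroup.centralizer ({σ ^ (2 * h)} : Set G) →* PGL(2, ZMod p)) : Prop where
  pow2 : ∃ k, h = 2 ^ (k + 1)
  memσ : σ ∈ (P : Subgroup G)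
  memy : y ∈ (P : Subgroup G)
  ordσ : orderOf σ = 4 * h
  ordy : orderOf y = 2
  rel : y * σ * y⁻¹ = σ ^ (2 * h - 1)
  elems : ∀ x ∈ (P : Subgroup G), ∃ i : ℕ, x = σ ^ i ∨ x = y * σ ^ i
  card_P : Nat.card (P : Subgroup G) = 8 * h
  invol : ∀ a : G, orderOf a = 2 → IsConj (σ ^ (2 * h)) a
  four : ∀ a : G, orderOf a = 4 → IsConj (σ ^ h) a
  p2 : p ≠ 2
  surj : Function.Surjective π
  ker_t : π ⟨σ ^ (2 * h), Subgroup.mem_centralizer_singleton_iff.2 rfl⟩ = 1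
  ker_card : ∃ a, Odd a ∧ Nat.card π.ker = 2 * a

variable {P : Sylow 2 G} {σ y : G} {h p : ℕ} [Fact p.Prime]
  {π : Subgroup.centralizer ({σ ^ (2 * h)} : Set G) →* PGL(2, ZMod p)} (D : SDData P σ y h p π)
include D

theorem SDData.two_le : 2 ≤ h := by
  obtain ⟨k, rfl⟩ := D.pow2
  exact le_trans (by norm_num) (Nat.pow_le_pow_right two_pos (show 1 ≤ k + 1 by omega))

theorem SDData.h_even : Even h := by
  obtain ⟨k, rfl⟩ := D.pow2
  exact (Nat.even_pow' (by omega)).2 even_two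

theorem SDData.pow_eq_one {i : ℕ} : σ ^ i = 1 ↔ 4 * h ∣ i := by
  rw [← D.ordσ, orderOf_dvd_iff_pow_eq_one]

theorem SDData.t_order : orderOf (σ ^ (2 * h)) = 2 := by
  refine orderOf_eq_prime ?_ fun e => ?_
  · rw [← pow_mul, D.pow_eq_one]; exact ⟨1, by ring⟩
  · have := Nat.le_of_dvd (by have := D.two_le; omega) (D.pow_eq_one.1 e)
    have := D.two_le
    omega

theorem SDData.t_ne : σ ^ (2 * h) ≠ 1 := fun e => by
  have := D.t_order
  rw [e, orderOf_one] at this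
  omega

theorem SDData.t_sq : σ ^ (2 * h) * σ ^ (2 * h) = 1 := by
  rw [← sq]; exact orderOf_dvd_iff_pow_eq_one.1 D.t_order.dvd

theorem SDData.sh_order : orderOf (σ ^ h) = 4 := by
  have := D.two_le
  rw [orderOf_pow, D.ordσ, Nat.gcd_eq_right (dvd_mul_left h 4),
    Nat.mul_div_cancel _ (by omega)]

theorem SDData.y_sq : y * y = 1 := by rw [← sq, ← D.ordy, pow_orderOf_eq_one]

theorem SDData.y_inv : y⁻¹ = y := inv_eq_of_mul_eq_one_right D.y_sq

theorem SDData.conj_pow (i : ℕ) : y * σ ^ i * y⁻¹ = σ ^ ((2 * h - 1) * i) := by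
  rw [← _root_.conj_pow, D.rel, ← pow_mul]

/-- Even powers are inverted by `y`. -/
theorem SDData.conj_even (i : ℕ) : y * σ ^ (2 * i) * y⁻¹ = (σ ^ (2 * i))⁻¹ := by
  rw [D.conj_pow]
  refine eq_inv_of_mul_eq_one_left ?_
  rw [← pow_add, D.pow_eq_one]
  have h2 := D.two_le
  refine ⟨i, ?_⟩
  obtain ⟨n, hn⟩ : ∃ n, 2 * h = n + 1 := ⟨2 * h - 1, by omega⟩
  rw [hn, Nat.add_sub_cancel, show 4 * h = 2 * (n + 1) by omega]
  ring

theorem SDData.y_t : y * σ ^ (2 * h) * y⁻¹ = σ ^ (2 * h) := by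
  rw [D.conj_even]; exact inv_eq_of_mul_eq_one_right D.t_sq

theorem SDData.P_le_C : (P : Subgroup G) ≤ centralizer ({σ ^ (2 * h)} : Set G) := by
  intro x hx
  rw [mem_centralizer_singleton_iff]
  have hy : Commute y (σ ^ (2 * h)) := mul_inv_eq_iff_eq_mul.1 D.y_t
  obtain ⟨i, rfl | rfl⟩ := D.elems x hx
  · exact ((Commute.refl σ).pow_pow i (2 * h)).eq
  · exact (hy.mul_left ((Commute.refl σ).pow_pow i (2 * h))).eq

theorem SDData.C0_le : centralizer ({σ ^ h} : Set G) ≤ centralizer ({σ ^ (2 * h)} : Set G) := by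
  intro x hx
  rw [mem_centralizer_singleton_iff] at hx ⊢
  rw [mul_comm 2 h, pow_mul]
  exact (Commute.pow_right hx 2).eq

theorem SDData.sigma_mem_C0 : σ ∈ centralizer ({σ ^ h} : Set G) :=
  mem_centralizer_singleton_iff.2 (Commute.self_pow σ h).eq

/-- Elements of order `4h` of `P` lie in `⟨σ⟩`. -/
theorem SDData.mem_zpowers_of_order {x : G} (hx : x ∈ (P : Subgroup G))
    (ho : orderOf x = 4 * h) : x ∈ zpowers σ := by
  obtain ⟨i, rfl | rfl⟩ := D.elems x hx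
  · exact pow_mem (mem_zpowers σ) i
  · exfalso
    have h2 := D.two_le
    have e : (y * σ ^ i) ^ 4 = 1 := by
      have e1 : y * σ ^ i * (y * σ ^ i) = σ ^ ((2 * h - 1) * i + i) := by
        rw [pow_add, ← D.conj_pow, D.y_inv]; group
      rw [show (4 : ℕ) = 2 * 2 from rfl, pow_mul, sq (y * σ ^ i), e1, ← pow_mul, D.pow_eq_one]
      refine ⟨i, ?_⟩
      obtain ⟨n, hn⟩ : ∃ n, 2 * h = n + 1 := ⟨2 * h - 1, by omega⟩
      rw [hn, Nat.add_sub_cancel, show 4 * h = 2 * (n + 1) by omega]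
      ring
    have := Nat.le_of_dvd (by norm_num) (ho ▸ orderOf_dvd_of_pow_eq_one e)
    omega

/-- `⟨σ⟩` is a Sylow 2-subgroup of `C(σ ^ h)`. -/
theorem SDData.C0_max (T : Subgroup G) (hT : IsPGroup 2 T)
    (hle : T ≤ centralizer ({σ ^ h} : Set G)) (hσ : zpowers σ ≤ T) : T = zpowers σ := by
  haveI : Fact (Nat.Prime 2) := ⟨Nat.prime_two⟩
  obtain ⟨P', hP'⟩ := hT.exists_le_sylow
  obtain ⟨g, hg⟩ := MulAction.exists_smul_eq G P' P
  have hmem : ∀ x ∈ T, g * x * g⁻¹ ∈ (P : Subgroup G) := fun x hx => by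
    rw [← hg, Sylow.coe_subgroup_smul]
    exact smul_mem_pointwise_smul _ _ _ (hP' hx)
  have hcyc : ∀ x ∈ T, g * x * g⁻¹ ∈ zpowers σ := by
    intro x hx
    have hgσ : g * σ * g⁻¹ ∈ zpowers σ :=
      D.mem_zpowers_of_order (hmem σ (hσ (mem_zpowers σ))) (by rw [Small.orderOf_conj_eq, D.ordσ])
    obtain ⟨i, e | e⟩ := D.elems _ (hmem x hx)
    · rw [e]; exact pow_mem (mem_zpowers σ) i
    · exfalso
      obtain ⟨l, hl⟩ : ∃ l : ℕ, σ ^ l = g * σ * g⁻¹ := by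
        obtain ⟨k, hk⟩ := mem_powers_iff_mem_zpowers.2 hgσ
        exact ⟨k, hk⟩
      have h1 : g * σ ^ h * g⁻¹ = σ ^ (l * h) := by rw [← _root_.conj_pow, ← hl, pow_mul]
      have hc : Commute x (σ ^ h) := mem_centralizer_singleton_iff.1 (hle hx)
      have h2 : Commute (g * x * g⁻¹) (σ ^ (l * h)) := by
        rw [← h1]; exact (Commute.conj_iff g).2 hc
      rw [e] at h2
      have h3 : Commute y (σ ^ (l * h)) := by
        have := h2.mul_left ((Commute.refl σ).pow_pow i (l * h)).inv_left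
        rwa [mul_inv_cancel_right] at this
      obtain ⟨h', hh'⟩ := D.h_even
      have h4 := D.conj_even (l * h')
      rw [show 2 * (l * h') = l * h by rw [hh']; ring, h3.eq, mul_inv_cancel_right,
        eq_inv_iff_mul_eq_one, ← h1, conj_mul, conj_eq_one_iff, ← pow_add, D.pow_eq_one] at h4
      have := Nat.le_of_dvd (by have := D.two_le; omega) h4
      have := D.two_le
      omega
  refine le_antisymm (fun x hx => ?_) hσ
  have hcard : Nat.card T ≤ Nat.card (zpowers σ) :=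
    Nat.card_le_card_of_injective (fun x : T => (⟨g * x * g⁻¹, hcyc x x.2⟩ : zpowers σ))
      fun a b e => Subtype.ext (mul_left_cancel (mul_right_cancel (congrArg Subtype.val e)))
  rw [Subgroup.eq_of_le_of_card_ge hσ hcard]
  exact hx

theorem SDData.exists_O : ∃ O : Subgroup G, O ≤ centralizer ({σ ^ h} : Set G) ∧ Odd (Nat.card O) ∧
    (∀ g ∈ centralizer ({σ ^ h} : Set G), Odd (orderOf g) → g ∈ O) ∧
    ∀ c ∈ centralizer ({σ ^ h} : Set G), ∃ q ∈ O, ∃ t ∈ zpowers σ, c = q * t := by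
  have hT : IsPGroup 2 (zpowers σ) := P.isPGroup'.to_le (zpowers_le.2 D.memσ)
  refine exists_two_complement hT (zpowers_le.2 D.sigma_mem_C0) D.C0_max fun n hn hnN => ?_
  obtain ⟨k, hk⟩ := isPGroup_aut_cyclic hT ((zpowers σ).normalizerMonoidHom ⟨n, hnN⟩)
  refine normalizer_centralizes hT (zpowers_le.2 D.sigma_mem_C0) D.C0_max
    (le_centralizer _) hn hnN (k := k) ?_
  have h1 : (⟨n, hnN⟩ : normalizer (zpowers σ : Set G)) ^ 2 ^ k ∈
      (zpowers σ).normalizerMonoidHom.ker := by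
    rw [MonoidHom.mem_ker, map_pow, hk]
  rw [Subgroup.normalizerMonoidHom_ker] at h1
  exact h1

/-- The normal 2-complement of `C(σ ^ h)`. -/
noncomputable def SDData.O : Subgroup G := D.exists_O.choose

theorem SDData.O_le : D.O ≤ centralizer ({σ ^ h} : Set G) := D.exists_O.choose_spec.1

theorem SDData.O_odd : Odd (Nat.card D.O) := D.exists_O.choose_spec.2.1

theorem SDData.mem_O {u : G} :
    u ∈ D.O ↔ u ∈ centralizer ({σ ^ h} : Set G) ∧ Odd (orderOf u) :=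
  ⟨fun hu => ⟨D.O_le hu, D.O_odd.of_dvd_nat (D.O.orderOf_dvd_natCard hu)⟩,
    fun hu => D.exists_O.choose_spec.2.2.1 u hu.1 hu.2⟩

theorem SDData.decomp0 {c : G} (hc : c ∈ centralizer ({σ ^ h} : Set G)) :
    ∃ q ∈ D.O, ∃ i : ℕ, c = q * σ ^ i := by
  obtain ⟨q, hq, x, hx, e⟩ := D.exists_O.choose_spec.2.2.2 c hc
  obtain ⟨i, hi⟩ := mem_powers_iff_mem_zpowers.2 hx
  exact ⟨q, hq, i, by rw [e, ← hi]⟩

theorem SDData.conj_sh {x : G} (hx : x ∈ (P : Subgroup G)) :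
    x * σ ^ h * x⁻¹ = σ ^ h ∨ x * σ ^ h * x⁻¹ = (σ ^ h)⁻¹ := by
  obtain ⟨h', hh'⟩ := D.h_even
  obtain ⟨i, rfl | rfl⟩ := D.elems x hx
  · left; group
  · right
    calc y * σ ^ i * σ ^ h * (y * σ ^ i)⁻¹ = y * (σ ^ i * σ ^ h * (σ ^ i)⁻¹) * y⁻¹ := by group
      _ = y * σ ^ h * y⁻¹ := by rw [((Commute.refl σ).pow_pow i h).eq, mul_inv_cancel_right]
      _ = _ := by rw [show h = 2 * h' by omega, D.conj_even]

theorem SDData.C0_conj {x c : G} (hx : x ∈ (P : Subgroup G))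
    (hc : c ∈ centralizer ({σ ^ h} : Set G)) : x * c * x⁻¹ ∈ centralizer ({σ ^ h} : Set G) := by
  rw [mem_centralizer_singleton_iff] at hc ⊢
  have hc' : Commute (x * c * x⁻¹) (x * σ ^ h * x⁻¹) := (Commute.conj_iff x).2 hc
  rcases D.conj_sh hx with e | e <;> rw [e] at hc'
  · exact hc'
  · exact (inv_inv (σ ^ h) ▸ hc'.inv_right : Commute (x * c * x⁻¹) (σ ^ h)).eq

theorem SDData.O_conj {x u : G} (hx : x ∈ (P : Subgroup G)) (hu : u ∈ D.O) :
    x * u * x⁻¹ ∈ D.O :=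
  D.mem_O.2 ⟨D.C0_conj hx (D.O_le hu), by rw [Small.orderOf_conj_eq]; exact (D.mem_O.1 hu).2⟩

theorem SDData.P_le_normalizer_O : (P : Subgroup G) ≤ normalizer (D.O : Set G) :=
  fun _ hx => Subgroup.mem_normalizer_fintype fun _ hu => D.O_conj hx hu

theorem SDData.exists_X : ∃ X : Subgroup G, X ≤ π.ker.map (centralizer ({σ ^ (2 * h)} : Set G)).subtype ∧
    Odd (Nat.card X) ∧
    (∀ g ∈ π.ker.map (centralizer ({σ ^ (2 * h)} : Set G)).subtype, Odd (orderOf g) → g ∈ X) ∧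
    ∀ c ∈ π.ker.map (centralizer ({σ ^ (2 * h)} : Set G)).subtype,
      ∃ q ∈ X, ∃ t ∈ zpowers (σ ^ (2 * h)), c = q * t := by
  haveI : Fact (Nat.Prime 2) := ⟨Nat.prime_two⟩
  obtain ⟨a, ha, hcard⟩ := D.ker_card
  have hT : IsPGroup 2 (zpowers (σ ^ (2 * h))) :=
    IsPGroup.of_card (n := 1) (by rw [Nat.card_zpowers, D.t_order, pow_one])
  refine exists_two_complement hT (zpowers_le.2 ⟨⟨_, _⟩, D.ker_t, rfl⟩) (fun T hT' hle hTle => ?_)
    fun n hn _ => ?_
  · obtain ⟨i, hi⟩ := hT'.exists_card_eq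
    have hd : Nat.card T ∣ 2 * a := by
      rw [← hcard]
      exact (Subgroup.card_dvd_of_le hle).trans
        (Subgroup.card_map_of_injective (Subgroup.subtype_injective _)).dvd
    rw [hi] at hd
    have hd2 : 2 ^ i ∣ 2 :=
      ((Nat.coprime_two_left.2 ha).pow_left i).dvd_of_dvd_mul_right hd
    refine (Subgroup.eq_of_le_of_card_ge hTle ?_).symm
    rw [Nat.card_zpowers, D.t_order, hi]
    exact Nat.le_of_dvd two_pos hd2
  · obtain ⟨⟨c, hc⟩, -, rfl⟩ := hn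
    rw [← Subgroup.centralizer_closure, ← Subgroup.zpowers_eq_closure] at hc
    exact hc

/-- The odd part of the kernel. -/
noncomputable def SDData.X : Subgroup G := D.exists_X.choose

theorem SDData.X_odd : Odd (Nat.card D.X) := D.exists_X.choose_spec.2.1

theorem SDData.mem_X {u : G} : u ∈ D.X ↔
    (∃ hu : u ∈ centralizer ({σ ^ (2 * h)} : Set G), π ⟨u, hu⟩ = 1) ∧ Odd (orderOf u) := by
  constructor
  · intro hu
    obtain ⟨⟨c, hc⟩, hk, rfl⟩ := D.exists_X.choose_spec.1 hu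
    exact ⟨⟨hc, hk⟩, D.X_odd.of_dvd_nat (D.X.orderOf_dvd_natCard hu)⟩
  · rintro ⟨⟨hu, hk⟩, ho⟩
    exact D.exists_X.choose_spec.2.2.1 u ⟨⟨u, hu⟩, hk, rfl⟩ ho

theorem SDData.X_conj {c u : G} (hc : c ∈ centralizer ({σ ^ (2 * h)} : Set G)) (hu : u ∈ D.X) :
    c * u * c⁻¹ ∈ D.X := by
  obtain ⟨⟨hu', hk⟩, ho⟩ := D.mem_X.1 hu
  refine D.mem_X.2 ⟨⟨mul_mem (mul_mem hc hu') (inv_mem hc), ?_⟩, by rwa [Small.orderOf_conj_eq]⟩
  show π (⟨c, hc⟩ * ⟨u, hu'⟩ * ⟨c, hc⟩⁻¹) = 1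
  rw [map_mul, map_mul, hk, mul_one, map_inv, mul_inv_cancel]

theorem SDData.C_le_normalizer_X :
    centralizer ({σ ^ (2 * h)} : Set G) ≤ normalizer (D.X : Set G) :=
  fun _ hc => Subgroup.mem_normalizer_fintype fun _ hu => D.X_conj hc hu

/-- `σ ^ 2` centralizes every odd Z-group normalised by `P`. -/
theorem SDData.sigma_sq_centralizes (hodd : ∀ q : ℕ, q.Prime → q ≠ 2 → ∀ R : Sylow q G, IsCyclic R)
    {Q : Subgroup G} (hQ : Odd (Nat.card Q)) (hN : (P : Subgroup G) ≤ normalizer (Q : Set G)) :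
    σ ^ 2 ∈ centralizer (Q : Set G) := by
  haveI := isZGroup_of_odd hodd hQ
  have h2 := D.two_le
  obtain ⟨k, hk⟩ := D.pow2
  have e : y * σ * y⁻¹ * σ⁻¹ = σ ^ (2 * h - 2) := by
    rw [D.rel, show 2 * h - 1 = 2 * h - 2 + 1 by omega, pow_succ, mul_inv_cancel_right]
  have h1 : σ ^ (2 * h - 2) ∈ centralizer (Q : Set G) := by
    rw [← e]
    refine commutator_centralizes (hN D.memy) (hN D.memσ) ?_
    rw [e]
    refine Nat.Coprime.coprime_dvd_left (orderOf_dvd_of_pow_eq_one (n := 2 ^ (k + 3)) ?_)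
      ((Nat.coprime_two_left.2 hQ).pow_left _)
    rw [← pow_mul, D.pow_eq_one, hk]
    exact dvd_mul_of_dvd_right (dvd_of_eq (by ring)) _
  have hcop : Nat.Coprime (h - 1) (2 * h) := by
    rw [hk, ← pow_succ']
    refine Nat.Coprime.pow_right _ (Nat.coprime_two_right.2 ?_)
    obtain ⟨h', hh'⟩ := D.h_even
    rw [hk] at hh'
    exact ⟨h' - 1, by omega⟩
  have h3 : (σ ^ 2) ^ (h - 1) ∈ centralizer (Q : Set G) := by
    rwa [← pow_mul, show 2 * (h - 1) = 2 * h - 2 by omega]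
  have h4 : (σ ^ 2) ^ (2 * h) ∈ centralizer (Q : Set G) := by
    rw [← pow_mul, D.pow_eq_one.2 ⟨1, by ring⟩]; exact one_mem _
  have := mul_mem (zpow_mem h3 (Nat.gcdA (h - 1) (2 * h))) (zpow_mem h4 (Nat.gcdB (h - 1) (2 * h)))
  rwa [← zpow_natCast (σ ^ 2) (h - 1), ← zpow_mul, ← zpow_natCast (σ ^ 2) (2 * h), ← zpow_mul,
    ← zpow_add, ← Nat.gcd_eq_gcd_ab, hcop.gcd_eq_one, Nat.cast_one, zpow_one] at this

end CfsgLib.SuzukiWong
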