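import Cfsg.Agent.SuzukiWong.SDInduced
import Cfsg.Agent.GroupBasics.Conjugates

/-!
# Suzuki–Wong: the pair equation of the induced functions
-/

set_option autoImplicit false
set_option linter.unusedSectionVars false
set_option linter.style.haveILetI false

namespace CfsgLib.SuzukiWong

open Cfsg CfsgLib.Characters CfsgLib.CharactersDeep.ClassPairs
open scoped ComplexConjugate MatrixGroups

universe u

variable {G : Type u} [Group G] [Fintype G]

theorem card_classSet_eq (t : G) :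
    (classSet t).card = (Subgroup.centralizer ({t} : Set G)).index := by
  rw [← GroupBasics.card_carrier_eq_index_centralizer, ← Set.ncard_coe_finset]
  congr 1
  ext x
  simp only [Finset.mem_coe, mem_classSet, ConjClasses.mem_carrier_iff_mk_eq,
    ConjClasses.mk_eq_mk_iff_isConj]
  exact ⟨IsConj.symm, IsConj.symm⟩

variable {P : Sylow 2 G} {σ y : G} {h p : ℕ} [Fact p.Prime]
  {π : Subgroup.centralizer ({σ ^ (2 * h)} : Set G) →* PGL(2, ZMod p)} (D : SDData P σ y h p π)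
include D

theorem SDData.card_ker : Nat.card π.ker = 2 * Nat.card D.X := by
  obtain ⟨a, ha, hker⟩ := D.ker_card
  have hker' : Nat.card (π.ker.map (Subgroup.centralizer ({σ ^ (2 * h)} : Set G)).subtype) = 2 * a := by
    rw [← hker, Subgroup.card_map_of_injective (Subgroup.subtype_injective _)]
  have hdvd : Nat.card D.X ∣ a :=
    Nat.Coprime.dvd_of_dvd_mul_left (Nat.coprime_two_right.2 D.X_odd)
      (hker' ▸ Subgroup.card_dvd_of_le D.exists_X.choose_spec.1)
  have htmem : σ ^ (2 * h) ∈ π.ker.map (Subgroup.centralizer ({σ ^ (2 * h)} : Set G)).subtype :=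
    Subgroup.mem_map.2 ⟨⟨σ ^ (2 * h), Subgroup.mem_centralizer_singleton_iff.2 rfl⟩, D.ker_t, rfl⟩
  have hle : 2 * a ≤ Nat.card D.X * 2 := by
    have e2 : Nat.card (D.X × Subgroup.zpowers (σ ^ (2 * h))) = Nat.card D.X * 2 := by
      rw [Nat.card_prod, Nat.card_zpowers, D.t_order]
    rw [← hker', ← e2]
    refine Nat.card_le_card_of_surjective
      (fun x : D.X × Subgroup.zpowers (σ ^ (2 * h)) =>
        (⟨(x.1 : G) * x.2, mul_mem (D.exists_X.choose_spec.1 x.1.2)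
          ((Subgroup.zpowers_le.2 htmem) x.2.2)⟩ :
            π.ker.map (Subgroup.centralizer ({σ ^ (2 * h)} : Set G)).subtype))
      fun c => ?_
    obtain ⟨u, hu, t, ht, e⟩ := D.exists_X.choose_spec.2.2.2 c c.2
    exact ⟨⟨⟨u, hu⟩, ⟨t, ht⟩⟩, Subtype.ext e.symm⟩
  rw [hker, le_antisymm (Nat.le_of_dvd ha.pos hdvd) (by omega)]

theorem SDData.card_Ct : Nat.card (Subgroup.centralizer ({σ ^ (2 * h)} : Set G)) =
    2 * Nat.card D.X * (p * (p ^ 2 - 1)) := by
  rw [← Subgroup.card_mul_index π.ker, D.card_ker, Subgroup.index_ker,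
    MonoidHom.range_eq_top.2 D.surj, Subgroup.card_top, card_pgl]

/-- `|G : C(σ^h)|`, in terms of `|G : C(t)|`. -/
theorem SDData.index_C0 {j : ℤ} (hp : (1 + 2 * (h : ℤ) * j).natAbs = p)
    (ho : Nat.card D.O = Nat.card D.X * j.natAbs) :
    ((C0 σ h).index : ℤ) =
      (Subgroup.centralizer ({σ ^ (2 * h)} : Set G)).index *
        (2 * (1 + 2 * (h : ℤ) * j) * (1 + h * j)) := by
  set N := (Subgroup.centralizer ({σ ^ (2 * h)} : Set G)).index
  have h2 := D.two_le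
  have e : (C0 σ h).index * (4 * h * (Nat.card D.X * j.natAbs)) =
      N * (2 * Nat.card D.X * (p * (p ^ 2 - 1))) := by
    rw [← ho, ← D.card_C0, ← D.card_Ct, Subgroup.index_mul_card, Subgroup.index_mul_card]
  have hp1 : 1 ≤ p ^ 2 := Nat.one_le_pow _ _ (Fact.out (p := p.Prime)).pos
  have e' : ((C0 σ h).index : ℤ) * (4 * h * (Nat.card D.X * |j|)) =
      N * (2 * Nat.card D.X * ((p : ℤ) * ((p : ℤ) ^ 2 - 1))) := by
    have := congrArg (fun n : ℕ => (n : ℤ)) e
    push_cast [Nat.cast_sub hp1] at this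
    exact this
  have hp' : (p : ℤ) = |1 + 2 * (h : ℤ) * j| := by rw [← hp, Int.natCast_natAbs]
  have hsq : (p : ℤ) ^ 2 - 1 = 4 * h * j * (1 + h * j) := by rw [hp', sq_abs]; ring
  rw [hsq, hp'] at e'
  have hj0 : j ≠ 0 := fun hj => by
    rw [hj, mul_zero, add_zero] at hp
    exact (Fact.out (p := p.Prime)).ne_one hp.symm
  have habs : |1 + 2 * (h : ℤ) * j| * j = (1 + 2 * (h : ℤ) * j) * |j| := by
    have h2' : (2 : ℤ) ≤ h := by exact_mod_cast h2
    rcases lt_or_gt_of_ne hj0 with hneg | hpos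
    · rw [abs_of_neg hneg, abs_of_neg (by nlinarith)]; ring
    · rw [abs_of_pos hpos, abs_of_pos (by nlinarith)]
  have hne : (4 * (h : ℤ) * Nat.card D.X * |j|) ≠ 0 :=
    mul_ne_zero (mul_ne_zero (by omega) (by exact_mod_cast Nat.card_pos.ne')) (abs_ne_zero.2 hj0)
  apply mul_right_cancel₀ hne
  linear_combination e' + (8 * (h : ℤ) * Nat.card D.X * (1 + h * j) * N) * habs

variable (hodd : ∀ q : ℕ, q.Prime → q ≠ 2 → ∀ R : Sylow q G, IsCyclic R) [IsSimpleGroup G]
  (hna : ¬ IsMulCommutative G)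
include hodd hna

open Classical in
/-- The weighted pairs inside `H`. -/
theorem SDData.sum_inM {lam : C0 σ h →* ℂˣ} (hl : IsLam D lam) (k l : ℕ) :
    ∑ q ∈ inM (HH σ h) (σ ^ (2 * h)) ×ˢ inM (HH σ h) (σ ^ (2 * h)),
        extendByZero (C0 σ h) (alphaFun lam k l) (q.1 * q.2) =
      (Nat.card D.O : ℂ) ^ 2 *
        ((if 2 * h ∣ k then 4 * (h : ℂ) ^ 2 else 0) - (if 2 * h ∣ l then 4 * (h : ℂ) ^ 2 else 0)) := by
  have h2 := D.two_le
  set t := σ ^ (2 * h) with ht
  set z := (lam ⟨σ, D.sigma_mem_C0⟩ : ℂ) with hzdef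
  have hz : IsPrimitiveRoot z (4 * h) := hl.prim
  let f : D.O × Fin (2 * h) → G := fun a => (a.1 : G) * σ ^ (2 * (a.2 : ℕ)) * y
  have hfC : ∀ a, f a ∉ C0 σ h := fun a hC =>
    D.y_not_C0 ((Subgroup.mul_mem_cancel_left _
      (mul_mem (D.O_le a.1.2) (pow_mem D.sigma_mem_C0 _))).1 hC)
  have htC : t ∈ C0 σ h := pow_mem D.sigma_mem_C0 _
  have hfinj : Function.Injective f := by
    intro a b e
    obtain ⟨e1, e2⟩ := D.decomp_unique a.1.2 b.1.2 (mul_right_cancel e)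
    refine Prod.ext (Subtype.ext e1) (Fin.ext ?_)
    rw [pow_eq_pow_iff_modEq, D.ordσ, Nat.ModEq, Nat.mod_eq_of_lt (by omega),
      Nat.mod_eq_of_lt (by omega)] at e2
    omega
  have hI : inM (HH σ h) t = insert t (Finset.univ.image f) := by
    ext g
    rw [Finset.mem_insert, Finset.mem_image]
    constructor
    · intro hg
      obtain ⟨hc, hgH⟩ := mem_inM.1 hg
      have ho : orderOf g = 2 := by
        obtain ⟨c, rfl⟩ := isConj_iff.1 hc
        rw [Small.orderOf_conj_eq, ht, D.t_order]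
      rcases D.invol_outside hodd hna hgH ho with e | ⟨u, hu, m, e⟩
      · exact Or.inl e
      · refine Or.inr ⟨(⟨u, hu⟩, ⟨m % (2 * h), Nat.mod_lt _ (by omega)⟩), Finset.mem_univ _, ?_⟩
        rw [e]
        show u * σ ^ (2 * (m % (2 * h))) * y = _
        congr 2
        rw [pow_eq_pow_iff_modEq, D.ordσ, show 4 * h = 2 * (2 * h) by ring]
        exact Nat.ModEq.mul_left' 2 (Nat.mod_modEq _ _)
    · rintro (rfl | ⟨a, -, rfl⟩)
      · exact mem_inM.2 ⟨IsConj.refl _, D.C0_le_HH htC⟩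
      · exact D.outside_invol hodd hna a.1.2 _
  have htnot : t ∉ Finset.univ.image f := fun hm => by
    obtain ⟨a, -, ha⟩ := Finset.mem_image.1 hm
    exact hfC a (ha ▸ htC)
  have hzero : ∀ g : G, g ∉ C0 σ h → extendByZero (C0 σ h) (alphaFun lam k l) g = 0 := fun g hg =>
    extendByZero_of_not_mem _ _ hg
  have hft : ∀ a, extendByZero (C0 σ h) (alphaFun lam k l) (t * f a) = 0 := fun a =>
    hzero _ fun hC => hfC a ((Subgroup.mul_mem_cancel_left _ htC).1 hC)
  have htf : ∀ a, extendByZero (C0 σ h) (alphaFun lam k l) (f a * t) = 0 := fun a =>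
    hzero _ fun hC => hfC a ((Subgroup.mul_mem_cancel_right _ htC).1 hC)
  have htt : extendByZero (C0 σ h) (alphaFun lam k l) (t * t) = 0 := by
    rw [ht, D.t_sq, extendByZero_of_mem _ _ (one_mem _)]
    simp [alphaFun, show (⟨1, one_mem _⟩ : C0 σ h) = 1 from rfl]
  have hff : ∀ a b, extendByZero (C0 σ h) (alphaFun lam k l) (f a * f b) =
      (z ^ (2 * k)) ^ (a.2 : ℕ) * ((z ^ (2 * k)) ^ (b.2 : ℕ))⁻¹ -
        (z ^ (2 * l)) ^ (a.2 : ℕ) * ((z ^ (2 * l)) ^ (b.2 : ℕ))⁻¹ := by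
    intro a b
    set m := (a.2 : ℕ)
    set n := (b.2 : ℕ)
    have hn : n < 2 * h := b.2.2
    have e : f a * f b = (a.1 : G) * (b.1 : G)⁻¹ * σ ^ (2 * m + 2 * (2 * h - n)) := by
      have c : Commute (σ ^ (2 * m)) ((b.1 : G)⁻¹) := by
        rw [pow_mul]
        exact ((show Commute (σ ^ 2) (b.1 : G) from D.sigma_sq_O hodd b.1.2).pow_left m).inv_right
      have e1 : (σ ^ (2 * n))⁻¹ = σ ^ (2 * (2 * h - n)) := by
        refine inv_eq_of_mul_eq_one_right ?_
        rw [← pow_add, D.pow_eq_one]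
        exact ⟨1, by omega⟩
      calc f a * f b = (a.1 : G) * σ ^ (2 * m) * (y * (b.1 : G) * y⁻¹) *
            (y * σ ^ (2 * n) * y⁻¹) * (y * y) := by
              show (a.1 : G) * σ ^ (2 * m) * y * ((b.1 : G) * σ ^ (2 * n) * y) = _
              group
        _ = (a.1 : G) * (σ ^ (2 * m) * (b.1 : G)⁻¹) * (σ ^ (2 * n))⁻¹ := by
              rw [D.y_inv_O hodd hna b.1.2, D.conj_even, D.y_sq, mul_one]; group
        _ = _ := by rw [c.eq, e1, pow_add]; group
    have hmem : (a.1 : G) * (b.1 : G)⁻¹ * σ ^ (2 * m + 2 * (2 * h - n)) ∈ C0 σ h :=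
      mul_mem (D.O_le (mul_mem a.1.2 (inv_mem b.1.2))) (pow_mem D.sigma_mem_C0 _)
    rw [e, extendByZero_of_mem _ _ hmem]
    simp only [alphaFun, MonoidHom.pow_apply, Units.val_pow_eq_pow_val,
      hl.apply D (mul_mem a.1.2 (inv_mem b.1.2)) _ hmem]
    have key : ∀ r : ℕ, (z ^ (2 * m + 2 * (2 * h - n))) ^ r =
        (z ^ (2 * r)) ^ m * ((z ^ (2 * r)) ^ n)⁻¹ := by
      intro r
      rw [eq_mul_inv_iff_mul_eq₀ (pow_ne_zero _ (pow_ne_zero _ (hz.ne_zero (by omega)))),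
        ← pow_mul, ← pow_mul, ← pow_mul, ← pow_add,
        show (2 * m + 2 * (2 * h - n)) * r + 2 * r * n = 2 * r * m + 4 * h * r by
          obtain ⟨d, hd⟩ : ∃ d, 2 * h = n + d := ⟨2 * h - n, by omega⟩
          rw [hd, Nat.add_sub_cancel_left, show 4 * h = 2 * (n + d) by omega]; ring,
        pow_add, pow_mul z (4 * h), hz.pow_eq_one, one_pow, mul_one]
    rw [← hzdef, key, key]
  have hsum : ∀ r : ℕ, (∑ a : D.O × Fin (2 * h), ∑ b : D.O × Fin (2 * h),
      (z ^ (2 * r)) ^ (a.2 : ℕ) * ((z ^ (2 * r)) ^ (b.2 : ℕ))⁻¹) =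
        (Nat.card D.O : ℂ) ^ 2 * if 2 * h ∣ r then 4 * (h : ℂ) ^ 2 else 0 := by
    intro r
    have hw : (z ^ (2 * r)) ^ (2 * h) = 1 := by
      rw [← pow_mul, show 2 * r * (2 * h) = 4 * h * r by ring, pow_mul, hz.pow_eq_one, one_pow]
    have hiff : z ^ (2 * r) = 1 ↔ 2 * h ∣ r := by
      rw [hz.pow_eq_one_iff_dvd, show 4 * h = 2 * (2 * h) by ring,
        Nat.mul_dvd_mul_iff_left two_pos]
    have hfin : ∀ g : ℕ → ℂ, (∑ a : D.O × Fin (2 * h), g (a.2 : ℕ)) =
        (Nat.card D.O : ℂ) * ∑ i ∈ Finset.range (2 * h), g i := fun g => by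
      rw [Fintype.sum_prod_type]; simp only
      rw [Finset.sum_const, Finset.card_univ, nsmul_eq_mul,
        ← Nat.card_eq_fintype_card, Fin.sum_univ_eq_sum_range]
    have hs := sum_pow_unity hw
    have hs' : ∑ i ∈ Finset.range (2 * h), ((z ^ (2 * r)) ^ i)⁻¹ =
        if z ^ (2 * r) = 1 then ((2 * h : ℕ) : ℂ) else 0 := by
      rw [Finset.sum_congr rfl fun i _ => (inv_pow (z ^ (2 * r)) i).symm]
      rw [sum_pow_unity (z := (z ^ (2 * r))⁻¹) (by rw [inv_pow, hw, inv_one])]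
      simp only [inv_eq_one]
    simp only [← Finset.mul_sum]
    rw [hfin (fun i => ((z ^ (2 * r)) ^ i)⁻¹), ← Finset.sum_mul,
      hfin (fun i => (z ^ (2 * r)) ^ i), hs, hs']
    simp only [hiff]
    split_ifs
    · push_cast; ring
    · ring
  rw [hI, Finset.sum_product, Finset.sum_insert htnot, Finset.sum_image (fun a _ b _ e => hfinj e)]
  simp only [Finset.sum_insert htnot, Finset.sum_image (fun a _ b _ e => hfinj e), hft, htf, htt,
    hff, Finset.sum_const_zero, zero_add, add_zero, Finset.sum_sub_distrib]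
  rw [hsum, hsum, mul_sub]

open Classical in
/-- The pair equation. -/
theorem SDData.pair_eq {lam : C0 σ h →* ℂˣ} (hl : IsLam D lam) {k l : ℕ} (hkl : k % 2 = l % 2) :
    ((classSet (σ ^ (2 * h))).card : ℂ) ^ 2 * ∑ χ : IrrCharacter G,
        classInner (indLam lam k l) (χ : G → ℂ) * (χ : G → ℂ) (σ ^ (2 * h)) ^ 2 / (χ : G → ℂ) 1 =
      ((C0 σ h).index : ℂ) * ((Nat.card D.O : ℂ) ^ 2 *
        ((if 2 * h ∣ k then 4 * (h : ℂ) ^ 2 else 0) -
          (if 2 * h ∣ l then 4 * (h : ℂ) ^ 2 else 0))) := by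
  have hcf : IsClassFunction G (indLam lam k l) := isClassFunction_of_isGen (indLam_gen lam k l)
  have hinv : ∀ w ∈ D0 σ h, ∀ i : G, IsConj (σ ^ (2 * h)) i → i * w * i⁻¹ = w⁻¹ → i ∈ HH σ h := by
    intro w hw i _ hi
    obtain ⟨n, hn⟩ := Subgroup.mem_zpowers_iff.1 hw
    refine D.mem_HH.2 (Or.inr ?_)
    rw [← hn, ← conj_zpow, hi, inv_zpow]
  have hp := D.ti.pairs (D.alpha_supp hodd hl hkl) D.t_sq hinv
  rw [D.sum_inM hodd hna hl k l] at hp
  rw [← hp]
  exact (pair_count hcf _).symm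

end CfsgLib.SuzukiWong
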