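import Cfsg.Agent.SuzukiWong.SDRegular
import Cfsg.Agent.SuzukiWong.Cyclic
import Cfsg.Agent.TwoGroups.Automizer

/-!
# Suzuki–Wong: the survivor is killed by an element of order three

In the case of `357` involutions and `|C(t)| = 240` an element of order three of `C(t)` centralizes
exactly three involutions, while a Sylow 3-subgroup of order nine shows the number to be `6` mod `9`.
-/

set_option autoImplicit false
set_option linter.unusedSectionVars false
set_option linter.style.haveILetI false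

namespace CfsgLib.SuzukiWong

open Subgroup
open scoped MatrixGroups

universe u

open Classical in
/-- The centralizer of an element of odd order of `PGL₂(F)` has at most `|F| + 1` elements. -/
theorem card_centralizer_pgl_le {F : Type*} [Field F] [Finite F] (h2 : (2 : F) ≠ 0) {g : PGL(2, F)}
    (hg : g ≠ 1) (ho : Odd (orderOf g)) :
    Nat.card (centralizer ({g} : Set PGL(2, F))) ≤ Nat.card F + 1 := by
  obtain ⟨A, hA⟩ := Matrix.ProjGenLinGroup.mk_surjective g
  let M : F → Matrix (Fin 2) (Fin 2) F := fun γ => γ • 1 + (A : Matrix (Fin 2) (Fin 2) F)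
  let raw : Option F → PGL(2, F) := fun o => o.elim 1 fun γ =>
    if hd : (M γ).det ≠ 0 then
      Matrix.ProjGenLinGroup.mk (Matrix.GeneralLinearGroup.mkOfDetNeZero (M γ) hd) else 1
  have hcov : ∀ a : centralizer ({g} : Set PGL(2, F)), ∃ o, raw o = a := by
    intro a
    have hc : Commute g (a : PGL(2, F)) := (mem_centralizer_singleton_iff.1 a.2).symm
    obtain ⟨B, α, β, hB, eB⟩ := exists_lift_comb h2 hg ho hc hA
    by_cases hβ : β = 0
    · refine ⟨none, ?_⟩
      rw [← hB]
      exact (mk_eq_one_iff_smul.2 ⟨α, by rw [eB, hβ, zero_smul, add_zero]⟩).symm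
    · have hdet : (M (α / β)).det ≠ 0 := by
        have e : (B : Matrix (Fin 2) (Fin 2) F) = β • M (α / β) := by
          rw [eB]; simp only [M, smul_add, smul_smul, mul_div_cancel₀ _ hβ]
        intro h0
        have := B.det.ne_zero
        rw [Matrix.GeneralLinearGroup.val_det_apply, e, Matrix.det_smul, h0, mul_zero] at this
        exact this rfl
      refine ⟨some (α / β), ?_⟩
      show dite _ _ _ = _
      rw [dif_pos hdet, ← hB, ← mul_inv_eq_one, ← map_inv, ← map_mul, mk_eq_one_iff_smul]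
      refine ⟨β⁻¹, ?_⟩
      have e : (Matrix.GeneralLinearGroup.mkOfDetNeZero (M (α / β)) hdet : Matrix (Fin 2) (Fin 2) F) =
          β⁻¹ • (B : Matrix (Fin 2) (Fin 2) F) := by
        show M (α / β) = _
        rw [eB]
        simp only [M, smul_add, smul_smul, inv_mul_cancel₀ hβ, one_smul, div_eq_inv_mul]
      rw [Units.val_mul, e, smul_mul_assoc, ← Units.val_mul, mul_inv_cancel, Units.val_one]
  choose o ho' using hcov
  have hinj : Function.Injective o := fun a b e => Subtype.ext (by rw [← ho' a, ← ho' b, e])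
  refine (Nat.card_le_card_of_injective o hinj).trans ?_
  rw [Finite.card_option]

/-- Finitely many commuting fixed-point-free involutions: two of them kill the group. -/
theorem eq_bot_of_two_fixed_free {G : Type u} [Group G] [Finite G] {v w : G} (hv : v * v = 1)
    (hw : w * w = 1) {N : Subgroup G} (hNv : ∀ x ∈ N, v * x * v⁻¹ ∈ N)
    (hNw : ∀ x ∈ N, w * x * w⁻¹ ∈ N) (hfv : ∀ x ∈ N, v * x = x * v → x = 1)
    (hfw : ∀ x ∈ N, w * x = x * w → x = 1) (hfvw : ∀ x ∈ N, v * w * x = x * (v * w) → x = 1) :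
    N = ⊥ := by
  refine (Subgroup.eq_bot_iff_forall N).2 fun x hx => hfvw x hx ?_
  have e1 := (inverts_of_fixed_free hw hNw hfw).1 x hx
  have e2 := (inverts_of_fixed_free hv hNv hfv).1 x⁻¹ (inv_mem hx)
  rw [inv_inv] at e2
  refine mul_inv_eq_iff_eq_mul.1 ?_
  rw [show v * w * x * (v * w)⁻¹ = v * (w * x * w⁻¹) * v⁻¹ by group, e1, e2]

variable {G : Type u} [Group G] [Finite G]

/-- A 2-group of order four with two commuting involutions. -/
theorem mem_four {v w : G} (hv : v * v = 1) (hw : w * w = 1) (hvw : Commute v w) (hv1 : v ≠ 1)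
    (hw1 : w ≠ 1) (hne : v ≠ w) {V : Subgroup G} (hvV : v ∈ V) (hwV : w ∈ V)
    (hcard : Nat.card V ≤ 4) :
    Nat.card V = 4 ∧ ∀ x ∈ V, x = 1 ∨ x = v ∨ x = w ∨ x = v * w := by
  classical
  haveI := Fintype.ofFinite V
  have hvw1 : v * w ≠ 1 := fun e => hne (by
    rw [eq_inv_of_mul_eq_one_left e, inv_eq_of_mul_eq_one_right hw])
  have hvwv : v * w ≠ v := fun e => hw1 (mul_eq_left.1 e)
  have hvww : v * w ≠ w := fun e => hv1 (mul_eq_right.1 e)
  let T : Finset V := {⟨1, one_mem V⟩, ⟨v, hvV⟩, ⟨w, hwV⟩, ⟨v * w, mul_mem hvV hwV⟩}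
  have hT : T.card = 4 := by
    simp only [T]
    rw [Finset.card_insert_of_notMem, Finset.card_insert_of_notMem, Finset.card_pair]
    · simp [Subtype.ext_iff, Ne.symm hvww]
    · simp [Subtype.ext_iff, hne, Ne.symm hvwv]
    · simp [Subtype.ext_iff, Ne.symm hv1, Ne.symm hw1, Ne.symm hvw1]
  have hc : Nat.card V = 4 := by
    refine le_antisymm hcard ?_
    rw [← hT, Nat.card_eq_fintype_card]
    exact Finset.card_le_univ T
  refine ⟨hc, fun x hx => ?_⟩
  have : T = Finset.univ := Finset.eq_univ_of_card T (by rw [hT, ← Nat.card_eq_fintype_card, hc])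
  have hm : (⟨x, hx⟩ : V) ∈ T := this ▸ Finset.mem_univ _
  simpa [T, Subtype.ext_iff] using hm

/-- Two commuting involutions in a subgroup with small centralizers of involutions: Klein four. -/
theorem klein_sylow_small {K : Subgroup G} {v w : G} (hv : orderOf v = 2) (hw : orderOf w = 2)
    (hvw : Commute v w) (hne : v ≠ w) (hvK : v ∈ K) (hwK : w ∈ K)
    (hsmall : ∀ i ∈ K, orderOf i = 2 → Nat.card (K ⊓ centralizer ({i} : Set G) : Subgroup G) ≤ 4) :
    ∃ S : Sylow 2 K, ((S : Subgroup K).map K.subtype : Subgroup G) = K ⊓ centralizer ({v} : Set G) ∧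
      Nat.card (S : Subgroup K) = 4 := by
  haveI : Fact (Nat.Prime 2) := ⟨Nat.prime_two⟩
  have hv2 := Small.mul_self_of_orderOf_two hv
  have hw2 := Small.mul_self_of_orderOf_two hw
  have hv1 : v ≠ 1 := fun e => by rw [e, orderOf_one] at hv; omega
  have hw1 : w ≠ 1 := fun e => by rw [e, orderOf_one] at hw; omega
  set V : Subgroup G := K ⊓ centralizer ({v} : Set G) with hV
  have hVK : V ≤ K := inf_le_left
  obtain ⟨hc4, -⟩ := mem_four hv2 hw2 hvw hv1 hw1 hne (V := V)
    ⟨hvK, mem_centralizer_singleton_iff.2 rfl⟩ ⟨hwK, mem_centralizer_singleton_iff.2 hvw.symm.eq⟩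
    (hsmall v hvK hv)
  have hV2 : IsPGroup 2 V := IsPGroup.of_card (n := 2) (by rw [hc4]; norm_num)
  obtain ⟨S, hS⟩ := (hV2.of_equiv (Subgroup.subgroupOfEquivOfLe hVK).symm).exists_le_sylow
  haveI : Nontrivial (S : Subgroup K) :=
    ⟨⟨⟨v, hvK⟩, hS (Subgroup.mem_subgroupOf.2 ⟨hvK, mem_centralizer_singleton_iff.2 rfl⟩)⟩, 1,
      fun e => hv1 (congrArg (fun a : (S : Subgroup K) => ((a : K) : G)) e)⟩
  haveI := S.isPGroup'.center_nontrivial
  obtain ⟨i, hi⟩ := (S.isPGroup'.to_subgroup (center (S : Subgroup K))).exists_card_eq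
  have h2c : 2 ∣ Nat.card (center (S : Subgroup K)) := by
    rcases i with _ | i
    · have := Finite.one_lt_card (α := center (S : Subgroup K))
      rw [hi, pow_zero] at this; omega
    · rw [hi]; exact dvd_pow_self 2 i.succ_ne_zero
  obtain ⟨z, hz⟩ := exists_prime_orderOf_dvd_card' 2 h2c
  have hz2 : orderOf (((z : (S : Subgroup K)) : K) : G) = 2 := by
    rw [Subgroup.orderOf_coe, Subgroup.orderOf_coe, Subgroup.orderOf_coe, hz]
  have hle : ((S : Subgroup K).map K.subtype) ≤
      K ⊓ centralizer ({(((z : (S : Subgroup K)) : K) : G)} : Set G) := by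
    rintro _ ⟨a, ha, rfl⟩
    exact ⟨a.2, mem_centralizer_singleton_iff.2
      (congrArg (fun b : (S : Subgroup K) => ((b : K) : G)) (Subgroup.mem_center_iff.1 z.2 ⟨a, ha⟩))⟩
  have hS4 : Nat.card (S : Subgroup K) ≤ 4 := by
    rw [← Subgroup.card_map_of_injective K.subtype_injective]
    exact (Subgroup.card_le_of_le hle).trans (hsmall _ (SetLike.coe_mem _) hz2)
  have heq : V.subgroupOf K = (S : Subgroup K) := Subgroup.eq_of_le_of_card_ge hS (by
    rw [Nat.card_congr (Subgroup.subgroupOfEquivOfLe hVK).toEquiv, hc4]; exact hS4)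
  refine ⟨S, ?_, ?_⟩
  · rw [← heq, Subgroup.subgroupOf_map_subtype, inf_of_le_left hVK]
  · rw [← heq, Nat.card_congr (Subgroup.subgroupOfEquivOfLe hVK).toEquiv, hc4]

set_option maxHeartbeats 400000 in
/-- A group without elements of order three, with a four group and small centralizers of
involutions, is that four group. -/
theorem eq_four_of_small {K : Subgroup G} (h3 : ¬ 3 ∣ Nat.card K) {t v : G} (ht : orderOf t = 2)
    (hv : orderOf v = 2) (htv : Commute t v) (hne : t ≠ v) (htK : t ∈ K) (hvK : v ∈ K)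
    (hsmall : ∀ i ∈ K, orderOf i = 2 →
      Nat.card (K ⊓ centralizer ({i} : Set G) : Subgroup G) ≤ 4) :
    Nat.card K = 4 ∧ ∀ i ∈ K, i = 1 ∨ i = t ∨ i = v ∨ i = t * v := by
  haveI : Fact (Nat.Prime 2) := ⟨Nat.prime_two⟩
  have ht2 := Small.mul_self_of_orderOf_two ht
  have hv2 := Small.mul_self_of_orderOf_two hv
  have ht1 : t ≠ 1 := fun e => by rw [e, orderOf_one] at ht; omega
  have hv1 : v ≠ 1 := fun e => by rw [e, orderOf_one] at hv; omega
  have htv1 : t * v ≠ 1 := fun e => hne (by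
    rw [eq_inv_of_mul_eq_one_left e, inv_eq_of_mul_eq_one_right hv2])
  have htv2 : (t * v) * (t * v) = 1 := by
    rw [htv.symm.mul_mul_mul_comm, ht2, hv2, one_mul]
  obtain ⟨S, hSmap, hS4⟩ := klein_sylow_small ht hv htv hne htK hvK hsmall
  set V := K ⊓ centralizer ({t} : Set G) with hV
  have hVc : Nat.card V = 4 := by
    rw [← hSmap, Subgroup.card_map_of_injective K.subtype_injective, hS4]
  have htV : t ∈ V := ⟨htK, mem_centralizer_singleton_iff.2 rfl⟩
  have hvV : v ∈ V := ⟨hvK, mem_centralizer_singleton_iff.2 htv.eq.symm⟩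
  obtain ⟨-, hVel⟩ := mem_four ht2 hv2 htv ht1 hv1 hne htV hvV hVc.le
  have hsq : ∀ c ∈ V, c * c = 1 := by
    intro c hc
    rcases hVel c hc with rfl | rfl | rfl | rfl
    exacts [one_mul 1, ht2, hv2, htv2]
  have hcomm4 : ∀ a ∈ V, ∀ b ∈ V, a * b = b * a := fun a ha b hb => by
    calc a * b = (a * b)⁻¹ := (inv_eq_of_mul_eq_one_right (hsq _ (mul_mem ha hb))).symm
      _ = b * a := by
        rw [mul_inv_rev, inv_eq_of_mul_eq_one_right (hsq a ha), inv_eq_of_mul_eq_one_right (hsq b hb)]
  -- centralizers of the involutions of `V`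
  have hcent : ∀ a ∈ V, a ≠ 1 → K ⊓ centralizer ({a} : Set G) = V := by
    intro a ha ha1
    have hle : V ≤ K ⊓ centralizer ({a} : Set G) := fun b hb =>
      ⟨hb.1, mem_centralizer_singleton_iff.2 (hcomm4 b hb a ha)⟩
    refine (Subgroup.eq_of_le_of_card_ge hle ?_).symm
    rw [hVc]; exact hsmall a ha.1 (orderOf_eq_prime (by rw [sq]; exact hsq a ha) ha1)
  -- `V` is central in its normalizer
  have hmem : ∀ {b : K}, b ∈ (S : Subgroup K) → (b : G) ∈ V := fun {b} hb => by
    rw [← hSmap]; exact ⟨b, hb, rfl⟩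
  have hab : (S : Subgroup K) ≤ centralizer ((S : Subgroup K) : Set K) := fun a ha =>
    Subgroup.mem_centralizer_iff.2 fun b hb => Subtype.ext
      (hcomm4 _ (hmem hb) _ (hmem ha))
  have hSN : normalizer ((S : Subgroup K) : Set K) ≤ centralizer ((S : Subgroup K) : Set K) := by
    intro n hn
    set f := (S : Subgroup K).normalizerMonoidHom
    have hdK : Nat.card f.range ∣ Nat.card K := by
      rw [← Subgroup.index_ker]
      exact (Subgroup.index_dvd_card _).trans (Subgroup.card_subgroup_dvd_card _)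
    have h6 : Nat.card f.range ∣ 6 :=
      (Subgroup.card_subgroup_dvd_card _).trans (CfsgLib.TwoGroups.card_mulAut_dvd_six hS4)
    have hodd2 : ¬ 2 ∣ Nat.card f.range := fun hd => by
      rw [← Subgroup.index_ker] at hd
      refine S.not_dvd_index (hd.trans ?_)
      rw [Subgroup.normalizerMonoidHom_ker]
      refine (Subgroup.relIndex_dvd_of_le_left (normalizer ((S : Subgroup K) : Set K)) hab).trans ?_
      exact Dvd.intro _ (Subgroup.relIndex_mul_index (S : Subgroup K).le_normalizer)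
    have h33 : ¬ 3 ∣ Nat.card f.range := fun hd => h3 (hd.trans hdK)
    have h1 : Nat.card f.range = 1 := by
      have hle := Nat.le_of_dvd (by norm_num) h6
      generalize Nat.card f.range = q at *
      interval_cases q <;> omega
    have hk : (⟨n, hn⟩ : normalizer ((S : Subgroup K) : Set K)) ∈ f.ker := by
      rw [MonoidHom.mem_ker]
      have hbot := Subgroup.card_eq_one.1 h1
      exact Subgroup.mem_bot.1 (hbot ▸ ⟨⟨n, hn⟩, rfl⟩)
    rw [Subgroup.normalizerMonoidHom_ker] at hk
    exact hk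
  have hcompl := MonoidHom.ker_transferSylow_isComplement' S hSN
  set U := (MonoidHom.transferSylow S hSN).ker with hU
  set N0 : Subgroup G := U.map K.subtype with hN0
  have hN0odd : ¬ 2 ∣ Nat.card N0 := by
    rw [hN0, Subgroup.card_map_of_injective K.subtype_injective, ← hcompl.index_eq_card]
    exact S.not_dvd_index
  have hnorm : ∀ a ∈ K, ∀ b ∈ N0, a * b * a⁻¹ ∈ N0 := by
    rintro a ha _ ⟨b, hb, rfl⟩
    refine ⟨⟨a, ha⟩ * b * ⟨a, ha⟩⁻¹, ?_, rfl⟩
    exact (MonoidHom.normal_ker (MonoidHom.transferSylow S hSN)).conj_mem b hb ⟨a, ha⟩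
  have hfix : ∀ a ∈ V, a ≠ 1 → ∀ b ∈ N0, a * b = b * a → b = 1 := by
    intro a ha ha1 b hb hab
    have hbV : b ∈ V := by
      rw [← hcent a ha ha1]
      exact ⟨Subgroup.map_subtype_le _ hb, mem_centralizer_singleton_iff.2 hab.symm⟩
    refine orderOf_eq_one_iff.1 (Nat.eq_one_of_dvd_coprimes ?_ (V.orderOf_dvd_natCard hbV)
      (N0.orderOf_dvd_natCard hb))
    rw [hVc, show (4 : ℕ) = 2 ^ 2 by norm_num]
    exact ((Nat.prime_two.coprime_iff_not_dvd).2 hN0odd).pow_left 2
  have hN0bot : N0 = ⊥ := eq_bot_of_two_fixed_free ht2 hv2 (hnorm _ htK) (hnorm _ hvK)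
    (hfix _ htV ht1) (hfix _ hvV hv1) (hfix _ (mul_mem htV hvV) htv1)
  have hKc : Nat.card K = 4 := by
    have hc := hcompl.card_mul_card
    have hu2 : Nat.card U = 1 := by
      rw [← Subgroup.card_map_of_injective K.subtype_injective, ← hN0, hN0bot, Subgroup.card_bot]
    rw [hS4, hu2] at hc
    omega
  exact ⟨hKc, (mem_four ht2 hv2 htv ht1 hv1 hne htK hvK hKc.le).2⟩

/-- Conjugating an element commuting with a conjugate of `t` into `C(t)`. -/
theorem conj_mem_centralizer_of_commute {c t i a : G} (hc : c * t * c⁻¹ = i) (ha : Commute a i) :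
    c⁻¹ * a * c ∈ centralizer ({t} : Set G) := by
  refine mem_centralizer_singleton_iff.2 ?_
  subst hc
  calc c⁻¹ * a * c * t = c⁻¹ * (a * (c * t * c⁻¹)) * c := by group
    _ = c⁻¹ * ((c * t * c⁻¹) * a) * c := by rw [ha.eq]
    _ = t * (c⁻¹ * a * c) := by group

/-- A free conjugation action gives divisibility. -/
theorem card_dvd_of_conj_free (R : Subgroup G) (J : Finset G)
    (hJ : ∀ a ∈ R, ∀ i ∈ J, a * i * a⁻¹ ∈ J)
    (hfree : ∀ a ∈ R, ∀ i ∈ J, Commute a i → a = 1) : Nat.card R ∣ J.card := by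
  classical
  letI act : MulAction R (J : Set G) :=
    { smul := fun a i => ⟨(a : G) * (i : G) * (a : G)⁻¹, hJ a a.2 i i.2⟩
      one_smul := fun i => Subtype.ext (by show (1 : G) * (i : G) * (1 : G)⁻¹ = i; simp)
      mul_smul := fun a b i => Subtype.ext (by
        show ((a : G) * b) * (i : G) * ((a : G) * b)⁻¹ = a * (b * i * (b : G)⁻¹) * (a : G)⁻¹
        group) }
  have := card_dvd_of_free (R := R) (α := (J : Set G)) fun a i e => Subtype.ext
    (hfree a a.2 i i.2 (mul_inv_eq_iff_eq_mul.1 (congrArg Subtype.val e)))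
  rwa [Nat.card_coe_set_eq, Set.ncard_coe_finset] at this

/-- The centralizer of an element of order three with a cyclic Sylow subgroup has a normal
3-complement containing its involutions. -/
theorem exists_three_complement {x : G} (hx : orderOf x = 3) (R : Sylow 3 G)
    [IsCyclic (R : Subgroup G)] (hxR : x ∈ (R : Subgroup G)) :
    ∃ K₀ ≤ centralizer ({x} : Set G), ¬ 3 ∣ Nat.card K₀ ∧
      ∀ i ∈ centralizer ({x} : Set G), orderOf i = 2 → i ∈ K₀ := by
  haveI : Fact (Nat.Prime 3) := ⟨Nat.prime_three⟩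
  set K := centralizer ({x} : Set G) with hK
  have hx1 : x ≠ 1 := fun e => by rw [e, orderOf_one] at hx; omega
  have hRK : (R : Subgroup G) ≤ K := sylow_le_centralizer_elt hxR
  let R₁ : Sylow 3 K := R.subtype hRK
  have hNC : normalizer ((R₁ : Subgroup K) : Set K) ≤ centralizer ((R₁ : Subgroup K) : Set K) := by
    intro n hn
    rw [Sylow.coe_subtype] at hn ⊢
    have hnG : (n : G) ∈ normalizer ((R : Subgroup G) : Set G) := by
      refine Subgroup.mem_normalizer_fintype fun u hu => ?_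
      exact (Subgroup.mem_normalizer_iff.1 hn ⟨u, hRK hu⟩).1 hu
    have h' := centralizes_sylow R hxR hx1 hnG (mem_centralizer_singleton_iff.1 n.2)
    exact Subgroup.mem_centralizer_iff.2 fun u hu =>
      Subtype.ext (Subgroup.mem_centralizer_iff.1 h' (u : G) hu)
  have hcompl := MonoidHom.ker_transferSylow_isComplement' R₁ hNC
  set U := (MonoidHom.transferSylow R₁ hNC).ker with hU
  refine ⟨U.map K.subtype, Subgroup.map_subtype_le _, ?_, fun i hi hi2 => ⟨⟨i, hi⟩, ?_, rfl⟩⟩
  · rw [Subgroup.card_map_of_injective K.subtype_injective, ← hcompl.index_eq_card]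
    exact R₁.not_dvd_index
  · rw [SetLike.mem_coe, hU, MonoidHom.mem_ker]
    obtain ⟨j, hj⟩ := IsPGroup.iff_orderOf.1 R₁.isPGroup' (MonoidHom.transferSylow R₁ hNC ⟨i, hi⟩)
    refine orderOf_eq_one_iff.1 (Nat.eq_one_of_dvd_coprimes
      (((Nat.coprime_primes Nat.prime_three Nat.prime_two).2 (by norm_num)).pow j 1) (hj ▸ dvd_rfl) ?_)
    rw [pow_one]
    exact (orderOf_map_dvd (MonoidHom.transferSylow R₁ hNC) _).trans (by rw [Subgroup.orderOf_mk, hi2])

end CfsgLib.SuzukiWong
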