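import Cfsg.Agent.SuzukiWong.SDConstituents

/-!
# Suzuki–Wong: the `h` characters of the odd family, and the equation of the function of norm four
-/

set_option autoImplicit false
set_option linter.unusedSectionVars false
set_option linter.style.haveILetI false

namespace CfsgLib.SuzukiWong

open Cfsg CfsgLib.Characters CfsgLib.Blocks CfsgLib.PrincipalBlock
open scoped ComplexConjugate MatrixGroups

universe u

variable {G : Type u} [Group G] [Fintype G]

variable {P : Sylow 2 G} {σ y : G} {h p : ℕ} [Fact p.Prime]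
  {π : Subgroup.centralizer ({σ ^ (2 * h)} : Set G) →* PGL(2, ZMod p)} (D : SDData P σ y h p π)
  (hodd : ∀ q : ℕ, q.Prime → q ≠ 2 → ∀ R : Sylow q G, IsCyclic R) [IsSimpleGroup G]
  (hna : ¬ IsMulCommutative G) {lam : C0 σ h →* ℂˣ} (hl : IsLam D lam)
include D hodd hna hl

/-- Coefficients of the odd family at the principal character. -/
theorem SDData.cofD_triv {i : ℕ} (b : i < h) :
    cof (indLam lam (4 * i + 1) 1) (trivChar G) = 0 := by
  have h2 := D.two_le
  rw [D.cof_triv hodd hna hl (by omega) (by omega)]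
  simp

/-- The zero equation of the function of norm four. -/
theorem SDData.zero_eq {X A B : IrrCharacter G} {ε α β : ℤ} (hε : ε = 1 ∨ ε = -1)
    (hα : α = 1 ∨ α = -1) (hβ : β = 1 ∨ β = -1) (hAX : A ≠ X) (hBX : B ≠ X) (hAB : A ≠ B)
    (hX : redCof lam h X = ε) (hA : redCof lam h A = α) (hB : redCof lam h B = β)
    (hoff : ∀ χ, χ ≠ X → χ ≠ A → χ ≠ B → redCof lam h χ = 0) :
    (1 : ℚ) + ((ε * intVal X (σ ^ (2 * h)) : ℤ) : ℚ) ^ 2 / (ε * degZ X : ℤ) +
      ((α * intVal A (σ ^ (2 * h)) : ℤ) : ℚ) ^ 2 / (α * degZ A : ℤ) +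
      ((β * intVal B (σ ^ (2 * h)) : ℤ) : ℚ) ^ 2 / (β * degZ B : ℤ) = 0 ∧
    ε * degZ X + α * degZ A + β * degZ B = -1 ∧
    ε * intVal X (σ ^ (2 * h)) + α * intVal A (σ ^ (2 * h)) + β * intVal B (σ ^ (2 * h)) = -1 := by
  classical
  have h2 := D.two_le
  have hsum : ∀ f : IrrCharacter G → ℤ,
      ∑ χ, redCof lam h χ * f χ = ε * f X + α * f A + β * f B := by
    intro f
    rw [← Finset.sum_subset (Finset.subset_univ ({X, A, B} : Finset (IrrCharacter G)))
      (fun χ _ hχ => by
        simp only [Finset.mem_insert, Finset.mem_singleton, not_or] at hχ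
        rw [hoff χ hχ.1 hχ.2.1 hχ.2.2, zero_mul]),
      Finset.sum_insert (by simp [Ne.symm hAX, Ne.symm hBX]), Finset.sum_pair hAB, hX, hA, hB]
    ring
  refine ⟨?_, ?_, ?_⟩
  · have e := D.pair_eq hodd hna hl (k := 0) (l := 2 * h) (by simp)
    rw [if_pos (dvd_zero _), if_pos dvd_rfl, sub_self, mul_zero, mul_zero, mul_eq_zero] at e
    have hne : ((CharactersDeep.ClassPairs.classSet (σ ^ (2 * h))).card : ℂ) ^ 2 ≠ 0 := by
      rw [card_classSet_eq]
      exact pow_ne_zero _ (Nat.cast_ne_zero.2 Subgroup.index_ne_zero_of_finite)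
    have e0 := e.resolve_left hne
    rw [Finset.sum_eq_add_sum_sdiff_singleton_of_mem (Finset.mem_univ (trivChar G)),
      classInner_eq_cof (indLam_gen lam 0 (2 * h)), D.cofE_triv hodd hna hl (by omega) le_rfl,
      trivChar_apply, trivChar_apply] at e0
    have hQ : ∀ χ : IrrCharacter G, χ ≠ trivChar G →
        classInner (indLam lam 0 (2 * h)) (χ : G → ℂ) * (χ : G → ℂ) (σ ^ (2 * h)) ^ 2 /
            (χ : G → ℂ) 1 =
          (((redCof lam h χ : ℤ) : ℚ) * ((intVal χ (σ ^ (2 * h)) : ℤ) : ℚ) ^ 2 /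
            ((degZ χ : ℤ) : ℚ) : ℚ) := fun χ hχ => by
      rw [classInner_eq_cof (indLam_gen lam 0 (2 * h)), redCof_of_ne lam h hχ,
        apply_invol_eq χ D.t_sq, apply_one_eq]
      push_cast
      ring
    rw [Finset.sum_congr rfl fun χ hχ => hQ χ (by simpa using hχ), ← Rat.cast_sum] at e0
    have e1 : (1 : ℚ) + ∑ χ ∈ Finset.univ \ {trivChar G}, ((redCof lam h χ : ℤ) : ℚ) *
        ((intVal χ (σ ^ (2 * h)) : ℤ) : ℚ) ^ 2 / ((degZ χ : ℤ) : ℚ) = 0 := by
      apply Rat.cast_injective (α := ℂ)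
      push_cast at e0 ⊢
      linear_combination e0
    have hne0 : ∀ {C : IrrCharacter G} {c : ℤ}, (c = 1 ∨ c = -1) → redCof lam h C = c →
        C ≠ trivChar G := fun hc hC e => by rw [e, redCof_triv] at hC; omega
    rw [← Finset.sum_subset (s₁ := {X, A, B}) (fun χ hχ => by
      simp only [Finset.mem_insert, Finset.mem_singleton] at hχ
      rcases hχ with rfl | rfl | rfl <;>
        simp [hne0 hε, hne0 hα, hne0 hβ, hX, hA, hB]) (fun χ _ hχ => by
        simp only [Finset.mem_insert, Finset.mem_singleton, not_or] at hχ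
        rw [hoff χ hχ.1 hχ.2.1 hχ.2.2, Int.cast_zero, zero_mul, zero_div]),
      Finset.sum_insert (by simp [Ne.symm hAX, Ne.symm hBX]), Finset.sum_pair hAB, hX, hA, hB] at e1
    rw [← e1]
    rcases hε with rfl | rfl <;> rcases hα with rfl | rfl <;> rcases hβ with rfl | rfl <;>
      push_cast <;> ring
  · have e := D.redCof_deg hodd hna hl (show 1 ≤ h by omega) le_rfl
    rwa [hsum] at e
  · have e := D.redCof_t hodd hna hl (show 1 ≤ h by omega) le_rfl
    rwa [hsum] at e

open Classical in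
/-- The constituents of the odd family. -/
theorem SDData.exists_theta {M : Ideal AlgInt} [M.IsPrime] (hM : Cfsg.IsPModular 2 M)
    {X A B : IrrCharacter G} {W : ℕ → IrrCharacter G} {ε α β : ℤ} (hε : ε = 1 ∨ ε = -1)
    (hα : α = 1 ∨ α = -1) (hβ : β = 1 ∨ β = -1)
    (hXW : ∀ i, 1 ≤ i → i < h → redCof lam i X = ε ∧
      ∀ χ, χ ≠ X → χ ≠ W i → redCof lam i χ = 0)
    (hAX : A ≠ X) (hBX : B ≠ X) (hAB : A ≠ B) (hX : redCof lam h X = ε)
    (hA : redCof lam h A = α) (hB : redCof lam h B = β)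
    (hoff : ∀ χ, χ ≠ X → χ ≠ A → χ ≠ B → redCof lam h χ = 0)
    (hxu : ε * degZ X ≠ ε * intVal X (σ ^ (2 * h))) :
    ∃ Θ : Finset (IrrCharacter G), Θ.card = h ∧
      (∀ θ ∈ Θ, θ ≠ trivChar G ∧ θ ∈ Cfsg.principalBlock M G ∧
        ∀ i, 1 ≤ i → i ≤ h → redCof lam i θ = 0) ∧
      (∀ θ ∈ Θ, ∀ θ' ∈ Θ, ∀ g : G, ¬ 4 ∣ orderOf g →
        (θ : G → ℂ) g ^ 2 = (θ' : G → ℂ) g ^ 2) ∧
      ∀ i, 1 ≤ i → i < h → ∀ χ, χ ∉ Θ → cof (indLam lam (4 * i + 1) 1) χ = 0 := by
  have h2 := D.two_le
  set K := Finset.Ico 1 h with hK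
  have hKmem : ∀ {i}, i ∈ K ↔ 1 ≤ i ∧ i < h := Finset.mem_Ico
  set d : ℕ → IrrCharacter G → ℤ := fun i => cof (indLam lam (4 * i + 1) 1) with hd
  have hdd : ∀ i ∈ K, ∀ j ∈ K, ∑ χ, d i χ * d j χ = if i = j then 2 else 1 := by
    intro i hi j hj
    obtain ⟨i1, i2⟩ := hKmem.1 hi
    obtain ⟨j1, j2⟩ := hKmem.1 hj
    have e := (sum_cof_mul (indLam_gen lam (4 * i + 1) 1) (indLam_gen lam (4 * j + 1) 1)).trans
      (D.inner_DD hodd hna hl (by omega) (by omega) (by omega) (by omega) (by omega) (by omega))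
    have e' := Int.cast_injective e
    rw [e']
    by_cases hij : i = j
    · simp [hij]
    · rw [if_neg hij, if_neg (by omega)]
  have hdv : ∀ i ∈ K, ∀ g : G, ¬ 4 ∣ orderOf g → ∑ χ, (d i χ : ℂ) * (χ : G → ℂ) g = 0 := by
    intro i hi g hg
    rw [← eq_sum_cof (indLam_gen lam (4 * i + 1) 1) g, D.indLam_zero hodd hl (by omega) hg]
  obtain ⟨a, εa, b, hεa, hstar, hinj⟩ := exists_star (K := K) (v := d) (d := degZ) (s := 0)
    (fun χ => (degZ_pos χ).ne') (Or.inl rfl)
    (fun i hi => by simpa [sq] using hdd i hi i hi)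
    (fun i hi j hj hij => by simpa [hij] using hdd i hi j hj)
    (fun i hi => by
      have e := hdv i hi 1 (D.not_four_one hodd hna hl)
      simp only [apply_one_eq] at e
      exact_mod_cast e)
    (i0 := 1) (hKmem.2 ⟨le_rfl, by omega⟩)
  -- inner products with the even family
  have hDE : ∀ i ∈ K, ∀ k, 1 ≤ k → k ≤ h →
      εa * redCof lam k a + d i (b i) * redCof lam k (b i) = 0 := by
    intro i hi k k1 k2
    obtain ⟨i1, i2⟩ := hKmem.1 hi
    obtain ⟨e1, e2, -, e4⟩ := hstar i hi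
    have e := (sum_cof_mul (indLam_gen lam (4 * i + 1) 1) (indLam_gen lam 0 (2 * k))).trans
      (D.inner_DE hodd hna hl (by omega) (even_two_mul k))
    have e' : ∑ χ, d i χ * cof (indLam lam 0 (2 * k)) χ = 0 := by exact_mod_cast e
    rw [← e1, ← sum_pair e2.symm e4 (redCof lam k), ← e']
    refine Finset.sum_congr rfl fun χ _ => ?_
    by_cases hχ : χ = trivChar G
    · subst hχ
      rw [show d i (trivChar G) = 0 from D.cofD_triv hodd hna hl i2, zero_mul, zero_mul]
    · rw [redCof_of_ne lam k hχ]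
  have hsq : ∀ i ∈ K, ∀ g : G, ¬ 4 ∣ orderOf g →
      (εa : ℂ) * (a : G → ℂ) g + (d i (b i) : ℂ) * (b i : G → ℂ) g = 0 := by
    intro i hi g hg
    obtain ⟨e1, e2, -, e4⟩ := hstar i hi
    rw [← hdv i hi g hg, ← Finset.sum_subset (Finset.subset_univ ({a, b i} : Finset (IrrCharacter G)))
      (fun χ _ hχ => by
        simp only [Finset.mem_insert, Finset.mem_singleton, not_or] at hχ
        rw [e4 χ hχ.1 hχ.2, Int.cast_zero, zero_mul]), Finset.sum_pair e2.symm, e1]
  set Θ := insert a (K.image b) with hΘ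
  have hanot : a ∉ K.image b := fun ha => by
    obtain ⟨i, hi, e⟩ := Finset.mem_image.1 ha
    exact (hstar i hi).2.1 e
  have hcard : Θ.card = h := by
    rw [hΘ, Finset.card_insert_of_notMem hanot, Finset.card_image_of_injOn hinj, hK, Nat.card_Ico]
    omega
  -- the even family vanishes on them
  have ha0 : ∀ k, 1 ≤ k → k < h → redCof lam k a = 0 := by
    intro k k1 k2
    by_contra hne
    obtain ⟨-, hk0⟩ := hXW k k1 k2
    have hsub : ∀ θ ∈ Θ, θ = X ∨ θ = W k := by
      intro θ hθ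
      by_contra hθ'
      push Not at hθ'
      have h0 := hk0 θ hθ'.1 hθ'.2
      rcases Finset.mem_insert.1 hθ with rfl | hθ
      · exact hne h0
      · obtain ⟨i, hi, rfl⟩ := Finset.mem_image.1 hθ
        have e := hDE i hi k k1 k2.le
        rw [h0, mul_zero, add_zero, mul_eq_zero] at e
        rcases e with e | e
        · omega
        · exact hne e
    have hle : Θ.card ≤ ({X, W k} : Finset (IrrCharacter G)).card :=
      Finset.card_le_card fun θ hθ => by simpa using hsub θ hθ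
    have h22 : h = 2 := by
      have := hle.trans Finset.card_le_two
      omega
    obtain rfl : k = 1 := by omega
    have h1K : (1 : ℕ) ∈ K := hKmem.2 ⟨le_rfl, by omega⟩
    obtain ⟨e1, e2, e3, -⟩ := hstar 1 h1K
    have eh := hDE 1 h1K h (by omega) le_rfl
    have hWX : redCof lam h (W 1) = 0 ∨ W 1 = X := by
      by_cases hWX : W 1 = X
      · exact Or.inr hWX
      · refine Or.inl ?_
        have e := D.redCof_mul hodd hna hl (le_refl 1) (by omega : 1 ≤ h) (by omega : 1 ≤ h) le_rfl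
        rw [if_neg (by omega : ¬ (1 = h)), sum_pair (Ne.symm hWX) hk0, (hXW 1 le_rfl k2).1, hX] at e
        have hW0 : redCof lam 1 (W 1) ≠ 0 := by
          intro hW0
          have e' := D.redCof_mul hodd hna hl (le_refl 1) (by omega : 1 ≤ h) le_rfl (by omega : 1 ≤ h)
          rw [if_pos rfl, if_neg (by omega : ¬ (1 = h)), sum_pair (Ne.symm hWX) hk0,
            (hXW 1 le_rfl k2).1, hW0] at e'
          rcases hε with q | q <;> rw [q] at e' <;> omega
        have : redCof lam 1 (W 1) * redCof lam h (W 1) = 0 := by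
          rcases hε with q | q <;> rw [q] at e <;> omega
        exact (mul_eq_zero.1 this).resolve_left hW0
    rcases hsub a (Finset.mem_insert_self _ _) with ea | ea <;>
      rcases hsub (b 1) (Finset.mem_insert_of_mem (Finset.mem_image_of_mem _ h1K)) with eb | eb
    · exact e2 (eb.trans ea.symm)
    · rw [ea, eb, hX] at eh
      rcases hWX with q | q
      · rw [q] at eh; rcases hεa with r | r <;> rcases hε with r' | r' <;> rw [r, r'] at eh <;> omega
      · exact e2 (by rw [eb, ea, q])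
    · rw [ea, eb, hX] at eh
      rcases hWX with q | q
      · rw [q] at eh
        rcases hε with r' | r' <;> rcases e3 with r | r <;> rw [eb] at r <;> rw [r, r'] at eh <;> omega
      · exact e2 (by rw [eb, ea, q])
    · exact e2 (eb.trans ea.symm)
  have hb0 : ∀ k, 1 ≤ k → k ≤ h → redCof lam k a = 0 → ∀ i ∈ K, redCof lam k (b i) = 0 := by
    intro k k1 k2 h0 i hi
    have e := hDE i hi k k1 k2
    rw [h0, mul_zero, zero_add, mul_eq_zero] at e
    exact e.resolve_left (by rcases (hstar i hi).2.2.1 with q | q <;> omega)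
  have hah : redCof lam h a = 0 := by
    by_contra hne
    have haX : a ≠ X := fun e => by
      have := ha0 1 le_rfl (by omega)
      rw [e, (hXW 1 le_rfl (by omega)).1] at this
      omega
    have hbX : ∀ i ∈ K, b i ≠ X := fun i hi e => by
      have := hb0 1 le_rfl (by omega) (ha0 1 le_rfl (by omega)) i hi
      rw [e, (hXW 1 le_rfl (by omega)).1] at this
      omega
    have hbne : ∀ i ∈ K, redCof lam h (b i) ≠ 0 := fun i hi h0 => by
      have e := hDE i hi h (by omega) le_rfl
      rw [h0, mul_zero, add_zero, mul_eq_zero] at e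
      rcases e with e | e
      · omega
      · exact hne e
    have hsub : Θ ⊆ {A, B} := by
      intro θ hθ
      simp only [Finset.mem_insert, Finset.mem_singleton]
      by_contra hθ'
      push Not at hθ'
      rcases Finset.mem_insert.1 hθ with rfl | hθ
      · exact hne (hoff _ haX hθ'.1 hθ'.2)
      · obtain ⟨i, hi, rfl⟩ := Finset.mem_image.1 hθ
        exact hbne i hi (hoff _ (hbX i hi) hθ'.1 hθ'.2)
    have h22 : h = 2 := by
      have := (Finset.card_le_card hsub).trans Finset.card_le_two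
      omega
    have h1K : (1 : ℕ) ∈ K := hKmem.2 ⟨le_rfl, by omega⟩
    have e := hDE 1 h1K h (by omega) le_rfl
    have ha : a = A ∨ a = B := by simpa using hsub (Finset.mem_insert_self _ _)
    have hb : b 1 = A ∨ b 1 = B := by
      simpa using hsub (Finset.mem_insert_of_mem (Finset.mem_image_of_mem _ h1K))
    obtain ⟨e1, e2, e3, -⟩ := hstar 1 h1K
    -- the signed values of `A` and `B` agree
    have key : ∀ f : IrrCharacter G → ℤ, εa * f a + d 1 (b 1) * f (b 1) = 0 → α * f A = β * f B := by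
      intro f hf
      rcases ha with rfl | rfl <;> rcases hb with q | q
      · exact absurd q e2
      · rw [q] at hf e e3; rw [hA, hB] at e
        rcases hεa with r | r <;> rcases e3 with r' | r' <;> rcases hα with s | s <;>
          rcases hβ with s' | s' <;> simp [r, r', s, s'] at e hf ⊢ <;> linarith
      · rw [q] at hf e e3; rw [hA, hB] at e
        rcases hεa with r | r <;> rcases e3 with r' | r' <;> rcases hα with s | s <;>
          rcases hβ with s' | s' <;> simp [r, r', s, s'] at e hf ⊢ <;> linarith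
      · exact absurd q e2
    have hdeg : α * degZ A = β * degZ B := key degZ (by
      have := hsq 1 h1K 1 (D.not_four_one hodd hna hl)
      simp only [apply_one_eq] at this
      exact_mod_cast this)
    have hval : α * intVal A (σ ^ (2 * h)) = β * intVal B (σ ^ (2 * h)) :=
      key (fun χ => intVal χ (σ ^ (2 * h))) (by
        have := hsq 1 h1K _ (D.not_four_t hodd hna hl)
        simp only [apply_invol_eq _ D.t_sq] at this
        exact_mod_cast this)
    obtain ⟨ez, ed, et⟩ := D.zero_eq hodd hna hl hε hα hβ hAX hBX hAB hX hA hB hoff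
    rw [← hdeg, ← hval] at ez
    have hx0 : ((ε * degZ X : ℤ) : ℚ) ≠ 0 :=
      Int.cast_ne_zero.2 (mul_ne_zero (by omega) (degZ_pos X).ne')
    have hA0 : ((α * degZ A : ℤ) : ℚ) ≠ 0 :=
      Int.cast_ne_zero.2 (mul_ne_zero (by omega) (degZ_pos A).ne')
    have ed' : (((ε * degZ X : ℤ)) : ℚ) + 2 * ((α * degZ A : ℤ) : ℚ) = -1 := by
      exact_mod_cast (show ε * degZ X + 2 * (α * degZ A) = -1 by linarith)
    have et' : (((ε * intVal X (σ ^ (2 * h)) : ℤ)) : ℚ) +
        2 * ((α * intVal A (σ ^ (2 * h)) : ℤ) : ℚ) = -1 := by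
      exact_mod_cast (show ε * intVal X (σ ^ (2 * h)) + 2 * (α * intVal A (σ ^ (2 * h))) = -1 by
        linarith)
    apply hxu
    apply Int.cast_injective (α := ℚ)
    generalize ((ε * degZ X : ℤ) : ℚ) = x at ez ed' hx0 ⊢
    generalize ((ε * intVal X (σ ^ (2 * h)) : ℤ) : ℚ) = u at ez et' ⊢
    generalize ((α * degZ A : ℤ) : ℚ) = q at ez ed' hA0
    generalize ((α * intVal A (σ ^ (2 * h)) : ℤ) : ℚ) = w at ez et'
    field_simp at ez
    obtain rfl : u = -1 - 2 * w := by linarith
    obtain rfl : x = -1 - 2 * q := by linarith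
    have hz : (w - q) ^ 2 = 0 := by linear_combination (-1 / 2 : ℚ) * ez
    have := pow_eq_zero_iff two_ne_zero |>.1 hz
    linarith
  refine ⟨Θ, hcard, fun θ hθ => ?_, ?_, fun i i1 i2 χ hχ => ?_⟩
  · have hall : ∀ k, 1 ≤ k → k ≤ h → redCof lam k θ = 0 := by
      intro k k1 k2
      have hk0 : redCof lam k a = 0 := by
        rcases eq_or_lt_of_le k2 with rfl | hlt
        exacts [hah, ha0 k k1 hlt]
      rcases Finset.mem_insert.1 hθ with rfl | hθ
      · exact hk0
      · obtain ⟨i, hi, rfl⟩ := Finset.mem_image.1 hθ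
        exact hb0 k k1 k2 hk0 i hi
    obtain ⟨i, hi, hne⟩ : ∃ i ∈ K, d i θ ≠ 0 := by
      rcases Finset.mem_insert.1 hθ with rfl | hθ
      · have h1K : (1 : ℕ) ∈ K := hKmem.2 ⟨le_rfl, by omega⟩
        refine ⟨1, h1K, ?_⟩
        rw [(hstar 1 h1K).1]; omega
      · obtain ⟨i, hi, rfl⟩ := Finset.mem_image.1 hθ
        refine ⟨i, hi, ?_⟩
        rcases (hstar i hi).2.2.1 with q | q <;> omega
    refine ⟨fun e => hne ?_, D.mem_block_of_cof hodd hna hM hl (by omega) hne, hall⟩
    rw [e]; exact D.cofD_triv hodd hna hl (hKmem.1 hi).2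
  · have hall : ∀ θ ∈ Θ, ∀ g : G, ¬ 4 ∣ orderOf g →
        (θ : G → ℂ) g ^ 2 = (a : G → ℂ) g ^ 2 := by
      intro θ hθ g hg
      rcases Finset.mem_insert.1 hθ with rfl | hθ
      · rfl
      · obtain ⟨i, hi, rfl⟩ := Finset.mem_image.1 hθ
        have e := hsq i hi g hg
        have e1 : (d i (b i) : ℂ) ^ 2 = 1 := by
          rcases (hstar i hi).2.2.1 with q | q <;> rw [q] <;> norm_num
        have e2 : (εa : ℂ) ^ 2 = 1 := by rcases hεa with q | q <;> rw [q] <;> norm_num
        have e3 : ((d i (b i) : ℂ) * (b i : G → ℂ) g) ^ 2 = ((εa : ℂ) * (a : G → ℂ) g) ^ 2 := by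
          rw [show (d i (b i) : ℂ) * (b i : G → ℂ) g = -((εa : ℂ) * (a : G → ℂ) g) by
            linear_combination e]
          ring
        rwa [mul_pow, mul_pow, e1, e2, one_mul, one_mul] at e3
    exact fun θ hθ θ' hθ' g hg => (hall θ hθ g hg).trans (hall θ' hθ' g hg).symm
  · refine (hstar i (hKmem.2 ⟨i1, i2⟩)).2.2.2 χ (fun e => hχ (e ▸ Finset.mem_insert_self _ _))
      fun e => hχ (e ▸ Finset.mem_insert_of_mem (Finset.mem_image_of_mem _ (hKmem.2 ⟨i1, i2⟩)))

end CfsgLib.SuzukiWong
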