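import Cfsg.Agent.SuzukiWong.SDPairs
import Cfsg.Agent.SuzukiWong.Sections

/-!
# Suzuki–Wong: principal block values on the sections of `σ^i`, `2h ∤ i`

The coefficient of `χ` in `indLam lam k l` is zero outside the principal block, and the coefficients
of a member of the principal block determine its values at these `σ^i`.
-/

set_option autoImplicit false
set_option linter.unusedSectionVars false
set_option linter.style.haveILetI false

namespace CfsgLib.SuzukiWong

open Cfsg CfsgLib.Characters CfsgLib.Blocks CfsgLib.PrincipalBlock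
open scoped ComplexConjugate MatrixGroups

universe u

variable {G : Type u} [Group G] [Fintype G]

theorem sum_range_pairs {R : Type*} [AddCommMonoid R] (f : ℕ → R) (n : ℕ) :
    ∑ k ∈ Finset.range (2 * n), f k = ∑ m ∈ Finset.range n, (f (2 * m) + f (2 * m + 1)) := by
  induction n with
  | zero => simp
  | succ n ih =>
    rw [show 2 * (n + 1) = 2 * n + 1 + 1 by ring, Finset.sum_range_succ, Finset.sum_range_succ, ih,
      Finset.sum_range_succ, add_assoc]

/-- Equal coefficients from inner products. -/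
theorem cof_congr {f f' : G → ℂ} (hf : IsGeneralizedCharacter G f)
    (hf' : IsGeneralizedCharacter G f') {n : ℤ} (h1 : classInner f f = n) (h2 : classInner f f' = n)
    (h3 : classInner f' f' = n) (χ : IrrCharacter G) : cof f χ = cof f' χ := by
  have e2 : ∑ χ : IrrCharacter G, cof f χ * cof f' χ = n :=
    Int.cast_injective (α := ℂ) ((sum_cof_mul hf hf').trans h2)
  have e : ∑ χ : IrrCharacter G, (cof f χ - cof f' χ) ^ 2 = 0 := by
    rw [Finset.sum_congr rfl (g := fun χ =>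
      cof f χ ^ 2 + cof f' χ ^ 2 - 2 * (cof f χ * cof f' χ)) fun χ _ => by ring,
      Finset.sum_sub_distrib, Finset.sum_add_distrib, ← Finset.mul_sum, sum_cof_sq hf h1,
      sum_cof_sq hf' h3, e2]
    ring
  have := (Finset.sum_eq_zero_iff_of_nonneg fun χ _ => sq_nonneg _).1 e χ (Finset.mem_univ _)
  exact sub_eq_zero.1 (pow_eq_zero_iff two_ne_zero |>.1 this)

/-- A simple nonabelian group has no other character of degree one. -/
theorem eq_triv_of_degree_one [IsSimpleGroup G] (hna : ¬ IsMulCommutative G) {χ : IrrCharacter G}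
    (h : (χ : G → ℂ) 1 = 1) : χ = trivChar G := by
  obtain ⟨f, hf⟩ := exists_hom_of_degree_one (isCharacter_of_isIrr χ.2) h
  rcases f.normal_ker.eq_bot_or_eq_top with e | e
  · exfalso
    have hinj := (MonoidHom.ker_eq_bot_iff f).1 e
    exact hna ⟨⟨fun a b => hinj (by rw [map_mul, map_mul, mul_comm])⟩⟩
  · refine Subtype.ext (funext fun g => ?_)
    rw [hf, trivChar_apply]
    simp [MonoidHom.mem_ker.1 (show g ∈ f.ker by rw [e]; exact Subgroup.mem_top g)]

variable {P : Sylow 2 G} {σ y : G} {h p : ℕ} [Fact p.Prime]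
  {π : Subgroup.centralizer ({σ ^ (2 * h)} : Set G) →* PGL(2, ZMod p)} (D : SDData P σ y h p π)
include D

theorem SDData.centralizer_pow_le {i : ℕ} (hi : ¬ 2 * h ∣ i) :
    Subgroup.centralizer ({σ ^ i} : Set G) ≤ C0 σ h := fun c hc => by
  obtain ⟨n, hn⟩ := Subgroup.mem_zpowers_iff.1 (D.sh_mem_zpowers hi)
  rw [C0, Subgroup.mem_centralizer_singleton_iff, ← hn]
  exact ((show Commute c (σ ^ i) from Subgroup.mem_centralizer_singleton_iff.1 hc).zpow_right n).eq

/-- The core of `C(σ^i)`. -/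
noncomputable abbrev SDData.OL (i : ℕ) : Subgroup G :=
  D.O ⊓ Subgroup.centralizer ({σ ^ i} : Set G)

theorem SDData.card_C_pow {i : ℕ} (hi : ¬ 2 * h ∣ i) :
    Nat.card (Subgroup.centralizer ({σ ^ i} : Set G)) = Nat.card (D.OL i) * (4 * h) := by
  have h2 := D.two_le
  have hσ : σ ∈ Subgroup.centralizer ({σ ^ i} : Set G) :=
    Subgroup.mem_centralizer_singleton_iff.2 (Commute.self_pow σ i).eq
  rw [← Nat.card_eq_of_bijective
    (fun x : D.OL i × Fin (4 * h) =>
      (⟨(x.1 : G) * σ ^ (x.2 : ℕ), mul_mem x.1.2.2 (pow_mem hσ _)⟩ :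
        Subgroup.centralizer ({σ ^ i} : Set G)))
    ⟨fun a b e => ?_, fun c => ?_⟩, Nat.card_prod, Nat.card_fin]
  · obtain ⟨e1, e2⟩ := D.decomp_unique a.1.2.1 b.1.2.1 (congrArg Subtype.val e)
    refine Prod.ext (Subtype.ext e1) (Fin.ext ?_)
    rw [pow_eq_pow_iff_modEq, D.ordσ, Nat.ModEq, Nat.mod_eq_of_lt a.2.2, Nat.mod_eq_of_lt b.2.2] at e2
    exact e2
  · obtain ⟨q, hq, m, e⟩ := D.decomp0 (D.centralizer_pow_le hi c.2)
    have hqC : q ∈ Subgroup.centralizer ({σ ^ i} : Set G) := by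
      rw [show q = (c : G) * (σ ^ m)⁻¹ by rw [e, mul_inv_cancel_right]]
      exact mul_mem c.2 (inv_mem (pow_mem hσ m))
    refine ⟨⟨⟨q, hq, hqC⟩, ⟨m % (4 * h), Nat.mod_lt _ (by omega)⟩⟩, Subtype.ext ?_⟩
    show q * σ ^ (m % (4 * h)) = c
    rw [← D.ordσ, pow_mod_orderOf, e]

variable (hodd : ∀ q : ℕ, q.Prime → q ≠ 2 → ∀ R : Sylow q G, IsCyclic R) [IsSimpleGroup G]
  (hna : ¬ IsMulCommutative G)
include hodd hna

variable {M : Ideal AlgInt} [M.IsPrime] (hM : Cfsg.IsPModular 2 M)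
include hM

open Classical in
/-- Sums over the translates of the core. -/
theorem SDData.sum_O_section (χ : IrrCharacter G) {i : ℕ} (hi : ¬ 2 * h ∣ i) :
    ∑ u : D.O, (χ : G → ℂ) ((u : G) * σ ^ i) =
      if χ ∈ Cfsg.principalBlock M G then (Nat.card D.O : ℂ) * (χ : G → ℂ) (σ ^ i) else 0 := by
  haveI : Fact (Nat.Prime 2) := ⟨Nat.prime_two⟩
  haveI := Fintype.ofFinite (D.OL i)
  obtain ⟨n, hn⟩ := D.O_odd
  obtain ⟨k, hk⟩ := D.pow2
  let T : G → G := fun u => σ ^ i * u * (σ ^ i)⁻¹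
  have hTO : ∀ u ∈ D.O, T u ∈ D.O := fun u hu => D.O_conj0 (pow_mem D.sigma_mem_C0 i) hu
  have hTT : ∀ u ∈ D.O, T (T u) = u := fun u hu => by
    have hc : Commute (σ ^ (2 * i)) u := by
      rw [pow_mul]; exact (show Commute (σ ^ 2) u from D.sigma_sq_O hodd hu).pow_left i
    rw [two_mul, pow_add] at hc
    calc T (T u) = σ ^ i * σ ^ i * u * (σ ^ i * σ ^ i)⁻¹ := by simp only [T]; group
      _ = u := by rw [hc.eq, mul_inv_cancel_right]
  have hcomm : ∀ u ∈ D.O, ∀ v ∈ D.O, Commute u v := fun u hu v hv => D.O_comm hodd hna hu hv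
  have hpow : ∀ v ∈ D.O, v ^ (2 * n + 1) = 1 := fun v hv =>
    hn ▸ orderOf_dvd_iff_pow_eq_one.1 (D.O.orderOf_dvd_natCard hv)
  let f : G → G := fun u => (u * T u) ^ (n + 1)
  have hTm : ∀ a b : G, T (a * b) = T a * T b := fun a b => by simp only [T]; group
  have hTp : ∀ (a : G) (m : ℕ), T (a ^ m) = T a ^ m := fun a m => by
    simp only [T]; rw [_root_.conj_pow]
  have hfL : ∀ u ∈ D.O, f u ∈ D.OL i := fun u hu => by
    have hm : u * T u ∈ D.O := mul_mem hu (hTO u hu)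
    refine ⟨pow_mem hm _, Subgroup.mem_centralizer_singleton_iff.2 ?_⟩
    have e : T (f u) = f u := by
      simp only [f]
      rw [hTp, hTm, hTT u hu, (hcomm _ (hTO u hu) _ hu).eq]
    exact (mul_inv_eq_iff_eq_mul.1 e).symm
  -- `u σ^i` is conjugate to `f u σ^i`
  have hconj : ∀ u ∈ D.O, (χ : G → ℂ) (u * σ ^ i) = (χ : G → ℂ) (f u * σ ^ i) := by
    intro u hu
    set w := T u * u⁻¹ with hw
    have hwO : w ∈ D.O := mul_mem (hTO u hu) (inv_mem hu)
    set v := w ^ ((n + 1) * (n + 1)) with hv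
    have hTw : T w = w⁻¹ := by
      rw [hw, hTm, hTT u hu, mul_inv_rev, inv_inv, show T u⁻¹ = (T u)⁻¹ by simp only [T]; group]
    have hTv : T v = v⁻¹ := by rw [hv, hTp, hTw, inv_pow]
    have hv2 : v * v = w ^ (n + 1) := by
      rw [hv, ← pow_add, ← mul_one (w ^ (n + 1)), ← one_pow (M := G) (n + 1),
        ← hpow w hwO, ← pow_mul, ← pow_add]
      congr 1
      ring
    have e : v * (u * σ ^ i) * v⁻¹ = f u * σ ^ i := by
      have e1 : σ ^ i * v⁻¹ = v * σ ^ i := by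
        have : T v⁻¹ = v := by
          rw [show T v⁻¹ = (T v)⁻¹ by simp only [T]; group, hTv, inv_inv]
        exact mul_inv_eq_iff_eq_mul.1 this
      calc v * (u * σ ^ i) * v⁻¹ = v * u * (σ ^ i * v⁻¹) := by group
        _ = v * v * u * σ ^ i := by
          have hc : Commute u v := hcomm u hu v (pow_mem hwO _)
          rw [e1, mul_assoc v u, ← mul_assoc u v, hc.eq]; group
        _ = f u * σ ^ i := by
          congr 1
          rw [hv2, hw]
          simp only [f]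
          have hc1 : Commute (T u) u⁻¹ := hcomm _ (hTO u hu) _ (inv_mem hu)
          rw [hc1.mul_pow, (hcomm _ hu _ (hTO u hu)).mul_pow, mul_assoc,
            (hcomm _ (pow_mem hu (n + 1)) _ (pow_mem (hTO u hu) (n + 1))).eq]
          congr 1
          rw [inv_pow, inv_mul_eq_iff_eq_mul, ← mul_one u, ← pow_add]
          conv_lhs => rw [mul_one, ← mul_one u, ← hpow u hu, ← pow_succ']
          rw [mul_one]
          congr 1
          ring
    rw [← e]
    exact (isClassFunction_of_isIrr χ.2 _ v).symm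
  -- averaging
  have hfl : ∀ u ∈ D.O, ∀ l ∈ D.OL i, f (u * l) = f u * l := by
    intro u hu l hl
    have hTl : T l = l := mul_inv_eq_iff_eq_mul.2 (Subgroup.mem_centralizer_singleton_iff.1 hl.2).symm
    have hO1 := mul_mem hu (hTO u hu)
    simp only [f]
    rw [hTm, hTl, show u * l * (T u * l) = u * T u * (l * l) by
      rw [mul_assoc, ← mul_assoc l, (hcomm l hl.1 _ (hTO u hu)).eq]; group,
      (hcomm _ hO1 _ (mul_mem hl.1 hl.1)).mul_pow]
    congr 1
    rw [← sq, ← pow_mul, show 2 * (n + 1) = 2 * n + 1 + 1 by ring, pow_succ, hpow l hl.1, one_mul]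
  have hS : ∑ l : D.OL i, (χ : G → ℂ) ((l : G) * σ ^ i) =
      if χ ∈ Cfsg.principalBlock M G then (Nat.card (D.OL i) : ℂ) * (χ : G → ℂ) (σ ^ i) else 0 := by
    have hLC : D.OL i ≤ Subgroup.centralizer ({σ ^ i} : Set G) := inf_le_right
    have key := congrArg conj (BlocksFrobenius.Klein.sum_translate_conj hM (y := σ ^ i)
      (by
        have hd : orderOf (σ ^ i) ∣ 2 ^ (k + 3) := (orderOf_pow_dvd i).trans
          (dvd_of_eq (by rw [D.ordσ, hk]; ring))
        obtain ⟨e, -, he⟩ := (Nat.dvd_prime_pow Nat.prime_two).1 hd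
        exact ⟨e, he⟩)
      (D.OL i) hLC
      ⟨fun x hx g => by
        rw [Subgroup.mem_subgroupOf] at hx ⊢
        exact ⟨D.O_conj0 (D.centralizer_pow_le hi g.2) hx.1,
          Subgroup.mul_mem _ (Subgroup.mul_mem _ g.2 hx.2) (Subgroup.inv_mem _ g.2)⟩⟩
      (D.O_odd.of_dvd_nat (Subgroup.card_dvd_of_le inf_le_left)).not_two_dvd_nat
      ⟨k + 3, by
        have e := Subgroup.card_mul_index
          ((D.OL i).subgroupOf (Subgroup.centralizer ({σ ^ i} : Set G)))
        rw [Nat.card_congr (Subgroup.subgroupOfEquivOfLe hLC).toEquiv, D.card_C_pow hi] at e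
        rw [Nat.eq_of_mul_eq_mul_left Nat.card_pos e, hk]; ring⟩ χ)
    simp only [map_sum, map_mul, map_natCast, Complex.conj_conj, apply_ite conj, map_zero] at key
    rw [Finset.sum_congr rfl fun l _ => by
      rw [show (l : G) * σ ^ i = σ ^ i * (l : G) from Subgroup.mem_centralizer_singleton_iff.1 l.2.2],
      key]
    split_ifs <;> simp
  have e : (Nat.card (D.OL i) : ℂ) * ∑ u : D.O, (χ : G → ℂ) ((u : G) * σ ^ i) =
      (Nat.card D.O : ℂ) * ∑ l : D.OL i, (χ : G → ℂ) ((l : G) * σ ^ i) := by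
    calc (Nat.card (D.OL i) : ℂ) * ∑ u : D.O, (χ : G → ℂ) ((u : G) * σ ^ i)
        = ∑ l : D.OL i, ∑ u : D.O, (χ : G → ℂ) (f (u : G) * (l : G) * σ ^ i) := by
          rw [Nat.card_eq_fintype_card, ← nsmul_eq_mul, ← Finset.card_univ, ← Finset.sum_const]
          refine Finset.sum_congr rfl fun l _ => ?_
          rw [← Equiv.sum_comp (Equiv.mulRight (⟨l, l.2.1⟩ : D.O))]
          refine Finset.sum_congr rfl fun u _ => ?_
          show (χ : G → ℂ) ((u : G) * (l : G) * σ ^ i) = _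
          rw [hconj _ (mul_mem u.2 l.2.1), hfl _ u.2 _ l.2]
      _ = ∑ u : D.O, ∑ l : D.OL i, (χ : G → ℂ) ((l : G) * σ ^ i) := by
          rw [Finset.sum_comm]
          refine Finset.sum_congr rfl fun u _ => ?_
          exact Equiv.sum_comp (Equiv.mulLeft (⟨f u, hfL _ u.2⟩ : D.OL i))
            (fun l : D.OL i => (χ : G → ℂ) ((l : G) * σ ^ i))
      _ = _ := by
          rw [Finset.sum_const, Finset.card_univ, nsmul_eq_mul, ← Nat.card_eq_fintype_card]
  apply mul_left_cancel₀ (show (Nat.card (D.OL i) : ℂ) ≠ 0 from Nat.cast_ne_zero.2 Nat.card_pos.ne')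
  rw [e, hS]
  split_ifs <;> ring

open Classical in
/-- The coefficients of the induced functions. -/
theorem SDData.cof_eq {lam : C0 σ h →* ℂˣ} (hl : IsLam D lam) {k l : ℕ} (hkl : k % 2 = l % 2)
    (χ : IrrCharacter G) :
    (4 * h : ℂ) * (cof (indLam lam k l) χ : ℂ) = ∑ i ∈ Finset.range (4 * h),
      (((lam ⟨σ, D.sigma_mem_C0⟩ : ℂ) ^ k) ^ i - ((lam ⟨σ, D.sigma_mem_C0⟩ : ℂ) ^ l) ^ i) *
        (if χ ∈ Cfsg.principalBlock M G then conj ((χ : G → ℂ) (σ ^ i)) else 0) := by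
  haveI := Fintype.ofFinite (C0 σ h)
  have h2 := D.two_le
  set z := (lam ⟨σ, D.sigma_mem_C0⟩ : ℂ) with hz
  rw [← classInner_eq_cof (indLam_gen lam k l), indLam,
    classInner_indFun (C0 σ h) _ (isClassFunction_of_isIrr χ.2)]
  simp only [classInner]
  rw [← Fintype.sum_bijective
    (fun x : D.O × Fin (4 * h) =>
      (⟨(x.1 : G) * σ ^ (x.2 : ℕ), mul_mem (D.O_le x.1.2) (pow_mem D.sigma_mem_C0 _)⟩ : C0 σ h))
    ⟨fun a b e => ?_, fun c => ?_⟩ (fun x : D.O × Fin (4 * h) =>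
      ((z ^ k) ^ (x.2 : ℕ) - (z ^ l) ^ (x.2 : ℕ)) * conj ((χ : G → ℂ) ((x.1 : G) * σ ^ (x.2 : ℕ))))
    _ (fun x => ?_), Fintype.sum_prod_type, Finset.sum_comm, D.card_C0, Fin.sum_univ_eq_sum_range
      (fun i => ∑ u : D.O, ((z ^ k) ^ i - (z ^ l) ^ i) * conj ((χ : G → ℂ) ((u : G) * σ ^ i)))]
  · rw [← mul_assoc, Finset.mul_sum]
    refine Finset.sum_congr rfl fun i _ => ?_
    by_cases hi : 2 * h ∣ i
    · have e : (z ^ k) ^ i - (z ^ l) ^ i = 0 := by
        obtain ⟨m, rfl⟩ := hi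
        have hsq : (z ^ (2 * h * m)) ^ 2 = 1 := by
          rw [← pow_mul, show 2 * h * m * 2 = 4 * h * m by ring, pow_mul, hl.prim.pow_eq_one,
            one_pow]
        rw [← pow_mul, ← pow_mul, mul_comm k, mul_comm l, pow_mul, pow_mul z (2 * h * m) l,
          ← Nat.mod_add_div k 2, ← Nat.mod_add_div l 2, pow_add, pow_add,
          pow_mul _ 2 (k / 2), pow_mul _ 2 (l / 2), hsq, one_pow, one_pow, hkl]
        ring
      simp [e]
    · rw [← Finset.mul_sum, ← map_sum, D.sum_O_section hodd hna hM χ hi]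
      push_cast
      have hne : (Nat.card D.O : ℂ) ≠ 0 := Nat.cast_ne_zero.2 Nat.card_pos.ne'
      have hh : (h : ℂ) ≠ 0 := Nat.cast_ne_zero.2 (by omega)
      split_ifs
      · rw [map_mul, map_natCast]; field_simp
      · simp
  · obtain ⟨e1, e2⟩ := D.decomp_unique a.1.2 b.1.2 (congrArg Subtype.val e)
    refine Prod.ext (Subtype.ext e1) (Fin.ext ?_)
    rw [pow_eq_pow_iff_modEq, D.ordσ, Nat.ModEq, Nat.mod_eq_of_lt a.2.2, Nat.mod_eq_of_lt b.2.2] at e2
    exact e2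
  · obtain ⟨q, hq, i, e⟩ := D.decomp0 c.2
    refine ⟨⟨⟨q, hq⟩, ⟨i % (4 * h), Nat.mod_lt _ (by omega)⟩⟩, Subtype.ext ?_⟩
    show q * σ ^ (i % (4 * h)) = c
    rw [← D.ordσ, pow_mod_orderOf, e]
  · simp only [alphaFun, MonoidHom.pow_apply, Units.val_pow_eq_pow_val, hl.apply D x.1.2, ← pow_mul,
      mul_comm _ (x.2 : ℕ), hz]

theorem SDData.mem_block_of_cof {lam : C0 σ h →* ℂˣ} (hl : IsLam D lam) {k l : ℕ}
    (hkl : k % 2 = l % 2) {χ : IrrCharacter G} (hc : cof (indLam lam k l) χ ≠ 0) :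
    χ ∈ Cfsg.principalBlock M G := by
  classical
  by_contra hB
  have e := D.cof_eq hodd hna hM hl hkl χ
  simp only [if_neg hB, mul_zero, Finset.sum_const_zero, mul_eq_zero, Int.cast_eq_zero] at e
  rcases e with (e | e) | e
  · norm_num at e
  · have := D.two_le
    rw [Nat.cast_eq_zero] at e
    omega
  · exact hc e

/-- The values from the coefficients. -/
theorem SDData.value_eq {lam : C0 σ h →* ℂˣ} (hl : IsLam D lam) {χ : IrrCharacter G}
    (hχ : χ ∈ Cfsg.principalBlock M G) {i : ℕ} (hi : ¬ 2 * h ∣ i) :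
    conj ((χ : G → ℂ) (σ ^ i)) = ∑ k ∈ Finset.range (4 * h),
      (cof (indLam lam k (k % 2)) χ : ℂ) *
        (((lam ⟨σ, D.sigma_mem_C0⟩ : ℂ) ^ i) ^ k)⁻¹ := by
  classical
  have h2 := D.two_le
  set z := (lam ⟨σ, D.sigma_mem_C0⟩ : ℂ) with hzdef
  have hz : IsPrimitiveRoot z (4 * h) := hl.prim
  have hz0 : z ≠ 0 := hz.ne_zero (by omega)
  set i0 := i % (4 * h) with hi0
  have hi0' : ¬ 2 * h ∣ i0 := fun hd => hi (by
    have : 2 * h ∣ 4 * h := ⟨2, by ring⟩
    exact (Nat.dvd_mod_iff this).1 hd)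
  have hpi : σ ^ i = σ ^ i0 := by rw [hi0, ← D.ordσ, pow_mod_orderOf]
  have hzi : z ^ i = z ^ i0 := by
    rw [hi0]; conv_lhs => rw [← Nat.mod_add_div i (4 * h), pow_add, pow_mul, hz.pow_eq_one, one_pow, mul_one]
  have hw4 : ∀ j, (z ^ j / z ^ i0) ^ (4 * h) = 1 := fun j => by
    rw [div_pow, ← pow_mul, ← pow_mul, mul_comm j, mul_comm i0, pow_mul z (4 * h) j,
      pow_mul z (4 * h) i0, hz.pow_eq_one, one_pow, one_pow, div_one]
  have hker : ∀ j ∈ Finset.range (4 * h), (∑ k ∈ Finset.range (4 * h),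
      ((z ^ k) ^ j - (z ^ (k % 2)) ^ j) * ((z ^ i0) ^ k)⁻¹) = if j = i0 then (4 * h : ℂ) else 0 := by
    intro j hj
    have hj' := Finset.mem_range.1 hj
    simp only [sub_mul, Finset.sum_sub_distrib]
    have e1 : ∑ k ∈ Finset.range (4 * h), (z ^ k) ^ j * ((z ^ i0) ^ k)⁻¹ =
        if j = i0 then (4 * h : ℂ) else 0 := by
      rw [Finset.sum_congr rfl fun k _ => (show (z ^ k) ^ j * ((z ^ i0) ^ k)⁻¹ = (z ^ j / z ^ i0) ^ k by
        rw [div_pow, div_eq_mul_inv, ← pow_mul, mul_comm k, pow_mul]), sum_pow_unity (hw4 j)]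
      push_cast
      refine if_congr ⟨fun e => ?_, fun e => ?_⟩ rfl rfl
      · rw [div_eq_one_iff_eq (pow_ne_zero _ hz0)] at e
        exact hz.pow_inj hj' (Nat.mod_lt _ (by omega)) e
      · rw [e, div_self (pow_ne_zero _ hz0)]
    have e2 : ∑ k ∈ Finset.range (4 * h), (z ^ (k % 2)) ^ j * ((z ^ i0) ^ k)⁻¹ = 0 := by
      have hw : ((z ^ i0)⁻¹ ^ 2) ^ (2 * h) = 1 := by
        rw [← pow_mul, inv_pow, ← pow_mul, show i0 * (2 * (2 * h)) = 4 * h * i0 by ring, pow_mul,
          hz.pow_eq_one, one_pow, inv_one]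
      have hw1 : (z ^ i0)⁻¹ ^ 2 ≠ 1 := fun e => hi0' (by
        rw [inv_pow, inv_eq_one, ← pow_mul, hz.pow_eq_one_iff_dvd, show 4 * h = 2 * h * 2 by ring] at e
        exact Nat.dvd_of_mul_dvd_mul_right two_pos e)
      rw [show 4 * h = 2 * (2 * h) by ring, sum_range_pairs]
      rw [Finset.sum_congr rfl fun m _ => (show
        (z ^ (2 * m % 2)) ^ j * ((z ^ i0) ^ (2 * m))⁻¹ +
          (z ^ ((2 * m + 1) % 2)) ^ j * ((z ^ i0) ^ (2 * m + 1))⁻¹ =
        (1 + z ^ j * (z ^ i0)⁻¹) * ((z ^ i0)⁻¹ ^ 2) ^ m by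
          rw [Nat.mul_mod_right, Nat.mul_add_mod, pow_zero, one_pow, pow_one,
            ← pow_mul (z ^ i0)⁻¹, ← inv_pow, ← inv_pow, pow_succ]
          ring), ← Finset.mul_sum, sum_pow_unity hw, if_neg hw1, mul_zero]
    rw [e1, e2, sub_zero]
  apply mul_left_cancel₀ (show (4 * h : ℂ) ≠ 0 from
    mul_ne_zero (by norm_num) (Nat.cast_ne_zero.2 (by omega)))
  rw [Finset.mul_sum, Finset.sum_congr rfl fun k _ => by
    rw [← mul_assoc, D.cof_eq hodd hna hM hl (by omega) χ, Finset.sum_mul]]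
  simp only [if_pos hχ]
  rw [Finset.sum_comm, hzi, hpi, Finset.sum_congr rfl fun j hj => by
    rw [Finset.sum_congr rfl fun k _ => (mul_right_comm _ _ _), ← Finset.sum_mul, hker j hj]]
  simp only [ite_mul, zero_mul]
  rw [Finset.sum_ite_eq', if_pos (Finset.mem_range.2 (Nat.mod_lt _ (by omega)))]

end CfsgLib.SuzukiWong
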