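import Cfsg.Agent.Inv54.DihedralOrder

/-!
# Suzuki–Wong: pairs from two classes of involutions over a section of a dihedral Sylow subgroup

For involutions `t₁`, `t₂` of a group with dihedral Sylow 2-subgroup `⟨σ, τ⟩` the pairs
`(u, v) ∈ t₁^G × t₂^G` with `u v` in the section `σ ^ a K` lie over the reflections; the count is
expressed by the principal 2-block.
-/

set_option autoImplicit false
set_option linter.style.haveILetI false
set_option linter.unusedSectionVars false

namespace CfsgLib.SuzukiWong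

open Cfsg CfsgLib.Blocks CfsgLib.PrincipalBlock CfsgLib.Characters CfsgLib.Inv54.DihedralBlock
open scoped ComplexConjugate

universe u

variable {G : Type u} [Group G] [Fintype G] {M : Ideal AlgInt} [M.IsPrime]
  {P : Sylow 2 G} {σ τ : G} {h : ℕ}

open Classical in
/-- The number of conjugates of `t` over the `i`-th reflection. -/
noncomputable def overRefl (S : Setup P σ τ h) (t : G) (i : ZMod (2 * h)) : ℕ :=
  if IsConj t (τ * pw σ i) then (S.above (τ * pw σ i)).card else 0

variable (S : Setup P σ τ h) [NeZero (2 * h)]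
include S

/-- An involution over a reflection is conjugate to it. -/
theorem isConj_above {i : ZMod (2 * h)} {v : G} (hv : v ∈ S.above (τ * pw σ i)) :
    IsConj (τ * pw σ i) v := by
  obtain ⟨h1, h2, h3⟩ := S.mem_above.1 hv
  obtain ⟨k, -, rfl⟩ := S.conj_of_pr h1 h2 (S.refl_sq i) h3
  exact isConj_iff.2 ⟨k, rfl⟩

open Classical in
/-- Pairs of conjugates of two involutions with product in a section. -/
theorem pair_count₂ {t₁ t₂ : G} (h1 : orderOf t₁ = 2) (h2 : orderOf t₂ = 2)
    {a : ZMod (2 * h)} (ha : a ≠ 0) :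
    ((Finset.univ.filter fun x : G × G => IsConj t₁ x.1 ∧ IsConj t₂ x.2 ∧
        (pw σ a)⁻¹ * (x.1 * x.2) ∈ S.core).card) =
      ∑ i : ZMod (2 * h), overRefl S t₁ i * overRefl S t₂ (i + a) := by
  set A : G → ZMod (2 * h) → Finset G := fun t i =>
    if IsConj t (τ * pw σ i) then S.above (τ * pw σ i) else ∅ with hA
  have hmemA : ∀ {t v : G} {i : ZMod (2 * h)},
      v ∈ A t i ↔ IsConj t (τ * pw σ i) ∧ v ∈ S.above (τ * pw σ i) := fun {t v i} => by
    simp only [hA]
    split_ifs with hc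
    · exact (and_iff_right hc).symm
    · exact iff_of_false (Finset.notMem_empty v) fun h' => hc h'.1
  have hcardA : ∀ (t : G) (i : ZMod (2 * h)), (A t i).card = overRefl S t i := fun t i => by
    simp only [hA, overRefl]
    split_ifs <;> simp
  have hdisj : ∀ i ∈ (Finset.univ : Finset (ZMod (2 * h))), ∀ j ∈ (Finset.univ : Finset (ZMod (2 * h))),
      i ≠ j → Disjoint (A t₁ i ×ˢ A t₂ (i + a)) (A t₁ j ×ˢ A t₂ (j + a)) := by
    intro i _ j _ hij
    rw [Finset.disjoint_left]
    intro x hx hx'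
    rw [Finset.mem_product, hmemA, hmemA, S.mem_above] at hx hx'
    exact hij (S.pw_inj.1 (mul_left_cancel (hx.1.2.2.2.symm.trans hx'.1.2.2.2)))
  rw [show (∑ i : ZMod (2 * h), overRefl S t₁ i * overRefl S t₂ (i + a)) =
      ∑ i : ZMod (2 * h), (A t₁ i ×ˢ A t₂ (i + a)).card from
    Finset.sum_congr rfl fun i _ => by rw [Finset.card_product, hcardA, hcardA],
    ← Finset.card_biUnion hdisj]
  congr 1
  ext ⟨u, w⟩
  simp only [Finset.mem_filter, Finset.mem_univ, true_and, Finset.mem_biUnion, Finset.mem_product,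
    hmemA]
  constructor
  · rintro ⟨hu, hw, hk⟩
    have hinv : ∀ {t v : G}, orderOf t = 2 → IsConj t v → v * v = 1 ∧ v ≠ 1 := by
      intro t v ht hv
      obtain ⟨g, rfl⟩ := isConj_iff.1 hv
      exact (Small.orderOf_eq_two_iff_sq.1 (by rw [Small.orderOf_conj_eq, ht])).symm
    obtain ⟨hu2, hu1⟩ := hinv h1 hu
    obtain ⟨hw2, hw1⟩ := hinv h2 hw
    have haC := S.P_le_C (S.pw_mem a)
    have hzC : u * w ∈ Subgroup.centralizer ({σ ^ h} : Set G) := by
      have := mul_mem haC (S.core_le hk)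
      rwa [mul_inv_cancel_left] at this
    have hzpr : S.pr (u * w) = pw σ a := by
      have e := S.pr_mul haC (S.core_le hk)
      rwa [mul_inv_cancel_left, S.pr_of_mem (S.pw_mem a), S.pr_of_core hk, mul_one] at e
    have hane : σ ^ a.val ≠ 1 := fun e => ha (S.pw_eq_one.1 e)
    obtain ⟨j, hj⟩ := S.exists_pow_eq hzC hane hzpr
    have huC : u ∈ Subgroup.centralizer ({σ ^ h} : Set G) := by
      have e1 : u * (u * w) * u⁻¹ = (u * w)⁻¹ := by
        rw [mul_inv_rev, inv_eq_of_mul_eq_one_right hu2, inv_eq_of_mul_eq_one_right hw2,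
          ← mul_assoc, hu2, one_mul]
      have e2 : u * σ ^ h * u⁻¹ = σ ^ h := by
        rw [← hj, ← conj_pow, e1, inv_pow, hj, inv_eq_of_mul_eq_one_right S.J_sq]
      exact Subgroup.mem_centralizer_singleton_iff.2 (mul_inv_eq_iff_eq_mul.1 e2)
    have hwC : w ∈ Subgroup.centralizer ({σ ^ h} : Set G) := by
      have := mul_mem (inv_mem huC) hzC
      rwa [inv_mul_cancel_left] at this
    have hprod : S.pr u * S.pr w = pw σ a := by rw [← S.pr_mul huC hwC, hzpr]
    have hJpr : S.pr (σ ^ h) = pw σ (h : ZMod (2 * h)) := by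
      rw [S.pr_of_mem S.J_mem, S.pw_natCast]
    rcases S.pr_cases huC hu2 hu1 with e | ⟨i, hi⟩
    · exfalso
      rw [e, hJpr] at hprod
      rcases S.pr_cases hwC hw2 hw1 with e' | ⟨i', hi'⟩
      · rw [e', hJpr, ← S.pw_add, ← Nat.cast_add, ← two_mul, ZMod.natCast_self] at hprod
        exact ha (S.pw_inj.1 hprod).symm
      · refine S.refl_ne_pw i' (a - (h : ZMod (2 * h))) ?_
        rw [hi'] at hprod
        rw [sub_eq_add_neg, add_comm, S.pw_add, S.pw_neg, ← hprod, inv_mul_cancel_left]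
    · have huA : u ∈ S.above (τ * pw σ i) := S.mem_above.2 ⟨huC, hu2, hi⟩
      have hwA : w ∈ S.above (τ * pw σ (i + a)) := by
        refine S.mem_above.2 ⟨hwC, hw2, ?_⟩
        rw [hi] at hprod
        apply mul_left_cancel (a := τ * pw σ i)
        rw [hprod, S.refl_mul, add_sub_cancel_left]
      exact ⟨i, ⟨hu.trans (isConj_above S huA).symm, huA⟩,
        hw.trans (isConj_above S hwA).symm, hwA⟩
  · rintro ⟨i, ⟨hu0, hu⟩, hw0, hw⟩
    refine ⟨hu0.trans (isConj_above S hu), hw0.trans (isConj_above S hw), ?_⟩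
    rw [S.mem_above] at hu hw
    obtain ⟨-, e2⟩ := S.pr_spec (mul_mem hu.1 hw.1)
    rw [S.pr_mul hu.1 hw.1, hu.2.2, hw.2.2, S.refl_mul, add_sub_cancel_left] at e2
    have e3 := S.core_conj (inv_mem (S.P_le_C (S.pw_mem a))) e2
    rwa [inv_inv, mul_assoc, inv_mul_cancel_right] at e3

open Classical in
/-- The count of pairs of two classes over a section, through the principal block. -/
theorem section_count₂ (hM : Cfsg.IsPModular 2 M) {t₁ t₂ : G} (h1 : orderOf t₁ = 2)
    (h2 : orderOf t₂ = 2) {a : ZMod (2 * h)} (ha : a ≠ 0) :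
    (Nat.card G : ℂ) * (Nat.card S.core : ℂ) *
        (∑ χ : IrrCharacter G, if χ ∈ Cfsg.principalBlock M G then
          conj ((χ : G → ℂ) (pw σ a)) *
            ((χ : G → ℂ) t₁ * (χ : G → ℂ) t₂ / (χ : G → ℂ) 1) else 0) =
      (Nat.card (Subgroup.centralizer ({t₁} : Set G)) : ℂ) *
        (Nat.card (Subgroup.centralizer ({t₂} : Set G)) : ℂ) *
        ((∑ i : ZMod (2 * h), overRefl S t₁ i * overRefl S t₂ (i + a) : ℕ) : ℂ) := by
  haveI := Fintype.ofFinite S.core
  set I₁ := Finset.univ.filter fun u => IsConj t₁ u with hI₁def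
  set I₂ := Finset.univ.filter fun u => IsConj t₂ u with hI₂def
  have hI₁ : ∀ u, u ∈ I₁ ↔ IsConj t₁ u := fun u => by simp [hI₁def]
  have hI₂ : ∀ u, u ∈ I₂ ↔ IsConj t₂ u := fun u => by simp [hI₂def]
  set T := (Finset.univ : Finset S.core).image fun k : S.core => pw σ a * (k : G) with hTdef
  have hT : ∀ z, z ∈ T ↔ (pw σ a)⁻¹ * z ∈ S.core := fun z => by
    simp only [hTdef, Finset.mem_image, Finset.mem_univ, true_and]
    exact ⟨fun ⟨k, hk⟩ => by rw [← hk, inv_mul_cancel_left]; exact k.2,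
      fun e => ⟨⟨_, e⟩, mul_inv_cancel_left _ _⟩⟩
  have key := ClassPairs.card_pairs t₁ t₂ T
  rw [Finset.sum_congr rfl fun x _ => BlocksFrobenius.Klein.sum_conj_eq t₂ I₂ hI₂
      (fun v => if x * t₁ * x⁻¹ * v ∈ T then (1 : ℂ) else 0),
    ← Finset.smul_sum, BlocksFrobenius.Klein.sum_conj_eq t₁ I₁ hI₁
      (fun u => ∑ v ∈ I₂, if u * v ∈ T then (1 : ℂ) else 0), smul_smul, nsmul_eq_mul, Nat.cast_mul]
    at key
  have hcount : (∑ u ∈ I₁, ∑ v ∈ I₂, if u * v ∈ T then (1 : ℂ) else 0) =
      ((Finset.univ.filter fun x : G × G => IsConj t₁ x.1 ∧ IsConj t₂ x.2 ∧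
        (pw σ a)⁻¹ * (x.1 * x.2) ∈ S.core).card : ℂ) := by
    rw [← Finset.sum_product' I₁ I₂ fun u v => if u * v ∈ T then (1 : ℂ) else 0, Finset.sum_boole]
    congr 2
    ext ⟨u, v⟩
    simp [hI₁, hI₂, hT, and_assoc]
  rw [hcount, pair_count₂ S h1 h2 ha, mul_comm (Nat.card (Subgroup.centralizer ({t₂} : Set G)) : ℂ)]
    at key
  rw [key, mul_assoc]
  congr 1
  rw [Finset.mul_sum]
  refine Finset.sum_congr rfl fun χ _ => ?_
  rw [hTdef, Finset.sum_image (fun k _ k' _ e => Subtype.ext (mul_left_cancel e))]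
  have e := S.sum_core_coset (M := M) hM (a := a.val) (fun e => ha (S.pw_eq_one.1 e)) χ
  rw [show pw σ a = σ ^ a.val from rfl, e]
  split_ifs <;> ring

/-- The centralizer in the core of a reflection only depends on its class in `P`. -/
theorem card_core_centralizer_conj {p x : G} (hp : p ∈ (P : Subgroup G)) :
    Nat.card (S.core ⊓ Subgroup.centralizer ({p * x * p⁻¹} : Set G) : Subgroup G) =
      Nat.card (S.core ⊓ Subgroup.centralizer ({x} : Set G) : Subgroup G) := by
  have hpC := S.P_le_C hp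
  refine Nat.card_congr ((MulAut.conj p⁻¹).toEquiv.subtypeEquiv fun k => ?_)
  simp only [MulEquiv.toEquiv_eq_coe, MulEquiv.coe_toEquiv, MulAut.conj_apply, inv_inv,
    Subgroup.mem_inf, Subgroup.mem_centralizer_singleton_iff]
  constructor
  · rintro ⟨hk, hc⟩
    refine ⟨by simpa using S.core_conj (inv_mem hpC) hk, ?_⟩
    calc p⁻¹ * k * p * x = p⁻¹ * (k * (p * x * p⁻¹)) * p := by group
      _ = p⁻¹ * ((p * x * p⁻¹) * k) * p := by rw [hc]
      _ = x * (p⁻¹ * k * p) := by group
  · rintro ⟨hk, hc⟩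
    refine ⟨by simpa [mul_assoc] using S.core_conj hpC hk, ?_⟩
    calc k * (p * x * p⁻¹) = p * ((p⁻¹ * k * p) * x) * p⁻¹ := by group
      _ = p * (x * (p⁻¹ * k * p)) * p⁻¹ := by rw [hc]
      _ = p * x * p⁻¹ * k := by group

/-- A reflection is conjugate in `P` to `τ` or to `σ τ`, according to the parity. -/
theorem refl_conj (i : ZMod (2 * h)) :
    ∃ p ∈ (P : Subgroup G), τ * pw σ i = p * (if Even i.val then τ else σ * τ) * p⁻¹ := by
  have hσ : σ * τ = τ * pw σ (-1 : ZMod (2 * h)) := by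
    rw [S.pw_neg, ← Nat.cast_one, S.pw_natCast, pow_one, ← S.rel,
      Small.inv_eq_self_of_orderOf_two S.ordτ]
    simp [← mul_assoc, Small.mul_self_of_orderOf_two S.ordτ]
  obtain ⟨c, hc | hc⟩ := Nat.even_or_odd' i.val
  · refine ⟨pw σ (-(c : ZMod (2 * h))), S.pw_mem _, ?_⟩
    rw [if_pos (hc ▸ even_two_mul c)]
    conv_rhs => rw [show τ = τ * pw σ (0 : ZMod (2 * h)) by rw [S.pw_eq_one.2 rfl, mul_one]]
    rw [S.conj_refl, zero_add]
    conv_lhs => rw [← ZMod.natCast_zmod_val i, hc]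
    push_cast
    rfl
  · refine ⟨pw σ (-((c + 1 : ℕ) : ZMod (2 * h))), S.pw_mem _, ?_⟩
    rw [if_neg (by rw [hc]; exact Nat.not_even_two_mul_add_one c), hσ, S.conj_refl]
    conv_lhs => rw [← ZMod.natCast_zmod_val i, hc]
    push_cast
    congr 2
    ring

/-- The conjugates of an involution over a reflection. -/
theorem overRefl_eq {t : G} (i : ZMod (2 * h)) :
    overRefl S t i *
        Nat.card (S.core ⊓ Subgroup.centralizer
          ({if Even i.val then τ else σ * τ} : Set G) : Subgroup G) =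
      (open Classical in if IsConj t (if Even i.val then τ else σ * τ) then Nat.card S.core
        else 0) := by
  classical
  obtain ⟨p, hp, he⟩ := refl_conj S i
  have hc : IsConj (if Even i.val then τ else σ * τ) (τ * pw σ i) := isConj_iff.2 ⟨p, he.symm⟩
  have hiff : IsConj t (τ * pw σ i) ↔ IsConj t (if Even i.val then τ else σ * τ) :=
    ⟨fun h' => h'.trans hc.symm, fun h' => h'.trans hc⟩
  unfold overRefl
  by_cases ht : IsConj t (τ * pw σ i)
  · rw [if_pos ht, if_pos (hiff.1 ht), ← card_core_centralizer_conj S hp, ← he]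
    exact S.card_above_mul (S.refl_mem i) (S.refl_sq i)
  · rw [if_neg ht, if_neg (fun h' => ht (hiff.2 h')), zero_mul]

/-- The parity of a sum of exponents. -/
theorem even_val_add (i a : ZMod (2 * h)) :
    Even (i + a).val ↔ (Even i.val ↔ Even a.val) := by
  rw [ZMod.val_add, Nat.even_iff, Nat.mod_mod_of_dvd _ (dvd_mul_right 2 h), ← Nat.even_iff,
    Nat.even_add]

/-- Half of the exponents are even. -/
theorem card_even_val :
    (Finset.univ.filter fun i : ZMod (2 * h) => Even i.val).card = h := by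
  classical
  refine Eq.trans ?_ (Finset.card_range h)
  refine Finset.card_bij' (fun i _ => i.val / 2) (fun j _ => ((2 * j : ℕ) : ZMod (2 * h)))
    ?_ ?_ ?_ ?_
  · intro i _
    have := ZMod.val_lt i
    exact Finset.mem_range.2 (by omega)
  · intro j hj
    have := Finset.mem_range.1 hj
    refine Finset.mem_filter.2 ⟨Finset.mem_univ _, ?_⟩
    rw [ZMod.val_natCast_of_lt (by omega)]
    exact even_two_mul _
  · intro i hi
    show ((2 * (i.val / 2) : ℕ) : ZMod (2 * h)) = i
    rw [Nat.two_mul_div_two_of_even (Finset.mem_filter.1 hi).2, ZMod.natCast_zmod_val]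
  · intro j hj
    have := Finset.mem_range.1 hj
    show ((2 * j : ℕ) : ZMod (2 * h)).val / 2 = j
    rw [ZMod.val_natCast_of_lt (by omega)]
    omega

end CfsgLib.SuzukiWong
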