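import Cfsg.Agent.SuzukiWong.Assembly
import Cfsg.Agent.SuzukiWong.Cyclic
import Cfsg.Agent.Inv54.CentralizerFour
import Cfsg.Agent.TwoGroups.Models
import Cfsg.Agent.S0646
import Cfsg.Agent.S0219
import Cfsg.Agent.S0201

/-!
# Suzuki–Wong: the Sylow 2-subgroups of a simple group with the hypotheses
-/

set_option autoImplicit false
set_option linter.unusedSectionVars false
set_option linter.style.haveILetI false

namespace CfsgLib.SuzukiWong

open Subgroup

universe u

/-- A cyclic group has at most one involution. -/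
theorem eq_of_mem_zpowers_order_two {G : Type*} [Group G] [Finite G] {a u t : G}
    (hu : u ∈ zpowers a) (hu2 : orderOf u = 2) (ht : t ∈ zpowers a) (ht2 : orderOf t = 2) :
    u = t := by
  obtain ⟨k, hk⟩ := eq_pow_of_orderOf_eq hu ht (hu2.trans ht2.symm)
  rw [← zpow_mod_orderOf, ht2] at hk
  rcases Int.emod_two_eq k with e | e
  · rw [show k % ((2 : ℕ) : ℤ) = 0 from e, zpow_zero] at hk
    rw [← hk, orderOf_one] at hu2
    omega
  · rw [show k % ((2 : ℕ) : ℤ) = 1 from e, zpow_one] at hk
    exact hk.symm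

variable {G : Type u} [Group G] [Finite G] [IsSimpleGroup G] (hna : ¬ IsMulCommutative G)
include hna

/-- A nonabelian simple group has no subgroup of index two. -/
theorem index_ne_two_of_simple (K : Subgroup G) : K.index ≠ 2 := by
  intro hK
  haveI := Subgroup.normal_of_index_eq_two hK
  rcases IsSimpleGroup.eq_bot_or_eq_top_of_normal K inferInstance with e | e
  · rw [e, Subgroup.index_bot] at hK
    haveI : IsCyclic G := isCyclic_of_prime_card (p := 2) hK
    exact hna IsCyclic.commutative
  · rw [e, Subgroup.index_top] at hK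
    omega

/-- A nonabelian simple group with cyclic odd Sylow subgroups has even order. -/
theorem two_dvd_card_of_cyclic_sylow
    (hodd : ∀ p : ℕ, p.Prime → p ≠ 2 → ∀ P : Sylow p G, IsCyclic P) : 2 ∣ Nat.card G := by
  by_contra h2
  haveI : IsZGroup G := ⟨fun p hp P => by
    rcases eq_or_ne p 2 with rfl | hp2
    · haveI := Fact.mk hp
      have : (P : Subgroup G) = ⊥ := by
        rw [← Subgroup.card_eq_one]
        obtain ⟨k, hk⟩ := P.isPGroup'.exists_card_eq
        rcases k with _ | k
        · rw [hk, pow_zero]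
        · exact absurd ((dvd_pow_self 2 k.succ_ne_zero).trans
            (hk ▸ (P : Subgroup G).card_subgroup_dvd_card)) h2
      exact (inferInstance : IsCyclic (⊥ : Subgroup G)) |> fun h => this ▸ h
    · exact hodd p hp hp2 P⟩
  exact hna ⟨⟨fun a b => IsSimpleGroup.comm_iff_isSolvable.2 inferInstance a b⟩⟩

/-- A Sylow 2-subgroup `⟨a⟩⟨b⟩` is impossible when the involution of `⟨a⟩` is a square of an element
commuting with the involution `b`. -/
theorem false_of_square_central (S : Sylow 2 G) {a b d : G} (haS : a ∈ (S : Subgroup G))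
    (hbS : b ∈ (S : Subgroup G)) (hb : orderOf b = 2) (hba : b ∉ zpowers a)
    (hcard : Nat.card (S : Subgroup G) = 2 * orderOf a) (hd : d ∈ zpowers a) (hdb : Commute d b)
    {j : ℕ} (hj : 1 ≤ j) (ht : orderOf (d ^ 2 ^ j) = 2) : False := by
  haveI : Fact (Nat.Prime 2) := ⟨Nat.prime_two⟩
  have hAS : zpowers a ≤ (S : Subgroup G) := zpowers_le.2 haS
  have hA2 : ((zpowers a).subgroupOf (S : Subgroup G)).index = 2 := by
    have h := ((zpowers a).subgroupOf (S : Subgroup G)).card_mul_index
    rw [Nat.card_congr (subgroupOfEquivOfLe hAS).toEquiv, Nat.card_zpowers, hcard,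
      mul_comm 2] at h
    exact Nat.eq_of_mul_eq_mul_left (orderOf_pos a) h
  have hsq : ∀ s ∈ (S : Subgroup G), s * s ∈ zpowers a := fun s hs =>
    Subgroup.mem_subgroupOf.1 (Subgroup.mul_self_mem_of_index_two hA2 ⟨s, hs⟩)
  set t := d ^ 2 ^ j with htdef
  have htA : t ∈ zpowers a := pow_mem hd _
  have htS : ∀ s ∈ (S : Subgroup G), Commute s t := by
    have hat : Commute a t := by
      obtain ⟨i, hi⟩ := mem_zpowers_iff.1 htA
      rw [← hi]; exact (Commute.refl a).zpow_right i
    intro s hs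
    by_cases hsA : s ∈ zpowers a
    · obtain ⟨i, hi⟩ := mem_zpowers_iff.1 hsA
      rw [← hi]; exact hat.zpow_left i
    · have h : (⟨s, hs⟩ * ⟨b, hbS⟩ : (S : Subgroup G)) ∈ (zpowers a).subgroupOf (S : Subgroup G) := by
        rw [Subgroup.mul_mem_iff_of_index_two hA2, Subgroup.mem_subgroupOf, Subgroup.mem_subgroupOf]
        simp [hsA, hba]
      obtain ⟨i, hi⟩ := mem_zpowers_iff.1 (Subgroup.mem_subgroupOf.1 h)
      have e : s = a ^ i * b⁻¹ := by rw [hi]; show s = s * b * b⁻¹; group
      rw [e]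
      exact (hat.zpow_left i).mul_left ((hdb.symm.pow_right _).inv_left)
  -- transfer
  have hm : Odd (S : Subgroup G).index := by
    rw [← Nat.not_even_iff_odd, even_iff_two_dvd]; exact S.not_dvd_index
  have hidx : (zpowers a).index = 2 * (S : Subgroup G).index := by
    rw [← Subgroup.relIndex_mul_index hAS]
    congr 1
  obtain ⟨g, hg⟩ : ∃ g : G, g⁻¹ * b * g ∈ zpowers a := by
    by_contra hno
    push Not at hno
    obtain ⟨K, hK, -⟩ := CfsgLib.Inv54.exists_index_two_not_mem (zpowers a) hb hm hidx hno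
    exact index_ne_two_of_simple hna K hK
  have hinv : ∀ u ∈ zpowers a, orderOf u = 2 → u = t := fun u hu hu2 =>
    eq_of_mem_zpowers_order_two hu hu2 htA ht
  have hgb : g⁻¹ * b * g = t := hinv _ hg (by
    rw [show g⁻¹ * b * g = g⁻¹ * b * g⁻¹⁻¹ by rw [inv_inv], Small.orderOf_conj_eq, hb])
  -- move `g⁻¹ d g` into `S` inside `C(t)`
  have hSC : (S : Subgroup G) ≤ centralizer ({t} : Set G) := fun s hs =>
    mem_centralizer_singleton_iff.2 (htS s hs).eq
  have hw : Commute (g⁻¹ * d * g) t := by
    rw [← hgb]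
    have := (Commute.conj_iff g⁻¹).2 hdb
    rwa [inv_inv] at this
  let S' : Sylow 2 (centralizer ({t} : Set G)) := S.subtype hSC
  obtain ⟨T, hT⟩ := (show IsPGroup 2 ((zpowers (g⁻¹ * d * g)).subgroupOf
      (centralizer ({t} : Set G))) from by
    have h2 : IsPGroup 2 (zpowers (g⁻¹ * d * g)) := by
      obtain ⟨k, hk⟩ := IsPGroup.iff_orderOf.1 (S.isPGroup'.to_le hAS) ⟨d, hd⟩
      refine IsPGroup.of_card (n := k) ?_
      rw [Nat.card_zpowers, show g⁻¹ * d * g = g⁻¹ * d * g⁻¹⁻¹ by rw [inv_inv],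
        Small.orderOf_conj_eq, ← hk, Subgroup.orderOf_mk]
    exact h2.comap_of_injective _ (Subgroup.subtype_injective _)).exists_le_sylow
  obtain ⟨c, hc⟩ := MulAction.exists_smul_eq (centralizer ({t} : Set G)) T S'
  have hu : (c : G) * (g⁻¹ * d * g) * (c : G)⁻¹ ∈ (S : Subgroup G) := by
    have h1 : c * ⟨g⁻¹ * d * g, mem_centralizer_singleton_iff.2 hw.eq⟩ * c⁻¹ ∈
        (S' : Subgroup (centralizer ({t} : Set G))) := by
      rw [← hc, Sylow.coe_subgroup_smul]
      exact Subgroup.smul_mem_pointwise_smul _ _ _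
        (hT (Subgroup.mem_subgroupOf.2 (mem_zpowers _)))
    exact h1
  set u := (c : G) * (g⁻¹ * d * g) * (c : G)⁻¹ with hu'
  obtain ⟨i, rfl⟩ : ∃ i, j = i + 1 := ⟨j - 1, by omega⟩
  have hut : u ^ 2 ^ (i + 1) = (c : G) * (g⁻¹ * t * g) * (c : G)⁻¹ := by
    rw [hu', _root_.conj_pow, show g⁻¹ * d * g = g⁻¹ * d * g⁻¹⁻¹ by rw [inv_inv],
      _root_.conj_pow, inv_inv]
  have hval : u ^ 2 ^ (i + 1) = t := by
    refine hinv _ ?_ ?_
    · rw [pow_succ, pow_mul, sq]
      exact hsq _ (pow_mem hu _)
    · rw [hut, Small.orderOf_conj_eq, show g⁻¹ * t * g = g⁻¹ * t * g⁻¹⁻¹ by rw [inv_inv],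
        Small.orderOf_conj_eq, ht]
  have hct : (c : G)⁻¹ * t * (c : G) = t := by
    rw [mul_assoc, ← mem_centralizer_singleton_iff.1 c.2, inv_mul_cancel_left]
  refine hba ?_
  have e : t = b := by
    have h1 : g⁻¹ * t * g = t := by
      rw [hut] at hval
      calc g⁻¹ * t * g = (c : G)⁻¹ * ((c : G) * (g⁻¹ * t * g) * (c : G)⁻¹) * (c : G) := by group
        _ = t := by rw [hval, hct]
    exact mul_left_cancel (mul_right_cancel (h1.trans hgb.symm))
  exact e ▸ htA

/-- **The Sylow 2-subgroups are dihedral or semidihedral.** -/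
theorem sylow_cases (hG : SylowHyp G) (S : Sylow 2 G) :
    (∃ k, 1 ≤ k ∧ Nonempty ((S : Subgroup G) ≃* DihedralGroup (2 ^ k))) ∨
      Cfsg.IsQuasiDihedral (S : Subgroup G) := by
  haveI : Fact (Nat.Prime 2) := ⟨Nat.prime_two⟩
  have heven := two_dvd_card_of_cyclic_sylow hna hG.1
  have hnc : ¬ IsCyclic (S : Subgroup G) := fun h => by
    obtain ⟨K, hK⟩ := Cfsg.Agent.S0219.result (even_iff_two_dvd.2 heven) S h
    exact index_ne_two_of_simple hna K hK
  obtain ⟨A, hA, hAi⟩ := hG.2 S
  have hAi2 : A.index = 2 := by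
    rcases (Nat.dvd_prime Nat.prime_two).1 hAi with e | e
    · exact absurd (by
        rw [Subgroup.index_eq_one] at e
        subst e
        exact isCyclic_of_surjective (Subgroup.topEquiv (G := (S : Subgroup G))).toMonoidHom
          Subgroup.topEquiv.surjective) hnc
    · exact e
  obtain ⟨n, hn⟩ := S.isPGroup'.exists_card_eq
  have hn2 : 2 ≤ n := by
    by_contra h
    refine hnc ?_
    interval_cases n
    · haveI : Subsingleton (S : Subgroup G) := (Nat.card_eq_one_iff_unique.1 (by simpa using hn)).1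
      exact isCyclic_of_subsingleton
    · exact isCyclic_of_prime_card (p := 2) (by simpa using hn)
  by_cases hc : ∀ x y : (S : Subgroup G), x * y = y * x
  · -- abelian
    obtain ⟨⟨a, haA⟩, ha⟩ := hA.exists_generator
    have hgen : ∀ u ∈ A, u ∈ zpowers a := fun u hu => by
      obtain ⟨i, hi⟩ := mem_zpowers_iff.1 (ha ⟨u, hu⟩)
      exact mem_zpowers_iff.2 ⟨i, congrArg Subtype.val hi⟩
    have hAa : A = zpowers a := le_antisymm hgen (zpowers_le.2 haA)
    have hord : 2 * orderOf a = 2 ^ n := by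
      rw [← hn, ← A.card_mul_index, hAi2, hAa, Nat.card_zpowers, mul_comm]
    obtain ⟨b₀, hb₀⟩ : ∃ b₀, b₀ ∉ A := by
      by_contra h
      push Not at h
      rw [(Subgroup.eq_top_iff' A).2 h, Subgroup.index_top] at hAi2
      omega
    obtain ⟨i, hi⟩ := mem_zpowers_iff.1 (hgen _ (Subgroup.mul_self_mem_of_index_two hAi2 b₀))
    rcases Int.even_or_odd i with ⟨l, hl⟩ | ⟨l, hl⟩
    · set b := b₀ * (a ^ l)⁻¹ with hbdef
      have hbA : b ∉ A := fun h => hb₀ ((A.mul_mem_cancel_right (inv_mem (zpow_mem haA l))).1 h)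
      have hb2 : b * b = 1 := by
        rw [hbdef, (show Commute (a ^ l)⁻¹ b₀ from hc _ _).mul_mul_mul_comm, ← hi, hl, zpow_add]
        group
      rcases Nat.lt_or_ge n 3 with h3 | h3
      · left
        refine ⟨1, le_rfl, ?_⟩
        have hna2 : orderOf a = 2 := by
          interval_cases n
          norm_num at hord
          omega
        obtain ⟨e⟩ := TwoGroups.nonempty_equiv_dihedral (H := (⊤ : Subgroup (S : Subgroup G)))
          (mem_top a) (mem_top b) (m := 2) hna2 hb2 (by
            rw [hc b a, mul_inv_cancel_right]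
            exact (inv_eq_of_mul_eq_one_right (Small.mul_self_of_orderOf_two hna2)).symm)
          (fun h => hbA (hAa ▸ h)) (by
            rw [Subgroup.card_top, hn, show n = 2 by omega]; norm_num)
        exact ⟨Subgroup.topEquiv.symm.trans (by simpa using e)⟩
      · exfalso
        have ho : orderOf a = 2 ^ (n - 1) := by
          rw [show n = n - 1 + 1 by omega, pow_succ] at hord
          omega
        have hb1 : orderOf b = 2 := orderOf_eq_prime (by rw [sq, hb2])
          (fun e => hbA (e ▸ one_mem A))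
        refine false_of_square_central hna S (a := (a : G)) (b := (b : G)) (d := (a : G)) a.2 b.2
          (by rw [Subgroup.orderOf_coe, hb1]) (fun h => hbA ?_)
          (by rw [Subgroup.orderOf_coe, hn, hord]) (mem_zpowers _)
          (congrArg Subtype.val (hc a b)) (j := n - 2) (by omega) ?_
        · obtain ⟨i', hi'⟩ := mem_zpowers_iff.1 h
          rw [hAa]
          exact mem_zpowers_iff.2 ⟨i', Subtype.ext (by rw [Subgroup.coe_zpow]; exact hi')⟩
        · rw [← Subgroup.coe_pow, Subgroup.orderOf_coe, orderOf_pow' a (by positivity), ho,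
            Nat.gcd_eq_right (pow_dvd_pow 2 (by omega)), Nat.pow_div (by omega) two_pos,
            show n - 1 - (n - 2) = 1 by omega, pow_one]
    · exfalso
      refine hnc ?_
      have ha' : a ∈ zpowers b₀ := by
        have h1 : orderOf (a ^ i) = orderOf a := by
          obtain ⟨k, hk⟩ : ∃ k, orderOf a = 2 ^ k := IsPGroup.iff_orderOf.1 S.isPGroup' a
          have hcop : Nat.Coprime i.natAbs (orderOf a) := by
            rw [hk]
            exact (Nat.coprime_two_right.2 (Int.natAbs_odd.2 ⟨l, hl⟩)).pow_right k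
          rcases Int.natAbs_eq i with e | e <;> rw [e]
          · rw [zpow_natCast]; exact Nat.Coprime.orderOf_pow hcop.symm
          · rw [zpow_neg, zpow_natCast, orderOf_inv]; exact Nat.Coprime.orderOf_pow hcop.symm
        have h2 : zpowers (a ^ i) = zpowers a := Subgroup.eq_of_le_of_card_ge
          (zpowers_le.2 (zpow_mem_zpowers a i)) (by rw [Nat.card_zpowers, Nat.card_zpowers, h1])
        have h3 : a ∈ zpowers (a ^ i) := h2 ▸ mem_zpowers a
        refine (zpowers_le.2 ?_) h3
        rw [hi]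
        exact mul_mem (mem_zpowers b₀) (mem_zpowers b₀)
      refine ⟨⟨b₀, fun u => ?_⟩⟩
      by_cases hu : u ∈ A
      · exact zpowers_le.2 ha' (hgen u hu)
      · have : u * b₀ ∈ zpowers a :=
          hgen _ ((Subgroup.mul_mem_iff_of_index_two hAi2).2 (by simp [hu, hb₀]))
        have h := zpowers_le.2 ha' this
        exact ((zpowers b₀).mul_mem_cancel_right (mem_zpowers b₀)).1 h
  · push Not at hc
    have hn3 : 3 ≤ n := by
      by_contra h
      obtain rfl : n = 2 := by omega
      obtain ⟨x, y, hxy⟩ := hc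
      haveI := IsPGroup.isMulCommutative_of_card_eq_prime_sq (p := 2) hn
      exact hxy (mul_comm' x y)
    obtain ⟨a, b, ha, hba, hrel⟩ := Cfsg.Agent.S0646.result n hn3 hn A hA hAi2 hc
    have hcard2 : (2 : ℕ) ^ n = 2 * 2 ^ (n - 1) := by rw [← pow_succ']; congr 1; omega
    rcases hrel with ⟨hb2, hr⟩ | ⟨hb2, hr⟩ | ⟨hn4, hb2, hr⟩ | ⟨hn4, hb2, hr⟩
    · left
      refine ⟨n - 1, by omega, ?_⟩
      obtain ⟨e⟩ := TwoGroups.nonempty_equiv_dihedral (H := (⊤ : Subgroup (S : Subgroup G)))
        (mem_top a) (mem_top b) ha (by rwa [← sq]) hr hba (by rw [Subgroup.card_top, hn, hcard2])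
      exact ⟨Subgroup.topEquiv.symm.trans e⟩
    · exfalso
      obtain ⟨k, rfl⟩ : ∃ k, n = k + 3 := ⟨n - 3, by omega⟩
      haveI : NeZero (2 ^ (k + 1)) := ⟨by positivity⟩
      obtain ⟨e⟩ := TwoGroups.nonempty_equiv_quaternion (H := (⊤ : Subgroup (S : Subgroup G)))
        (m := 2 ^ (k + 1)) (mem_top a) (mem_top b) (by rw [ha, ← pow_succ']; congr 1)
        (by rw [← sq]; exact hb2) hr hba (by
          rw [Subgroup.card_top, hn]; ring)
      have hZ := Cfsg.Agent.S0201.result S k (Subgroup.topEquiv.symm.trans e) fun N hN ho => by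
        rcases IsSimpleGroup.eq_bot_or_eq_top_of_normal N hN with h | h
        · exact h
        · rw [h, Subgroup.card_top] at ho
          exact absurd heven ho.not_two_dvd_nat
      rcases IsSimpleGroup.eq_bot_or_eq_top_of_normal (center G) inferInstance with h | h
      · rw [h, Subgroup.card_bot] at hZ
        omega
      · exact hna ⟨⟨fun u v => (Subgroup.mem_center_iff.1 (h ▸ mem_top v) u)⟩⟩
    · exfalso
      have hb1 : orderOf b = 2 := orderOf_eq_prime hb2 (fun e => hba (e ▸ one_mem _))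
      have hcomm : Commute (a ^ 2) b := by
        have h : b * a ^ 2 * b⁻¹ = a ^ 2 := by
          rw [← _root_.conj_pow, hr, ← pow_mul, pow_eq_pow_iff_modEq, ha, add_mul, one_mul,
            ← pow_succ, show n - 2 + 1 = n - 1 by omega]
          exact Nat.add_mod_right _ _
        exact (mul_inv_eq_iff_eq_mul.1 h).symm
      refine false_of_square_central hna S (a := (a : G)) (b := (b : G)) (d := ((a ^ 2 : _) : G))
        a.2 b.2 (by rw [Subgroup.orderOf_coe, hb1]) (fun h => hba ?_)
        (by rw [Subgroup.orderOf_coe, hn, ha, hcard2]) ?_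
        (congrArg Subtype.val hcomm.eq) (j := n - 3) (by omega) ?_
      · obtain ⟨i', hi'⟩ := mem_zpowers_iff.1 h
        exact mem_zpowers_iff.2 ⟨i', Subtype.ext (by rw [Subgroup.coe_zpow]; exact hi')⟩
      · rw [Subgroup.coe_pow]; exact pow_mem (mem_zpowers _) 2
      · rw [← Subgroup.coe_pow, Subgroup.orderOf_coe, ← pow_mul, ← pow_succ',
          show n - 3 + 1 = n - 2 by omega, orderOf_pow' a (by positivity), ha,
          Nat.gcd_eq_right (pow_dvd_pow 2 (by omega)), Nat.pow_div (by omega) two_pos,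
          show n - 1 - (n - 2) = 1 by omega, pow_one]
    · right
      exact ⟨n - 1, by omega, by rw [hn]; congr 1; omega, a, b, ha,
        orderOf_eq_prime hb2 (fun e => hba (e ▸ one_mem _)),
        by rw [show n - 1 - 1 = n - 2 by omega]; exact hr⟩

end CfsgLib.SuzukiWong
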